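/-
p-solvable groups: constraint, O_{p',p}, faithful action on the Frattini quotient (helper3).

Main results (namespace `Cfsg.Agent.HallHigman`):
* isPiSeparable_of_isPSolvable-based: centralizer_pCore_le_of_isPSolvable, isPConstrained_of_isPSolvable
* pPrimeCore_le_pPrimePCore, map_pPrimePCore, pPrimePCore_eq_pCore
* mem_pCore_of_commutator_mem_frattini: faithful action on `O_p/Φ(O_p)` in characteristic p
-/
import Cfsg.Agent.Lib.PSeries.Basic
import Cfsg.Agent.Lib.Constrained.Basic
import Cfsg.Agent.Lib.Coprime.Frattini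
import Cfsg.Agent.Lib.Cores.Frattini

set_option autoImplicit false
open scoped commutatorElement

namespace Cfsg.Agent.HallHigman

variable {G : Type*} [Group G] {p : ℕ}

theorem centralizer_pCore_le_of_isPSolvable [Finite G] [Fact p.Prime] (h : Cfsg.IsPSolvable p G)
    (hO : Cfsg.pPrimeCore p G = ⊥) :
    Subgroup.centralizer (Cfsg.pCore p G : Set G) ≤ Cfsg.pCore p G :=
  Solvable.centralizer_pCore_le (Solvable.isPiSeparable_of_isPSolvable h) hO

theorem centralizer_pCore_quotient_le [Finite G] [Fact p.Prime]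
    (h : Solvable.IsPiSeparable {p} G) :
    Subgroup.centralizer (Cfsg.pCore p (G ⧸ Cfsg.pPrimeCore p G) : Set (G ⧸ Cfsg.pPrimeCore p G)) ≤
      Cfsg.pCore p (G ⧸ Cfsg.pPrimeCore p G) :=
  Solvable.centralizer_pCore_le (h.quotient _) (Cores.pPrimeCore_quotient_self p)

theorem isPConstrained_of_isPiSeparable [Finite G] [Fact p.Prime]
    (h : Solvable.IsPiSeparable {p} G) : Cfsg.IsPConstrained p G :=
  Constrained.isPConstrained_iff.mpr (centralizer_pCore_quotient_le h)

theorem isPConstrained_of_isPSolvable [Finite G] [Fact p.Prime] (h : Cfsg.IsPSolvable p G) :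
    Cfsg.IsPConstrained p G :=
  isPConstrained_of_isPiSeparable (Solvable.isPiSeparable_of_isPSolvable h)

theorem isPConstrained_of_isSolvable [Finite G] [Fact p.Prime] [Group.IsSolvable G] :
    Cfsg.IsPConstrained p G :=
  isPConstrained_of_isPiSeparable (Solvable.isPiSeparable_of_isSolvable _)

instance pPrimePCore_normal (p : ℕ) (G : Type*) [Group G] : (Cfsg.pPrimePCore p G).Normal :=
  Subgroup.normal_comap _

theorem pPrimeCore_le_pPrimePCore : Cfsg.pPrimeCore p G ≤ Cfsg.pPrimePCore p G :=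
  fun x hx => by
    rw [Cfsg.pPrimePCore, Subgroup.mem_comap, QuotientGroup.mk'_apply,
      (QuotientGroup.eq_one_iff x).mpr hx]
    exact one_mem _

theorem map_pPrimePCore :
    (Cfsg.pPrimePCore p G).map (QuotientGroup.mk' (Cfsg.pPrimeCore p G)) =
      Cfsg.pCore p (G ⧸ Cfsg.pPrimeCore p G) :=
  Subgroup.map_comap_eq_self_of_surjective (QuotientGroup.mk'_surjective _) _

theorem pPrimePCore_eq_pCore (hO : Cfsg.pPrimeCore p G = ⊥) :
    Cfsg.pPrimePCore p G = Cfsg.pCore p G := by
  have hk : (QuotientGroup.mk' (Cfsg.pPrimeCore p G)).ker = ⊥ := by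
    rw [QuotientGroup.ker_mk', hO]
  rw [Cfsg.pPrimePCore, ← Cores.pCore_map_of_ker _ (QuotientGroup.mk'_surjective _)
    (by rw [hk]; exact IsPGroup.of_bot), Subgroup.comap_map_eq, hk, sup_bot_eq]

/-- If `C(O_p) ≤ O_p`, only elements of `O_p` act trivially on `O_p/Φ(O_p)`. -/
theorem mem_pCore_of_commutator_mem_frattini [Finite G] [hp : Fact p.Prime]
    (hC : Subgroup.centralizer (Cfsg.pCore p G : Set G) ≤ Cfsg.pCore p G) {g : G}
    (hg : ∀ x ∈ Cfsg.pCore p G,
      g * x * g⁻¹ * x⁻¹ ∈ (frattini ↥(Cfsg.pCore p G)).map (Cfsg.pCore p G).subtype) :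
    g ∈ Cfsg.pCore p G := by
  set P := Cfsg.pCore p G with hP
  set F := (frattini P).map P.subtype with hF
  have hFn : F.Normal := Cores.map_subtype_normal_of_characteristic P _
  let K : Subgroup G :=
    { carrier := {a | ∀ x ∈ P, a * x * a⁻¹ * x⁻¹ ∈ F}
      one_mem' := fun x _ => by simp
      mul_mem' := fun {a b} ha hb x hx => by
        have h1 := ha (b * x * b⁻¹) ((Cores.pCore_normal p G).conj_mem x hx b)
        simpa [mul_assoc] using F.mul_mem h1 (hb x hx)
      inv_mem' := fun {a} ha x hx => by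
        have h1 := ha (a⁻¹ * x * a) (by simpa using (Cores.pCore_normal p G).conj_mem x hx a⁻¹)
        simpa [mul_assoc] using F.inv_mem h1 }
  have hK : K.Normal := ⟨fun a ha t x hx => by
    have h1 := ha (t⁻¹ * x * t) (by simpa using (Cores.pCore_normal p G).conj_mem x hx t⁻¹)
    simpa [mul_assoc] using hFn.conj_mem _ h1 t⟩
  refine Cores.le_pCore hK (IsPGroup.iff_card.mpr ⟨_, Nat.eq_prime_pow_of_unique_prime_dvd
    Nat.card_pos.ne' fun {q} hq hd => ?_⟩) hg
  by_contra hne
  have : Fact q.Prime := ⟨hq⟩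
  obtain ⟨y, hy⟩ := exists_prime_orderOf_dvd_card' (G := K) q hd
  have hyo : orderOf (y : G) = q := (Subgroup.orderOf_coe y).trans hy
  have hA : Subgroup.zpowers (y : G) ≤ Subgroup.centralizer (P : Set G) := by
    refine Coprime.le_centralizer_of_forall_mem_frattini
      (le_top.trans (Subgroup.normalizer_eq_top_iff.mpr inferInstance).ge) ?_ ?_
    · obtain ⟨n, hn⟩ := IsPGroup.iff_card.mp
        ((Cores.isPGroup_pCore p G).to_subgroup (frattini P))
      rw [Nat.card_zpowers, hyo, hn]
      exact ((Nat.coprime_primes hq hp.out).mpr hne).pow_right n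
    · intro a ha k hk
      exact (Subgroup.zpowers_le.mpr y.2 : Subgroup.zpowers (y : G) ≤ K) ha k hk
  obtain ⟨k, hk⟩ := IsPGroup.iff_orderOf.mp (Cores.isPGroup_pCore p G)
    ⟨(y : G), hC (hA (Subgroup.mem_zpowers _))⟩
  rw [← Subgroup.orderOf_coe, hyo] at hk
  rcases k with _ | k
  · exact hq.ne_one (by simpa using hk)
  · exact hne ((Nat.prime_dvd_prime_iff_eq hp.out hq).mp (hk ▸ dvd_pow_self p k.succ_ne_zero)).symm

end Cfsg.Agent.HallHigman
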