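/-
`End W` as a permutation module for an element normalizing an irreducible group (helper3).

Main results (namespace `Cfsg.Agent.HallHigman`):
* span_range_eq_top: Burnside's theorem for a monoid of endomorphisms over an algebraically closed field
* mem_scalar_of_commute (Schur), scalarSubgroup
* card_quotient_scalar: `|Q : K| = d^2` when commutators act as scalars
* finrank_commutant_mul: `P * (dim C(T) - 1) = d^2 - 1` when `<T>` acts semiregularly on `Q/K`
* d_add_one_eq: unipotent case
-/
import Cfsg.Agent.Lib.HallHigman.Commutant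

set_option autoImplicit false

namespace Cfsg.Agent.HallHigman

open Module
open scoped commutatorElement

variable {F : Type*} [Field F] {W : Type*} [AddCommGroup W] [Module F W]

/-- `Q` acts irreducibly through `ρ`. -/
def IsIrred {G : Type*} [Group G] (ρ : G →* Module.End F W) (Q : Subgroup G) : Prop :=
  ∀ U : Submodule F W, (∀ g ∈ Q, ∀ u ∈ U, ρ g u ∈ U) → U = ⊥ ∨ U = ⊤

/-- Schur's lemma. -/
theorem mem_scalar_of_commute [IsAlgClosed F] [FiniteDimensional F W] [Nontrivial W] {G : Type*}
    [Group G] {ρ : G →* Module.End F W} {Q : Subgroup G} (h : IsIrred ρ Q) (A : Module.End F W)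
    (hA : ∀ g ∈ Q, Commute A (ρ g)) : ∃ c : F, A = c • 1 := by
  obtain ⟨c, hc⟩ := Module.End.exists_eigenvalue A
  refine ⟨c, LinearMap.ext fun w => ?_⟩
  have hU : A.eigenspace c = ⊤ := by
    refine (h (A.eigenspace c) fun g hg u hu => ?_).resolve_left hc
    rw [Module.End.mem_eigenspace_iff] at hu ⊢
    have := LinearMap.congr_fun (hA g hg).eq u
    rw [Module.End.mul_apply, Module.End.mul_apply, hu, map_smul] at this
    exact this
  have hw : w ∈ A.eigenspace c := hU ▸ Submodule.mem_top
  rw [Module.End.mem_eigenspace_iff] at hw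
  simpa using hw

/-- Burnside: the endomorphisms of an irreducible group span `End W`. -/
theorem span_range_eq_top [IsAlgClosed F] [FiniteDimensional F W] [Nontrivial W] {G : Type*}
    [Group G] {ρ : G →* Module.End F W} {Q : Subgroup G} (h : IsIrred ρ Q) :
    Submodule.span F (ρ '' (Q : Set G)) = ⊤ := by
  classical
  set S : Submonoid (Module.End F W) := Q.toSubmonoid.map ρ
  have hadj : Subalgebra.toSubmodule (Algebra.adjoin F (ρ '' (Q : Set G))) =
      Submodule.span F (ρ '' (Q : Set G)) := by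
    rw [show ρ '' (Q : Set G) = (S : Set (Module.End F W)) from rfl, Algebra.adjoin_eq_span,
      Submonoid.closure_eq]
  rw [← hadj]
  set A : Subalgebra F (Module.End F W) := Algebra.adjoin F (ρ '' (Q : Set G)) with hA
  have hact : ∀ (a : A) (v : W), a • v = (a : Module.End F W) v := fun _ _ => rfl
  have halg : ∀ (c : F) (v : W), algebraMap F A c • v = c • v := fun c v => by
    rw [hact]; rfl
  have hsimple : IsSimpleModule A W := by
    refine isSimpleModule_iff _ _ |>.mpr (IsSimpleOrder.mk fun U => ?_)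
    let U' : Submodule F W :=
      { carrier := U
        add_mem' := fun a b => U.add_mem a b
        zero_mem' := U.zero_mem
        smul_mem' := fun c v hv => by
          have := U.smul_mem (algebraMap F A c) hv
          rwa [halg] at this }
    rcases h U' fun g hg u hu => by
      have := U.smul_mem (⟨ρ g, Algebra.subset_adjoin ⟨g, hg, rfl⟩⟩ : A) hu
      rw [hact] at this
      exact this with hU | hU
    · exact Or.inl (SetLike.ext fun v => SetLike.ext_iff.mp hU v)
    · exact Or.inr (SetLike.ext fun v => SetLike.ext_iff.mp hU v)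
  refine eq_top_iff.mpr fun X _ => ?_
  have hlin : ∀ (φ : Module.End A W), ∃ c : F, ∀ v, φ v = c • v := by
    intro φ
    let φ' : Module.End F W :=
      { toFun := φ
        map_add' := φ.map_add
        map_smul' := fun c v => by
          have := φ.map_smul (algebraMap F A c) v
          rwa [halg, halg] at this }
    obtain ⟨c, hc⟩ := mem_scalar_of_commute h φ' fun g hg => LinearMap.ext fun v => by
      exact φ.map_smul (⟨ρ g, Algebra.subset_adjoin ⟨g, hg, rfl⟩⟩ : A) v
    exact ⟨c, fun v => (LinearMap.congr_fun hc v).trans (by simp)⟩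
  let f : Module.End (Module.End A W) W :=
    { toFun := X
      map_add' := X.map_add
      map_smul' := fun φ v => by
        obtain ⟨c, hc⟩ := hlin φ
        show X (φ v) = φ (X v)
        rw [hc, hc, map_smul] }
  obtain ⟨B, hB⟩ := Module.Basis.exists_basis F W
  have : Fintype ↑B := FiniteDimensional.fintypeBasisIndex hB.some
  obtain ⟨r, hr⟩ := jacobson_density f (Finset.univ.image hB.some)
  have : X = (r : Module.End F W) := hB.some.ext fun i => by
    have := hr (hB.some i) (Finset.mem_image_of_mem _ (Finset.mem_univ i))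
    rwa [hact] at this
  rw [Subalgebra.mem_toSubmodule, this]
  exact r.2

variable {G : Type*} [Group G] {ρ : G →* Module.End F W} {Q : Subgroup G}

/-- The elements of `Q` acting as scalars, as a subgroup of `Q`. -/
def scalarSubgroup (ρ : G →* Module.End F W) (Q : Subgroup G) : Subgroup Q where
  carrier := {g | ∃ c : F, ρ (g : G) = c • 1}
  one_mem' := ⟨1, by simp⟩
  mul_mem' := by
    rintro a b ⟨c, hc⟩ ⟨d, hd⟩
    exact ⟨c * d, by rw [Subgroup.coe_mul, map_mul, hc, hd, smul_mul_smul_comm, one_mul]⟩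
  inv_mem' := by
    rintro a ⟨c, hc⟩
    have h1 : ρ ((a⁻¹ : Q) : G) * ρ (a : G) = 1 := by
      rw [← map_mul, ← Subgroup.coe_mul, inv_mul_cancel, Subgroup.coe_one, map_one]
    rw [hc, mul_smul_comm, mul_one] at h1
    by_cases hc0 : c = 0
    · rw [hc0, zero_smul] at h1
      exact ⟨0, by rw [← mul_one (ρ _), ← h1, mul_zero, zero_smul]⟩
    · exact ⟨c⁻¹, by rw [← h1, smul_smul, inv_mul_cancel₀ hc0, one_smul]⟩

theorem mem_scalarSubgroup {g : Q} :
    g ∈ scalarSubgroup ρ Q ↔ ∃ c : F, ρ (g : G) = c • 1 := Iff.rfl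

theorem isUnit_rho (g : G) : IsUnit (ρ g) := (Group.isUnit g).map ρ

theorem rho_inv_mul (g : G) : ρ g⁻¹ * ρ g = 1 := by rw [← map_mul, inv_mul_cancel, map_one]

theorem rho_mul_inv (g : G) : ρ g * ρ g⁻¹ = 1 := by rw [← map_mul, mul_inv_cancel, map_one]

instance scalarSubgroup_normal : (scalarSubgroup ρ Q).Normal := ⟨fun a ha g => by
  obtain ⟨c, hc⟩ := ha
  refine ⟨c, ?_⟩
  rw [Subgroup.coe_mul, Subgroup.coe_mul, map_mul, map_mul, hc, mul_smul_comm, mul_one,
    smul_mul_assoc, ← map_mul, ← Subgroup.coe_mul, mul_inv_cancel, Subgroup.coe_one, map_one]⟩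

variable [FiniteDimensional F W] [Nontrivial W]

theorem eq_of_smul_one_eq {a b : F} (h : a • (1 : Module.End F W) = b • 1) : a = b := by
  obtain ⟨w, hw⟩ := exists_ne (0 : W)
  have := LinearMap.congr_fun h w
  simp only [LinearMap.smul_apply, Module.End.one_apply] at this
  exact smul_left_injective F hw this

theorem scalar_ne_zero {g : G} {c : F} (h : ρ g = c • 1) : c ≠ 0 := by
  rintro rfl
  rw [zero_smul] at h
  exact not_isUnit_zero (h ▸ isUnit_rho g)

/-- Irreducible with scalar commutators: chosen representatives of `Q/K` form a basis of `End W`. -/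
theorem basis_of_scalar_commutators [IsAlgClosed F] (hirr : IsIrred ρ Q)
    (hcomm : ∀ g ∈ Q, ∀ h ∈ Q, ∃ c : F, ρ ⁅g, h⁆ = c • 1)
    (e : Q ⧸ scalarSubgroup ρ Q → Module.End F W)
    (he : ∀ q, ∃ (g : Q) (c : F), (g : Q ⧸ scalarSubgroup ρ Q) = q ∧ c ≠ 0 ∧ e q = c • ρ (g : G)) :
    LinearIndependent F e ∧ Submodule.span F (Set.range e) = ⊤ := by
  classical
  choose g cf hgq hcf he' using he
  -- the eigen-characters for conjugation by `Q`
  have hχ : ∀ (q : Q ⧸ scalarSubgroup ρ Q) (h : Q), ∃ c : F,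
      ρ (h : G) * e q = c • (e q * ρ (h : G)) := by
    intro q h
    obtain ⟨c, hc⟩ := hcomm h h.2 (g q) (g q).2
    refine ⟨c, ?_⟩
    rw [he', mul_smul_comm, smul_mul_assoc, smul_comm c, ← map_mul, ← map_mul]
    congr 1
    rw [show (h : G) * g q = ⁅(h : G), (g q : G)⁆ * ((g q : G) * h) by
      simp [commutatorElement_def, mul_assoc], map_mul, hc, smul_mul_assoc, one_mul]
  choose χ hχ' using hχ
  have heu : ∀ q, IsUnit (e q) := fun q => by
    rw [he']
    exact (isUnit_rho _).smul (Units.mk0 _ (hcf q))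
  have hinj : ∀ q (h : Q) (a b : F),
      a • (e q * ρ (h : G)) = b • (e q * ρ (h : G)) → a = b := by
    intro q h a b hab
    obtain ⟨u, hu⟩ := (heu q).mul (isUnit_rho (h : G))
    rw [← hu] at hab
    apply eq_of_smul_one_eq (W := W)
    have := congrArg (· * (↑u⁻¹ : Module.End F W)) hab
    simpa using this
  let φ : (Q ⧸ scalarSubgroup ρ Q) → (Q →* F) := fun q =>
    { toFun := χ q
      map_one' := by
        refine hinj q 1 _ _ ?_
        rw [one_smul, ← hχ']
        simp
      map_mul' := fun a b => by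
        refine hinj q (a * b) _ _ ?_
        rw [← hχ', Subgroup.coe_mul, map_mul, mul_assoc, hχ', mul_smul_comm, ← mul_assoc, hχ',
          smul_mul_assoc, smul_smul, mul_assoc, mul_comm (χ q a)] }
  have hφ : Function.Injective φ := by
    intro q q' hqq'
    have hch : ∀ h : Q, χ q h = χ q' h := fun h => congrFun (congrArg DFunLike.coe hqq') h
    have hs : ∃ c : F, ρ ((g q' : G)⁻¹ * (g q : G)) = c • 1 := by
      refine mem_scalar_of_commute hirr _ fun h hh => ?_
      have e1 := hχ' q ⟨h, hh⟩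
      have e2 := hχ' q' ⟨h, hh⟩
      rw [hch] at e1
      rw [he', mul_smul_comm, smul_mul_assoc, smul_comm (χ q' ⟨h, hh⟩)] at e1 e2
      have e1' := smul_right_injective _ (hcf q) e1
      have e2' := smul_right_injective _ (hcf q') e2
      simp only at e1' e2'
      have hne : χ q' ⟨h, hh⟩ ≠ 0 := by
        intro h0
        rw [h0, zero_smul] at e2'
        exact not_isUnit_zero (e2' ▸ (isUnit_rho h).mul (isUnit_rho _))
      have e4 : ρ (g q' : G)⁻¹ * ρ h = χ q' ⟨h, hh⟩ • (ρ h * ρ (g q' : G)⁻¹) := by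
        calc ρ (g q' : G)⁻¹ * ρ h
            = ρ (g q' : G)⁻¹ * (ρ h * ρ (g q' : G)) * ρ (g q' : G)⁻¹ := by
              simp only [mul_assoc, rho_mul_inv, mul_one]
          _ = _ := by
              rw [e2']
              simp only [mul_smul_comm, smul_mul_assoc, ← mul_assoc, rho_inv_mul, one_mul]
      rw [map_mul]
      show ρ (g q' : G)⁻¹ * ρ (g q : G) * ρ h = ρ h * (ρ (g q' : G)⁻¹ * ρ (g q : G))
      refine smul_right_injective _ hne ?_
      show χ q' ⟨h, hh⟩ • _ = χ q' ⟨h, hh⟩ • _
      rw [mul_assoc, ← mul_smul_comm, ← e1', ← mul_assoc (ρ h), ← smul_mul_assoc, ← e4, mul_assoc]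
    rw [← hgq q, ← hgq q', eq_comm, QuotientGroup.eq, mem_scalarSubgroup]
    simpa using hs
  refine ⟨?_, ?_⟩
  · rw [linearIndependent_iff']
    intro s a ha i hi
    have hdual : ∀ f : Module.End F W →ₗ[F] F, ∀ j ∈ s, a j * f (e j) = 0 := by
      intro f
      have h0 : ∀ h : Q, ∑ j ∈ s, (a j * f (e j)) * χ j h = 0 := by
        intro h
        have h1 : ∑ j ∈ s, (a j * χ j h) • e j = 0 := by
          calc ∑ j ∈ s, (a j * χ j h) • e j
              = ∑ j ∈ s, a j • (ρ (h : G) * e j * ρ (h : G)⁻¹) := Finset.sum_congr rfl fun j _ => by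
                rw [hχ', smul_mul_assoc, mul_assoc, rho_mul_inv, mul_one, smul_smul]
            _ = ρ (h : G) * (∑ j ∈ s, a j • e j) * ρ (h : G)⁻¹ := by
                simp [Finset.mul_sum, Finset.sum_mul, mul_smul_comm, smul_mul_assoc]
            _ = 0 := by rw [ha]; simp
        have h2 := congrArg f h1
        rw [map_sum, map_zero] at h2
        rw [← h2]
        exact Finset.sum_congr rfl fun j _ => by rw [map_smul, smul_eq_mul]; ring
      have hd := (linearIndependent_monoidHom Q F).comp φ hφ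
      rw [linearIndependent_iff'] at hd
      exact hd s (fun j => a j * f (e j)) (funext fun h => by
        simpa [Finset.sum_apply, φ] using h0 h)
    by_contra hne
    refine not_isUnit_zero ((show e i = 0 from ?_) ▸ heu i)
    exact (Module.forall_dual_apply_eq_zero_iff F _).mp fun f =>
      (mul_eq_zero.mp (hdual f i hi)).resolve_left hne
  · rw [eq_top_iff, ← span_range_eq_top hirr, Submodule.span_le]
    rintro _ ⟨h, hh, rfl⟩
    set q : Q ⧸ scalarSubgroup ρ Q := ((⟨h, hh⟩ : Q) : Q ⧸ scalarSubgroup ρ Q)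
    obtain ⟨c, hc⟩ := (QuotientGroup.eq.mp (hgq q) : (g q)⁻¹ * ⟨h, hh⟩ ∈ scalarSubgroup ρ Q)
    have h1 : ρ h = (c * (cf q)⁻¹) • e q := by
      have h2 : ρ h = ρ (g q : G) * (c • 1) := by
        rw [← hc, ← map_mul]; simp
      rw [h2, he', mul_smul_comm, mul_one, smul_smul, mul_assoc, inv_mul_cancel₀ (hcf q), mul_one]
    rw [h1]
    exact Submodule.smul_mem _ _ (Submodule.subset_span ⟨q, rfl⟩)

/-- `|Q : K| = d^2`. -/
theorem card_quotient_scalar [IsAlgClosed F] [Finite Q] (hirr : IsIrred ρ Q)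
    (hcomm : ∀ g ∈ Q, ∀ h ∈ Q, ∃ c : F, ρ ⁅g, h⁆ = c • 1) :
    Nat.card (Q ⧸ scalarSubgroup ρ Q) = finrank F W * finrank F W := by
  obtain ⟨h1, h2⟩ := basis_of_scalar_commutators hirr hcomm
    (fun q => ρ ((q.out : Q) : G))
    (fun q => ⟨q.out, 1, QuotientGroup.out_eq' q, one_ne_zero, (one_smul _ _).symm⟩)
  have : Fintype (Q ⧸ scalarSubgroup ρ Q) := Fintype.ofFinite _
  have h3 := Module.finrank_eq_card_basis (Basis.mk h1 h2.ge)
  rw [Module.finrank_linearMap] at h3
  rw [Nat.card_eq_fintype_card, ← h3]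

/-- A linear map permuting a basis: the fixed space is that of the functions constant on orbits. -/
theorem finrank_fixed_of_perm {V : Type*} [AddCommGroup V] [Module F V] {ι : Type*} [Finite ι]
    (b : Basis ι F V) (L : V →ₗ[F] V) (σ : Equiv.Perm ι) (hL : ∀ i, L (b i) = b (σ i))
    (fix : Submodule F V) (hfix : ∀ v, v ∈ fix ↔ L v = v) :
    finrank F fix = Nat.card (Quotient (Equiv.Perm.SameCycle.setoid σ)) := by
  classical
  have : Fintype ι := Fintype.ofFinite ι
  have : Fintype (Quotient (Equiv.Perm.SameCycle.setoid σ)) := Fintype.ofFinite _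
  have hLr : ∀ v i, b.repr (L v) (σ i) = b.repr v i := by
    intro v i
    conv_lhs => rw [← b.sum_repr v]
    simp only [map_sum, map_smul, hL, Finsupp.coe_finset_sum, Finset.sum_apply, Finsupp.coe_smul,
      Pi.smul_apply, b.repr_self, smul_eq_mul]
    rw [Finset.sum_eq_single i (fun j _ hji => by
      rw [Finsupp.single_eq_of_ne (fun h => hji (σ.injective h).symm), mul_zero])
      (fun h => absurd (Finset.mem_univ i) h)]
    simp
  have hconst : ∀ v ∈ fix, ∀ i j, σ.SameCycle i j → b.repr v i = b.repr v j := by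
    intro v hv i j hij
    have h1 : ∀ i, b.repr v (σ i) = b.repr v i := fun i => by
      conv_lhs => rw [← (hfix v).mp hv]
      exact hLr v i
    obtain ⟨n, hn⟩ := hij.exists_nat_pow_eq
    subst hn
    clear hij
    induction n with
    | zero => simp
    | succ n ih => rw [pow_succ', Equiv.Perm.mul_apply, h1, ih]
  let e : fix ≃ₗ[F] (Quotient (Equiv.Perm.SameCycle.setoid σ) → F) :=
    { toFun := fun v o => Quotient.liftOn o (fun i => b.repr (v : V) i)
        fun i j h => hconst v v.2 i j h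
      map_add' := fun v w => funext fun o => Quotient.inductionOn o fun i => by simp
      map_smul' := fun c v => funext fun o => Quotient.inductionOn o fun i => by simp
      invFun := fun a => ⟨∑ i, a ⟦i⟧ • b i, by
        rw [hfix, map_sum]
        simp only [map_smul, hL]
        rw [← Equiv.sum_comp σ (fun i => a ⟦i⟧ • b i)]
        refine Finset.sum_congr rfl fun i _ => ?_
        rw [show (⟦σ i⟧ : Quotient (Equiv.Perm.SameCycle.setoid σ)) = ⟦i⟧ from
          Quotient.sound ((Equiv.Perm.SameCycle.refl σ i).apply_left)]⟩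
      left_inv := fun v => Subtype.ext (b.sum_repr (v : V))
      right_inv := fun a => funext fun o => Quotient.inductionOn o fun i => by
        simp [Finsupp.coe_finset_sum, Finsupp.single_apply] }
  rw [e.finrank_eq, Module.finrank_fintype_fun_eq_card, Nat.card_eq_fintype_card]

/-- For a semiregular permutation with one fixed point, `P * (#orbits - 1) = n - 1`. -/
theorem card_orbits_semiregular {ι : Type*} [Finite ι] (σ : Equiv.Perm ι) (o : ι) {P : ℕ}
    (hP : 0 < P) (ho : σ o = o) (hσ : σ ^ P = 1)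
    (hfree : ∀ i, i ≠ o → ∀ j, 0 < j → j < P → (σ ^ j) i ≠ i) :
    P * (Nat.card (Quotient (Equiv.Perm.SameCycle.setoid σ)) - 1) = Nat.card ι - 1 := by
  classical
  have : Fintype ι := Fintype.ofFinite ι
  have : Fintype (Quotient (Equiv.Perm.SameCycle.setoid σ)) := Fintype.ofFinite _
  set q : ι → Quotient (Equiv.Perm.SameCycle.setoid σ) := fun i => ⟦i⟧ with hq
  have hpo : ∀ j : ℕ, (σ ^ j) o = o := fun j => by
    induction j with
    | zero => simp
    | succ j ih => rw [pow_succ, Equiv.Perm.mul_apply, ho, ih]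
  have hsc : ∀ i j, q i = q j → ∃ k < P, (σ ^ k) i = j := by
    intro i j h
    obtain ⟨k, hk⟩ := (Quotient.exact h : σ.SameCycle i j).exists_nat_pow_eq
    refine ⟨k % P, Nat.mod_lt _ hP, ?_⟩
    rw [← hk]
    conv_rhs => rw [← Nat.div_add_mod k P, pow_add, pow_mul, hσ, one_pow, one_mul]
  have hfib : ∀ c ∈ (Finset.univ.erase (q o)),
      ((Finset.univ.erase o).filter fun i => q i = c).card = P := by
    intro c hc
    obtain ⟨i, rfl⟩ := Quotient.exists_rep c
    have hio : i ≠ o := fun h => (Finset.mem_erase.mp hc).1 (by rw [h])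
    have : ((Finset.univ.erase o).filter fun j => q j = ⟦i⟧) =
        (Finset.range P).image fun k => (σ ^ k) i := by
      ext j
      simp only [Finset.mem_filter, Finset.mem_erase, Finset.mem_univ, and_true, Finset.mem_image,
        Finset.mem_range]
      constructor
      · rintro ⟨-, h⟩; exact hsc i j h.symm
      · rintro ⟨k, -, rfl⟩
        refine ⟨fun h => hio ?_, Quotient.sound (Equiv.Perm.SameCycle.symm ?_)⟩
        · have h1 : (σ ^ k) i = (σ ^ k) o := by rw [h, hpo]
          exact (σ ^ k).injective h1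
        · exact ⟨(k : ℤ), by rw [zpow_natCast]⟩
    rw [this, Finset.card_image_of_injOn, Finset.card_range]
    intro a ha b hb hab
    simp only [Finset.coe_range, Set.mem_Iio] at ha hb
    rcases lt_trichotomy a b with h | h | h
    · exfalso
      refine hfree i hio (b - a) (by omega) (by omega) ((σ ^ a).injective ?_)
      rw [← Equiv.Perm.mul_apply, ← pow_add, Nat.add_sub_cancel' h.le]
      exact hab.symm
    · exact h
    · exfalso
      refine hfree i hio (a - b) (by omega) (by omega) ((σ ^ b).injective ?_)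
      rw [← Equiv.Perm.mul_apply, ← pow_add, Nat.add_sub_cancel' h.le]
      exact hab
  have hmaps : ∀ i ∈ Finset.univ.erase o, q i ∈ Finset.univ.erase (q o) := by
    intro i hi
    refine Finset.mem_erase.mpr ⟨fun h => (Finset.mem_erase.mp hi).1 ?_, Finset.mem_univ _⟩
    obtain ⟨k, -, hk⟩ := hsc o i h.symm
    exact hk.symm.trans (hpo k)
  have h := Finset.card_eq_sum_card_fiberwise (f := q) (s := Finset.univ.erase o)
    (t := Finset.univ.erase (q o)) hmaps
  rw [Finset.sum_congr rfl hfib, Finset.sum_const, smul_eq_mul, Finset.card_erase_of_mem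
    (Finset.mem_univ _), Finset.card_erase_of_mem (Finset.mem_univ _), Finset.card_univ,
    Finset.card_univ] at h
  rw [Nat.card_eq_fintype_card, Nat.card_eq_fintype_card, h, mul_comm]

/-- The commutant of `T` has dimension `1 + (d^2 - 1) / P`. -/
theorem finrank_commutant_mul [IsAlgClosed F] [Finite Q] (hirr : IsIrred ρ Q)
    (hcomm : ∀ g ∈ Q, ∀ h ∈ Q, ∃ c : F, ρ ⁅g, h⁆ = c • 1)
    (T T' : Module.End F W) (hTT' : T * T' = 1) (hT'T : T' * T = 1)
    (z : MulAut Q) (hz : ∀ g : Q, T * ρ (g : G) * T' = ρ (z g : G)) {P : ℕ} (hP : 0 < P)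
    (hTP : T ^ P = 1) (hzP : z ^ P = 1)
    (hfree : ∀ g : Q, ∀ j, 0 < j → j < P → g⁻¹ * (z ^ j) g ∈ scalarSubgroup ρ Q →
      g ∈ scalarSubgroup ρ Q) :
    P * (finrank F ↥(intertw T T) - 1) = finrank F W * finrank F W - 1 := by
  classical
  set K := scalarSubgroup ρ Q with hK
  have hKz : ∀ g ∈ K, z g ∈ K := by
    rintro g ⟨c, hc⟩
    exact ⟨c, by rw [← hz, hc, mul_smul_comm, mul_one, smul_mul_assoc, hTT']⟩
  have hKz' : ∀ (j : ℕ) (g : Q), g ∈ K → (z ^ j) g ∈ K := by
    intro j
    induction j with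
    | zero => intro g hg; simpa using hg
    | succ j ih => intro g hg; rw [pow_succ', MulAut.mul_apply]; exact hKz _ (ih g hg)
  have hzP' : ∀ (g : Q), (z ^ (P - 1)) (z g) = g ∧ z ((z ^ (P - 1)) g) = g := by
    intro g
    rw [← MulAut.mul_apply, ← pow_succ, ← MulAut.mul_apply, ← pow_succ', show P - 1 + 1 = P by omega,
      hzP, MulAut.one_apply]
    exact ⟨rfl, rfl⟩
  let σ : Equiv.Perm (Q ⧸ K) :=
    { toFun := QuotientGroup.map K K z.toMonoidHom hKz
      invFun := QuotientGroup.map K K (z ^ (P - 1)).toMonoidHom (hKz' _)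
      left_inv := fun x => QuotientGroup.induction_on x fun g => by
        show ((z ^ (P - 1)) (z g) : Q ⧸ K) = g
        rw [(hzP' g).1]
      right_inv := fun x => QuotientGroup.induction_on x fun g => by
        show ((z ((z ^ (P - 1)) g)) : Q ⧸ K) = g
        rw [(hzP' g).2] }
  have hσ : ∀ (j : ℕ) (g : Q), (σ ^ j) (g : Q ⧸ K) = (((z ^ j) g : Q) : Q ⧸ K) := by
    intro j
    induction j with
    | zero => intro g; simp
    | succ j ih => intro g; rw [pow_succ', Equiv.Perm.mul_apply, ih, pow_succ', MulAut.mul_apply]; rfl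
  have hσ1 : σ (1 : Q ⧸ K) = 1 := map_one (QuotientGroup.map K K z.toMonoidHom hKz)
  have hσP : σ ^ P = 1 := Equiv.ext fun x => QuotientGroup.induction_on x fun g => by
    rw [hσ, hzP]; rfl
  have hfree' : ∀ x : Q ⧸ K, x ≠ 1 → ∀ j, 0 < j → j < P → (σ ^ j) x ≠ x := by
    intro x
    refine QuotientGroup.induction_on x fun g hg j hj hjP h => ?_
    rw [hσ, eq_comm, QuotientGroup.eq] at h
    exact hg ((QuotientGroup.eq_one_iff g).mpr (hfree g j hj hjP h))
  -- an equivariant basis
  let C : Module.End F W →ₗ[F] Module.End F W :=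
    (LinearMap.mulLeft F T).comp (LinearMap.mulRight F T')
  have hC : ∀ X, C X = T * X * T' := fun X => (mul_assoc _ _ _).symm
  have hCpow : ∀ (j : ℕ) (g : Q), (C ^ j) (ρ (g : G)) = ρ ((z ^ j) g : G) := by
    intro j
    induction j with
    | zero => intro g; simp
    | succ j ih => intro g; rw [pow_succ', Module.End.mul_apply, ih, hC, hz, pow_succ', MulAut.mul_apply]
  have hT'P : T' ^ P = 1 := by
    have hc : Commute T T' := hTT'.trans hT'T.symm
    have := hc.mul_pow P
    rw [hTT', hTP, one_pow, one_mul] at this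
    exact this.symm
  have hCP : C ^ P = 1 := by
    refine LinearMap.ext fun X => ?_
    have : ∀ j : ℕ, (C ^ j) X = T ^ j * X * T' ^ j := by
      intro j
      induction j with
      | zero => simp
      | succ j ih =>
        rw [pow_succ', Module.End.mul_apply, ih, hC, pow_succ' T, pow_succ T']
        simp only [mul_assoc]
    rw [this, hTP, hT'P]; simp
  let rep : Quotient (Equiv.Perm.SameCycle.setoid σ) → Q := fun c =>
    if c = ⟦(1 : Q ⧸ K)⟧ then 1 else (c.out : Q ⧸ K).out
  have hrep : ∀ x : Q ⧸ K, ∃ j < P, (σ ^ j) ((rep ⟦x⟧ : Q) : Q ⧸ K) = x := by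
    intro x
    have hrs : σ.SameCycle ((rep ⟦x⟧ : Q) : Q ⧸ K) x := by
      by_cases h : (⟦x⟧ : Quotient (Equiv.Perm.SameCycle.setoid σ)) = ⟦(1 : Q ⧸ K)⟧
      · simp only [rep, if_pos h, QuotientGroup.mk_one]
        exact Quotient.exact h.symm
      · simp only [rep, if_neg h, QuotientGroup.out_eq']
        exact Quotient.mk_out (s := Equiv.Perm.SameCycle.setoid σ) x
    obtain ⟨k, hk⟩ := hrs.exists_nat_pow_eq
    refine ⟨k % P, Nat.mod_lt _ hP, ?_⟩
    conv_rhs => rw [← hk, ← Nat.div_add_mod k P, pow_add, pow_mul, hσP, one_pow, one_mul]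
  choose jf hjf hjf' using hrep
  let e : Q ⧸ K → Module.End F W := fun x => (C ^ jf x) (ρ (rep ⟦x⟧ : G))
  have hbas := basis_of_scalar_commutators hirr hcomm e fun x => by
    refine ⟨(z ^ jf x) (rep ⟦x⟧), 1, ?_, one_ne_zero, ?_⟩
    · rw [← hσ, hjf']
    · rw [one_smul, ← hCpow]
  have heq : ∀ x, C (e x) = e (σ x) := by
    intro x
    have hcls : (⟦σ x⟧ : Quotient (Equiv.Perm.SameCycle.setoid σ)) = ⟦x⟧ :=
      Quotient.sound (Equiv.Perm.SameCycle.refl σ x).apply_left
    simp only [e, hcls]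
    rw [← Module.End.mul_apply, ← pow_succ']
    by_cases hx : (⟦x⟧ : Quotient (Equiv.Perm.SameCycle.setoid σ)) = ⟦(1 : Q ⧸ K)⟧
    · rw [hCpow, hCpow]
      simp only [rep, if_pos hx, map_one]
    · have hne : ((rep ⟦x⟧ : Q) : Q ⧸ K) ≠ 1 := by
        intro h1
        refine hx (Quotient.sound ?_)
        have h2 := hjf' x
        rw [h1, show ∀ j : ℕ, (σ ^ j) (1 : Q ⧸ K) = 1 from fun j => by
          induction j with
          | zero => rfl
          | succ j ih => rw [pow_succ, Equiv.Perm.mul_apply, hσ1, ih]] at h2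
        rw [← h2]
      have h3 : (σ ^ ((jf x + 1) % P)) ((rep ⟦x⟧ : Q) : Q ⧸ K) =
          (σ ^ jf (σ x)) ((rep ⟦x⟧ : Q) : Q ⧸ K) := by
        have h4 := hjf' (σ x)
        rw [hcls] at h4
        rw [h4]
        conv_rhs => rw [← hjf' x, ← Equiv.Perm.mul_apply, ← pow_succ']
        conv_rhs => rw [← Nat.div_add_mod (jf x + 1) P, pow_add, pow_mul, hσP, one_pow, one_mul]
      have h5 : (jf x + 1) % P = jf (σ x) := by
        have hb := Nat.mod_lt (jf x + 1) hP
        have hb' := hjf (σ x)
        rcases lt_trichotomy ((jf x + 1) % P) (jf (σ x)) with h | h | h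
        · exfalso
          refine hfree' _ hne (jf (σ x) - (jf x + 1) % P) (by omega) (by omega)
            ((σ ^ ((jf x + 1) % P)).injective ?_)
          rw [← Equiv.Perm.mul_apply, ← pow_add, Nat.add_sub_cancel' h.le]
          exact h3.symm
        · exact h
        · exfalso
          refine hfree' _ hne ((jf x + 1) % P - jf (σ x)) (by omega) (by omega)
            ((σ ^ jf (σ x)).injective ?_)
          rw [← Equiv.Perm.mul_apply, ← pow_add, Nat.add_sub_cancel' h.le]
          exact h3
      rw [← h5]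
      congr 1
      conv_lhs => rw [← Nat.div_add_mod (jf x + 1) P, pow_add, pow_mul, hCP, one_pow, one_mul]
  let b : Basis (Q ⧸ K) F (Module.End F W) := Basis.mk hbas.1 hbas.2.ge
  have h1 := finrank_fixed_of_perm b C σ (fun x => by rw [Basis.mk_apply, Basis.mk_apply]; exact heq x)
    (intertw T T) (fun X => by
      rw [hC]
      constructor
      · intro hX
        have hX' : T * X = X * T := hX
        rw [hX', mul_assoc, hTT', mul_one]
      · intro hX
        show T * X = X * T
        conv_rhs => rw [← hX]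
        rw [mul_assoc, mul_assoc, hT'T, mul_one])
  have h2 := card_orbits_semiregular σ (1 : Q ⧸ K) hP hσ1 hσP hfree'
  rw [← h1, card_quotient_scalar hirr hcomm] at h2
  exact h2

/-- The unipotent case: if `(T - 1)^r = 0` with `r < P` then `d + 1 = P` and `d ≤ r`. -/
theorem d_add_one_eq [IsAlgClosed F] [Finite Q] (hirr : IsIrred ρ Q)
    (hcomm : ∀ g ∈ Q, ∀ h ∈ Q, ∃ c : F, ρ ⁅g, h⁆ = c • 1)
    (T T' : Module.End F W) (hTT' : T * T' = 1) (hT'T : T' * T = 1)
    (z : MulAut Q) (hz : ∀ g : Q, T * ρ (g : G) * T' = ρ (z g : G)) {P : ℕ}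
    (hTP : T ^ P = 1) (hzP : z ^ P = 1)
    (hfree : ∀ g : Q, ∀ j, 0 < j → j < P → g⁻¹ * (z ^ j) g ∈ scalarSubgroup ρ Q →
      g ∈ scalarSubgroup ρ Q)
    (hd : 2 ≤ finrank F W) {r : ℕ} (hr : (T - 1) ^ r = 0) (hrP : r < P) :
    finrank F W + 1 = P ∧ finrank F W ≤ r := by
  classical
  have h0 := finrank_commutant_mul hirr hcomm T T' hTT' hT'T z hz (by omega) hTP hzP hfree
  set d := finrank F W with hd'
  have heq : intertw (T - 1) (T - 1) = intertw T T := by
    ext X
    show (T - 1) * X = X * (T - 1) ↔ T * X = X * T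
    rw [sub_mul, mul_sub, one_mul, mul_one, sub_left_inj]
  have hpos : 1 ≤ finrank F ↥(intertw T T) := by
    refine Nat.one_le_iff_ne_zero.mpr fun h => ?_
    have h1 : (1 : Module.End F W) ∈ intertw T T := show T * 1 = 1 * T by simp
    rw [Submodule.finrank_eq_zero.mp h, Submodule.mem_bot] at h1
    exact one_ne_zero h1
  have hge := finrank_commutant_ge (T - 1) hr
  rw [heq] at hge
  obtain ⟨C₀, hC₀⟩ : ∃ c, finrank F ↥(intertw T T) = c + 1 := ⟨_, (Nat.succ_pred_eq_of_pos hpos).symm⟩
  rw [hC₀, Nat.add_sub_cancel] at h0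
  rw [hC₀] at hge
  have hd2 : d * d = P * C₀ + 1 := by
    have : 1 ≤ d * d := by nlinarith
    omega
  obtain ⟨s, hs⟩ : ∃ s, P = r + s + 1 := ⟨P - r - 1, by omega⟩
  have hle : d ≤ r := by
    by_contra hcon
    push Not at hcon
    have h1 : d * d * P ≤ r * ((C₀ + 1) * P) := by
      calc d * d * P ≤ r * (C₀ + 1) * P := Nat.mul_le_mul_right _ hge
        _ = _ := mul_assoc _ _ _
    have h2 : (C₀ + 1) * P + 1 = d * d + P := by rw [hd2]; ring
    have h3 : (r + 1) * (r + 1) ≤ d * d := Nat.mul_le_mul hcon hcon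
    subst hs
    have h5 : r * ((C₀ + 1) * (r + s + 1) + 1) = r * (d * d + (r + s + 1)) := by rw [h2]
    have h6 : (r + 1) * (r + 1) * (s + 1) ≤ d * d * (s + 1) := Nat.mul_le_mul_right _ h3
    nlinarith [Nat.zero_le (r * r * s), Nat.zero_le (r * s)]
  refine ⟨?_, hle⟩
  have hex : ∃ k, (T - 1) ^ k = 0 := ⟨r, hr⟩
  set r₀ := Nat.find hex
  have hr₀ : (T - 1) ^ r₀ = 0 := Nat.find_spec hex
  have hr₀r : r₀ ≤ r := Nat.find_min' hex hr
  have hle₀ : d ≤ r₀ := by
    by_contra hcon
    push Not at hcon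
    have hge₀ := finrank_commutant_ge (T - 1) hr₀
    rw [heq, hC₀] at hge₀
    have h1 : d * d * P ≤ r₀ * ((C₀ + 1) * P) := by
      calc d * d * P ≤ r₀ * (C₀ + 1) * P := Nat.mul_le_mul_right _ hge₀
        _ = _ := mul_assoc _ _ _
    have h2 : (C₀ + 1) * P + 1 = d * d + P := by rw [hd2]; ring
    have h3 : (r₀ + 1) * (r₀ + 1) ≤ d * d := Nat.mul_le_mul hcon hcon
    obtain ⟨t, ht⟩ : ∃ t, P = r₀ + t + 1 := ⟨P - r₀ - 1, by omega⟩
    subst ht
    have h5 : r₀ * ((C₀ + 1) * (r₀ + t + 1) + 1) = r₀ * (d * d + (r₀ + t + 1)) := by rw [h2]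
    have h6 : (r₀ + 1) * (r₀ + 1) * (t + 1) ≤ d * d * (t + 1) := Nat.mul_le_mul_right _ h3
    nlinarith [Nat.zero_le (r₀ * r₀ * t), Nat.zero_le (r₀ * t)]
  obtain ⟨v, hv⟩ : ∃ v, ((T - 1) ^ (d - 1)) v ≠ 0 := by
    by_contra hcon
    push Not at hcon
    exact Nat.find_min hex (show d - 1 < r₀ by omega) (LinearMap.ext hcon)
  have hnil : IsNilpotent (T - 1) := ⟨r, hr⟩
  have hdN : (T - 1) ^ d = 0 := by
    have := (LinearMap.isNilpotent_iff_charpoly (T - 1)).mp hnil
    have h := LinearMap.aeval_self_charpoly (T - 1)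
    rw [this] at h
    simpa using h
  have hind : LinearIndependent F fun i : Fin d => ((T - 1) ^ (i : ℕ)) v := by
    rw [Fintype.linearIndependent_iff]
    intro a ha
    by_contra hcon
    push Not at hcon
    obtain ⟨i, hi⟩ := hcon
    have hne : (Finset.univ.filter fun i => a i ≠ 0).Nonempty := ⟨i, by simp [hi]⟩
    set i₀ := (Finset.univ.filter fun i => a i ≠ 0).min' hne
    have hi₀ : a i₀ ≠ 0 := (Finset.mem_filter.mp (Finset.min'_mem _ hne)).2
    have h1 := congrArg (fun u : W => ((T - 1) ^ (d - 1 - (i₀ : ℕ))) u) ha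
    beta_reduce at h1
    rw [map_sum, map_zero, Finset.sum_eq_single i₀] at h1
    · rw [map_smul, ← Module.End.mul_apply, ← pow_add,
        show d - 1 - (i₀ : ℕ) + (i₀ : ℕ) = d - 1 by omega] at h1
      exact hi₀ ((smul_eq_zero.mp h1).resolve_right hv)
    · intro j _ hj
      by_cases h : a j = 0
      · simp [h]
      have h2 : (i₀ : ℕ) < j := by
        refine lt_of_le_of_ne ?_ fun he => hj (Fin.ext he).symm
        exact Finset.min'_le _ j (by simp [h])
      have h3 : d ≤ d - 1 - (i₀ : ℕ) + (j : ℕ) := by omega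
      rw [map_smul, ← Module.End.mul_apply, ← pow_add]
      obtain ⟨k, hk⟩ := Nat.exists_eq_add_of_le h3
      rw [hk, pow_add, hdN]
      simp
    · simp
  have htop : Submodule.span F (Set.range fun i : ℕ => ((T - 1) ^ i) v) = ⊤ := by
    have : Nonempty (Fin d) := ⟨⟨0, by omega⟩⟩
    refine eq_top_iff.mpr ((hind.span_eq_top_of_card_eq_finrank (by simp [hd'])).ge.trans
      (Submodule.span_mono ?_))
    rintro _ ⟨i, rfl⟩
    exact ⟨(i : ℕ), rfl⟩
  have hup := finrank_commutant_le_of_cyclic (T - 1) v htop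
  rw [heq, hC₀] at hup
  have hlow := finrank_commutant_ge (T - 1) hdN
  rw [heq, hC₀] at hlow
  have hC : d = C₀ + 1 := le_antisymm (Nat.le_of_mul_le_mul_left hlow (by omega)) hup
  obtain ⟨m, hm⟩ : ∃ m, C₀ = m + 1 := ⟨C₀ - 1, by omega⟩
  subst hm
  rw [hC] at hd2
  nlinarith

end Cfsg.Agent.HallHigman
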