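/-
Translates of simple submodules under a normalizing element (helper3).

Main results (namespace `Cfsg.Agent.HallHigman`):
* IsInv, IsSimpleInv, exists_nontrivial_simple
* QIso: equivariant isomorphism of invariant subspaces, transported by normalizing elements
* inf_biSup_eq_bot: pairwise non-isomorphic simple submodules are independent
* exists_invariant_translate: a simple submodule isomorphic to its translate has an invariant copy
* restrictHom: the representation of the stabilizer of a subspace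
-/
import Cfsg.Agent.Lib.HallHigman.EndModule

set_option autoImplicit false

namespace Cfsg.Agent.HallHigman

open Module

variable {F : Type*} [Field F] {V : Type*} [AddCommGroup V] [Module F V] {G : Type*} [Group G]
  {ρ : G →* Module.End F V} {Q : Subgroup G}

theorem rho_inv_apply (g : G) (v : V) : ρ g⁻¹ (ρ g v) = v := by
  rw [← Module.End.mul_apply, rho_inv_mul, Module.End.one_apply]

theorem rho_apply_inv (g : G) (v : V) : ρ g (ρ g⁻¹ v) = v := by
  rw [← Module.End.mul_apply, rho_mul_inv, Module.End.one_apply]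

theorem rho_mul_apply (a b : G) (v : V) : ρ (a * b) v = ρ a (ρ b v) := by
  rw [map_mul, Module.End.mul_apply]

/-- `U` is invariant under `Q`. -/
def IsInv (ρ : G →* Module.End F V) (Q : Subgroup G) (U : Submodule F V) : Prop :=
  ∀ g ∈ Q, ∀ u ∈ U, ρ g u ∈ U

/-- `U` is a simple `Q`-submodule. -/
def IsSimpleInv (ρ : G →* Module.End F V) (Q : Subgroup G) (U : Submodule F V) : Prop :=
  U ≠ ⊥ ∧ IsInv ρ Q U ∧ ∀ U' ≤ U, IsInv ρ Q U' → U' = ⊥ ∨ U' = U

theorem isInv_inf {U U' : Submodule F V} (h : IsInv ρ Q U) (h' : IsInv ρ Q U') :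
    IsInv ρ Q (U ⊓ U') := fun g hg u hu => ⟨h g hg u hu.1, h' g hg u hu.2⟩

theorem isInv_biSup {ι : Type*} (s : Finset ι) (U : ι → Submodule F V)
    (h : ∀ i ∈ s, IsInv ρ Q (U i)) : IsInv ρ Q (⨆ i ∈ s, U i) := by
  intro g hg u hu
  have : (⨆ i ∈ s, U i) ≤ (⨆ i ∈ s, U i).comap (ρ g) := iSup₂_le fun i hi x hx =>
    Submodule.mem_iSup_of_mem i (Submodule.mem_iSup_of_mem hi (h i hi g hg x hx))
  exact this hu

theorem exists_simple_le [FiniteDimensional F V] {U : Submodule F V} (hU : U ≠ ⊥)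
    (hi : IsInv ρ Q U) : ∃ U' ≤ U, IsSimpleInv ρ Q U' := by
  obtain ⟨W, hWU, ⟨hW0, hWi⟩, hmin⟩ := exists_minimal_le_of_wellFoundedLT
    (fun W : Submodule F V => W ≠ ⊥ ∧ IsInv ρ Q W) U ⟨hU, hi⟩
  exact ⟨W, hWU, hW0, hWi, fun U' hle hinv =>
    or_iff_not_imp_left.mpr fun hb => le_antisymm hle (hmin ⟨hb, hinv⟩ hle)⟩

/-- A nontrivial coprime action has a nontrivial simple submodule. -/
theorem exists_nontrivial_simple [FiniteDimensional F V] [Finite Q]
    (hQ : (Nat.card Q : F) ≠ 0) {g : G} (hg : g ∈ Q) (hne : ρ g ≠ 1) :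
    ∃ W, IsSimpleInv ρ Q W ∧ ∃ g ∈ Q, ∃ w ∈ W, ρ g w ≠ w := by
  have : Fintype Q := Fintype.ofFinite Q
  set e : Module.End F V := ∑ a : Q, ρ (a : G) with he
  have hR : ∀ a : Q, e * ρ (a : G) = e := fun a => by
    rw [he, Finset.sum_mul]
    exact Fintype.sum_equiv (Equiv.mulRight a) _ _ fun b => by simp [map_mul]
  have hL : ∀ a : Q, ρ (a : G) * e = e := fun a => by
    rw [he, Finset.mul_sum]
    exact Fintype.sum_equiv (Equiv.mulLeft a) _ _ fun b => by simp [map_mul]
  have hinv : IsInv ρ Q (LinearMap.ker e) := fun a ha u hu => by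
    rw [LinearMap.mem_ker] at hu ⊢
    rw [← Module.End.mul_apply, hR ⟨a, ha⟩, hu]
  have hker : LinearMap.ker e ≠ ⊥ := fun h0 => hne <| LinearMap.ext fun v => by
    apply LinearMap.ker_eq_bot.mp h0
    rw [← Module.End.mul_apply, hR ⟨g, hg⟩]
    rfl
  obtain ⟨W, hWK, hW⟩ := exists_simple_le hker hinv
  refine ⟨W, hW, ?_⟩
  by_contra hcon
  push Not at hcon
  refine hW.1 ((Submodule.eq_bot_iff _).mpr fun w hw => ?_)
  have h1 := LinearMap.mem_ker.mp (hWK hw)
  rw [he, LinearMap.sum_apply, Finset.sum_congr rfl fun (a : Q) _ => hcon a a.2 w hw,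
    Finset.sum_const, Finset.card_univ, ← Nat.card_eq_fintype_card,
    ← Nat.cast_smul_eq_nsmul F] at h1
  exact (smul_eq_zero.mp h1).resolve_left hQ

/-- `f : W → V` commutes with `Q`. -/
def IsEquivariant (ρ : G →* Module.End F V) (Q : Subgroup G) (W : Submodule F V)
    (f : W →ₗ[F] V) : Prop :=
  ∀ g ∈ Q, ∀ w w' : W, (w' : V) = ρ g w → f w' = ρ g (f w)

/-- `W` and `U` are isomorphic `Q`-modules. -/
def QIso (ρ : G →* Module.End F V) (Q : Subgroup G) (W U : Submodule F V) : Prop :=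
  ∃ f : W →ₗ[F] V, Function.Injective f ∧ LinearMap.range f = U ∧ IsEquivariant ρ Q W f

theorem QIso.refl (W : Submodule F V) : QIso ρ Q W W :=
  ⟨W.subtype, W.subtype_injective, Submodule.range_subtype W, fun _ _ _ _ h => h⟩

theorem QIso.trans {A B C : Submodule F V} (hA : IsInv ρ Q A) (h : QIso ρ Q A B)
    (h' : QIso ρ Q B C) : QIso ρ Q A C := by
  obtain ⟨f, hf, hfr, hfe⟩ := h
  obtain ⟨f', hf', hfr', hfe'⟩ := h'
  let f₁ : A →ₗ[F] B := f.codRestrict B fun a => hfr ▸ ⟨a, rfl⟩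
  have hs : Function.Surjective f₁ := fun b => by
    obtain ⟨a, ha⟩ : (b : V) ∈ LinearMap.range f := hfr ▸ b.2
    exact ⟨a, Subtype.ext ha⟩
  refine ⟨f'.comp f₁, hf'.comp fun a b e => hf (congrArg Subtype.val e), ?_, ?_⟩
  · rw [LinearMap.range_comp, LinearMap.range_eq_top.mpr hs, Submodule.map_top, hfr']
  · intro g hg w w' hw
    exact hfe' g hg (f₁ w) (f₁ w') (hfe g hg w w' hw)

theorem QIso.symm {A B : Submodule F V} (hA : IsInv ρ Q A) (h : QIso ρ Q A B) :
    QIso ρ Q B A := by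
  obtain ⟨f, hf, hfr, hfe⟩ := h
  let f₁ : A →ₗ[F] B := f.codRestrict B fun a => hfr ▸ ⟨a, rfl⟩
  have hb : Function.Bijective f₁ := by
    refine ⟨fun a b e => hf (congrArg Subtype.val e), fun b => ?_⟩
    obtain ⟨a, ha⟩ : (b : V) ∈ LinearMap.range f := hfr ▸ b.2
    exact ⟨a, Subtype.ext ha⟩
  let e := LinearEquiv.ofBijective f₁ hb
  refine ⟨A.subtype.comp e.symm.toLinearMap, A.subtype_injective.comp e.symm.injective, ?_, ?_⟩
  · rw [LinearMap.range_comp, LinearEquiv.range, Submodule.map_top, Submodule.range_subtype]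
  · intro g hg w w' hw
    obtain ⟨a, rfl⟩ := e.surjective w
    obtain ⟨a', rfl⟩ := e.surjective w'
    simp only [LinearMap.comp_apply, LinearEquiv.coe_coe, e.symm_apply_apply, Submodule.subtype_apply]
    have h1 := hfe g hg a ⟨ρ g a, hA g hg a a.2⟩ rfl
    have h2 : a' = ⟨ρ g a, hA g hg a a.2⟩ := hf ((hw : f a' = ρ g (f a)).trans h1.symm)
    rw [h2]

variable {a : G}

theorem conj_mem_of_normalizer (ha : a ∈ Subgroup.normalizer (Q : Set G)) {g : G} (hg : g ∈ Q) :
    a⁻¹ * g * a ∈ Q := by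
  have := (Subgroup.mem_normalizer_iff.mp (inv_mem ha) g).mp hg
  simpa using this

theorem IsInv.map (ha : a ∈ Subgroup.normalizer (Q : Set G)) {U : Submodule F V}
    (h : IsInv ρ Q U) : IsInv ρ Q (U.map (ρ a)) := by
  rintro g hg _ ⟨u, hu, rfl⟩
  refine ⟨ρ (a⁻¹ * g * a) u, h _ (conj_mem_of_normalizer ha hg) u hu, ?_⟩
  simp only [← rho_mul_apply, mul_assoc, mul_inv_cancel_left]

theorem QIso.map (ha : a ∈ Subgroup.normalizer (Q : Set G)) {A B : Submodule F V}
    (h : QIso ρ Q A B) : QIso ρ Q (A.map (ρ a)) (B.map (ρ a)) := by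
  obtain ⟨f, hf, hfr, hfe⟩ := h
  have hmem : ∀ w : A.map (ρ a), ρ a⁻¹ (w : V) ∈ A := by
    rintro ⟨_, u, hu, rfl⟩
    rwa [rho_inv_apply]
  let back : A.map (ρ a) →ₗ[F] A :=
    ((ρ a⁻¹).domRestrict (A.map (ρ a))).codRestrict A hmem
  have hback : Function.Bijective back := by
    refine ⟨fun u v e => ?_, fun u => ⟨⟨ρ a u, u, u.2, rfl⟩, Subtype.ext (rho_inv_apply a _)⟩⟩
    have h1 : ρ a⁻¹ (u : V) = ρ a⁻¹ (v : V) := congrArg Subtype.val e
    have h2 := congrArg (ρ a) h1
    rw [rho_apply_inv, rho_apply_inv] at h2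
    exact Subtype.ext h2
  have hinj : Function.Injective (ρ a) := fun u v e => by
    have := congrArg (ρ a⁻¹) e; rwa [rho_inv_apply, rho_inv_apply] at this
  refine ⟨(ρ a).comp (f.comp back), hinj.comp (hf.comp hback.1), ?_, ?_⟩
  · rw [LinearMap.range_comp, LinearMap.range_comp, LinearMap.range_eq_top.mpr hback.2,
      Submodule.map_top, hfr]
  · intro g hg w w' hw
    have h1 := hfe _ (conj_mem_of_normalizer ha hg) (back w) (back w') (by
      show ρ a⁻¹ (w' : V) = ρ (a⁻¹ * g * a) (ρ a⁻¹ (w : V))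
      rw [hw, ← rho_mul_apply, ← rho_mul_apply]
      simp [mul_assoc])
    show ρ a (f (back w')) = ρ g (ρ a (f (back w)))
    rw [h1, ← rho_mul_apply, ← rho_mul_apply]
    simp [mul_assoc]

theorem IsSimpleInv.map (ha : a ∈ Subgroup.normalizer (Q : Set G)) {U : Submodule F V}
    (h : IsSimpleInv ρ Q U) : IsSimpleInv ρ Q (U.map (ρ a)) := by
  have hinj : Function.Injective (ρ a) := fun u v e => by
    have := congrArg (ρ a⁻¹) e; rwa [rho_inv_apply, rho_inv_apply] at this
  refine ⟨fun h0 => h.1 ?_, h.2.1.map ha, fun U' hle hinv => ?_⟩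
  · refine (Submodule.eq_bot_iff _).mpr fun u hu => hinj ?_
    rw [map_zero]
    exact (Submodule.eq_bot_iff _).mp h0 _ ⟨u, hu, rfl⟩
  have e : U' = (U'.map (ρ a⁻¹)).map (ρ a) := by
    ext x
    refine ⟨fun hx => ⟨_, ⟨x, hx, rfl⟩, rho_apply_inv a x⟩, ?_⟩
    rintro ⟨_, ⟨y, hy, rfl⟩, rfl⟩
    rwa [rho_apply_inv]
  rcases h.2.2 (U'.map (ρ a⁻¹)) (fun x hx => by
      obtain ⟨y, hy, rfl⟩ := hx
      obtain ⟨u, hu, rfl⟩ := hle hy
      rwa [rho_inv_apply]) (hinv.map (inv_mem ha)) with h1 | h1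
  · exact Or.inl (by rw [e, h1, Submodule.map_bot])
  · exact Or.inr (by rw [e, h1])

theorem map_map_rho (a b : G) (U : Submodule F V) : (U.map (ρ b)).map (ρ a) = U.map (ρ (a * b)) := by
  rw [map_mul, Module.End.mul_eq_comp, Submodule.map_comp]

/-- Pairwise non-isomorphic simple submodules are independent. -/
theorem inf_biSup_eq_bot {ι : Type*} (s : Finset ι) (U : ι → Submodule F V)
    (hU : ∀ i ∈ s, IsSimpleInv ρ Q (U i))
    (hd : ∀ i ∈ s, ∀ j ∈ s, i ≠ j → ¬ QIso ρ Q (U i) (U j)) :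
    ∀ W, IsSimpleInv ρ Q W → (∀ i ∈ s, ¬ QIso ρ Q W (U i)) → W ⊓ (⨆ i ∈ s, U i) = ⊥ := by
  classical
  induction s using Finset.induction_on with
  | empty => intro W _ _; simp
  | @insert b s hb ih =>
    intro W hW hne
    have hU' : ∀ i ∈ s, IsSimpleInv ρ Q (U i) := fun i hi => hU i (Finset.mem_insert_of_mem hi)
    have ih' := ih hU' fun i hi j hj =>
      hd i (Finset.mem_insert_of_mem hi) j (Finset.mem_insert_of_mem hj)
    set S := ⨆ i ∈ s, U i
    rw [Finset.iSup_insert]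
    have hWS : W ⊓ S = ⊥ := ih' W hW fun i hi => hne i (Finset.mem_insert_of_mem hi)
    have hbi := hU b (Finset.mem_insert_self _ _)
    have hbS : U b ⊓ S = ⊥ := ih' (U b) hbi fun i hi =>
      hd b (Finset.mem_insert_self _ _) i (Finset.mem_insert_of_mem hi) fun e => hb (e ▸ hi)
    have hSi : IsInv ρ Q S := isInv_biSup _ _ fun i hi => (hU' i hi).2.1
    have hsupi : IsInv ρ Q (U b ⊔ S) := fun g hg u hu => by
      obtain ⟨x, hx, y, hy, rfl⟩ := Submodule.mem_sup.mp hu
      rw [map_add]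
      exact Submodule.add_mem_sup (hbi.2.1 g hg x hx) (hSi g hg y hy)
    rcases hW.2.2 _ inf_le_left (isInv_inf hW.2.1 hsupi) with h | h
    · exact h
    exfalso
    have hle : W ≤ U b ⊔ S := inf_eq_left.mp h
    have hdec : ∀ w : W, ∃ x ∈ U b, (w : V) - x ∈ S := fun w => by
      obtain ⟨x, hx, y, hy, hxy⟩ := Submodule.mem_sup.mp (hle w.2)
      exact ⟨x, hx, by rw [← hxy, add_sub_cancel_left]; exact hy⟩
    choose c hc hcS using hdec
    have huniq : ∀ (w : W) (x : V), x ∈ U b → (w : V) - x ∈ S → x = c w := fun w x hx hxS => by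
      have h1 : x - c w ∈ U b ⊓ S := ⟨(U b).sub_mem hx (hc w), by
        have := S.sub_mem (hcS w) hxS
        rwa [sub_sub_sub_cancel_left] at this⟩
      rw [hbS, Submodule.mem_bot, sub_eq_zero] at h1
      exact h1
    let f : W →ₗ[F] V :=
      { toFun := c
        map_add' := fun u v => (huniq (u + v) _ ((U b).add_mem (hc u) (hc v)) (by
          rw [Submodule.coe_add, add_sub_add_comm]; exact S.add_mem (hcS u) (hcS v))).symm
        map_smul' := fun r u => (huniq (r • u) _ ((U b).smul_mem r (hc u)) (by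
          rw [Submodule.coe_smul, ← smul_sub]; exact S.smul_mem r (hcS u))).symm }
    have hfinj : Function.Injective f := (injective_iff_map_eq_zero f).mpr fun w hw => by
      have h1 : (w : V) ∈ W ⊓ S := ⟨w.2, by
        have h3 := hcS w
        have h4 : c w = 0 := hw
        rwa [h4, sub_zero] at h3⟩
      rw [hWS, Submodule.mem_bot] at h1
      exact Subtype.ext h1
    have hfe : IsEquivariant ρ Q W f := fun g hg w w' hw =>
      (huniq w' (ρ g (c w)) (hbi.2.1 g hg _ (hc w)) (by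
        rw [hw, ← map_sub]; exact hSi g hg _ (hcS w))).symm
    refine hne b (Finset.mem_insert_self _ _) ⟨f, hfinj, ?_, hfe⟩
    refine (hbi.2.2 _ ?_ ?_).resolve_left ?_
    · rintro _ ⟨w, rfl⟩; exact hc w
    · rintro g hg _ ⟨w, rfl⟩
      exact ⟨⟨ρ g w, hW.2.1 g hg w w.2⟩, hfe g hg w ⟨ρ g w, hW.2.1 g hg w w.2⟩ rfl⟩
    · intro h0
      obtain ⟨w, hw, hw0⟩ := Submodule.exists_mem_ne_zero_of_ne_bot hW.1
      have h1 : f ⟨w, hw⟩ ∈ LinearMap.range f := ⟨_, rfl⟩
      rw [h0, Submodule.mem_bot] at h1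
      exact hw0 (congrArg Subtype.val (hfinj (h1.trans (map_zero f).symm)))

/-- An isomorphic translate gives an invariant simple copy. -/
theorem exists_invariant_translate [IsAlgClosed F] [FiniteDimensional F V] {W : Submodule F V}
    (hW : IsSimpleInv ρ Q W) {z : G} (hz : z ∈ Subgroup.normalizer (Q : Set G))
    (h : QIso ρ Q W (W.map (ρ z))) :
    ∃ W', IsSimpleInv ρ Q W' ∧ QIso ρ Q W W' ∧ ∀ w ∈ W', ρ z w ∈ W' := by
  obtain ⟨u, hu, hur, hue⟩ := h
  have hmem : ∀ w : W, ρ z⁻¹ (u w) ∈ W := fun w => by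
    obtain ⟨v, hv, hvw⟩ : u w ∈ W.map (ρ z) := hur ▸ ⟨w, rfl⟩
    rw [← hvw, rho_inv_apply]
    exact hv
  let Ti : W →ₗ[F] W := ((ρ z⁻¹).comp u).codRestrict W hmem
  have hTi : Function.Injective Ti := fun a b e => hu (by
    have h1 := congrArg (fun t : W => ρ z (t : V)) e
    simpa [Ti, rho_apply_inv] using h1)
  have hTis : Function.Surjective Ti := LinearMap.injective_iff_surjective.mp hTi
  let E : Submodule F (W →ₗ[F] V) :=
    { carrier := {f | IsEquivariant ρ Q W f}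
      add_mem' := fun {a b} ha hb g hg w w' hw => by simp [ha g hg w w' hw, hb g hg w w' hw]
      zero_mem' := fun g hg w w' _ => by simp
      smul_mem' := fun c a ha g hg w w' hw => by simp [ha g hg w w' hw] }
  let S : E →ₗ[F] E :=
    { toFun := fun f => ⟨(ρ z).comp ((f : W →ₗ[F] V).comp Ti), fun g hg w w' hw => by
        have h1 := f.2 _ (conj_mem_of_normalizer hz hg) (Ti w) (Ti w') (by
          show ρ z⁻¹ (u w') = ρ (z⁻¹ * g * z) (ρ z⁻¹ (u w))
          rw [hue g hg w w' hw, ← rho_mul_apply, ← rho_mul_apply]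
          simp [mul_assoc])
        show ρ z ((f : W →ₗ[F] V) (Ti w')) = ρ g (ρ z ((f : W →ₗ[F] V) (Ti w)))
        rw [h1, ← rho_mul_apply, ← rho_mul_apply]
        simp [mul_assoc]⟩
      map_add' := fun f f' => Subtype.ext (LinearMap.ext fun w => by simp)
      map_smul' := fun c f => Subtype.ext (LinearMap.ext fun w => by simp) }
  have : Nontrivial E := by
    refine ⟨⟨⟨W.subtype, fun _ _ _ _ h => h⟩, 0, fun e => hW.1 ?_⟩⟩
    exact (Submodule.eq_bot_iff _).mpr fun w hw =>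
      LinearMap.congr_fun (congrArg Subtype.val e) ⟨w, hw⟩
  obtain ⟨c, hc⟩ := Module.End.exists_eigenvalue S
  obtain ⟨f, hf, hf0⟩ := hc.exists_hasEigenvector
  rw [Module.End.mem_eigenspace_iff] at hf
  have hfz : ∀ w : W, ρ z ((f : W →ₗ[F] V) (Ti w)) = c • (f : W →ₗ[F] V) w := fun w =>
    LinearMap.congr_fun (congrArg Subtype.val hf) w
  have hfinj : Function.Injective (f : W →ₗ[F] V) := by
    have hK : IsInv ρ Q ((LinearMap.ker (f : W →ₗ[F] V)).map W.subtype) := by
      rintro g hg _ ⟨w, hw, rfl⟩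
      refine ⟨⟨ρ g w, hW.2.1 g hg w w.2⟩, ?_, rfl⟩
      rw [SetLike.mem_coe, LinearMap.mem_ker, f.2 g hg w ⟨ρ g w, hW.2.1 g hg w w.2⟩ rfl,
        LinearMap.mem_ker.mp hw, map_zero]
    rcases hW.2.2 _ (Submodule.map_subtype_le _ _) hK with h1 | h1
    · rw [← LinearMap.ker_eq_bot]
      exact Submodule.map_injective_of_injective W.subtype_injective (by rw [h1, Submodule.map_bot])
    · exfalso
      refine hf0 (Subtype.ext (LinearMap.ext fun w => ?_))
      obtain ⟨w', hw', hww⟩ : (w : V) ∈ (LinearMap.ker (f : W →ₗ[F] V)).map W.subtype := by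
        rw [h1]; exact w.2
      rw [← Subtype.ext hww]
      exact hw'
  refine ⟨LinearMap.range (f : W →ₗ[F] V), ⟨?_, ?_, ?_⟩, ⟨f, hfinj, rfl, f.2⟩, ?_⟩
  · intro h0
    exact hf0 (Subtype.ext (LinearMap.range_eq_bot.mp h0))
  · rintro g hg _ ⟨w, rfl⟩
    exact ⟨⟨ρ g w, hW.2.1 g hg w w.2⟩, f.2 g hg w ⟨ρ g w, hW.2.1 g hg w w.2⟩ rfl⟩
  · intro U' hle hinv
    have hU : IsInv ρ Q ((U'.comap (f : W →ₗ[F] V)).map W.subtype) := by
      rintro g hg _ ⟨w, hw, rfl⟩
      refine ⟨⟨ρ g w, hW.2.1 g hg w w.2⟩, ?_, rfl⟩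
      rw [SetLike.mem_coe, Submodule.mem_comap, f.2 g hg w ⟨ρ g w, hW.2.1 g hg w w.2⟩ rfl]
      exact hinv g hg _ hw
    rcases hW.2.2 _ (Submodule.map_subtype_le _ _) hU with h1 | h1
    · refine Or.inl ?_
      rw [← Submodule.map_comap_eq_of_le hle]
      rw [show U'.comap (f : W →ₗ[F] V) = ⊥ from Submodule.map_injective_of_injective
        W.subtype_injective (by rw [h1, Submodule.map_bot]), Submodule.map_bot]
    · refine Or.inr (le_antisymm hle ?_)
      rintro _ ⟨w, rfl⟩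
      obtain ⟨w', hw', hww⟩ : (w : V) ∈ (U'.comap (f : W →ₗ[F] V)).map W.subtype := by
        rw [h1]; exact w.2
      rw [← Subtype.ext hww]
      exact hw'
  · rintro _ ⟨w, rfl⟩
    obtain ⟨w', rfl⟩ := hTis w
    rw [hfz]
    exact Submodule.smul_mem _ _ ⟨w', rfl⟩

/-- The stabilizer of a subspace in a finite group. -/
def stabSub [Finite G] (ρ : G →* Module.End F V) (U : Submodule F V) : Subgroup G where
  carrier := {g | ∀ u ∈ U, ρ g u ∈ U}
  one_mem' := fun u hu => by simpa using hu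
  mul_mem' := fun {a b} ha hb u hu => by
    rw [rho_mul_apply]; exact ha _ (hb u hu)
  inv_mem' := fun {a} ha u hu => by
    have hpow : ∀ k : ℕ, ρ (a ^ k) u ∈ U := by
      intro k
      induction k with
      | zero => simpa using hu
      | succ k ih => rw [pow_succ', rho_mul_apply]; exact ha _ ih
    have h1 := hpow (orderOf a - 1)
    rwa [← (mul_eq_one_iff_eq_inv'.mp (by
      rw [← pow_succ', Nat.sub_add_cancel (orderOf_pos a), pow_orderOf_eq_one] :
        a * a ^ (orderOf a - 1) = 1))]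

theorem mem_stabSub [Finite G] {U : Submodule F V} {g : G} :
    g ∈ stabSub ρ U ↔ ∀ u ∈ U, ρ g u ∈ U := Iff.rfl

/-- The representation of the stabilizer on the subspace. -/
def restrictHom [Finite G] (ρ : G →* Module.End F V) (U : Submodule F V) :
    stabSub ρ U →* Module.End F U where
  toFun g := (ρ (g : G)).restrict g.2
  map_one' := LinearMap.ext fun u => Subtype.ext (by simp [LinearMap.restrict_apply])
  map_mul' a b := LinearMap.ext fun u => Subtype.ext (rho_mul_apply (ρ := ρ) (a : G) b u)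

theorem restrictHom_apply [Finite G] {U : Submodule F V} (g : stabSub ρ U) (u : U) :
    ((restrictHom ρ U g u : U) : V) = ρ (g : G) u := rfl

end Cfsg.Agent.HallHigman
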