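/-
The quantitative core of Hall-Higman's Theorem B over an algebraically closed field (helper3).

Main results (namespace `Cfsg.Agent.HallHigman`):
* sub_one_pow_eq_geom, sub_one_pow_prime_pow
* exists_period (orbit of a simple submodule under x)
* bound_algClosed
-/
import Cfsg.Agent.Lib.HallHigman.Clifford
import Cfsg.Agent.Lib.Coprime.Invariant

set_option autoImplicit false

namespace Cfsg.Agent.HallHigman

open Module Polynomial
open scoped commutatorElement

variable {F : Type*} [Field F] {V : Type*} [AddCommGroup V] [Module F V] {p : ℕ}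

theorem sub_one_pow_prime_pow [Fact p.Prime] [CharP F p] (A : Module.End F V) (k : ℕ) :
    (A - 1) ^ p ^ k = A ^ p ^ k - 1 := by
  have h := congrArg (Polynomial.aeval A)
    (sub_pow_char_pow (R := F[X]) (p := p) (X : F[X]) 1 (n := k))
  simpa using h

theorem sub_one_pow_eq_geom [hp : Fact p.Prime] [CharP F p] (A : Module.End F V) (k : ℕ) :
    (A - 1) ^ (p ^ k - 1) = ∑ i ∈ Finset.range (p ^ k), A ^ i := by
  have h : ((X : F[X]) - 1) ^ (p ^ k - 1) = ∑ i ∈ Finset.range (p ^ k), (X : F[X]) ^ i := by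
    have hX : ((X : F[X]) - 1) ≠ 0 := by
      simpa using (Polynomial.X_sub_C_ne_zero (1 : F))
    refine mul_left_cancel₀ hX ?_
    rw [← pow_succ', Nat.sub_add_cancel (Nat.one_le_pow _ _ hp.out.pos), mul_geom_sum,
      sub_pow_char_pow, one_pow]
  simpa using congrArg (Polynomial.aeval A) h

theorem exists_mul_mod_eq_gcd_pow [hp : Fact p.Prime] {n j : ℕ} (hj : 0 < j)
    (hjP : j < p ^ (n + 1)) : ∃ m : ℕ, j * m % p ^ (n + 1) = p ^ n := by
  obtain ⟨a, ha, hg⟩ := (Nat.dvd_prime_pow hp.out).mp (Nat.gcd_dvd_right j (p ^ (n + 1)))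
  have han : a ≤ n := by
    by_contra hcon
    rw [show a = n + 1 by omega] at hg
    have := Nat.le_of_dvd hj (hg ▸ Nat.gcd_dvd_left j (p ^ (n + 1)))
    omega
  have hlt : j.gcd (p ^ (n + 1)) < p ^ (n + 1) := by
    rw [hg]; exact Nat.pow_lt_pow_right hp.out.one_lt (by omega)
  obtain ⟨m, -, hm⟩ := Nat.exists_mul_mod_eq_gcd hlt
  refine ⟨m * p ^ (n - a), ?_⟩
  rw [← mul_assoc, Nat.mul_mod, hm, hg, Nat.mul_mod_mod, ← pow_add,
    Nat.add_sub_cancel' han, Nat.mod_eq_of_lt (Nat.pow_lt_pow_right hp.out.one_lt (by omega))]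

variable [IsAlgClosed F] [FiniteDimensional F V]

/-- The orbit of a simple `Q`-submodule under `x`: its length `p^k`, and what the bound
`(ρ x - 1)^r = 0` leaves for `x^(p^k) - 1` on an invariant translate. -/
theorem exists_period [hp : Fact p.Prime] [CharP F p] {G : Type*} [Group G] [Finite G]
    (ρ : G →* Module.End F V) {Q : Subgroup G} {x : G}
    (hxN : x ∈ Subgroup.normalizer (Q : Set G)) {n : ℕ} (hxn : x ^ p ^ (n + 1) = 1)
    {W : Submodule F V} (hW : IsSimpleInv ρ Q W) {r : ℕ} (hr : (ρ x - 1) ^ r = 0) :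
    ∃ k ≤ n + 1, ∃ W' : Submodule F V, IsSimpleInv ρ Q W' ∧ QIso ρ Q W W' ∧
      (∀ w ∈ W', ρ (x ^ p ^ k) w ∈ W') ∧
      (∀ i, (∃ w ∈ W', ((ρ (x ^ p ^ k) - 1) ^ i) w ≠ 0) → p ^ k * (i + 1) ≤ r) ∧ p ^ k ≤ r := by
  classical
  have hxi : ∀ i : ℕ, x ^ i ∈ Subgroup.normalizer (Q : Set G) := fun i => pow_mem hxN i
  let U : ℕ → Submodule F V := fun i => W.map (ρ (x ^ i))
  have hUs : ∀ i, IsSimpleInv ρ Q (U i) := fun i => hW.map (hxi i)
  have hU0 : U 0 = W := by
    simp only [U, pow_zero, map_one]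
    exact Submodule.map_id W
  have hUadd : ∀ i j, (U i).map (ρ (x ^ j)) = U (j + i) := fun i j => by
    simp only [U, map_map_rho, pow_add]
  -- the period
  let S : Set ℕ := {i | QIso ρ Q W (U i)}
  have hS0 : 0 ∈ S := by show QIso ρ Q W (U 0); rw [hU0]; exact QIso.refl W
  have hSadd : ∀ i j, i ∈ S → j ∈ S → i + j ∈ S := fun i j hi hj => by
    have h1 : QIso ρ Q (U i) (U (i + j)) := by
      have := QIso.map (hxi i) hj
      rwa [hUadd] at this
    exact QIso.trans hW.2.1 hi h1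
  have hSmul : ∀ i k, i ∈ S → i * k ∈ S := fun i k hi => by
    induction k with
    | zero => exact hS0
    | succ k ih => rw [Nat.mul_succ]; exact hSadd _ _ ih hi
  have hUper : ∀ i k, U (i + p ^ (n + 1) * k) = U i := fun i k => by
    simp only [U]; rw [pow_add x i, pow_mul, hxn, one_pow, mul_one]
  have hSmod : ∀ i, i ∈ S → i % p ^ (n + 1) ∈ S := fun i hi => by
    show QIso ρ Q W (U _)
    rw [← hUper (i % p ^ (n + 1)) (i / p ^ (n + 1)), Nat.mod_add_div]
    exact hi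
  have hPS : p ^ (n + 1) ∈ S := by
    show QIso ρ Q W (U _)
    rw [← Nat.zero_add (p ^ (n + 1)), ← Nat.mul_one (p ^ (n + 1)), hUper]
    exact hS0
  have hex : ∃ i, 0 < i ∧ i ∈ S := ⟨_, pow_pos hp.out.pos _, hPS⟩
  obtain ⟨ht0, htS⟩ := Nat.find_spec hex
  have htmin : ∀ i, 0 < i → i ∈ S → Nat.find hex ≤ i := fun i h1 h2 => Nat.find_min' hex ⟨h1, h2⟩
  -- the period is a power of `p`
  obtain ⟨k, hk, htk⟩ : ∃ k ≤ n + 1, Nat.find hex = p ^ k := by
    refine (Nat.dvd_prime_pow hp.out).mp ?_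
    rcases (htmin _ (pow_pos hp.out.pos _) hPS).eq_or_lt with h | h
    · rw [h]
    have hg : (Nat.find hex).gcd (p ^ (n + 1)) ∈ S := by
      have hlt : (Nat.find hex).gcd (p ^ (n + 1)) < p ^ (n + 1) :=
        (Nat.gcd_le_left _ ht0).trans_lt h
      obtain ⟨m, -, hm⟩ := Nat.exists_mul_mod_eq_gcd hlt
      rw [← hm]
      exact hSmod _ (hSmul _ m htS)
    have h1 := htmin _ (Nat.gcd_pos_of_pos_left _ ht0) hg
    have h2 := Nat.gcd_le_left (p ^ (n + 1)) ht0
    rw [← le_antisymm h2 h1]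
    exact Nat.gcd_dvd_right _ _
  set t := p ^ k with ht
  have htpos : 0 < t := pow_pos hp.out.pos k
  have hzW : QIso ρ Q W (W.map (ρ (x ^ t))) := htk ▸ htS
  obtain ⟨W', hW', hiso, hzW'⟩ := exists_invariant_translate hW (hxi t) hzW
  let U' : ℕ → Submodule F V := fun i => W'.map (ρ (x ^ i))
  have hU's : ∀ i, IsSimpleInv ρ Q (U' i) := fun i => hW'.map (hxi i)
  have hindep : ∀ i ∈ Finset.range t, ∀ j ∈ Finset.range t, i ≠ j → ¬ QIso ρ Q (U' i) (U' j) := by
    have key : ∀ i j, i < j → j < t → ¬ QIso ρ Q (U' i) (U' j) := by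
      intro i j hij hj h
      have h1 := QIso.map (A := U' i) (B := U' j) (inv_mem (hxi i)) h
      have e0 : (U' i).map (ρ (x ^ i)⁻¹) = W' := by
        simp only [U', map_map_rho, inv_mul_cancel, map_one]; exact Submodule.map_id W'
      have e1 : (U' j).map (ρ (x ^ i)⁻¹) = U' (j - i) := by
        simp only [U', map_map_rho]
        conv_lhs => rw [← Nat.add_sub_cancel' hij.le, pow_add, inv_mul_cancel_left]
      rw [e0, e1] at h1
      have h2 : QIso ρ Q W (U (j - i)) :=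
        QIso.trans hW.2.1 (QIso.trans hW.2.1 hiso h1)
          (QIso.symm (hW.map (hxi _)).2.1 (QIso.map (hxi _) hiso))
      have h3 := htmin (j - i) (by omega) h2
      omega
    intro i hi j hj hne h
    rcases Nat.lt_or_gt_of_ne hne with h' | h'
    · exact key i j h' (Finset.mem_range.mp hj) h
    · exact key j i h' (Finset.mem_range.mp hi) (QIso.symm (hU's i).2.1 h)
  have hsum : ∀ w ∈ W', (∑ i ∈ Finset.range t, ρ (x ^ i) w) = 0 → w = 0 := by
    intro w hw h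
    have h0 : (0 : ℕ) ∈ Finset.range t := Finset.mem_range.mpr htpos
    rw [← Finset.add_sum_erase _ _ h0, add_eq_zero_iff_eq_neg] at h
    have hi := inf_biSup_eq_bot ((Finset.range t).erase 0) U'
      (fun i _ => hU's i) (fun i hi j hj =>
        hindep i (Finset.mem_of_mem_erase hi) j (Finset.mem_of_mem_erase hj))
      (U' 0) (hU's 0) (fun i hi => hindep 0 h0 i (Finset.mem_of_mem_erase hi)
        (Finset.ne_of_mem_erase hi).symm)
    have h1 : ρ (x ^ 0) w ∈ U' 0 ⊓ ⨆ i ∈ (Finset.range t).erase 0, U' i :=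
      ⟨⟨w, hw, rfl⟩, h ▸ Submodule.neg_mem _ (Submodule.sum_mem _ fun i hi =>
        Submodule.mem_iSup_of_mem i (Submodule.mem_iSup_of_mem hi ⟨w, hw, rfl⟩))⟩
    rw [hi, Submodule.mem_bot] at h1
    simpa using h1
  -- `z - 1` on `W'`
  set A : Module.End F V := ρ (x ^ t) - 1 with hA
  have hAx : A = (ρ x - 1) ^ t := by rw [hA, ht, sub_one_pow_prime_pow, map_pow]
  have hAW : ∀ (i : ℕ), ∀ w ∈ W', (A ^ i) w ∈ W' := by
    intro i
    induction i with
    | zero => intro w hw; simpa using hw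
    | succ i ih =>
      intro w hw
      rw [pow_succ', Module.End.mul_apply, hA, LinearMap.sub_apply, Module.End.one_apply]
      exact W'.sub_mem (hzW' _ (ih w hw)) (ih w hw)
  have hlow : ∀ i, (∃ w ∈ W', (A ^ i) w ≠ 0) → t * (i + 1) ≤ r := by
    rintro i ⟨w, hw, hne⟩
    by_contra hcon
    push Not at hcon
    apply hne
    apply hsum _ (hAW i w hw)
    have h1 : ((ρ x - 1) ^ (t * i + (t - 1))) = 0 := by
      have : t * (i + 1) = t * i + t := Nat.mul_succ t i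
      rw [show t * i + (t - 1) = r + (t * i + (t - 1) - r) by omega, pow_add, hr, zero_mul]
    have h2 := LinearMap.congr_fun h1 w
    rw [add_comm, pow_add, pow_mul, ← hAx, Module.End.mul_apply, ht, sub_one_pow_eq_geom,
      LinearMap.sum_apply] at h2
    simpa [map_pow] using h2
  obtain ⟨w₀, hw₀, hw₀'⟩ := Submodule.exists_mem_ne_zero_of_ne_bot hW'.1
  have htr : t ≤ r := by simpa using hlow 0 ⟨w₀, hw₀, by simpa using hw₀'⟩
  exact ⟨k, hk, W', hW', hiso, hzW', hlow, htr⟩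

theorem bound_algClosed [hp : Fact p.Prime] [CharP F p] {G : Type*} [Group G] [Finite G]
    (ρ : G →* Module.End F V) (Q : Subgroup G) (x : G)
    (hxN : x ∈ Subgroup.normalizer (Q : Set G)) {n : ℕ} (hxn : x ^ p ^ (n + 1) = 1)
    {q : ℕ} (hq : q.Prime) (hqp : q ≠ p) (hQ : IsPGroup q Q)
    (hQQ : ∀ a ∈ Q, ∀ b ∈ Q, Commute (x ^ p ^ n) ⁅a, b⁆)
    (hcent : ∀ c ∈ Q, Commute (x ^ p ^ n) c → ∀ g ∈ Q, Commute c g)
    (hgen : Q ≤ Subgroup.closure ((fun g => ⁅g, x ^ p ^ n⁆) '' (Q : Set G)))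
    (hne : ∃ g ∈ Q, ρ g ≠ 1) {r : ℕ} (hr : (ρ x - 1) ^ r = 0) :
    p ^ (n + 1) ≤ r ∨ ∃ n₀ m : ℕ, 1 ≤ n₀ ∧ n₀ ≤ n + 1 ∧ 1 ≤ m ∧ p ^ n₀ - 1 = q ^ m ∧
      p ^ (n + 1 - n₀) * (p ^ n₀ - 1) ≤ r ∧ (∃ a ∈ Q, ∃ b ∈ Q, ¬ Commute a b) ∧
      ∃ W : Submodule F V, W ≠ ⊥ ∧ IsInv ρ Q W ∧ ∃ K₀ : Subgroup G, K₀ ≤ Q ∧
        K₀.relIndex Q = q ^ m * q ^ m ∧ ∀ k ∈ K₀, ∃ c : F, ∀ w ∈ W, ρ k w = c • w := by
  classical
  have : Fact q.Prime := ⟨hq⟩
  obtain ⟨e, he⟩ := IsPGroup.iff_card.mp hQ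
  have hQF : (Nat.card Q : F) ≠ 0 := by
    rw [he, Nat.cast_pow]
    refine pow_ne_zero _ fun h => hqp ?_
    exact ((Nat.prime_dvd_prime_iff_eq hp.out hq).mp ((CharP.cast_eq_zero_iff F p q).mp h)).symm
  obtain ⟨g₀, hg₀, hg₀'⟩ := hne
  obtain ⟨W, hW, g₁, hg₁, w₁, hw₁, hw₁'⟩ := exists_nontrivial_simple hQF hg₀ hg₀'
  obtain ⟨k, hk, W', hW', hiso, hzW', hlow, htr⟩ := exists_period ρ hxN hxn hW hr
  have hxi : ∀ i : ℕ, x ^ i ∈ Subgroup.normalizer (Q : Set G) := fun i => pow_mem hxN i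
  set t := p ^ k with ht
  set A : Module.End F V := ρ (x ^ t) - 1 with hA
  rcases hk.eq_or_lt with hkn | hkn
  · exact Or.inl (hkn ▸ htr)
  -- now the stabilizer is nontrivial
  obtain ⟨N, hN⟩ : ∃ N, n + 1 = k + (N + 1) := ⟨n - k, by omega⟩
  set G₀ := stabSub ρ W'
  have hQG₀ : Q ≤ G₀ := fun g hg => hW'.2.1 g hg
  let z₀ : G₀ := ⟨x ^ t, hzW'⟩
  set ρ' := restrictHom ρ W'
  set Q' : Subgroup G₀ := Q.subgroupOf G₀
  have hrho : ∀ (g : G₀) (w : W'), ((ρ' g w : W') : V) = ρ (g : G) w := fun g w => rfl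
  have : Nontrivial W' := Submodule.nontrivial_iff_ne_bot.mpr hW'.1
  have hirr : IsIrred ρ' Q' := by
    intro U₁ hU₁
    have hinv : IsInv ρ Q (U₁.map W'.subtype) := by
      rintro g hg _ ⟨u, hu, rfl⟩
      exact ⟨ρ' ⟨g, hQG₀ hg⟩ u, hU₁ ⟨g, hQG₀ hg⟩ hg u hu, rfl⟩
    rcases hW'.2.2 _ (Submodule.map_subtype_le _ _) hinv with h | h
    · exact Or.inl (Submodule.map_injective_of_injective W'.subtype_injective
        (by rw [h, Submodule.map_bot]))
    · refine Or.inr (Submodule.map_injective_of_injective W'.subtype_injective ?_)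
      rw [h, Submodule.map_top, Submodule.range_subtype]
  have hzN : z₀ ∈ Subgroup.normalizer (Q' : Set G₀) := by
    rw [Subgroup.mem_normalizer_iff]
    exact fun g => Subgroup.mem_normalizer_iff.mp (hxi t) (g : G)
  set y₀ : G₀ := z₀ ^ p ^ N with hy₀
  have hy : (y₀ : G) = x ^ p ^ n := by
    rw [hy₀, SubgroupClass.coe_pow, ← pow_mul, ht, ← pow_add, show k + N = n by omega]
  have hsc : ∀ g : G₀, g ∈ Q' → Commute y₀ g → ∃ c : F, ρ' g = c • 1 := by
    intro g hg hcomm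
    refine mem_scalar_of_commute hirr _ fun a ha => ?_
    have h1 : Commute (x ^ p ^ n) (g : G) := by
      have := congrArg Subtype.val hcomm.eq
      simp only [Subgroup.coe_mul, hy] at this
      exact this
    have h2 : Commute g a := Subtype.ext (hcent (g : G) hg h1 (a : G) ha).eq
    exact (h2.map ρ').eq
  have hcomm : ∀ g ∈ Q', ∀ h ∈ Q', ∃ c : F, ρ' ⁅g, h⁆ = c • 1 := by
    intro g hg h hh
    refine hsc _ ?_ (Subtype.ext ?_)
    · rw [commutatorElement_def]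
      exact Q'.mul_mem (Q'.mul_mem (Q'.mul_mem hg hh) (Q'.inv_mem hg)) (Q'.inv_mem hh)
    · simp only [Subgroup.coe_mul, hy, commutatorElement_def, Subgroup.coe_inv]
      have := (hQQ (g : G) hg (h : G) hh).eq
      rwa [commutatorElement_def] at this
  set K := scalarSubgroup ρ' Q'
  set P := p ^ (N + 1) with hP
  let zaut : MulAut Q' := Q'.normalizerMonoidHom ⟨z₀, hzN⟩
  have hza : ∀ (j : ℕ) (g : Q'), (((zaut ^ j) g : Q') : G₀) = z₀ ^ j * g * (z₀ ^ j)⁻¹ := by
    intro j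
    induction j with
    | zero => intro g; simp
    | succ j ih =>
      intro g
      rw [pow_succ', MulAut.mul_apply, pow_succ']
      show z₀ * ((zaut ^ j) g : G₀) * z₀⁻¹ = _
      rw [ih]
      simp [mul_assoc]
  have hz₀P : z₀ ^ P = 1 := Subtype.ext (by
    rw [SubgroupClass.coe_pow, ← pow_mul, ht, hP, ← pow_add, ← hN, hxn]; rfl)
  set T : Module.End F W' := ρ' z₀
  set T' : Module.End F W' := ρ' z₀⁻¹
  have hfree : ∀ g : Q', ∀ j, 0 < j → j < P → g⁻¹ * (zaut ^ j) g ∈ K → g ∈ K := by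
    intro g j hj hjP hmem
    let Z : Set ℕ := {i | g⁻¹ * (zaut ^ i) g ∈ K}
    have hKz : ∀ (i : ℕ) (a : Q'), a ∈ K → (zaut ^ i) a ∈ K := by
      rintro i a ⟨c, hc⟩
      refine ⟨c, ?_⟩
      rw [hza, map_mul, map_mul, hc, mul_smul_comm, mul_one, smul_mul_assoc, rho_mul_inv]
    have hZadd : ∀ i l, i ∈ Z → l ∈ Z → i + l ∈ Z := fun i l hi hl => by
      show g⁻¹ * (zaut ^ (i + l)) g ∈ K
      rw [show g⁻¹ * (zaut ^ (i + l)) g = (g⁻¹ * (zaut ^ i) g) * (zaut ^ i) (g⁻¹ * (zaut ^ l) g) by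
        rw [map_mul, map_inv, pow_add, MulAut.mul_apply]; group]
      exact K.mul_mem hi (hKz i _ hl)
    have hZmul : ∀ m, j * m ∈ Z := fun m => by
      induction m with
      | zero => show g⁻¹ * (zaut ^ 0) g ∈ K; simp
      | succ m ih => rw [Nat.mul_succ]; exact hZadd _ _ ih hmem
    obtain ⟨m, hm⟩ := exists_mul_mod_eq_gcd_pow (n := N) hj hjP
    have hy' : g⁻¹ * (zaut ^ p ^ N) g ∈ K := by
      have h1 : g⁻¹ * (zaut ^ (j * m)) g ∈ K := hZmul m
      convert h1 using 3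
      refine MulEquiv.ext fun a => Subtype.ext ?_
      rw [hza, hza]
      conv_rhs => rw [← Nat.mod_add_div (j * m) P, pow_add, pow_mul, hz₀P, one_pow, mul_one]
      rw [hm]
    -- lift to a fixed point of `y`
    let K' : Subgroup G₀ := K.map Q'.subtype
    have hcop : (Nat.card (Subgroup.zpowers y₀)).Coprime (Nat.card Q') := by
      have hdvd : orderOf y₀ ∣ p := by
        refine orderOf_dvd_of_pow_eq_one ?_
        rw [hy₀, ← pow_mul, ← pow_succ, ← hP, hz₀P]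
      have hcQ : Nat.card Q' = q ^ e :=
        (Nat.card_congr (Subgroup.subgroupOfEquivOfLe hQG₀).toEquiv).trans he
      rw [Nat.card_zpowers, hcQ]
      exact (((Nat.coprime_primes hp.out hq).mpr (Ne.symm hqp)).coprime_dvd_left hdvd).pow_right e
    have hAK : Subgroup.zpowers y₀ ≤ Subgroup.normalizer (Q' : Set G₀) :=
      Subgroup.zpowers_le.mpr (pow_mem hzN _)
    have hnorm : Subgroup.zpowers y₀ ≤ Subgroup.normalizer (K' : Set G₀) := by
      refine Subgroup.zpowers_le.mpr (pow_mem ?_ _)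
      rw [Subgroup.mem_normalizer_iff]
      intro a
      constructor
      · rintro ⟨b, hb, rfl⟩
        refine ⟨(zaut ^ 1) b, hKz 1 b hb, ?_⟩
        show (((zaut ^ 1) b : Q') : G₀) = _
        rw [hza, pow_one]; rfl
      · rintro ⟨b, hb, hbe⟩
        refine ⟨(zaut ^ (P - 1)) b, hKz _ b hb, ?_⟩
        show (((zaut ^ (P - 1)) b : Q') : G₀) = _
        have hP1 : z₀ ^ (P - 1) = z₀⁻¹ := eq_inv_of_mul_eq_one_left (by
          rw [← pow_succ, Nat.sub_add_cancel (pow_pos hp.out.pos _), hz₀P])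
        rw [hza, hP1, show ((b : Q') : G₀) = z₀ * a * z₀⁻¹ from hbe]
        simp [mul_assoc]
    have hyy : ((zaut ^ p ^ N) g : G₀) = y₀ * (g : G₀) * y₀⁻¹ := by rw [hza]
    obtain ⟨c, hc, hcK⟩ := Coprime.exists_mem_centralizer_of_coset' hAK hcop
      (Or.inl inferInstance) (N := K') (Subgroup.map_subtype_le _) hnorm (k := (g : G₀)) g.2 (by
        -- the set of elements fixing the coset is a subgroup
        have hy1 : (g : G₀)⁻¹ * y₀ * g * y₀⁻¹ ∈ K' :=
          ⟨_, hy', by rw [Subgroup.coe_subtype, Subgroup.coe_mul, Subgroup.coe_inv, hyy]; group⟩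
        let L : Subgroup G₀ :=
          { carrier := {a | a ∈ Subgroup.normalizer (K' : Set G₀) ∧ (g : G₀)⁻¹ * a * g * a⁻¹ ∈ K'}
            one_mem' := ⟨one_mem _, by simp⟩
            mul_mem' := fun {a b} ha hb => ⟨mul_mem ha.1 hb.1, by
              have h1 := K'.mul_mem ha.2 ((Subgroup.mem_normalizer_iff.mp ha.1 _).mp hb.2)
              simpa [mul_assoc] using h1⟩
            inv_mem' := fun {a} ha => ⟨inv_mem ha.1, by
              have h1 := (Subgroup.mem_normalizer_iff.mp (inv_mem ha.1) _).mp (K'.inv_mem ha.2)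
              simpa [mul_assoc] using h1⟩ }
        have h2 : Subgroup.zpowers y₀ ≤ L :=
          Subgroup.zpowers_le.mpr (show y₀ ∈ L from ⟨hnorm (Subgroup.mem_zpowers _), hy1⟩)
        intro a ha
        exact (h2 ha).2)
    obtain ⟨b, hb, hbe⟩ := hcK
    have hcS : (⟨c, hc.1⟩ : Q') ∈ K :=
      hsc c hc.1 (Subgroup.mem_centralizer_iff.mp hc.2 y₀ (Subgroup.mem_zpowers _))
    rw [show g = (⟨c, hc.1⟩ : Q') * b⁻¹ from Subtype.ext (by
      rw [Subgroup.coe_mul, Subgroup.coe_inv, show ((b : Q') : G₀) = (g : G₀)⁻¹ * c from hbe]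
      simp)]
    exact K.mul_mem hcS (K.inv_mem hb)
  -- `Q` does not act by scalars
  have hKne : K ≠ ⊤ := by
    intro htop
    have hall : ∀ g ∈ Q', ∃ c : F, ρ' g = c • 1 := fun g hg =>
      mem_scalarSubgroup.mp (htop ▸ Subgroup.mem_top (⟨g, hg⟩ : Q'))
    have hfix : ∀ g ∈ Q, ∀ w ∈ W', ρ ⁅g, x ^ p ^ n⁆ w = w := by
      intro g hg w hw
      obtain ⟨c, hc⟩ := hall ⟨g, hQG₀ hg⟩ hg
      have hG : ρ' ⁅(⟨g, hQG₀ hg⟩ : G₀), y₀⁆ = 1 := by
        have hc0 : c ≠ 0 := scalar_ne_zero hc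
        have hinv : ρ' (⟨g, hQG₀ hg⟩ : G₀)⁻¹ = c⁻¹ • 1 := by
          have h1 := rho_inv_mul (ρ := ρ') (⟨g, hQG₀ hg⟩ : G₀)
          rw [hc, mul_smul_comm, mul_one] at h1
          rw [← h1, smul_smul, inv_mul_cancel₀ hc0, one_smul]
        rw [commutatorElement_def, map_mul, map_mul, map_mul, hc, hinv]
        simp [smul_mul_assoc, smul_smul, inv_mul_cancel₀ hc0, mul_inv_cancel₀ hc0, rho_mul_inv]
      have h2 : ((ρ' ⁅(⟨g, hQG₀ hg⟩ : G₀), y₀⁆ ⟨w, hw⟩ : W') : V) = w := by rw [hG]; rfl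
      rw [hrho] at h2
      rwa [commutatorElement_def, Subgroup.coe_mul, Subgroup.coe_mul, Subgroup.coe_mul,
        Subgroup.coe_inv, Subgroup.coe_inv, hy, ← commutatorElement_def] at h2
    obtain ⟨f, hf, hfr, hfe⟩ := hiso
    have hcl : Subgroup.closure ((fun g => ⁅g, x ^ p ^ n⁆) '' (Q : Set G)) ≤
        { carrier := {a : G | ∀ w ∈ W', ρ a w = w}
          one_mem' := fun w _ => by simp
          mul_mem' := fun {a b} ha hb w hw => by rw [rho_mul_apply, hb w hw, ha w hw]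
          inv_mem' := fun {a} ha w hw => by
            conv_lhs => rw [← ha w hw, rho_inv_apply] } := by
      rw [Subgroup.closure_le]
      rintro _ ⟨g, hg, rfl⟩
      exact hfix g hg
    refine hw₁' ?_
    have h1 := hcl (hgen hg₁) (f ⟨w₁, hw₁⟩) (hfr ▸ ⟨_, rfl⟩)
    rw [← hfe g₁ hg₁ ⟨w₁, hw₁⟩ ⟨ρ g₁ w₁, hW.2.1 g₁ hg₁ w₁ hw₁⟩ rfl] at h1
    exact congrArg Subtype.val (hf h1)
  have hcard := card_quotient_scalar hirr hcomm
  have hcard2 : 2 ≤ finrank F W' := by
    by_contra hcon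
    have h1 : finrank F W' = 1 := by
      have : 0 < finrank F W' := Module.finrank_pos
      omega
    rw [h1, Nat.mul_one] at hcard
    exact hKne (Subgroup.index_eq_one.mp hcard)
  have hnab : ∃ a ∈ Q, ∃ b ∈ Q, ¬ Commute a b := by
    by_contra hcon
    push Not at hcon
    refine hKne (top_le_iff.mp fun g _ => mem_scalar_of_commute hirr _ fun a ha => ?_)
    have h2 : Commute (g : G₀) a := Subtype.ext (hcon (g : G) g.2 (a : G) ha).eq
    exact (h2.map ρ').eq
  have hTpow : ∀ (i : ℕ) (w : W'), ((((T - 1) ^ i) w : W') : V) = (A ^ i) w := by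
    intro i
    induction i with
    | zero => intro w; rfl
    | succ i ih =>
      intro w
      rw [pow_succ', pow_succ', Module.End.mul_apply, Module.End.mul_apply, ← ih]
      simp only [LinearMap.sub_apply, Module.End.one_apply, Submodule.coe_sub, hA]
      rfl
  have hTP : (T - 1) ^ P = 0 := by
    rw [hP, sub_one_pow_prime_pow, ← map_pow, ← hP, hz₀P, map_one, sub_self]
  have hexr : ∃ i, (T - 1) ^ i = 0 := ⟨P, hTP⟩
  have hr' : (T - 1) ^ Nat.find hexr = 0 := Nat.find_spec hexr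
  have hr1 : 1 ≤ Nat.find hexr := by
    refine Nat.one_le_iff_ne_zero.mpr fun h0 => ?_
    rw [h0, pow_zero] at hr'
    exact one_ne_zero hr'
  have hbound : t * Nat.find hexr ≤ r := by
    obtain ⟨w, hw⟩ : ∃ w : W', ((T - 1) ^ (Nat.find hexr - 1)) w ≠ 0 := by
      by_contra hcon
      push Not at hcon
      exact Nat.find_min hexr (show Nat.find hexr - 1 < Nat.find hexr by omega) (LinearMap.ext hcon)
    have := hlow (Nat.find hexr - 1) ⟨w, w.2, fun h => hw (Subtype.ext (by rw [hTpow]; exact h))⟩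
    rwa [Nat.sub_add_cancel hr1] at this
  rcases (Nat.find_min' hexr hTP).eq_or_lt with heq | hlt
  · refine Or.inl (le_of_eq_of_le ?_ hbound)
    rw [heq, ht, hP, ← pow_add, ← hN]
  obtain ⟨hd, hdr⟩ := d_add_one_eq hirr hcomm T T' (rho_mul_inv z₀) (rho_inv_mul z₀) zaut
    (fun g => by
      rw [show ((zaut g : Q') : G₀) = z₀ * g * z₀⁻¹ from rfl, map_mul, map_mul])
    (by rw [← map_pow, hz₀P, map_one])
    (MulEquiv.ext fun a => Subtype.ext (by rw [hza, hz₀P]; simp))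
    hfree hcard2 hr' hlt
  have hdvd : finrank F W' ∣ q ^ e := by
    have h1 : Nat.card (Q' ⧸ K) ∣ Nat.card Q' := Subgroup.index_dvd_card K
    rw [hcard, (Nat.card_congr (Subgroup.subgroupOfEquivOfLe hQG₀).toEquiv).trans he] at h1
    exact (Dvd.intro _ rfl).trans h1
  obtain ⟨m, -, hm⟩ := (Nat.dvd_prime_pow hq).mp hdvd
  refine Or.inr ⟨N + 1, m, Nat.succ_pos N, by omega, ?_, ?_, ?_, hnab, W', hW'.1, hW'.2.1,
    (K.map Q'.subtype).map G₀.subtype, ?_, ?_, ?_⟩
  · refine Nat.one_le_iff_ne_zero.mpr fun h0 => ?_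
    rw [hm, h0, pow_zero] at hcard2
    omega
  · rw [← hP, ← hd, hm, Nat.add_sub_cancel]
  · rw [show n + 1 - (N + 1) = k by omega, ← hP, ← hd, Nat.add_sub_cancel, ← ht]
    exact (Nat.mul_le_mul_left _ hdr).trans hbound
  · rintro _ ⟨g, ⟨g', hg', rfl⟩, rfl⟩
    exact g'.2
  · conv_lhs => rw [← Subgroup.map_subgroupOf_eq_of_le hQG₀]
    rw [Subgroup.relIndex_map_map_of_injective _ _ G₀.subtype_injective, Subgroup.relIndex]
    show ((K.map Q'.subtype).comap Q'.subtype).index = _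
    rw [Subgroup.comap_map_eq_self_of_injective Q'.subtype_injective, Subgroup.index, hcard, hm]
  · rintro _ ⟨g, ⟨g', hg', rfl⟩, rfl⟩
    obtain ⟨c, hc⟩ := mem_scalarSubgroup.mp hg'
    refine ⟨c, fun w hw => ?_⟩
    show ρ ((g' : G₀) : G) w = c • w
    rw [← hrho (g' : G₀) ⟨w, hw⟩, hc]
    simp

end Cfsg.Agent.HallHigman
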