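/-
The module `O_p/Φ(O_p)` of a group with `C(O_p) ≤ O_p` (helper3).

Main results (namespace `Cfsg.Agent.HallHigman`):
* FrattiniData, exists_frattiniData
* FrattiniData.pi_geom, FrattiniData.sub_one_pow_eq_zero
* PExpDvd: p-elements have order dividing `p^e`
-/
import Cfsg.Agent.Lib.HallHigman.PSolvable
import Cfsg.Agent.Lib.HallHigman.Bound
import Mathlib.Algebra.Module.ZMod

set_option autoImplicit false

namespace Cfsg.Agent.HallHigman

open scoped commutatorElement

universe u

/-- All `p`-elements have order dividing `p ^ e`. -/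
def PExpDvd (p e : ℕ) (G : Type*) [Monoid G] : Prop :=
  ∀ g : G, (∃ k : ℕ, g ^ p ^ k = 1) → g ^ p ^ e = 1

theorem pExpDvd_of_sylow {G : Type*} [Group G] [Finite G] {p e : ℕ} [Fact p.Prime]
    (h : ∀ (P : Sylow p G), ∀ x ∈ (P : Subgroup G), x ^ p ^ e = 1) : PExpDvd p e G := by
  rintro g ⟨k, hk⟩
  have hpg : IsPGroup p (Subgroup.zpowers g) := by
    rintro ⟨y, hy⟩
    obtain ⟨i, rfl⟩ := Subgroup.mem_zpowers_iff.mp hy
    exact ⟨k, Subtype.ext (show (g ^ i) ^ p ^ k = 1 by
      rw [← zpow_natCast, ← zpow_mul, mul_comm, zpow_mul, zpow_natCast, hk, one_zpow])⟩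
  obtain ⟨P, hP⟩ := hpg.exists_le_sylow
  exact h P g (hP (Subgroup.mem_zpowers g))

theorem exists_pElement_preimage {G H : Type*} [Group G] [Group H] [Finite G] {p : ℕ}
    [Fact p.Prime] (f : G →* H) (hf : Function.Surjective f) {x : H}
    (hx : ∃ k : ℕ, x ^ p ^ k = 1) : ∃ g : G, f g = x ∧ ∃ k : ℕ, g ^ p ^ k = 1 := by
  have : Finite H := Finite.of_surjective f hf
  obtain ⟨k, hk⟩ := hx
  have hpg : IsPGroup p (Subgroup.zpowers x) := by
    rintro ⟨y, hy⟩
    obtain ⟨i, rfl⟩ := Subgroup.mem_zpowers_iff.mp hy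
    exact ⟨k, Subtype.ext (show (x ^ i) ^ p ^ k = 1 by
      rw [← zpow_natCast, ← zpow_mul, mul_comm, zpow_mul, zpow_natCast, hk, one_zpow])⟩
  obtain ⟨P, hP⟩ := hpg.exists_le_sylow
  obtain ⟨S, rfl⟩ := Sylow.mapSurjective_surjective hf p P
  obtain ⟨g, hg, hgx⟩ := hP (Subgroup.mem_zpowers x)
  obtain ⟨j, hj⟩ := S.2 ⟨g, hg⟩
  exact ⟨g, hgx, j, congrArg Subtype.val hj⟩

theorem PExpDvd.of_surjective {G H : Type*} [Group G] [Group H] [Finite G] {p e : ℕ}
    [Fact p.Prime] (h : PExpDvd p e G) (f : G →* H) (hf : Function.Surjective f) :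
    PExpDvd p e H := fun x hx => by
  obtain ⟨g, rfl, hg⟩ := exists_pElement_preimage f hf hx
  rw [← map_pow, h g hg, map_one]

/-- The vector space `O_p(A)/Φ(O_p(A))` with the action of `A/O_p(A)`. -/
structure FrattiniData (p : ℕ) (A : Type u) [Group A] where
  V : Type u
  [addInst : AddCommGroup V]
  [modInst : Module (ZMod p) V]
  [finInst : Finite V]
  [normalInst : (Cfsg.pCore p A).Normal]
  ρ : A ⧸ Cfsg.pCore p A →* Module.End (ZMod p) V
  pi : Cfsg.pCore p A → V
  pi_surjective : Function.Surjective pi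
  pi_mul : ∀ a b, pi (a * b) = pi a + pi b
  pi_conj : ∀ (g : A) (v : Cfsg.pCore p A),
    ρ (g : A ⧸ Cfsg.pCore p A) (pi v) = pi ⟨g * v * g⁻¹, normalInst.conj_mem v v.2 g⟩
  injective : Function.Injective ρ

attribute [instance] FrattiniData.addInst FrattiniData.modInst FrattiniData.finInst

theorem exists_linear_rep {A : Type*} [Group A] {Q : Type u} [CommGroup Q] {p : ℕ}
    (hQ : ∀ x : Q, x ^ p = 1) (c : A →* MulAut Q) :
    ∃ (_ : Module (ZMod p) (Additive Q)) (σ : A →* Module.End (ZMod p) (Additive Q)),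
      ∀ (g : A) (x : Q), σ g (Additive.ofMul x) = Additive.ofMul (c g x) := by
  have hpQ : ∀ x : Additive Q, p • x = 0 := fun x => congrArg Additive.ofMul (hQ (Additive.toMul x))
  have : Module (ZMod p) (Additive Q) := AddCommGroup.zmodModule hpQ
  exact ⟨inferInstance,
    { toFun := fun g => (MonoidHom.toAdditive (c g).toMonoidHom).toZModLinearMap p
      map_one' := LinearMap.ext fun x => by
        show Additive.ofMul (c 1 (Additive.toMul x)) = x
        rw [map_one]; rfl
      map_mul' := fun a b => LinearMap.ext fun x => by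
        show Additive.ofMul (c (a * b) (Additive.toMul x)) =
          Additive.ofMul (c a (c b (Additive.toMul x)))
        rw [map_mul]; rfl },
    fun g x => rfl⟩

theorem exists_frattiniData {A : Type u} [Group A] [Finite A] {p : ℕ} [hp : Fact p.Prime]
    (hC : Subgroup.centralizer (Cfsg.pCore p A : Set A) ≤ Cfsg.pCore p A) :
    Nonempty (FrattiniData p A) := by
  set P := Cfsg.pCore p A with hP
  have hPg : IsPGroup p P := Cores.isPGroup_pCore p A
  have : Group.IsNilpotent P := hPg.isNilpotent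
  have hcomm : ∀ a b : P ⧸ frattini P, a * b = b * a := by
    intro a b
    induction a using QuotientGroup.induction_on with | _ a => ?_
    induction b using QuotientGroup.induction_on with | _ b => ?_
    rw [← QuotientGroup.mk_mul, ← QuotientGroup.mk_mul, QuotientGroup.eq]
    refine Cores.commutator_le_frattini ?_
    rw [commutator_def, show (a * b)⁻¹ * (b * a) = ⁅b⁻¹, a⁻¹⁆ by
      rw [commutatorElement_def]; group]
    exact Subgroup.commutator_mem_commutator trivial trivial
  let instC : CommGroup (P ⧸ frattini P) :=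
    { (inferInstance : Group (P ⧸ frattini P)) with mul_comm := hcomm }
  have hpQ : ∀ x : P ⧸ frattini P, x ^ p = 1 := fun x => by
    induction x using QuotientGroup.induction_on with | _ x => ?_
    rw [← QuotientGroup.mk_pow, (QuotientGroup.eq_one_iff _).mpr (Cores.pow_mem_frattini hPg x)]
  have hmap : ∀ g : A, (frattini P).map (MulAut.conjNormal g : MulAut P).toMonoidHom = frattini P :=
    fun g => Subgroup.characteristic_iff_map_eq.mp inferInstance _
  let c : A →* MulAut (P ⧸ frattini P) :=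
    { toFun := fun g => QuotientGroup.congr _ _ (MulAut.conjNormal g) (hmap g)
      map_one' := MulEquiv.ext fun x => by
        induction x using QuotientGroup.induction_on with | _ x => ?_
        show ((MulAut.conjNormal (1 : A) x : P) : P ⧸ frattini P) = (x : P ⧸ frattini P)
        rw [map_one, MulAut.one_apply]
      map_mul' := fun a b => MulEquiv.ext fun x => by
        induction x using QuotientGroup.induction_on with | _ x => ?_
        show ((MulAut.conjNormal (a * b) x : P) : P ⧸ frattini P) =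
          ((MulAut.conjNormal a (MulAut.conjNormal b x) : P) : P ⧸ frattini P)
        rw [map_mul, MulAut.mul_apply] }
  obtain ⟨instM, σ, hσ⟩ := exists_linear_rep hpQ c
  let pi : P → Additive (P ⧸ frattini P) := fun v => Additive.ofMul (v : P ⧸ frattini P)
  have hact : ∀ (g : A) (v : P), σ g (pi v) = pi (MulAut.conjNormal g v) := fun g v => hσ g _
  have hsurj : Function.Surjective pi := fun x => by
    induction x using Additive.rec with | _ x => ?_
    induction x using QuotientGroup.induction_on with | _ x => exact ⟨x, rfl⟩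
  have hker : ∀ g ∈ P, σ g = 1 := fun g hg => LinearMap.ext fun x => by
    obtain ⟨v, rfl⟩ := hsurj x
    rw [hact, Module.End.one_apply]
    have : MulAut.conjNormal g v = (⟨g, hg⟩ : P) * v * (⟨g, hg⟩ : P)⁻¹ := Subtype.ext (by simp)
    rw [this]
    show Additive.ofMul (((⟨g, hg⟩ : P) * v * (⟨g, hg⟩ : P)⁻¹ : P) : P ⧸ frattini P) = _
    rw [QuotientGroup.mk_mul, QuotientGroup.mk_mul, QuotientGroup.mk_inv, hcomm _ (v : P ⧸ frattini P),
      mul_inv_cancel_right]
  refine ⟨{ V := Additive (P ⧸ frattini P)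
            ρ := QuotientGroup.lift P σ hker
            pi := pi
            pi_surjective := hsurj
            pi_mul := fun a b => rfl
            pi_conj := fun g v => ?_
            injective := ?_ }⟩
  · show σ g (pi v) = _
    rw [hact]
    exact congrArg pi (Subtype.ext (MulAut.conjNormal_apply g v))
  · rw [injective_iff_map_eq_one]
    intro q hq
    induction q using QuotientGroup.induction_on with | _ g => ?_
    rw [QuotientGroup.eq_one_iff]
    refine mem_pCore_of_commutator_mem_frattini hC fun x hx => ?_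
    have h1 : σ g (pi ⟨x, hx⟩) = pi ⟨x, hx⟩ := by
      have : σ g = 1 := hq
      rw [this, Module.End.one_apply]
    rw [hact] at h1
    have h2 : (MulAut.conjNormal g ⟨x, hx⟩ : P) * (⟨x, hx⟩ : P)⁻¹ ∈ frattini P := by
      rw [← QuotientGroup.eq_one_iff, QuotientGroup.mk_mul, QuotientGroup.mk_inv,
        Additive.ofMul.injective h1, mul_inv_cancel]
    exact ⟨_, h2, by simp⟩

namespace FrattiniData

variable {A : Type u} [Group A] {p : ℕ} (D : FrattiniData p A)

theorem pi_one : D.pi 1 = 0 := by simpa using D.pi_mul 1 1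

theorem pi_eq_of_eq {a b : Cfsg.pCore p A} (h : (a : A) = b) : D.pi a = D.pi b :=
  congrArg D.pi (Subtype.ext h)

theorem finiteDimensional [Fact p.Prime] : FiniteDimensional (ZMod p) D.V := Module.Finite.of_finite

/-- `π((u g)^k g^(-k)) = Σ_{i<k} ρ(g)^i π(u)`. -/
theorem pi_geom (g : A) (v : Cfsg.pCore p A) : ∀ k : ℕ, ∃ h : ((v : A) * g) ^ k * (g ^ k)⁻¹ ∈ Cfsg.pCore p A,
    D.pi ⟨_, h⟩ = (∑ i ∈ Finset.range k, D.ρ (g : A ⧸ Cfsg.pCore p A) ^ i) (D.pi v) := by
  intro k
  induction k with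
  | zero =>
    refine ⟨by simp, ?_⟩
    rw [Finset.range_zero, Finset.sum_empty, LinearMap.zero_apply]
    exact (D.pi_eq_of_eq (b := 1) (by simp)).trans D.pi_one
  | succ k ih =>
    obtain ⟨h, hk⟩ := ih
    have e : ((v : A) * g) ^ (k + 1) * (g ^ (k + 1))⁻¹ =
        (v : A) * (g * (((v : A) * g) ^ k * (g ^ k)⁻¹) * g⁻¹) := by
      rw [pow_succ', pow_succ' g, mul_inv_rev]
      simp only [mul_assoc]
    refine ⟨by rw [e]; exact mul_mem v.2 (D.normalInst.conj_mem _ h g), ?_⟩
    rw [D.pi_eq_of_eq (b := v * ⟨_, D.normalInst.conj_mem _ h g⟩) e, D.pi_mul,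
      ← D.pi_conj g ⟨_, h⟩, hk, geom_sum_succ, LinearMap.add_apply, Module.End.one_apply,
      Module.End.mul_apply, add_comm]

/-- The exponent gives the nilpotency of `ρ g - 1`. -/
theorem sub_one_pow_eq_zero [Finite A] [hp : Fact p.Prime] {e : ℕ} (hexp : PExpDvd p e A) {g : A}
    (hg : ∃ k : ℕ, g ^ p ^ k = 1) :
    (D.ρ (g : A ⧸ Cfsg.pCore p A) - 1) ^ (p ^ e - 1) = 0 := by
  have hpg : IsPGroup p (Subgroup.zpowers g) := by
    obtain ⟨k, hk⟩ := hg
    rintro ⟨y, hy⟩
    obtain ⟨i, rfl⟩ := Subgroup.mem_zpowers_iff.mp hy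
    exact ⟨k, Subtype.ext (show (g ^ i) ^ p ^ k = 1 by
      rw [← zpow_natCast, ← zpow_mul, mul_comm, zpow_mul, zpow_natCast, hk, one_zpow])⟩
  obtain ⟨S, hS⟩ := hpg.exists_le_sylow
  refine LinearMap.ext fun x => ?_
  obtain ⟨v, rfl⟩ := D.pi_surjective x
  have hvg : (v : A) * g ∈ (S : Subgroup A) :=
    mul_mem (Cores.pCore_le_sylow S v.2) (hS (Subgroup.mem_zpowers g))
  obtain ⟨j, hj⟩ := S.2 ⟨_, hvg⟩
  obtain ⟨h, hk⟩ := D.pi_geom g v (p ^ e)
  rw [sub_one_pow_eq_geom, LinearMap.zero_apply, ← hk]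
  refine (D.pi_eq_of_eq (b := 1) ?_).trans D.pi_one
  show ((v : A) * g) ^ p ^ e * (g ^ p ^ e)⁻¹ = 1
  rw [hexp _ ⟨j, congrArg Subtype.val hj⟩, hexp g hg, inv_one, one_mul]

end FrattiniData

end Cfsg.Agent.HallHigman
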