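/-
Theorem B of Hall and Higman (helper3).

Main results (namespace `Cfsg.Agent.HallHigman`):
* theorem_b: the nilpotency index of `ρ x - 1` for an element of order `p^(n+1)`
* not_isMulCommutative_sylow, critical_hyps, exists_critical_le, exists_algClosed_rep
-/
import Cfsg.Agent.Lib.HallHigman.Bound
import Cfsg.Agent.Lib.HallHigman.PSolvable
import Cfsg.Agent.Lib.Coprime.Invariant
import Mathlib.FieldTheory.IsAlgClosed.AlgebraicClosure

set_option autoImplicit false

namespace Cfsg.Agent.HallHigman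

open scoped commutatorElement

universe u

theorem not_isMulCommutative_sylow {G : Type*} [Group G] [Finite G] {q : ℕ} [Fact q.Prime]
    {Q : Subgroup G} (hQ : IsPGroup q Q) {a b : G} (ha : a ∈ Q) (hb : b ∈ Q)
    (hab : ¬ Commute a b) (P : Sylow q G) : ¬ IsMulCommutative (P : Subgroup G) := by
  intro hP
  obtain ⟨P', hle⟩ := hQ.exists_le_sylow
  obtain ⟨g, hg⟩ := MulAction.exists_smul_eq G P' P
  have hmem : ∀ c ∈ Q, g * c * g⁻¹ ∈ (P : Subgroup G) := fun c hc => by
    rw [← hg, Sylow.coe_subgroup_smul, Subgroup.mem_pointwise_smul_iff_inv_smul_mem]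
    simpa [mul_assoc] using hle hc
  have h := congrArg Subtype.val (hP.is_comm.comm ⟨_, hmem a ha⟩ ⟨_, hmem b hb⟩)
  simp only [Subgroup.coe_mul] at h
  refine hab ?_
  show a * b = b * a
  have h1 : g * (a * b) * g⁻¹ = g * (b * a) * g⁻¹ := by simpa [mul_assoc] using h
  simpa using h1

theorem commutator_zpowers_eq_bot {G : Type*} [Group G] {R : Subgroup G} {y : G}
    (hR : R ≤ Subgroup.centralizer ({y} : Set G)) : ⁅R, Subgroup.zpowers y⁆ = ⊥ := by
  rw [Subgroup.commutator_eq_bot_iff_le_centralizer]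
  exact fun r hr => Subgroup.mem_centralizer_iff.mpr fun a ha => by
    obtain ⟨k, rfl⟩ := Subgroup.mem_zpowers_iff.mp ha
    exact ((Commute.zpow_left (Subgroup.mem_centralizer_singleton_iff.mp (hR hr)).symm k)).eq

/-- Centralising a Sylow subgroup for each prime is centralising everything. -/
theorem le_centralizer_singleton_of_sylows {G : Type*} [Group G] [Finite G] {M : Subgroup G} {y : G}
    (h : ∀ q : ℕ, q.Prime → ∃ S : Sylow q M,
      (S : Subgroup M).map M.subtype ≤ Subgroup.centralizer ({y} : Set G)) :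
    M ≤ Subgroup.centralizer ({y} : Set G) := by
  have hd : Nat.card M ∣ Nat.card ↥(M ⊓ Subgroup.centralizer ({y} : Set G)) := by
    refine (Nat.dvd_iff_prime_pow_dvd_dvd _ _).mpr fun q k hq hdvd => ?_
    have : Fact q.Prime := ⟨hq⟩
    obtain ⟨S, hS⟩ := h q hq
    have h2 : Nat.card ↥((S : Subgroup M).map M.subtype) ∣
        Nat.card ↥(M ⊓ Subgroup.centralizer ({y} : Set G)) :=
      Subgroup.card_dvd_of_le (le_inf (Subgroup.map_subtype_le _) hS)
    refine dvd_trans ?_ h2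
    rw [Subgroup.card_map_of_injective M.subtype_injective]
    exact S.pow_dvd_card_of_pow_dvd_card hdvd
  exact inf_eq_left.mp (Subgroup.eq_of_le_of_card_ge inf_le_left (Nat.le_of_dvd Nat.card_pos hd))

/-- The hypotheses of `bound_algClosed` for `Q = [Q, y]` when `y` centralises `[Q, Q]`. -/
theorem critical_hyps {G : Type*} [Group G] {Q : Subgroup G} {y : G} [Finite G]
    (hAQ : Subgroup.zpowers y ≤ Subgroup.normalizer (Q : Set G))
    (hQA : ⁅Q, Subgroup.zpowers y⁆ = Q) (hD : ⁅Q, Q⁆ ≤ Subgroup.centralizer ({y} : Set G)) :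
    (∀ a ∈ Q, ∀ b ∈ Q, Commute y ⁅a, b⁆) ∧ (∀ c ∈ Q, Commute y c → ∀ g ∈ Q, Commute c g) ∧
      Q ≤ Subgroup.closure ((fun g => ⁅g, y⁆) '' (Q : Set G)) := by
  classical
  set A := Subgroup.zpowers y with hA
  have hcent_bot : ∀ R : Subgroup G, R ≤ Subgroup.centralizer ({y} : Set G) → ⁅R, A⁆ = ⊥ :=
    fun R hR => commutator_zpowers_eq_bot hR
  refine ⟨?_, ?_, ?_⟩
  · intro a ha b hb
    exact (Subgroup.mem_centralizer_singleton_iff.mp (hD (Subgroup.commutator_mem_commutator ha hb))).symm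
  · intro c hc hcy g hg
    set Z := Q ⊓ Subgroup.centralizer ({y} : Set G) with hZ
    have h1 : ⁅⁅Q, Z⁆, A⁆ = ⊥ :=
      hcent_bot _ ((Subgroup.commutator_mono le_rfl inf_le_left).trans hD)
    have h2 : ⁅⁅Z, A⁆, Q⁆ = ⊥ := by
      rw [hcent_bot _ inf_le_right, Subgroup.commutator_bot_left]
    have h3 := Subgroup.commutator_commutator_eq_bot_of_rotate h1 h2
    rw [Subgroup.commutator_comm A Q, hQA, Subgroup.commutator_eq_bot_iff_le_centralizer] at h3
    exact Subgroup.mem_centralizer_iff.mp (h3 hg) c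
      ⟨hc, Subgroup.mem_centralizer_singleton_iff.mpr hcy.symm⟩
  · set S := Subgroup.closure ((fun g => ⁅g, y⁆) '' (Q : Set G)) with hS
    have hSQ : S ≤ Q := by
      rw [hS, Subgroup.closure_le]
      rintro _ ⟨g, hg, rfl⟩
      exact Coprime.commutator_le_left' hAQ
        (Subgroup.commutator_mem_commutator hg (Subgroup.mem_zpowers y))
    have hpow : ∀ k : ℕ, ∀ g ∈ Q, ⁅g, y ^ k⁆ ∈ S := by
      intro k
      induction k with
      | zero => intro g _; simp
      | succ k ih =>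
        intro g hg
        have h1 : ⁅g, y⁆ ∈ S := Subgroup.subset_closure ⟨g, hg, rfl⟩
        have h2 := ih g hg
        have h3 : ⁅⁅g, y ^ k⁆, y⁆ ∈ S := Subgroup.subset_closure ⟨_, hSQ h2, rfl⟩
        have h4 : ⁅g, y ^ (k + 1)⁆ = ⁅g, y⁆ * (⁅⁅g, y ^ k⁆, y⁆⁻¹ * ⁅g, y ^ k⁆) := by
          rw [pow_succ']
          simp only [commutatorElement_def]
          group
        rw [h4]
        exact S.mul_mem h1 (S.mul_mem (S.inv_mem h3) h2)
    conv_lhs => rw [← hQA]
    rw [Subgroup.commutator_le]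
    intro g hg a ha
    obtain ⟨k, rfl⟩ := (isOfFinOrder_of_finite y).mem_zpowers_iff_mem_range_orderOf.mp ha |>
      fun h => (Finset.mem_image.mp h).imp fun k hk => hk.2
    exact hpow k g hg


/-- A minimal `x`-invariant subgroup of `P` not centralised by `x^(p^n)`. -/
theorem exists_critical_le {G : Type*} [Group G] [Finite G] {p : ℕ} [hp : Fact p.Prime] (x : G)
    {n : ℕ} (hxn : x ^ p ^ (n + 1) = 1) {q : ℕ} [hq : Fact q.Prime] (hqp : q ≠ p) {P : Subgroup G}
    (hP : IsPGroup q P) (hxP : x ∈ Subgroup.normalizer (P : Set G))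
    (hyP : ¬ P ≤ Subgroup.centralizer ({x ^ p ^ n} : Set G)) :
    ∃ Q : Subgroup G, Q ≤ P ∧ x ∈ Subgroup.normalizer (Q : Set G) ∧
      (∀ a ∈ Q, ∀ b ∈ Q, Commute (x ^ p ^ n) ⁅a, b⁆) ∧
      (∀ c ∈ Q, Commute (x ^ p ^ n) c → ∀ g ∈ Q, Commute c g) ∧
      Q ≤ Subgroup.closure ((fun g => ⁅g, x ^ p ^ n⁆) '' (Q : Set G)) ∧ Q ≠ ⊥ := by
  classical
  set y := x ^ p ^ n with hy
  have hyp : y ^ p = 1 := by rw [hy, ← pow_mul, ← pow_succ, hxn]
  obtain ⟨Q, ⟨hQP, hxQ, hyQ⟩, hmin⟩ := wellFounded_lt.has_min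
    {Q : Subgroup G | Q ≤ P ∧ x ∈ Subgroup.normalizer (Q : Set G) ∧
      ¬ Q ≤ Subgroup.centralizer ({y} : Set G)}
    ⟨P, le_rfl, hxP, hyP⟩
  have hQ : IsPGroup q Q := hP.to_le hQP
  have hQne : Q ≠ ⊥ := fun h => hyQ (h ▸ bot_le)
  have hsmall : ∀ R : Subgroup G, R < Q → x ∈ Subgroup.normalizer (R : Set G) →
      R ≤ Subgroup.centralizer ({y} : Set G) := fun R hR hxR => by
    by_contra hcon
    exact hmin R ⟨hR.le.trans hQP, hxR, hcon⟩ hR
  set A := Subgroup.zpowers y with hA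
  have hxA : x ∈ Subgroup.normalizer (A : Set G) := by
    have hle : Subgroup.zpowers x ≤ Subgroup.normalizer (A : Set G) :=
      (Subgroup.le_centralizer (Subgroup.zpowers x)).trans
        ((Subgroup.centralizer_le (show (A : Set G) ⊆ Subgroup.zpowers x from
          Subgroup.zpowers_le.mpr (pow_mem (Subgroup.mem_zpowers x) _))).trans
          (Subgroup.centralizer_le_normalizer _))
    exact hle (Subgroup.mem_zpowers x)
  have hAQ : A ≤ Subgroup.normalizer (Q : Set G) := Subgroup.zpowers_le.mpr (pow_mem hxQ _)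
  have hcopA : (Nat.card A).Coprime (Nat.card Q) := by
    obtain ⟨e, he⟩ := IsPGroup.iff_card.mp hQ
    rw [Nat.card_zpowers, he]
    exact (((Nat.coprime_primes hp.out hq.out).mpr hqp.symm).coprime_dvd_left
      (orderOf_dvd_of_pow_eq_one hyp)).pow_right e
  have hnormcomm : ∀ H K : Subgroup G, x ∈ Subgroup.normalizer (H : Set G) →
      x ∈ Subgroup.normalizer (K : Set G) → x ∈ Subgroup.normalizer ((⁅H, K⁆ : Subgroup G) : Set G) := by
    intro H K hH hK
    rw [Subgroup.mem_normalizer_iff_map_conj_eq] at hH hK ⊢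
    rw [Subgroup.map_commutator, hH, hK]
  have hcent_bot : ∀ R : Subgroup G, R ≤ Subgroup.centralizer ({y} : Set G) → ⁅R, A⁆ = ⊥ :=
    fun R hR => commutator_zpowers_eq_bot hR
  have hsolv : Group.IsSolvable Q := Solvable.isSolvable_of_isPGroup hQ
  have hD : ⁅Q, Q⁆ ≤ Subgroup.centralizer ({y} : Set G) :=
    hsmall _ (Solvable.commutator_lt_of_solvable hQne) (hnormcomm _ _ hxQ hxQ)
  have hQA : ⁅Q, A⁆ = Q := by
    by_contra hne
    have h1 := hsmall _ (lt_of_le_of_ne (Coprime.commutator_le_left' hAQ) hne)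
      (hnormcomm _ _ hxQ hxA)
    have h2 := Coprime.commutator_commutator_eq hAQ hcopA (Or.inl inferInstance)
    rw [hcent_bot _ h1, eq_comm, Subgroup.commutator_eq_bot_iff_le_centralizer] at h2
    exact hyQ fun g hg => Subgroup.mem_centralizer_singleton_iff.mpr
      (Subgroup.mem_centralizer_iff.mp (h2 hg) y (Subgroup.mem_zpowers y)).symm
  obtain ⟨h1, h2, h3⟩ := critical_hyps hAQ hQA hD
  exact ⟨Q, hQP, hxQ, h1, h2, h3, hQne⟩

/-- A minimal `x`-invariant `q`-subgroup that `y = x^(p^n)` does not centralise. -/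
theorem exists_critical_subgroup {G : Type*} [Group G] [Finite G] {p : ℕ} [hp : Fact p.Prime]
    (hsep : Solvable.IsPiSeparable {p} G) (hO : Cfsg.pCore p G = ⊥) (x : G) {n : ℕ}
    (hx : orderOf x = p ^ (n + 1)) :
    ∃ (q : ℕ) (Q : Subgroup G), q.Prime ∧ q ≠ p ∧ IsPGroup q Q ∧
      x ∈ Subgroup.normalizer (Q : Set G) ∧
      (∀ a ∈ Q, ∀ b ∈ Q, Commute (x ^ p ^ n) ⁅a, b⁆) ∧
      (∀ c ∈ Q, Commute (x ^ p ^ n) c → ∀ g ∈ Q, Commute c g) ∧
      Q ≤ Subgroup.closure ((fun g => ⁅g, x ^ p ^ n⁆) '' (Q : Set G)) ∧ Q ≠ ⊥ := by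
  classical
  set y := x ^ p ^ n with hy
  have hyo : orderOf y = p := by
    have hne : p ^ n ≠ 0 := (pow_pos hp.out.pos _).ne'
    rw [hy, orderOf_pow_of_dvd hne (hx ▸ pow_dvd_pow p (Nat.le_succ n)), hx, pow_succ,
      Nat.mul_div_cancel_left _ (pow_pos hp.out.pos _)]
  set M := Cfsg.piCore ({p}ᶜ : Set ℕ) G with hM
  have hMp : ∀ q : ℕ, q.Prime → q ∣ Nat.card M → q ≠ p := fun q hq hd =>
    Cores.card_piCore ({p}ᶜ : Set ℕ) hq hd
  have hCM : Subgroup.centralizer (M : Set G) ≤ M :=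
    Solvable.centralizer_piCore_le hsep.compl (by rw [compl_compl, ← Cores.pCore_eq_piCore]; exact hO)
  have hyM : y ∉ Subgroup.centralizer (M : Set G) := fun h =>
    hMp p hp.out (hyo ▸ Subgroup.orderOf_dvd_natCard M (hCM h)) rfl
  have hcopM : (Nat.card (Subgroup.zpowers x)).Coprime (Nat.card M) := by
    rw [Nat.card_zpowers, hx]
    exact ((hp.out.coprime_iff_not_dvd).mpr fun h => hMp p hp.out h rfl).pow_left _
  have hxM : Subgroup.zpowers x ≤ Subgroup.normalizer (M : Set G) :=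
    le_top.trans (Subgroup.normalizer_eq_top_iff.mpr inferInstance).ge
  obtain ⟨q, hq, P, hP, hxP, hyP⟩ : ∃ (q : ℕ) (_ : q.Prime) (P : Subgroup G),
      (IsPGroup q P ∧ P ≤ M) ∧ Subgroup.zpowers x ≤ Subgroup.normalizer (P : Set G) ∧
      ¬ P ≤ Subgroup.centralizer ({y} : Set G) := by
    by_contra hcon
    push Not at hcon
    apply hyM
    have h1 : M ≤ Subgroup.centralizer ({y} : Set G) :=
      le_centralizer_singleton_of_sylows fun q hq => by
        have : Fact q.Prime := ⟨hq⟩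
        obtain ⟨S, hS⟩ := Coprime.exists_invariant_sylow hxM hcopM (Or.inl inferInstance) q
        exact ⟨S, hcon q hq _ ⟨S.2.map _, Subgroup.map_subtype_le _⟩ hS⟩
    exact Subgroup.mem_centralizer_iff.mpr fun m hm =>
      Subgroup.mem_centralizer_singleton_iff.mp (h1 hm)
  have : Fact q.Prime := ⟨hq⟩
  have hqp : q ≠ p := by
    rcases hP.1.card_eq_or_dvd with h | h
    · exact absurd (by rw [Subgroup.eq_bot_of_card_eq P h]; exact bot_le) hyP
    · exact hMp q hq (h.trans (Subgroup.card_dvd_of_le hP.2))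
  obtain ⟨Q, hQP, hxQ, h1, h2, h3, h4⟩ := exists_critical_le x (n := n)
    (hx ▸ pow_orderOf_eq_one x) hqp hP.1 (hxP (Subgroup.mem_zpowers x)) hyP
  exact ⟨q, Q, hq, hqp, hP.1.to_le hQP, hxQ, h1, h2, h3, h4⟩

/-- Extension of scalars to an algebraically closed field. -/
theorem exists_algClosed_rep {F : Type u} [Field F] {V : Type*} [AddCommGroup V] [Module F V]
    [FiniteDimensional F V] {p : ℕ} [CharP F p] {G : Type*} [Group G]
    (ρ : G →* Module.End F V) :
    ∃ (K : Type u) (_ : Field K) (_ : IsAlgClosed K) (_ : CharP K p) (d : ℕ)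
      (σ : G →* Module.End K (Fin d → K)),
      (∀ g, σ g = 1 → ρ g = 1) ∧ (∀ (g : G) (r : ℕ), (ρ g - 1) ^ r = 0 → (σ g - 1) ^ r = 0) ∧
      ∀ g : G, (∀ v, ρ g v = v → v = 0) → ∀ w, σ g w = w → w = 0 := by
  classical
  let K := AlgebraicClosure F
  have : CharP K p := charP_of_injective_algebraMap (algebraMap F K).injective p
  let b := Module.finBasis F V
  let φ : Module.End F V →+* Module.End K (Fin (Module.finrank F V) → K) :=
    (Matrix.toLinAlgEquiv' (R := K)).toRingEquiv.toRingHom.comp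
      ((algebraMap F K).mapMatrix.comp (LinearMap.toMatrixAlgEquiv b).toRingEquiv.toRingHom)
  have hφ : Function.Injective φ :=
    (Matrix.toLinAlgEquiv' (R := K)).injective.comp
      ((Matrix.map_injective (algebraMap F K).injective).comp
        (LinearMap.toMatrixAlgEquiv b).injective)
  refine ⟨K, inferInstance, inferInstance, inferInstance, _, φ.toMonoidHom.comp ρ,
    fun g h => hφ (h.trans (map_one φ).symm), fun g r hr => ?_, fun g hg w hw => ?_⟩
  · show (φ (ρ g) - 1) ^ r = 0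
    rw [← map_one φ, ← map_sub, ← map_pow, hr, map_zero]
  · obtain ⟨u, hu⟩ : IsUnit (ρ g - 1) := by
      refine (Module.End.isUnit_iff _).mpr ?_
      have hinj : Function.Injective (ρ g - 1 : Module.End F V) := by
        refine (injective_iff_map_eq_zero _).mpr fun v hv => hg v ?_
        exact sub_eq_zero.mp hv
      exact ⟨hinj, LinearMap.injective_iff_surjective.mp hinj⟩
    have h1 : φ (↑u⁻¹ : Module.End F V) * (φ (ρ g) - 1) = 1 := by
      rw [← map_one φ, ← map_sub, ← map_mul, ← hu, Units.inv_mul, map_one]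
    have h2 := LinearMap.congr_fun h1 w
    have h3 : (φ (ρ g) : Module.End K _) w = w := hw
    rw [Module.End.mul_apply, LinearMap.sub_apply, h3, Module.End.one_apply, sub_self,
      map_zero] at h2
    exact h2.symm

/-- Theorem B of Hall and Higman, in terms of representations. -/
theorem theorem_b {F : Type*} [Field F] {V : Type*} [AddCommGroup V] [Module F V]
    [FiniteDimensional F V] {p : ℕ} [hp : Fact p.Prime] [CharP F p] {G : Type*} [Group G]
    [Finite G] (ρ : G →* Module.End F V) (hρ : Function.Injective ρ)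
    (hsep : Solvable.IsPiSeparable {p} G) (hO : Cfsg.pCore p G = ⊥) (x : G) {n : ℕ}
    (hx : orderOf x = p ^ (n + 1)) {r : ℕ} (hr : (ρ x - 1) ^ r = 0) :
    p ^ (n + 1) ≤ r ∨ ∃ n₀ q m : ℕ, 1 ≤ n₀ ∧ n₀ ≤ n + 1 ∧ q.Prime ∧ q ≠ p ∧ 1 ≤ m ∧
      p ^ n₀ - 1 = q ^ m ∧ p ^ (n + 1 - n₀) * (p ^ n₀ - 1) ≤ r ∧
      ∀ P : Sylow q G, ¬ IsMulCommutative (P : Subgroup G) := by
  classical
  obtain ⟨q, Q, hq, hqp, hQ, hxQ, hQQ, hcent, hgen, hQne⟩ :=
    exists_critical_subgroup hsep hO x hx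
  have : Fact q.Prime := ⟨hq⟩
  obtain ⟨K, _, _, _, d, σ, hσ, hσr, -⟩ := exists_algClosed_rep (p := p) ρ
  obtain ⟨g, hg, hg1⟩ : ∃ g ∈ Q, g ≠ 1 := by
    by_contra hcon
    push Not at hcon
    exact hQne ((Subgroup.eq_bot_iff_forall Q).mpr hcon)
  have hne : ∃ g ∈ Q, σ g ≠ 1 := ⟨g, hg, fun h => hg1 (hρ ((hσ g h).trans (map_one ρ).symm))⟩
  rcases bound_algClosed σ Q x hxQ (hx ▸ pow_orderOf_eq_one x) hq hqp hQ
    hQQ hcent hgen hne (hσr x r hr) with h | ⟨n₀, m, h1, h2, h3, h4, h5, ⟨a, ha, c, hc, hac⟩, -⟩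
  · exact Or.inl h
  · exact Or.inr ⟨n₀, q, m, h1, h2, hq, hqp, h3, h4, h5,
      not_isMulCommutative_sylow hQ ha hc hac⟩

end Cfsg.Agent.HallHigman
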