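/-
p-length and the exponent of a Sylow p-subgroup (helper3).

Main results (namespace `Cfsg.Agent.HallHigman`):
* pLengthLE_zero, pLengthLE_succ_of_quotient
* exceptional_of_order, pExpDvd_quotient_pCore
* pLengthLE_of_pExpDvd
-/
import Cfsg.Agent.Lib.HallHigman.TheoremB
import Cfsg.Agent.Lib.HallHigman.FrattiniModule

set_option autoImplicit false

namespace Cfsg.Agent.HallHigman

universe u

/-- No Sylow subgroup that can occur in the exceptional case of Theorem B is non-abelian. -/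
def NoExceptional (p : ℕ) (G : Type*) [Group G] : Prop :=
  ∀ n₀ q m : ℕ, 1 ≤ n₀ → q.Prime → q ≠ p → 1 ≤ m → p ^ n₀ - 1 = q ^ m →
    ∀ P : Sylow q G, IsMulCommutative (P : Subgroup G)

theorem NoExceptional.of_surjective {p : ℕ} {G H : Type*} [Group G] [Group H] [Finite G]
    (h : NoExceptional p G) (f : G →* H) (hf : Function.Surjective f) : NoExceptional p H := by
  intro n₀ q m h1 hq hqp hm he P
  have : Fact q.Prime := ⟨hq⟩
  have : Finite H := Finite.of_surjective f hf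
  obtain ⟨S, rfl⟩ := Sylow.mapSurjective_surjective hf q P
  have hc := h n₀ q m h1 hq hqp hm he S
  refine ⟨⟨fun a b => Subtype.ext ?_⟩⟩
  obtain ⟨x, hx, hxa⟩ := a.2
  obtain ⟨y, hy, hyb⟩ := b.2
  rw [Subgroup.coe_mul, Subgroup.coe_mul, ← hxa, ← hyb, ← map_mul, ← map_mul]
  exact congrArg f (congrArg Subtype.val (hc.is_comm.comm ⟨x, hx⟩ ⟨y, hy⟩))

theorem pLengthLE_zero {G : Type*} [Group G] [Finite G] {p : ℕ} [hp : Fact p.Prime]
    (h : PExpDvd p 0 G) : Cfsg.PLengthLE p 0 G := by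
  show (Cfsg.upperPSeries p G 1).1 = ⊤
  rw [PSeries.upperPSeries_one]
  refine top_le_iff.mp (Cores.le_pPrimeCore inferInstance ?_)
  rw [Subgroup.card_top]
  refine Nat.coprime_comm.mp ((hp.out.coprime_iff_not_dvd).mpr fun hd => ?_)
  obtain ⟨g, hg⟩ := exists_prime_orderOf_dvd_card' p hd
  have h1 : g ^ p ^ 0 = 1 := h g ⟨1, by rw [pow_one, ← hg, pow_orderOf_eq_one]⟩
  rw [pow_zero, pow_one] at h1
  rw [h1, orderOf_one] at hg
  exact hp.out.one_lt.ne hg

theorem pLengthLE_succ_of_quotient {G : Type*} [Group G] {p k : ℕ} {A : Type*} [Group A]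
    (a : G →* A) (ha : Function.Surjective a) (hk : a.ker = (Cfsg.upperPSeries p G 2).1)
    (h : Cfsg.PLengthLE p k A) : Cfsg.PLengthLE p (k + 1) G := by
  show (Cfsg.upperPSeries p G (2 * (k + 1) + 1)).1 = ⊤
  have h' : (Cfsg.upperPSeries p A (2 * k + 1)).1 = ⊤ := h
  rw [show 2 * (k + 1) + 1 = 2 * 1 + (2 * k + 1) by ring, ← PSeries.comap_upperPSeries 1 a ha hk,
    h', Subgroup.comap_top]

theorem ker_toQuotientPCore {G : Type*} [Group G] {p : ℕ}
    [(Cfsg.pCore p (G ⧸ Cfsg.pPrimeCore p G)).Normal] :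
    ((QuotientGroup.mk' (Cfsg.pCore p (G ⧸ Cfsg.pPrimeCore p G))).comp
      (QuotientGroup.mk' (Cfsg.pPrimeCore p G))).ker = (Cfsg.upperPSeries p G 2).1 := by
  rw [PSeries.upperPSeries_two, ← MonoidHom.comap_ker, QuotientGroup.ker_mk']
  rfl

theorem pLengthLE_step (G : Type*) [Group G] {p k : ℕ}
    [(Cfsg.pCore p (G ⧸ Cfsg.pPrimeCore p G)).Normal]
    (h : Cfsg.PLengthLE p k ((G ⧸ Cfsg.pPrimeCore p G) ⧸ Cfsg.pCore p (G ⧸ Cfsg.pPrimeCore p G))) :
    Cfsg.PLengthLE p (k + 1) G :=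
  pLengthLE_succ_of_quotient
    ((QuotientGroup.mk' (Cfsg.pCore p (G ⧸ Cfsg.pPrimeCore p G))).comp
      (QuotientGroup.mk' (Cfsg.pPrimeCore p G)))
    ((QuotientGroup.mk'_surjective (Cfsg.pCore p (G ⧸ Cfsg.pPrimeCore p G))).comp
      (QuotientGroup.mk'_surjective (Cfsg.pPrimeCore p G))) ker_toQuotientPCore h

/-- An element of order `p^(e+1)` of `A/O_p(A)`, where `p^(e+1)` bounds the `p`-exponent, forces
the exceptional case of Theorem B. -/
theorem exceptional_of_order {A : Type u} [Group A] [Finite A] {p e : ℕ} [hp : Fact p.Prime]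
    [(Cfsg.pCore p A).Normal] (hsep : Solvable.IsPiSeparable {p} A)
    (hO : Cfsg.pPrimeCore p A = ⊥) (hexp : PExpDvd p (e + 1) A) {x : A ⧸ Cfsg.pCore p A}
    (hx : orderOf x = p ^ (e + 1)) :
    ∃ n₀ q m : ℕ, 1 ≤ n₀ ∧ n₀ ≤ e + 1 ∧ q.Prime ∧ q ≠ p ∧ 1 ≤ m ∧ p ^ n₀ - 1 = q ^ m ∧
      ∀ P : Sylow q (A ⧸ Cfsg.pCore p A), ¬ IsMulCommutative (P : Subgroup (A ⧸ Cfsg.pCore p A)) := by
  obtain ⟨D⟩ := exists_frattiniData (Solvable.centralizer_pCore_le hsep hO)
  have := D.finiteDimensional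
  obtain ⟨g, rfl, hg⟩ := exists_pElement_preimage (QuotientGroup.mk' (Cfsg.pCore p A))
    (QuotientGroup.mk'_surjective _) (x := x) ⟨e + 1, hx ▸ pow_orderOf_eq_one x⟩
  have h0 := D.sub_one_pow_eq_zero hexp hg
  rcases theorem_b D.ρ D.injective (hsep.quotient _) (Cores.pCore_quotient_self p A) _ hx h0 with
    h | ⟨n₀, q, m, h1, h2, hq, hqp, h3, h4, -, h6⟩
  · have := pow_pos hp.out.pos (e + 1)
    omega
  · exact ⟨n₀, q, m, h1, h2, hq, hqp, h3, h4, h6⟩

theorem pExpDvd_quotient_pCore {A : Type u} [Group A] [Finite A] {p e : ℕ} [hp : Fact p.Prime]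
    [(Cfsg.pCore p A).Normal] (hsep : Solvable.IsPiSeparable {p} A)
    (hO : Cfsg.pPrimeCore p A = ⊥) (hexp : PExpDvd p (e + 1) A) (hno : NoExceptional p A) :
    PExpDvd p e (A ⧸ Cfsg.pCore p A) := by
  intro x hx
  have h1 := (hexp.of_surjective _ (QuotientGroup.mk'_surjective _)) x hx
  obtain ⟨j, hj, hjx⟩ := (Nat.dvd_prime_pow hp.out).mp (orderOf_dvd_of_pow_eq_one h1)
  rcases hj.eq_or_lt with rfl | hlt
  · obtain ⟨n₀, q, m, a1, -, a3, a4, a5, a6, a7⟩ := exceptional_of_order hsep hO hexp hjx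
    have : Fact q.Prime := ⟨a3⟩
    obtain ⟨P⟩ := (inferInstance : Nonempty (Sylow q (A ⧸ Cfsg.pCore p A)))
    exact absurd ((hno.of_surjective _ (QuotientGroup.mk'_surjective _)) n₀ q m a1 a3 a4 a5 a6 P)
      (a7 P)
  · exact orderOf_dvd_iff_pow_eq_one.mp (hjx ▸ pow_dvd_pow p (Nat.le_of_lt_succ hlt))

theorem pLengthLE_of_pExpDvd {p : ℕ} [hp : Fact p.Prime] : ∀ (e : ℕ) (G : Type u) [Group G]
    [Finite G], Solvable.IsPiSeparable {p} G → NoExceptional p G → PExpDvd p e G →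
    Cfsg.PLengthLE p e G := by
  intro e
  induction e with
  | zero => intro G _ _ _ _ h; exact pLengthLE_zero h
  | succ e ih =>
    intro G _ _ hsep hno hexp
    have hN : (Cfsg.pCore p (G ⧸ Cfsg.pPrimeCore p G)).Normal := Cores.pCore_normal p _
    set f := QuotientGroup.mk' (Cfsg.pPrimeCore p G) with hf
    have hfs : Function.Surjective f := QuotientGroup.mk'_surjective _
    have hgs := QuotientGroup.mk'_surjective (Cfsg.pCore p (G ⧸ Cfsg.pPrimeCore p G))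
    refine pLengthLE_succ_of_quotient _ (hgs.comp hfs) ker_toQuotientPCore
      (ih _ ((hsep.quotient _).quotient _) ((hno.of_surjective f hfs).of_surjective _ hgs) ?_)
    exact pExpDvd_quotient_pCore (hsep.quotient _) (Cores.pPrimeCore_quotient_self p)
      (hexp.of_surjective f hfs) (hno.of_surjective f hfs)

theorem eq_two_of_prime_pow_sub_one {p q n₀ m : ℕ} (hp : p.Prime) (hp2 : p ≠ 2) (hq : q.Prime)
    (hn : 1 ≤ n₀) (h : p ^ n₀ - 1 = q ^ m) : q = 2 ∧ ∃ k : ℕ, p = 2 ^ k + 1 := by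
  have h3 : 3 ≤ p := by have := hp.two_le; omega
  have hd : p - 1 ∣ q ^ m := h ▸ Nat.sub_one_dvd_pow_sub_one p n₀
  have he : 2 ∣ p - 1 := (hp.even_sub_one hp2).two_dvd
  have hq2 : q = 2 := ((Nat.prime_dvd_prime_iff_eq Nat.prime_two hq).mp
    (Nat.prime_two.dvd_of_dvd_pow (he.trans hd))).symm
  subst hq2
  obtain ⟨k, -, hk⟩ := (Nat.dvd_prime_pow Nat.prime_two).mp hd
  exact ⟨rfl, k, by omega⟩

end Cfsg.Agent.HallHigman
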