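/-
Elements whose minimal polynomial is deficient, acting on a class two 2-group (helper3).

Main results (namespace `Cfsg.Agent.HallHigman`):
* Deficient, le_centralizer_of_deficient
* centralMod, mem_normalizer_centralMod, relIndex_centralMod_le
-/
import Cfsg.Agent.Lib.HallHigman.PLength

set_option autoImplicit false

namespace Cfsg.Agent.HallHigman

open Module
open scoped commutatorElement

variable {F : Type*} [Field F] {V : Type*} [AddCommGroup V] [Module F V] {p : ℕ}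
  {G : Type*} [Group G]

/-- `x` has order dividing `p^(n+1)` and deficient minimal polynomial. -/
def Deficient (ρ : G →* Module.End F V) (p n : ℕ) (x : G) : Prop :=
  x ^ p ^ (n + 1) = 1 ∧ (ρ x - 1) ^ (p ^ (n + 1) - 1) = 0

theorem exponent_cases {p n₀ m : ℕ} (hp : p.Prime) (hp2 : p ≠ 2) (hn : 1 ≤ n₀)
    (h : p ^ n₀ - 1 = 2 ^ m) : n₀ = 1 ∨ (n₀ = 2 ∧ p = 3) := by
  have h3 : 3 ≤ p := by have := hp.two_le; omega
  have hodd : Odd p := hp.odd_of_ne_two hp2
  rcases Nat.even_or_odd n₀ with ⟨j, hj⟩ | ⟨j, hj⟩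
  · refine Or.inr ?_
    have hj1 : 1 ≤ j := by omega
    have hpj : p ≤ p ^ j := Nat.le_self_pow (by omega) p
    have hd : (p ^ j - 1) * (p ^ j + 1) = 2 ^ m := by
      rw [← h, hj, pow_add, mul_comm, ← Nat.mul_self_sub_mul_self_eq]
    obtain ⟨a, -, ha⟩ := (Nat.dvd_prime_pow Nat.prime_two).mp (Dvd.intro _ hd)
    obtain ⟨b, -, hb⟩ := (Nat.dvd_prime_pow Nat.prime_two).mp (Dvd.intro_left _ hd)
    have ha1 : a = 1 := by
      have hlt : a < b := (Nat.pow_lt_pow_iff_right (show 1 < 2 by norm_num)).mp (by omega)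
      have hdvd : 2 ^ a ∣ 2 := by
        have h5 := Nat.dvd_sub (pow_dvd_pow 2 hlt.le) dvd_rfl
        rwa [show 2 ^ b - 2 ^ a = 2 by omega] at h5
      rcases (Nat.dvd_prime Nat.prime_two).mp hdvd with h5 | h5
      · omega
      · exact (Nat.pow_right_injective le_rfl (h5.trans (pow_one 2).symm))
    rw [ha1, pow_one] at ha
    have hp3 : p ^ j = 3 := by omega
    have hp3' : p = 3 := by omega
    subst hp3'
    have : j = 1 := Nat.pow_right_injective (by norm_num) (hp3.trans (pow_one 3).symm)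
    exact ⟨by omega, rfl⟩
  · refine Or.inl ?_
    by_contra hne
    have hgeo : (∑ i ∈ Finset.range n₀, p ^ i) * (p - 1) = 2 ^ m := by
      rw [← h, geom_sum_mul_of_one_le hp.one_le]
    obtain ⟨a, -, ha⟩ := (Nat.dvd_prime_pow Nat.prime_two).mp (Dvd.intro _ hgeo)
    have hoddsum : Odd (∑ i ∈ Finset.range n₀, p ^ i) := by
      rw [Finset.odd_sum_iff_odd_card_odd, Finset.filter_true_of_mem fun i _ => hodd.pow,
        Finset.card_range]
      exact ⟨j, hj⟩
    have ha0 : a = 0 := by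
      by_contra ha0
      rw [ha] at hoddsum
      exact (Nat.not_even_iff_odd.mpr hoddsum) (Nat.even_pow.mpr ⟨even_two, ha0⟩)
    have hle : 1 + p ≤ ∑ i ∈ Finset.range n₀, p ^ i := by
      calc 1 + p = ∑ i ∈ Finset.range 2, p ^ i := by simp [Finset.sum_range_succ]
        _ ≤ _ := Finset.sum_le_sum_of_subset (Finset.range_mono (by omega))
    rw [ha, ha0, pow_zero] at hle
    omega

section

variable [IsAlgClosed F] [FiniteDimensional F V] [hp : Fact p.Prime] [CharP F p] [Finite G]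

theorem le_centralizer_of_deficient {ρ : G →* Module.End F V} (hρ : Function.Injective ρ)
    (hp2 : p ≠ 2) {x : G} {n : ℕ} (hx : Deficient ρ p n x) {q : ℕ} [hq : Fact q.Prime]
    (hqp : q ≠ p) {R : Subgroup G} (hR : IsPGroup q R)
    (hxR : x ∈ Subgroup.normalizer (R : Set G))
    (hcase : q ≠ 2 ∨ ∀ a ∈ R, ∀ b ∈ R, Commute a b) :
    R ≤ Subgroup.centralizer ({x ^ p ^ n} : Set G) := by
  by_contra hcon
  obtain ⟨Q, hQR, hxQ, h1, h2, h3, hQne⟩ := exists_critical_le x hx.1 hqp hR hxR hcon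
  obtain ⟨g, hg, hg1⟩ : ∃ g ∈ Q, g ≠ 1 := by
    by_contra hc
    push Not at hc
    exact hQne ((Subgroup.eq_bot_iff_forall Q).mpr hc)
  rcases bound_algClosed ρ Q x hxQ hx.1 hq.out hqp (hR.to_le hQR) h1 h2 h3
    ⟨g, hg, fun h => hg1 (hρ (h.trans (map_one ρ).symm))⟩ hx.2 with
    h | ⟨n₀, m, a1, -, -, a4, -, ⟨a, ha, b, hb, hab⟩, -⟩
  · have := pow_pos hp.out.pos (n + 1)
    omega
  · obtain ⟨rfl, -⟩ := eq_two_of_prime_pow_sub_one hp.out hp2 hq.out a1 a4
    exact hab (hcase.resolve_left (not_not_intro rfl) a (hQR ha) b (hQR hb))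

end

/-- The elements of `C` whose commutators with `C` act trivially on `U`. -/
def centralMod (ρ : G →* Module.End F V) (C : Subgroup G)
    (hC : ∀ a ∈ C, ∀ b ∈ C, ∀ c ∈ C, Commute ⁅a, b⁆ c) (U : Submodule F V) : Subgroup G where
  carrier := {c | c ∈ C ∧ ∀ d ∈ C, ∀ u ∈ U, ρ ⁅c, d⁆ u = u}
  one_mem' := ⟨one_mem _, fun d _ u _ => by simp⟩
  mul_mem' := fun {a b} ha hb => ⟨mul_mem ha.1 hb.1, fun d hd u hu => by
    rw [commutatorElement_mul_left_eq_conj_mul, (hC b hb.1 d hd a ha.1).symm.eq,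
      mul_inv_cancel_right, rho_mul_apply, ha.2 d hd u hu, hb.2 d hd u hu]⟩
  inv_mem' := fun {a} ha => ⟨inv_mem ha.1, fun d hd u hu => by
    have h1 : ⁅a⁻¹, d⁆ = ⁅a, d⁆⁻¹ := by
      have h2 : a⁻¹ * ⁅a, d⁆⁻¹ * a = ⁅a, d⁆⁻¹ := by
        rw [mul_assoc, (hC a ha.1 d hd a ha.1).inv_left.eq, inv_mul_cancel_left]
      rw [← h2]
      simp only [commutatorElement_def]
      group
    rw [h1]
    conv_lhs => rw [← ha.2 d hd u hu, rho_inv_apply]⟩

theorem mem_centralMod {ρ : G →* Module.End F V} {C : Subgroup G}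
    {hC : ∀ a ∈ C, ∀ b ∈ C, ∀ c ∈ C, Commute ⁅a, b⁆ c} {U : Submodule F V} {c : G} :
    c ∈ centralMod ρ C hC U ↔ c ∈ C ∧ ∀ d ∈ C, ∀ u ∈ U, ρ ⁅c, d⁆ u = u := Iff.rfl

theorem centralMod_le {ρ : G →* Module.End F V} {C : Subgroup G}
    {hC : ∀ a ∈ C, ∀ b ∈ C, ∀ c ∈ C, Commute ⁅a, b⁆ c} {U : Submodule F V} :
    centralMod ρ C hC U ≤ C := fun _ h => h.1

theorem centralMod_mono_qiso {ρ : G →* Module.End F V} {C : Subgroup G}
    {hC : ∀ a ∈ C, ∀ b ∈ C, ∀ c ∈ C, Commute ⁅a, b⁆ c} {A B : Submodule F V}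
    (hA : IsInv ρ C A) (h : QIso ρ C A B) : centralMod ρ C hC B ≤ centralMod ρ C hC A := by
  obtain ⟨f, hf, hfr, hfe⟩ := h
  intro c hc
  refine ⟨hc.1, fun d hd u hu => ?_⟩
  have hcd : ⁅c, d⁆ ∈ C :=
    C.mul_mem (C.mul_mem (C.mul_mem hc.1 hd) (C.inv_mem hc.1)) (C.inv_mem hd)
  have h1 := hfe _ hcd ⟨u, hu⟩ ⟨_, hA _ hcd u hu⟩ rfl
  rw [hc.2 d hd (f ⟨u, hu⟩) (hfr ▸ ⟨_, rfl⟩)] at h1
  exact congrArg Subtype.val (hf h1)

theorem mem_normalizer_centralMod [Finite G] {ρ : G →* Module.End F V} {C : Subgroup G}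
    {hC : ∀ a ∈ C, ∀ b ∈ C, ∀ c ∈ C, Commute ⁅a, b⁆ c} {U : Submodule F V} {g : G}
    (hg : g ∈ Subgroup.normalizer (C : Set G))
    (h : (∀ a ∈ C, ∀ b ∈ C, Commute g ⁅a, b⁆) ∨ g ∈ stabSub ρ U) :
    g ∈ Subgroup.normalizer (centralMod ρ C hC U : Set G) := by
  refine Coprime.mem_normalizer_of_forall fun c hc =>
    ⟨(Subgroup.mem_normalizer_iff.mp hg c).mp hc.1, fun d hd u hu => ?_⟩
  set d' := g⁻¹ * d * g with hd'
  have hd'C : d' ∈ C := conj_mem_of_normalizer hg hd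
  have e : ⁅g * c * g⁻¹, d⁆ = g * ⁅c, d'⁆ * g⁻¹ := by
    simp only [hd', commutatorElement_def]
    group
  rcases h with h | h
  · rw [e, (h c hc.1 d' hd'C).eq, mul_inv_cancel_right]
    exact hc.2 d' hd'C u hu
  · rw [e, rho_mul_apply, rho_mul_apply, hc.2 d' hd'C _ (inv_mem h u hu), rho_apply_inv]

variable [IsAlgClosed F] [FiniteDimensional F V] [hp : Fact p.Prime] [CharP F p] [Finite G]

theorem commute_commutator_of_deficient {ρ : G →* Module.End F V} (hρ : Function.Injective ρ)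
    (hp2 : p ≠ 2) {x : G} {n : ℕ} (hx : Deficient ρ p n x) {C : Subgroup G} (hCp : IsPGroup 2 C)
    (hC : ∀ a ∈ C, ∀ b ∈ C, ∀ c ∈ C, Commute ⁅a, b⁆ c) (hxC : x ∈ Subgroup.normalizer (C : Set G))
    {a : G} (ha : a ∈ C) {b : G} (hb : b ∈ C) : Commute (x ^ p ^ n) ⁅a, b⁆ := by
  have : Fact (Nat.Prime 2) := ⟨Nat.prime_two⟩
  set Z := C ⊓ Subgroup.centralizer (C : Set G) with hZ
  have hxZ : x ∈ Subgroup.normalizer (Z : Set G) := Coprime.mem_normalizer_of_forall fun z hz =>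
    ⟨(Subgroup.mem_normalizer_iff.mp hxC z).mp hz.1, Subgroup.mem_centralizer_iff.mpr fun c hc => by
      have h1 := Subgroup.mem_centralizer_iff.mp hz.2 (x⁻¹ * c * x) (conj_mem_of_normalizer hxC hc)
      calc c * (x * z * x⁻¹) = x * (x⁻¹ * c * x * z) * x⁻¹ := by group
        _ = x * (z * (x⁻¹ * c * x)) * x⁻¹ := by rw [h1]
        _ = _ := by group⟩
  have h1 : Z ≤ Subgroup.centralizer ({x ^ p ^ n} : Set G) :=
    le_centralizer_of_deficient hρ hp2 hx hp2.symm (hCp.to_le inf_le_left) hxZ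
      (Or.inr fun u hu v hv => (Subgroup.mem_centralizer_iff.mp hv.2 u hu.1))
  exact (Subgroup.mem_centralizer_singleton_iff.mp (h1 ⟨C.mul_mem (C.mul_mem (C.mul_mem ha hb)
    (C.inv_mem ha)) (C.inv_mem hb), Subgroup.mem_centralizer_iff.mpr fun c hc =>
      (hC a ha b hb c hc).symm.eq⟩)).symm

/-- `y = x^(p^n)` moves little modulo `centralMod`. -/
theorem relIndex_centralMod_le {ρ : G →* Module.End F V} (hρ : Function.Injective ρ)
    (hp2 : p ≠ 2) {x : G} {n : ℕ} (hx : Deficient ρ p n x) {C : Subgroup G} (hCp : IsPGroup 2 C)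
    {hC : ∀ a ∈ C, ∀ b ∈ C, ∀ c ∈ C, Commute ⁅a, b⁆ c} (hxC : x ∈ Subgroup.normalizer (C : Set G))
    {U : Submodule F V} (hU : IsSimpleInv ρ C U) :
    (centralMod ρ C hC U).relIndex ⁅C, Subgroup.zpowers (x ^ p ^ n)⁆ ≤ (p - 1) ^ 2 ∨
      (p = 3 ∧ ∃ z ∈ Subgroup.zpowers x, z ^ 3 = x ^ p ^ n ∧
        z ∈ Subgroup.normalizer (centralMod ρ C hC U : Set G) ∧
        (centralMod ρ C hC U).relIndex ⁅C, Subgroup.zpowers (x ^ p ^ n)⁆ ≤ 64) := by
  classical
  have : Fact (Nat.Prime 2) := ⟨Nat.prime_two⟩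
  set y := x ^ p ^ n with hy
  set A := Subgroup.zpowers y with hA
  set K := centralMod ρ C hC U with hKdef
  set Q := ⁅C, A⁆ with hQdef
  have h3 : 3 ≤ p := by have := hp.out.two_le; omega
  by_cases hQK : Q ≤ K
  · left
    rw [Subgroup.relIndex_eq_one.mpr hQK]
    exact Nat.one_le_pow _ _ (by omega)
  have hyc : ∀ a ∈ C, ∀ b ∈ C, Commute y ⁅a, b⁆ := fun a ha b hb =>
    commute_commutator_of_deficient hρ hp2 hx hCp hC hxC ha hb
  have hAC : A ≤ Subgroup.normalizer (C : Set G) := Subgroup.zpowers_le.mpr (pow_mem hxC _)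
  have hQC : Q ≤ C := Coprime.commutator_le_left' hAC
  have hcop : (Nat.card A).Coprime (Nat.card C) := by
    obtain ⟨e, he⟩ := IsPGroup.iff_card.mp hCp
    rw [Nat.card_zpowers, he]
    refine (((Nat.coprime_primes hp.out Nat.prime_two).mpr hp2).coprime_dvd_left
      (orderOf_dvd_of_pow_eq_one ?_)).pow_right e
    rw [hy, ← pow_mul, ← pow_succ, hx.1]
  have hQA : ⁅Q, A⁆ = Q := Coprime.commutator_commutator_eq hAC hcop (Or.inl inferInstance)
  have hCQ : C ≤ Subgroup.normalizer (Q : Set G) := Subgroup.normalizer_commutator_ge_left C A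
  have hD : ⁅Q, Q⁆ ≤ Subgroup.centralizer ({y} : Set G) := by
    rw [Subgroup.commutator_le]
    exact fun a ha b hb => Subgroup.mem_centralizer_singleton_iff.mpr
      (hyc a (hQC ha) b (hQC hb)).symm.eq
  obtain ⟨k, hk, U', hU', hiso, hz, hlow, htr⟩ := exists_period ρ hxC hx.1 hU hx.2
  have hPpos : 0 < p ^ (n + 1) := pow_pos hp.out.pos _
  rcases hk.eq_or_lt with rfl | hkn
  · omega
  have hKeq : centralMod ρ C hC U' = K :=
    le_antisymm (centralMod_mono_qiso hU.2.1 hiso)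
      (centralMod_mono_qiso hU'.2.1 (QIso.symm hU.2.1 hiso))
  obtain ⟨N, hN⟩ : ∃ N, n = k + N := ⟨n - k, by omega⟩
  set G₀ := stabSub ρ U' with hG₀
  have hCG₀ : C ≤ G₀ := fun g hg => hU'.2.1 g hg
  let z : G₀ := ⟨x ^ p ^ k, hz⟩
  set ρ' := restrictHom ρ U'
  have hrho : ∀ (g : G₀) (w : U'), ((ρ' g w : U') : V) = ρ (g : G) w := fun g w => rfl
  set r' := p ^ (N + 1) - 1 with hr'
  have hpowU : ∀ (i : ℕ) (w : U'), ((((ρ' z - 1) ^ i) w : U') : V) =
      ((ρ (x ^ p ^ k) - 1) ^ i) w := by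
    intro i
    induction i with
    | zero => intro w; rfl
    | succ i ih =>
      intro w
      rw [pow_succ', pow_succ', Module.End.mul_apply, Module.End.mul_apply, ← ih]
      simp only [LinearMap.sub_apply, Module.End.one_apply, Submodule.coe_sub]
      rfl
  have hrz : (ρ' z - 1) ^ r' = 0 := by
    refine LinearMap.ext fun w => ?_
    by_contra hne
    have h1 := hlow r' ⟨w, w.2, fun h => hne (Subtype.ext (by rw [hpowU]; exact h))⟩
    rw [hr', Nat.sub_add_cancel (Nat.one_le_pow _ _ hp.out.pos), ← pow_add,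
      show k + (N + 1) = n + 1 by omega] at h1
    omega
  have hzN : z ^ p ^ (N + 1) = 1 := Subtype.ext (by
    rw [SubgroupClass.coe_pow, ← pow_mul, ← pow_add, show k + (N + 1) = n + 1 by omega, hx.1]; rfl)
  have hzy : ((z ^ p ^ N : G₀) : G) = y := by
    rw [SubgroupClass.coe_pow, ← pow_mul, ← pow_add, ← hN]
  set Q' := Q.subgroupOf G₀ with hQ'
  have hQG₀ : Q ≤ G₀ := hQC.trans hCG₀
  have hmapQ : Q'.map G₀.subtype = Q := Subgroup.map_subgroupOf_eq_of_le hQG₀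
  have hzQ : z ∈ Subgroup.normalizer (Q' : Set G₀) := by
    have h1 : x ∈ Subgroup.normalizer (Q : Set G) := by
      have hxA : x ∈ Subgroup.normalizer (A : Set G) := by
        refine Coprime.mem_normalizer_of_forall fun a ha => ?_
        obtain ⟨i, rfl⟩ := Subgroup.mem_zpowers_iff.mp ha
        rw [((Commute.self_pow x (p ^ n)).zpow_right i).eq, mul_inv_cancel_right]
        exact zpow_mem (Subgroup.mem_zpowers _) i
      rw [Subgroup.mem_normalizer_iff_map_conj_eq] at hxC hxA ⊢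
      rw [hQdef, Subgroup.map_commutator, hxC, hxA]
    rw [Subgroup.mem_normalizer_iff]
    exact fun g => Subgroup.mem_normalizer_iff.mp (pow_mem h1 _) (g : G)
  have hzero : (Subgroup.zpowers (z ^ p ^ N)).map G₀.subtype = A := by
    rw [MonoidHom.map_zpowers, Subgroup.coe_subtype, hzy]
  have hQA' : ⁅Q', Subgroup.zpowers (z ^ p ^ N)⁆ = Q' := by
    apply Subgroup.map_injective G₀.subtype_injective
    rw [Subgroup.map_commutator, hmapQ, hzero, hQA]
  have hD' : ⁅Q', Q'⁆ ≤ Subgroup.centralizer ({z ^ p ^ N} : Set G₀) := by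
    rw [Subgroup.commutator_le]
    exact fun a ha b hb => Subgroup.mem_centralizer_singleton_iff.mpr (Subtype.ext (by
      rw [Subgroup.coe_mul, Subgroup.coe_mul, hzy]
      exact Subgroup.mem_centralizer_singleton_iff.mp
        (hD (Subgroup.commutator_mem_commutator (show (a : G) ∈ Q from ha) hb))))
  obtain ⟨c1, c2, c3⟩ := critical_hyps (Subgroup.zpowers_le.mpr (pow_mem hzQ _)) hQA' hD'
  have hne : ∃ g ∈ Q', ρ' g ≠ 1 := by
    by_contra hcon
    push Not at hcon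
    refine hQK fun q hq => hKeq ▸ ⟨hQC hq, fun d hd u hu => ?_⟩
    have hqd : ⁅q, d⁆ ∈ Q := by
      rw [commutatorElement_def, mul_assoc, mul_assoc]
      refine Q.mul_mem hq ?_
      rw [← mul_assoc]
      exact (Subgroup.mem_normalizer_iff.mp (hCQ hd) _).mp (Q.inv_mem hq)
    have h1 := hrho ⟨⁅q, d⁆, hQG₀ hqd⟩ ⟨u, hu⟩
    rw [hcon ⟨⁅q, d⁆, hQG₀ hqd⟩ hqd, Module.End.one_apply] at h1
    exact h1.symm
  have hQ'p : IsPGroup 2 Q' := (hCp.to_le hQC).comap_subtype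
  rcases bound_algClosed ρ' Q' z hzQ hzN Nat.prime_two hp2.symm hQ'p c1 c2 c3 hne hrz with
    h | ⟨n₀, m, a1, a2, -, a4, -, -, W, hW, hWi, K₀, hK₀Q, hK₀i, hK₀s⟩
  · have := pow_pos hp.out.pos (N + 1)
    omega
  have hK₀K : K₀.map G₀.subtype ≤ K := by
    rintro _ ⟨k₀, hk₀, rfl⟩
    have hk₀Q : (k₀ : G) ∈ Q := hK₀Q hk₀
    rw [← hKeq]
    refine ⟨hQC hk₀Q, fun d hd u hu => ?_⟩
    have hd' : d ∈ Q ⊔ (C ⊓ Subgroup.centralizer (A : Set G)) := by
      rwa [Coprime.commutator_sup_centralizer hAC hcop (Or.inl inferInstance)]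
    obtain ⟨q, hq, c, hc, rfl⟩ := (Coprime.mem_sup_iff (inf_le_left.trans hCQ)).mp hd'
    have hqC : q ∈ C := hQC hq
    have hkc : ⁅(k₀ : G), c⁆ = 1 := by
      have h1 : ⁅⁅A, C ⊓ Subgroup.centralizer (A : Set G)⁆, C⁆ = ⊥ := by
        rw [show ⁅A, C ⊓ Subgroup.centralizer (A : Set G)⁆ = ⊥ from by
          rw [Subgroup.commutator_eq_bot_iff_le_centralizer]
          exact Subgroup.le_centralizer_iff.mp inf_le_right, Subgroup.commutator_bot_left]
      have h2 : ⁅⁅C ⊓ Subgroup.centralizer (A : Set G), C⁆, A⁆ = ⊥ := by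
        refine commutator_zpowers_eq_bot ?_
        rw [Subgroup.commutator_le]
        exact fun a ha b hb => Subgroup.mem_centralizer_singleton_iff.mpr
          (hyc a ha.1 b hb).symm.eq
      have h3 := Subgroup.commutator_commutator_eq_bot_of_rotate h1 h2
      exact (Subgroup.eq_bot_iff_forall _).mp h3 _ (Subgroup.commutator_mem_commutator hk₀Q hc)
    have hsplit : ⁅(k₀ : G), q * c⁆ = ⁅(k₀ : G), q⁆ := by
      rw [commutatorElement_mul_right_eq_mul_conj, hkc, mul_one, mul_inv_cancel_right]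
    show ρ ⁅(k₀ : G), q * c⁆ u = u
    rw [hsplit]
    set e := ⁅(k₀ : G), q⁆ with he
    let S : Submodule F V := U' ⊓ LinearMap.ker (ρ e - 1)
    have hSm : ∀ {v : V}, v ∈ S ↔ v ∈ U' ∧ ρ e v = v := fun {v} => by
      simp only [S, Submodule.mem_inf, LinearMap.mem_ker, LinearMap.sub_apply,
        Module.End.one_apply, sub_eq_zero]
    have hSinv : IsInv ρ C S := fun g hg v hv => by
      rw [hSm] at hv ⊢
      refine ⟨hU'.2.1 g hg v hv.1, ?_⟩
      rw [← rho_mul_apply, (hC (k₀ : G) (hQC hk₀Q) q hqC g hg).eq, rho_mul_apply, hv.2]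
    have hSne : S ≠ ⊥ := by
      obtain ⟨w, hwW, hw0⟩ := Submodule.exists_mem_ne_zero_of_ne_bot hW
      refine Submodule.ne_bot_iff _ |>.mpr ⟨(w : V), hSm.mpr ⟨w.2, ?_⟩, fun h => hw0 (Subtype.ext h)⟩
      let q₀ : G₀ := ⟨q, hQG₀ hq⟩
      have hq₀ : q₀ ∈ Q' := hq
      obtain ⟨s, hs⟩ := hK₀s k₀ hk₀
      set w' := ρ' (q₀ * k₀)⁻¹ w with hw'
      have hw'W : w' ∈ W := hWi _ (Q'.inv_mem (Q'.mul_mem hq₀ (hK₀Q hk₀))) w hwW
      have h1 : ρ' (k₀ * q₀) w' = ρ' (q₀ * k₀) w' := by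
        rw [rho_mul_apply, rho_mul_apply, hs w' hw'W, map_smul, hs _ (hWi q₀ hq₀ w' hw'W)]
      have h2 : ρ' (q₀ * k₀) w' = w := by rw [hw', rho_apply_inv]
      have h4 : ρ' ⁅k₀, q₀⁆ w = w := by
        conv_lhs => rw [← h2, ← rho_mul_apply]
        rw [show ⁅k₀, q₀⁆ * (q₀ * k₀) = k₀ * q₀ by rw [commutatorElement_def]; group, h1, h2]
      have h5 := congrArg Subtype.val h4
      rw [hrho] at h5
      exact h5
    have hu' : u ∈ S := (hU'.2.2 S inf_le_left hSinv).resolve_left hSne ▸ hu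
    exact (hSm.mp hu').2
  have hrel : K.relIndex Q ≤ (p ^ n₀ - 1) ^ 2 := by
    have h1 : (K₀.map G₀.subtype).relIndex Q = (p ^ n₀ - 1) ^ 2 := by
      rw [← hmapQ, Subgroup.relIndex_map_map_of_injective _ _ G₀.subtype_injective, hK₀i, a4, sq]
    rw [← h1]
    exact Nat.le_of_dvd (by rw [h1]; exact pow_pos (Nat.sub_pos_of_lt
      (Nat.one_lt_pow (by omega) hp.out.one_lt)) 2) (Subgroup.relIndex_dvd_of_le_left Q hK₀K)
  rcases exponent_cases hp.out hp2 a1 a4 with rfl | ⟨rfl, rfl⟩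
  · exact Or.inl (by rwa [pow_one] at hrel)
  · refine Or.inr ⟨rfl, x ^ 3 ^ (n - 1), pow_mem (Subgroup.mem_zpowers _) _, ?_, ?_,
      by simpa using hrel⟩
    · rw [← pow_mul, ← pow_succ, Nat.sub_add_cancel (by omega)]
    · rw [← hKeq]
      refine mem_normalizer_centralMod (pow_mem hxC _) (Or.inr ?_)
      rw [show n - 1 = k + (n - 1 - k) by omega, pow_add, pow_mul]
      exact pow_mem (show x ^ 3 ^ k ∈ stabSub ρ U' from hz) _

end Cfsg.Agent.HallHigman
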