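/-
Tools for deficient 2-elements acting on class two q-groups, q odd (helper3).

Main results (namespace `Cfsg.Agent.HallHigman`):
* mersenne_prime_pow, commutator_trivial_of_deficient
* mersenne_of_irred, qIso_translate_of_homogeneous
-/
import Cfsg.Agent.Lib.HallHigman.Deficient

set_option autoImplicit false

namespace Cfsg.Agent.HallHigman

open Module
open scoped commutatorElement

theorem mersenne_prime_pow {n q m : ℕ} (hq : q.Prime) (hm : 1 ≤ m) (h : 2 ^ n - 1 = q ^ m) :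
    m = 1 ∧ 2 ≤ n ∧ q % 4 = 3 := by
  have hqm : 1 < q ^ m := Nat.one_lt_pow (by omega) hq.one_lt
  have hn : 2 ≤ n := by
    rcases n with _ | _ | n
    · simp only [pow_zero] at h; omega
    · simp only [zero_add, pow_one] at h; omega
    · omega
  have hq2 : q ≠ 2 := by
    rintro rfl
    obtain ⟨m, rfl⟩ : ∃ k, m = k + 1 := ⟨m - 1, by omega⟩
    obtain ⟨n, rfl⟩ : ∃ k, n = k + 1 := ⟨n - 1, by omega⟩
    rw [pow_succ, pow_succ] at h
    omega
  have h4 : q ^ m % 4 = 3 := by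
    obtain ⟨n, rfl⟩ : ∃ k, n = k + 2 := ⟨n - 2, by omega⟩
    rw [← h, pow_add]
    have : 0 < 2 ^ n := pow_pos two_pos _
    omega
  have hqodd : q % 2 = 1 := hq.eq_two_or_odd.resolve_left hq2
  obtain ⟨j, rfl⟩ : ∃ j, m = 2 * j + 1 := by
    rcases Nat.even_or_odd m with ⟨j, hj⟩ | hodd
    · exfalso
      rw [hj, pow_add, Nat.mul_mod] at h4
      have : q ^ j % 4 < 4 := Nat.mod_lt _ (by norm_num)
      interval_cases (q ^ j % 4) <;> omega
    · exact hodd
  have hq4 : q % 4 = 3 := by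
    rw [Nat.pow_mod] at h4
    have h5 : q % 4 = 1 ∨ q % 4 = 3 := by omega
    rcases h5 with h5 | h5
    · rw [h5, one_pow] at h4; omega
    · exact h5
  refine ⟨?_, hn, hq4⟩
  have hdvd : q + 1 ∣ 2 ^ n := by
    have h5 := Odd.nat_add_dvd_pow_add_pow q 1 (⟨j, rfl⟩ : Odd (2 * j + 1))
    rw [one_pow] at h5
    rwa [show 2 ^ n = q ^ (2 * j + 1) + 1 by omega]
  obtain ⟨a, han, ha⟩ := (Nat.dvd_prime_pow Nat.prime_two).mp hdvd
  rcases han.eq_or_lt with rfl | hlt
  · have h6 : q ^ (2 * j + 1) = q ^ 1 := by rw [pow_one]; omega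
    exact Nat.pow_right_injective hq.two_le h6
  exfalso
  obtain ⟨r, hr⟩ : ∃ r, q = 2 * r + 1 := ⟨q / 2, by omega⟩
  have hsq : q * q ≡ 1 [MOD 2 ^ (a + 1)] := by
    have : q * q = r * 2 ^ (a + 1) * 1 + 1 := by
      rw [pow_succ, ← ha, hr]; ring
    rw [this, mul_one]
    exact Nat.modEq_iff_dvd' (by omega) |>.mpr (by rw [Nat.add_sub_cancel]; exact Dvd.intro_left _ rfl)
      |>.symm
  have h7 : q ^ (2 * j + 1) + 1 ≡ 2 ^ a [MOD 2 ^ (a + 1)] := by
    rw [← ha]
    refine Nat.ModEq.add_right 1 ?_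
    rw [show q ^ (2 * j + 1) = (q * q) ^ j * q by rw [pow_succ, pow_mul, sq]]
    simpa using (hsq.pow j).mul_right q
  rw [show q ^ (2 * j + 1) + 1 = 2 ^ n by omega, Nat.ModEq,
    Nat.mod_eq_zero_of_dvd (pow_dvd_pow 2 (show a + 1 ≤ n from hlt)),
    Nat.mod_eq_of_lt (Nat.pow_lt_pow_right one_lt_two (Nat.lt_succ_self a))] at h7
  exact (pow_pos two_pos a).ne h7

theorem not_dvd_sq_add_one {q : ℕ} [Fact q.Prime] (h : q % 4 = 3) (s : ℕ) : ¬ q ∣ s * s + 1 := by
  intro hd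
  have h1 : ((s : ZMod q) ^ 2) = -1 := by
    rw [eq_neg_iff_add_eq_zero, sq, ← Nat.cast_mul, ← Nat.cast_one (R := ZMod q), ← Nat.cast_add,
      ZMod.natCast_eq_zero_iff]
    exact hd
  exact ZMod.mod_four_ne_three_of_sq_eq_neg_one h1 h

theorem critical_hyps_subgroupOf {G : Type*} [Group G] [Finite G] {Q : Subgroup G} {H : Subgroup G}
    (hQH : Q ≤ H) {y : H} (hAQ : Subgroup.zpowers (y : G) ≤ Subgroup.normalizer (Q : Set G))
    (hQA : ⁅Q, Subgroup.zpowers (y : G)⁆ = Q)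
    (hD : ⁅Q, Q⁆ ≤ Subgroup.centralizer ({(y : G)} : Set G)) :
    ⁅Q.subgroupOf H, Subgroup.zpowers y⁆ = Q.subgroupOf H ∧
      Subgroup.zpowers y ≤ Subgroup.normalizer ((Q.subgroupOf H : Subgroup H) : Set H) ∧
      ⁅Q.subgroupOf H, Q.subgroupOf H⁆ ≤ Subgroup.centralizer ({y} : Set H) := by
  have hmapQ : (Q.subgroupOf H).map H.subtype = Q := Subgroup.map_subgroupOf_eq_of_le hQH
  refine ⟨?_, ?_, ?_⟩
  · apply Subgroup.map_injective H.subtype_injective
    rw [Subgroup.map_commutator, hmapQ, MonoidHom.map_zpowers, Subgroup.coe_subtype, hQA]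
  · refine Subgroup.zpowers_le.mpr ?_
    rw [Subgroup.mem_normalizer_iff]
    exact fun g => Subgroup.mem_normalizer_iff.mp (hAQ (Subgroup.mem_zpowers _)) (g : G)
  · rw [Subgroup.commutator_le]
    exact fun a ha b hb => Subgroup.mem_centralizer_singleton_iff.mpr (Subtype.ext (by
      rw [Subgroup.coe_mul, Subgroup.coe_mul]
      exact Subgroup.mem_centralizer_singleton_iff.mp
        (hD (Subgroup.commutator_mem_commutator (show (a : G) ∈ Q from ha) hb))))

variable {F : Type*} [Field F] {V : Type*} [AddCommGroup V] [Module F V] [FiniteDimensional F V]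
  {G : Type*} [Group G] [Finite G]

/-- A simple submodule meets a sum of simple submodules, none isomorphic to it, trivially. -/
theorem inf_biSup_eq_bot_of_simple {ρ : G →* Module.End F V} {Q : Subgroup G} {ι : Type*}
    (s : Finset ι) (U : ι → Submodule F V) (hU : ∀ i ∈ s, IsSimpleInv ρ Q (U i)) :
    ∀ W, IsSimpleInv ρ Q W → (∀ i ∈ s, ¬ QIso ρ Q W (U i)) → W ⊓ (⨆ i ∈ s, U i) = ⊥ := by
  classical
  induction s using Finset.induction_on with
  | empty => intro W _ _; simp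
  | @insert b s hb ih =>
    intro W hW hne
    have hU' : ∀ i ∈ s, IsSimpleInv ρ Q (U i) := fun i hi => hU i (Finset.mem_insert_of_mem hi)
    have hbi := hU b (Finset.mem_insert_self _ _)
    set S := ⨆ i ∈ s, U i
    have hWS : W ⊓ S = ⊥ := ih hU' W hW fun i hi => hne i (Finset.mem_insert_of_mem hi)
    have hSi : IsInv ρ Q S := isInv_biSup _ _ fun i hi => (hU' i hi).2.1
    rw [Finset.iSup_insert]
    rcases hbi.2.2 _ inf_le_left (isInv_inf hbi.2.1 hSi) with hbS | hbS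
    swap
    · rw [sup_eq_right.mpr (inf_eq_left.mp hbS)]; exact hWS
    have hsupi : IsInv ρ Q (U b ⊔ S) := fun g hg u hu => by
      obtain ⟨x, hx, y, hy, rfl⟩ := Submodule.mem_sup.mp hu
      rw [map_add]
      exact Submodule.add_mem_sup (hbi.2.1 g hg x hx) (hSi g hg y hy)
    rcases hW.2.2 _ inf_le_left (isInv_inf hW.2.1 hsupi) with h | h
    · exact h
    exfalso
    have hle : W ≤ U b ⊔ S := inf_eq_left.mp h
    have hdec : ∀ w : W, ∃ x ∈ U b, (w : V) - x ∈ S := fun w => by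
      obtain ⟨x, hx, y, hy, hxy⟩ := Submodule.mem_sup.mp (hle w.2)
      exact ⟨x, hx, by rw [← hxy, add_sub_cancel_left]; exact hy⟩
    choose c hc hcS using hdec
    have huniq : ∀ (w : W) (x : V), x ∈ U b → (w : V) - x ∈ S → x = c w := fun w x hx hxS => by
      have h1 : x - c w ∈ U b ⊓ S := ⟨(U b).sub_mem hx (hc w), by
        have := S.sub_mem (hcS w) hxS
        rwa [sub_sub_sub_cancel_left] at this⟩
      rw [hbS, Submodule.mem_bot, sub_eq_zero] at h1
      exact h1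
    let f : W →ₗ[F] V :=
      { toFun := c
        map_add' := fun u v => (huniq (u + v) _ ((U b).add_mem (hc u) (hc v)) (by
          rw [Submodule.coe_add, add_sub_add_comm]; exact S.add_mem (hcS u) (hcS v))).symm
        map_smul' := fun r u => (huniq (r • u) _ ((U b).smul_mem r (hc u)) (by
          rw [Submodule.coe_smul, ← smul_sub]; exact S.smul_mem r (hcS u))).symm }
    have hfinj : Function.Injective f := (injective_iff_map_eq_zero f).mpr fun w hw => by
      have h1 : (w : V) ∈ W ⊓ S := ⟨w.2, by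
        have h3 := hcS w
        have h4 : c w = 0 := hw
        rwa [h4, sub_zero] at h3⟩
      rw [hWS, Submodule.mem_bot] at h1
      exact Subtype.ext h1
    have hfe : IsEquivariant ρ Q W f := fun g hg w w' hw =>
      (huniq w' (ρ g (c w)) (hbi.2.1 g hg _ (hc w)) (by
        rw [hw, ← map_sub]; exact hSi g hg _ (hcS w))).symm
    refine hne b (Finset.mem_insert_self _ _) ⟨f, hfinj, ?_, hfe⟩
    refine (hbi.2.2 _ ?_ ?_).resolve_left ?_
    · rintro _ ⟨w, rfl⟩; exact hc w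
    · rintro g hg _ ⟨w, rfl⟩
      exact ⟨⟨ρ g w, hW.2.1 g hg w w.2⟩, hfe g hg w ⟨ρ g w, hW.2.1 g hg w w.2⟩ rfl⟩
    · intro h0
      obtain ⟨w, hw, hw0⟩ := Submodule.exists_mem_ne_zero_of_ne_bot hW.1
      have h1 : f ⟨w, hw⟩ ∈ LinearMap.range f := ⟨_, rfl⟩
      rw [h0, Submodule.mem_bot] at h1
      exact hw0 (congrArg Subtype.val (hfinj (h1.trans (map_zero f).symm)))

/-- If `C = Q C₀` is irreducible with `C₀` centralising `Q`, then `V` is `Q`-homogeneous, so every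
normalizing element maps a simple `Q`-submodule to an isomorphic one. -/
theorem qIso_translate_of_homogeneous {ρ : G →* Module.End F V} {C Q C₀ : Subgroup G}
    (hC : C ≤ Q ⊔ C₀) (hcomm : ∀ q ∈ Q, ∀ c ∈ C₀, Commute q c) (hirr : IsIrred ρ C) {z : G}
    (hz : z ∈ Subgroup.normalizer (Q : Set G)) {W : Submodule F V} (hW : IsSimpleInv ρ Q W) :
    QIso ρ Q W (W.map (ρ z)) := by
  classical
  have : Fintype C₀ := Fintype.ofFinite _
  by_contra hcon
  have hcN : ∀ c ∈ C₀, c ∈ Subgroup.normalizer (Q : Set G) := fun c hc =>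
    Coprime.mem_normalizer_of_forall fun g hg => by
      rw [← (hcomm g hg c hc).eq, mul_inv_cancel_right]; exact hg
  have hiso : ∀ c : C₀, QIso ρ Q W (W.map (ρ (c : G))) := fun c => by
    refine ⟨(ρ (c : G)).comp W.subtype, ?_, ?_, ?_⟩
    · intro u v e
      have h1 := congrArg (ρ (c : G)⁻¹) e
      simp only [LinearMap.comp_apply, Submodule.subtype_apply, rho_inv_apply] at h1
      exact Subtype.ext h1
    · rw [LinearMap.range_comp, Submodule.range_subtype]
    · intro g hg w w' hw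
      show ρ (c : G) (w' : V) = ρ g (ρ (c : G) w)
      rw [hw, ← rho_mul_apply, ← rho_mul_apply, (hcomm g hg c c.2).eq]
  have hTs : IsSimpleInv ρ Q (W.map (ρ z)) := hW.map hz
  set T := W.map (ρ z)
  set S := ⨆ c ∈ (Finset.univ : Finset C₀), W.map (ρ (c : G)) with hS
  have h0 : T ⊓ S = ⊥ := inf_biSup_eq_bot_of_simple (ρ := ρ) (Q := Q) Finset.univ
    (fun c : C₀ => W.map (ρ (c : G))) (fun c _ => hW.map (hcN c c.2)) T hTs fun c _ h => hcon
      (QIso.trans hW.2.1 (hiso c) (QIso.symm hTs.2.1 h))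
  have hSinv : ∀ g ∈ C, ∀ u ∈ S, ρ g u ∈ S := by
    intro g hg
    have hQS : IsInv ρ Q S := isInv_biSup _ _ fun c _ => (hW.map (hcN c c.2)).2.1
    have hC₀S : C₀ ≤ stabSub ρ S := by
      intro d hd u hu
      have hle : S ≤ S.comap (ρ d) := iSup₂_le fun c _ => by
        rintro _ ⟨w, hw, rfl⟩
        refine Submodule.mem_iSup_of_mem (⟨d * c, mul_mem hd c.2⟩ : C₀)
          (Submodule.mem_iSup_of_mem (Finset.mem_univ _) ⟨w, hw, ?_⟩)
        exact rho_mul_apply d (c : G) w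
      exact hle hu
    exact (sup_le (fun q hq => hQS q hq) hC₀S : Q ⊔ C₀ ≤ stabSub ρ S) (hC hg)
  rcases hirr S hSinv with h | h
  · refine hW.1 ((Submodule.eq_bot_iff _).mpr fun w hw => ?_)
    have h1 : w ∈ S := Submodule.mem_iSup_of_mem (1 : C₀)
      (Submodule.mem_iSup_of_mem (Finset.mem_univ _) ⟨w, hw, by simp⟩)
    rwa [h, Submodule.mem_bot] at h1
  · exact hTs.1 (by rwa [h, inf_top_eq] at h0)

variable [IsAlgClosed F]

/-- A deficient element centralises modulo the kernel every q-group which it normalizes, if that is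
abelian or if no exceptional exponent exists. -/
theorem commutator_trivial_of_deficient {p : ℕ} [hp : Fact p.Prime] [CharP F p]
    (ρ : G →* Module.End F V) {x : G} {n : ℕ} (hr : (ρ x - 1) ^ (p ^ (n + 1) - 1) = 0) {q : ℕ}
    [hq : Fact q.Prime] (hqp : q ≠ p) {R : Subgroup G} (hR : IsPGroup q R)
    (hxR : x ∈ Subgroup.normalizer (R : Set G))
    (hcase : (∀ a ∈ R, ∀ b ∈ R, Commute a b) ∨
      ∀ n₀ m, n₀ ≤ n + 1 → 1 ≤ m → p ^ n₀ - 1 ≠ q ^ m) :
    ∀ a ∈ R, ρ ⁅x ^ p ^ n, a⁆ = 1 := by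
  have hx : ρ (x ^ p ^ (n + 1)) = 1 := by
    rw [map_pow, ← sub_eq_zero, ← sub_one_pow_prime_pow,
      ← Nat.sub_add_cancel (Nat.one_le_pow (n + 1) p hp.out.pos), pow_succ, hr, zero_mul]
  intro a ha
  set f := QuotientGroup.mk' ρ.ker
  let σ : G ⧸ ρ.ker →* Module.End F V := QuotientGroup.lift ρ.ker ρ le_rfl
  have hσ : Function.Injective σ := (injective_iff_map_eq_one σ).mpr fun g hg => by
    induction g using QuotientGroup.induction_on with | _ g => ?_
    exact (QuotientGroup.eq_one_iff g).mpr hg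
  have hσf : ∀ g, σ (f g) = ρ g := fun g => rfl
  by_contra hne
  have hRf : IsPGroup q (R.map f) := hR.map f
  have hxf : f x ∈ Subgroup.normalizer ((R.map f : Subgroup _) : Set (G ⧸ ρ.ker)) :=
    Subgroup.le_normalizer_map f (Subgroup.mem_map_of_mem f hxR)
  have hxn : f x ^ p ^ (n + 1) = 1 := hσ (by rw [← map_pow, hσf, hx, map_one])
  have hncent : ¬ R.map f ≤ Subgroup.centralizer ({f x ^ p ^ n} : Set (G ⧸ ρ.ker)) := fun h => hne (by
    rw [← hσf, map_commutatorElement, map_pow]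
    rw [commutatorElement_eq_one_iff_commute.mpr
      (show Commute (f x ^ p ^ n) (f a) from
        (Subgroup.mem_centralizer_singleton_iff.mp (h (Subgroup.mem_map_of_mem f ha))).symm),
      map_one])
  obtain ⟨Q, hQR, hxQ, h1, h2, h3, hQne⟩ := exists_critical_le (f x) hxn hqp hRf hxf hncent
  obtain ⟨g, hg, hg1⟩ : ∃ g ∈ Q, g ≠ 1 := by
    by_contra hc
    push Not at hc
    exact hQne ((Subgroup.eq_bot_iff_forall Q).mpr hc)
  rcases bound_algClosed σ Q (f x) hxQ hxn hq.out hqp (hRf.to_le hQR) h1 h2 h3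
    ⟨g, hg, fun h => hg1 (hσ (h.trans (map_one σ).symm))⟩ (r := p ^ (n + 1) - 1)
    (by rw [hσf]; exact hr) with h | ⟨n₀, m, -, a2, a3, a4, -, ⟨b, hb, c, hc, hbc⟩, -⟩
  · have := pow_pos hp.out.pos (n + 1)
    omega
  · rcases hcase with hcase | hcase
    · obtain ⟨b', hb', rfl⟩ := hQR hb
      obtain ⟨c', hc', rfl⟩ := hQR hc
      exact hbc ((hcase b' hb' c' hc').map f)
    · exact hcase n₀ m a2 a3 a4

/-- An irreducible critical q-group with a deficient automorphism: `q = 2^(N+1) - 1`. -/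
theorem mersenne_of_irred [CharP F 2] [Nontrivial V] (ρ : G →* Module.End F V) {Q : Subgroup G}
    (hirr : IsIrred ρ Q) {z : G} (hzQ : z ∈ Subgroup.normalizer (Q : Set G)) {N : ℕ}
    (hzN : z ^ 2 ^ (N + 1) = 1) {q : ℕ} [hq : Fact q.Prime] (hq2 : q ≠ 2) (hQ : IsPGroup q Q)
    (hQA : ⁅Q, Subgroup.zpowers (z ^ 2 ^ N)⁆ = Q)
    (hD : ⁅Q, Q⁆ ≤ Subgroup.centralizer ({z ^ 2 ^ N} : Set G))
    (hne : ∃ g ∈ Q, ρ g ≠ 1) (hr : (ρ z - 1) ^ (2 ^ (N + 1) - 1) = 0) :
    1 ≤ N ∧ 2 ^ (N + 1) = q + 1 ∧ q % 4 = 3 ∧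
      ∃ K₀ : Subgroup G, K₀ ≤ Q ∧ K₀.relIndex Q = q ^ 2 ∧ ∀ k ∈ K₀, ∃ c : F, ρ k = c • 1 := by
  have : Fact (Nat.Prime 2) := ⟨Nat.prime_two⟩
  have hAQ : Subgroup.zpowers (z ^ 2 ^ N) ≤ Subgroup.normalizer (Q : Set G) :=
    Subgroup.zpowers_le.mpr (pow_mem hzQ _)
  obtain ⟨c1, c2, c3⟩ := critical_hyps hAQ hQA hD
  rcases bound_algClosed ρ Q z hzQ hzN hq.out hq2 hQ c1 c2 c3 hne hr with
    h | ⟨n₀, m, -, a2, a3, a4, -, -, W, hW, hWi, K₀, hK₀Q, hK₀i, hK₀s⟩
  · have := pow_pos (two_pos (α := ℕ)) (N + 1)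
    omega
  obtain ⟨rfl, hn₀, hq4⟩ := mersenne_prime_pow hq.out a3 a4
  rw [pow_one] at a4 hK₀i
  have hWtop : W = ⊤ := (hirr W hWi).resolve_left hW
  have hscal : ∀ k ∈ K₀, ∃ c : F, ρ k = c • 1 := fun k hk => by
    obtain ⟨c, hc⟩ := hK₀s k hk
    exact ⟨c, LinearMap.ext fun v => hc v (hWtop ▸ Submodule.mem_top)⟩
  have hd : finrank F V ≤ q := by
    have hcard := card_quotient_scalar hirr fun a ha b hb => mem_scalar_of_commute hirr _ fun g hg =>
      ((c2 _ (by
        rw [commutatorElement_def]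
        exact Q.mul_mem (Q.mul_mem (Q.mul_mem ha hb) (Q.inv_mem ha)) (Q.inv_mem hb))
        (c1 a ha b hb) g hg).map ρ)
    have hle : K₀.subgroupOf Q ≤ scalarSubgroup ρ Q := fun k hk => hscal (k : G) hk
    have hdvd := Subgroup.index_dvd_of_le hle
    rw [Subgroup.index, hcard, ← Subgroup.relIndex, hK₀i] at hdvd
    exact Nat.mul_self_le_mul_self_iff.mp (Nat.le_of_dvd (mul_pos hq.out.pos hq.out.pos) hdvd)
  have hT : (ρ z - 1) ^ 2 ^ n₀ = 0 := by
    have h1 : (ρ z - 1) ^ finrank F V = 0 := by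
      rw [← LinearMap.ker_eq_top, ← top_le_iff]
      refine le_trans ?_ (Module.End.ker_pow_le_ker_pow_finrank _ (2 ^ (N + 1) - 1))
      rw [LinearMap.ker_eq_top.mpr hr]
    obtain ⟨k, hk⟩ := Nat.exists_eq_add_of_le (show finrank F V ≤ 2 ^ n₀ by omega)
    rw [hk, pow_add, h1, zero_mul]
  have hn : n₀ = N + 1 := by
    by_contra hne'
    obtain ⟨k, hk⟩ := Nat.exists_eq_add_of_le (show n₀ ≤ N by omega)
    have hy : ρ (z ^ 2 ^ N) = 1 := by
      rw [map_pow, hk, pow_add, pow_mul]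
      rw [show ρ z ^ 2 ^ n₀ = 1 by rw [← sub_eq_zero, ← sub_one_pow_prime_pow, hT], one_pow]
    obtain ⟨g, hg, hg1⟩ := hne
    have hle : Subgroup.closure ((fun g => ⁅g, z ^ 2 ^ N⁆) '' (Q : Set G)) ≤ ρ.ker := by
      rw [Subgroup.closure_le]
      rintro _ ⟨a, -, rfl⟩
      show ρ ⁅a, z ^ 2 ^ N⁆ = 1
      have hy' : ρ (z ^ 2 ^ N)⁻¹ = 1 := by
        have := rho_inv_mul (ρ := ρ) (z ^ 2 ^ N); rwa [hy, mul_one] at this
      rw [commutatorElement_def, map_mul, map_mul, map_mul, hy, hy', mul_one, mul_one, rho_mul_inv]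
    exact hg1 (hle (c3 hg))
  subst hn
  refine ⟨by omega, by omega, hq4, K₀, hK₀Q, by rw [hK₀i, sq], hscal⟩

end Cfsg.Agent.HallHigman
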