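/-
An abelian 2-group whose automorphisms permute its involutions transitively is homocyclic (helper3).
-/
import Mathlib.GroupTheory.FiniteAbelian.Basic
import Mathlib.GroupTheory.PGroup
import Cfsg.Agent.EqLemmas

set_option autoImplicit false

namespace Cfsg.Agent.HallHigman

theorem homocyclic_of_transitive_involutions {S : Type*} [CommGroup S] [Finite S] (hS : IsPGroup 2 S)
    (htr : ∀ x y : S, x ≠ 1 → x ^ 2 = 1 → y ≠ 1 → y ^ 2 = 1 → ∃ a : MulAut S, a x = y) :
    ∃ m r : ℕ, Nonempty (S ≃* (Fin r → Multiplicative (ZMod (2 ^ m)))) := by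
  classical
  obtain ⟨ι, hι, n, hn1, ⟨e⟩⟩ := CommGroup.equiv_prod_multiplicative_zmod_of_finite S
  have hnk : ∀ i, ∃ k, n i = 2 ^ (k + 1) := by
    intro i
    obtain ⟨k, hk⟩ := hS (e.symm (Pi.mulSingle i (Multiplicative.ofAdd 1)))
    rw [← map_pow, MulEquiv.map_eq_one_iff] at hk
    have h1 := congrFun hk i
    rw [Pi.pow_apply, Pi.mulSingle_eq_same, Pi.one_apply, ← ofAdd_nsmul, nsmul_one,
      ofAdd_eq_one, ZMod.natCast_eq_zero_iff] at h1
    obtain ⟨j, -, hj⟩ := (Nat.dvd_prime_pow Nat.prime_two).1 h1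
    obtain _ | j := j
    · exact absurd (hj.trans (pow_zero 2)) (hn1 i).ne'
    · exact ⟨j, hj⟩
  choose k hk using hnk
  let u : ι → (∀ i, Multiplicative (ZMod (n i))) := fun i =>
    Pi.mulSingle i (Multiplicative.ofAdd ((2 ^ k i : ℕ) : ZMod (n i)))
  have hu1 : ∀ i, u i i ≠ 1 := by
    intro i h
    simp only [u, Pi.mulSingle_eq_same, ofAdd_eq_one] at h
    rw [ZMod.natCast_eq_zero_iff, hk i, Nat.pow_dvd_pow_iff_le_right Nat.one_lt_two] at h
    omega
  have hu2 : ∀ i, u i ^ 2 = 1 := by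
    intro i
    rw [← Pi.mulSingle_pow, Pi.mulSingle_eq_one_iff, ← ofAdd_nsmul, ofAdd_eq_one, nsmul_eq_mul,
      ← Nat.cast_mul, ZMod.natCast_eq_zero_iff, hk i, ← pow_succ']
  have hle : ∀ i j, k j ≤ k i := by
    intro i j
    by_contra hlt
    push Not at hlt
    obtain ⟨a, ha⟩ := htr (e.symm (u j)) (e.symm (u i))
      (fun h => hu1 j (congrFun (e.symm.map_eq_one_iff.1 h) j))
      (by rw [← map_pow, hu2, map_one])
      (fun h => hu1 i (congrFun (e.symm.map_eq_one_iff.1 h) i))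
      (by rw [← map_pow, hu2, map_one])
    let v : ∀ i, Multiplicative (ZMod (n i)) :=
      Pi.mulSingle j (Multiplicative.ofAdd ((2 ^ (k j - (k i + 1)) : ℕ) : ZMod (n j)))
    have hv : v ^ 2 ^ (k i + 1) = u j := by
      rw [← Pi.mulSingle_pow, ← ofAdd_nsmul, nsmul_eq_mul, ← Nat.cast_mul, ← pow_add,
        Nat.add_sub_cancel' (by omega : k i + 1 ≤ k j)]
    have h1 : u i = e (a (e.symm v)) ^ 2 ^ (k i + 1) := by
      rw [← map_pow, ← map_pow, ← map_pow, hv, ha, MulEquiv.apply_symm_apply]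
    refine hu1 i ?_
    rw [h1, Pi.pow_apply, ← hk i]
    generalize e (a (e.symm v)) i = w
    obtain ⟨z, rfl⟩ : ∃ z, Multiplicative.ofAdd z = w := ⟨_, rfl⟩
    rw [← ofAdd_nsmul, ofAdd_eq_one, nsmul_eq_mul, ZMod.natCast_self, zero_mul]
  rcases isEmpty_or_nonempty ι with hempty | ⟨⟨i₀⟩⟩
  · refine ⟨0, 0, ⟨e.trans ?_⟩⟩
    exact { toFun := fun _ i => Fin.elim0 i, invFun := fun _ i => isEmptyElim i
            left_inv := fun x => funext fun i => isEmptyElim i
            right_inv := fun x => funext fun i => Fin.elim0 i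
            map_mul' := fun x y => funext fun i => Fin.elim0 i }
  · refine ⟨k i₀ + 1, Fintype.card ι, ⟨e.trans ?_⟩⟩
    have hne : ∀ i, n i = 2 ^ (k i₀ + 1) := fun i => by
      rw [hk i, le_antisymm (hle i₀ i) (hle i i₀)]
    let f : (∀ i, Multiplicative (ZMod (n i))) ≃* (ι → Multiplicative (ZMod (2 ^ (k i₀ + 1)))) :=
      MulEquiv.piCongrRight fun i => AddEquiv.toMultiplicative (ZMod.ringEquivCongr (hne i)).toAddEquiv
    exact f.trans
      { Equiv.arrowCongr (Fintype.equivFin ι) (Equiv.refl _) with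
        map_mul' := fun _ _ => rfl }

end Cfsg.Agent.HallHigman
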