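/-
Tools for fixed-point-free coprime elements of prime power order (helper3).

Main results (namespace `Cfsg.Agent.Gross`):
* mem_of_fixed_mod, noFixed_quotient, critical_eq, commute_of_fitting, NilMod, HeightLE
-/
import Cfsg.Agent.Lib.HallHigman.TheoremB
import Cfsg.Agent.Lib.Solvable.Fitting
import Cfsg.Agent.Lib.Cores.Fitting
import Cfsg.Agent.Lib.Coprime.Invariant

set_option autoImplicit false

namespace Cfsg.Agent.Gross

open scoped commutatorElement

universe u

variable {G : Type*} [Group G] [Finite G] {p : ℕ} [hp : Fact p.Prime]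

theorem card_zpowers_coprime {x : G} {n : ℕ} (hxn : x ^ p ^ n = 1) {N : Subgroup G}
    (hN : ¬ p ∣ Nat.card N) : (Nat.card (Subgroup.zpowers x)).Coprime (Nat.card N) := by
  rw [Nat.card_zpowers]
  exact ((hp.out.coprime_iff_not_dvd.mpr hN).pow_left n).coprime_dvd_left
    (orderOf_dvd_of_pow_eq_one hxn)

/-- Coprime lifting: an element of `K` fixed modulo `N` by a fixed-point-free `x` lies in `N`. -/
theorem mem_of_fixed_mod {x : G} {n : ℕ} (hxn : x ^ p ^ n = 1) {K N : Subgroup G} (hNK : N ≤ K)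
    (hxK : x ∈ Subgroup.normalizer (K : Set G)) (hxN : x ∈ Subgroup.normalizer (N : Set G))
    (hcop : ¬ p ∣ Nat.card K) (hfix : ∀ a ∈ K, x * a * x⁻¹ = a → a = 1) {a : G} (ha : a ∈ K)
    (hmod : a⁻¹ * x * a * x⁻¹ ∈ N) : a ∈ N := by
  let L : Subgroup G :=
    { carrier := {b | b ∈ Subgroup.normalizer (N : Set G) ∧ a⁻¹ * b * a * b⁻¹ ∈ N}
      one_mem' := ⟨one_mem _, by simp⟩
      mul_mem' := fun {b c} hb hc => ⟨mul_mem hb.1 hc.1, by
        have h1 := N.mul_mem hb.2 ((Subgroup.mem_normalizer_iff.mp hb.1 _).mp hc.2)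
        simpa [mul_assoc] using h1⟩
      inv_mem' := fun {b} hb => ⟨inv_mem hb.1, by
        have h1 := (Subgroup.mem_normalizer_iff.mp (inv_mem hb.1) _).mp (N.inv_mem hb.2)
        simpa [mul_assoc] using h1⟩ }
  have hL : Subgroup.zpowers x ≤ L := Subgroup.zpowers_le.mpr (show x ∈ L from ⟨hxN, hmod⟩)
  obtain ⟨c, hc, hcN⟩ := Coprime.exists_mem_centralizer_of_coset' (Subgroup.zpowers_le.mpr hxK)
    (card_zpowers_coprime hxn hcop) (Or.inl inferInstance) hNK (Subgroup.zpowers_le.mpr hxN)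
    (k := a) ha (fun b hb => (hL hb).2)
  have hc1 : c = 1 := hfix c hc.1 (by
    rw [Subgroup.mem_centralizer_iff.mp hc.2 x (Subgroup.mem_zpowers x), mul_inv_cancel_right])
  rw [hc1, mul_one] at hcN
  exact inv_inv a ▸ N.inv_mem hcN

/-- No fixed points in the image of `K` modulo a normal subgroup. -/
theorem noFixed_quotient {x : G} {n : ℕ} (hxn : x ^ p ^ n = 1) {K N : Subgroup G} [N.Normal]
    (hNK : N ≤ K) (hxK : x ∈ Subgroup.normalizer (K : Set G)) (hcop : ¬ p ∣ Nat.card K)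
    (hfix : ∀ a ∈ K, x * a * x⁻¹ = a → a = 1) :
    ∀ b ∈ K.map (QuotientGroup.mk' N),
      (x : G ⧸ N) * b * (x : G ⧸ N)⁻¹ = b → b = 1 := by
  rintro _ ⟨a, ha, rfl⟩ h
  refine (QuotientGroup.eq_one_iff a).mpr (mem_of_fixed_mod hxn hNK hxK
    (by rw [Subgroup.normalizer_eq_top_iff.mpr inferInstance]; exact Subgroup.mem_top x) hcop hfix ha ?_)
  have h1 : ((a : G ⧸ N))⁻¹ * ((x : G ⧸ N) * a * (x : G ⧸ N)⁻¹) = 1 := by
    rw [show (x : G ⧸ N) * a * (x : G ⧸ N)⁻¹ = (a : G ⧸ N) from h, inv_mul_cancel]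
  rw [← QuotientGroup.mk_inv, ← QuotientGroup.mk_inv, ← QuotientGroup.mk_mul,
    ← QuotientGroup.mk_mul, ← QuotientGroup.mk_mul, QuotientGroup.eq_one_iff] at h1
  simpa [mul_assoc] using h1

omit hp in
/-- The hypotheses of a critical subgroup in commutator form. -/
theorem critical_eq {Q : Subgroup G} {y : G} (hy : y ∈ Subgroup.normalizer (Q : Set G))
    (c1 : ∀ a ∈ Q, ∀ b ∈ Q, Commute y ⁅a, b⁆)
    (c3 : Q ≤ Subgroup.closure ((fun g => ⁅g, y⁆) '' (Q : Set G))) :
    ⁅Q, Subgroup.zpowers y⁆ = Q ∧ ⁅Q, Q⁆ ≤ Subgroup.centralizer ({y} : Set G) := by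
  refine ⟨le_antisymm (Coprime.commutator_le_left' (Subgroup.zpowers_le.mpr hy))
    (c3.trans ((Subgroup.closure_le _).mpr ?_)), ?_⟩
  · rintro _ ⟨g, hg, rfl⟩
    exact Subgroup.commutator_mem_commutator hg (Subgroup.mem_zpowers y)
  · rw [Subgroup.commutator_le]
    exact fun a ha b hb => Subgroup.mem_centralizer_singleton_iff.mpr (c1 a ha b hb).symm.eq

/-- A coprime element centralising the Fitting subgroup of a normal solvable subgroup centralises
that subgroup. -/
theorem commute_of_fitting {H : Subgroup G} [H.Normal] (hH : Group.IsSolvable H) {y : G} {n : ℕ}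
    (hy : y ^ p ^ n = 1) (hcop : ¬ p ∣ Nat.card H)
    (hF : ∀ q : ℕ, q.Prime → ∀ a ∈ (Cfsg.pCore q H).map H.subtype, Commute y a) :
    ∀ h ∈ H, Commute y h := by
  set F := (Cfsg.fittingSubgroup H).map H.subtype with hFdef
  have hyF : ∀ a ∈ F, Commute y a := by
    have hle : F ≤ Subgroup.centralizer ({y} : Set G) := by
      rw [hFdef, Cores.fittingSubgroup_eq_iSup_pCore, Subgroup.map_iSup]
      exact iSup_le fun q a ha => Subgroup.mem_centralizer_singleton_iff.mpr
        (hF q q.2 a ha).symm.eq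
    exact fun a ha => (Subgroup.mem_centralizer_singleton_iff.mp (hle ha)).symm
  have hFn : F.Normal := by
    have : (Cfsg.fittingSubgroup H).Characteristic := Cores.fittingSubgroup_characteristic _
    exact Cores.map_subtype_normal_of_characteristic H _
  have hCF : ∀ h ∈ H, (∀ a ∈ F, Commute h a) → h ∈ F := fun h hh hc => by
    have := hH
    have h1 : (⟨h, hh⟩ : H) ∈ Subgroup.centralizer (Cfsg.fittingSubgroup H : Set H) :=
      Subgroup.mem_centralizer_iff.mpr fun a ha => Subtype.ext (hc a ⟨a, ha, rfl⟩).symm.eq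
    exact ⟨_, Solvable.centralizer_fitting_le H h1, rfl⟩
  intro h hh
  set d := h⁻¹ * (y * h * y⁻¹) with hd
  have hdH : d ∈ H := H.mul_mem (H.inv_mem hh) ((inferInstance : H.Normal).conj_mem h hh y)
  have hdF : d ∈ F := hCF d hdH fun a ha => by
    -- `h⁻¹ y h` and `y⁻¹` centralise `F`
    have h1 : Commute (h⁻¹ * y * h) a := by
      have h2 := hyF (h * a * h⁻¹) (hFn.conj_mem a ha h)
      show h⁻¹ * y * h * a = a * (h⁻¹ * y * h)
      calc h⁻¹ * y * h * a = h⁻¹ * (y * (h * a * h⁻¹)) * h := by group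
        _ = h⁻¹ * ((h * a * h⁻¹) * y) * h := by rw [h2.eq]
        _ = _ := by group
    rw [hd, ← mul_assoc, ← mul_assoc]
    exact h1.mul_left (hyF a ha).inv_left
  have hyd : Commute y d := hyF d hdF
  have hpow : ∀ i : ℕ, y ^ i * h * (y ^ i)⁻¹ = h * d ^ i := by
    intro i
    induction i with
    | zero => simp
    | succ i ih =>
      calc y ^ (i + 1) * h * (y ^ (i + 1))⁻¹ = y * (y ^ i * h * (y ^ i)⁻¹) * y⁻¹ := by
            rw [pow_succ']; group
        _ = (y * h * y⁻¹) * (y * d ^ i * y⁻¹) := by rw [ih]; group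
        _ = h * d * d ^ i := by
            rw [(hyd.pow_right i).eq, mul_inv_cancel_right, hd]; group
        _ = _ := by rw [pow_succ', mul_assoc]
  have h1 := hpow (p ^ n)
  rw [hy, one_mul, inv_one, mul_one, left_eq_mul] at h1
  have hd1 : d = 1 := orderOf_eq_one_iff.mp (Nat.eq_one_of_dvd_coprimes
    ((hp.out.coprime_iff_not_dvd.mpr hcop).pow_left n) (orderOf_dvd_of_pow_eq_one h1)
    (Subgroup.orderOf_dvd_natCard H hdH))
  rw [hd, inv_mul_eq_one, eq_mul_inv_iff_mul_eq] at hd1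
  exact hd1.symm

/-- `M` is nilpotent modulo `N`. -/
def NilMod {H : Type*} [Group H] (M N : Subgroup H) : Prop := ∃ k : ℕ, M.lowerCentralSeries k ≤ N

/-- There is a normal series of length `m` with nilpotent factors. -/
def HeightLE (H : Type*) [Group H] (m : ℕ) : Prop :=
  ∃ F : Fin (m + 1) → Subgroup H, F 0 = ⊥ ∧ F (Fin.last m) = ⊤ ∧ Monotone F ∧
    (∀ i, (F i).Normal) ∧ ∀ i : Fin m, ∃ k : ℕ, (F i.succ).lowerCentralSeries k ≤ F i.castSucc

end Cfsg.Agent.Gross
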