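import Cfsg.Agent.Lib.HallHigman.TheoremB

/-!
An element `x` of prime order `r` normalising a `q`-group `P`, acting without fixed points on a
module of characteristic different from `q` and `r`: either `x` commutes with `P` on the module, or
`q = 2` and `r = 2 ^ m + 1` with `P` non-abelian on the module (helper38).

Main results (namespace `Cfsg.Agent.HallHigman`):
* `sq_le_mul_finrank_commutant`
* `fermat_of_sum_eq_zero`
* `fermat_of_not_commute`, `commute_of_sum_eq_zero`
-/

set_option autoImplicit false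

namespace Cfsg.Agent.HallHigman

open Module Polynomial
open scoped commutatorElement

variable {F : Type*} [Field F]

/-- An endomorphism of prime order without fixed points has a commutant of dimension at least
`d ^ 2 / (r - 1)`. -/
theorem sq_le_mul_finrank_commutant [IsAlgClosed F] {W : Type*} [AddCommGroup W] [Module F W]
    [FiniteDimensional F W] {r : ℕ} [hr : Fact r.Prime] (hrF : (r : F) ≠ 0) (T : Module.End F W)
    (hT : T ^ r = 1) (hsum : ∑ j ∈ Finset.range r, T ^ j = 0) :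
    finrank F W ^ 2 ≤ (r - 1) * finrank F ↥(intertw T T) := by
  classical
  have : NeZero (r : F) := ⟨hrF⟩
  obtain ⟨ω, hω'⟩ := IsAlgClosed.exists_root (cyclotomic r F)
    (degree_cyclotomic_pos r F hr.out.pos).ne'
  have hω : IsPrimitiveRoot ω r := isRoot_cyclotomic_iff.mp hω'
  have hω0 : ω ≠ 0 := hω.ne_zero hr.out.ne_zero
  have hgeom : ∀ a b : ℕ, a < r → b < r →
      ∑ j ∈ Finset.range r, (ω ^ a)⁻¹ ^ j * (ω ^ b) ^ j = if a = b then (r : F) else 0 := by
    intro a b ha hb
    simp_rw [← mul_pow]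
    split_ifs with h
    · subst h
      simp [inv_mul_cancel₀ (pow_ne_zero _ hω0)]
    · have hne : (ω ^ a)⁻¹ * ω ^ b ≠ 1 := by
        intro h1
        rw [inv_mul_eq_one₀ (pow_ne_zero _ hω0)] at h1
        exact h (hω.pow_inj ha hb h1)
      rw [geom_sum_eq hne]
      rw [mul_pow, inv_pow, ← pow_mul, ← pow_mul, mul_comm a, mul_comm b, pow_mul, pow_mul,
        hω.pow_eq_one]
      simp
  let π : ℕ → Module.End F W := fun a =>
    (r : F)⁻¹ • ∑ j ∈ Finset.range r, ((ω ^ a)⁻¹ ^ j) • T ^ j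
  have hπ0 : π 0 = 0 := by
    simp only [π, pow_zero, inv_one, one_pow, one_smul, hsum, smul_zero]
  have hTπ : ∀ a, T * π a = ω ^ a • π a := by
    intro a
    suffices hS : T * (∑ j ∈ Finset.range r, ((ω ^ a)⁻¹ ^ j) • T ^ j) =
        ω ^ a • ∑ j ∈ Finset.range r, ((ω ^ a)⁻¹ ^ j) • T ^ j by
      show T * ((r : F)⁻¹ • _) = ω ^ a • ((r : F)⁻¹ • _)
      rw [mul_smul_comm, hS, smul_comm (ω ^ a)]
    rw [Finset.mul_sum, Finset.smul_sum]
    set f : ℕ → Module.End F W := fun j => (ω ^ a * (ω ^ a)⁻¹ ^ j) • T ^ j with hf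
    have h1 : ∀ j, T * (((ω ^ a)⁻¹ ^ j) • T ^ j) = f (j + 1) := by
      intro j
      rw [hf, mul_smul_comm, ← pow_succ']
      simp only
      rw [pow_succ (ω ^ a)⁻¹ j, ← mul_assoc, mul_comm (ω ^ a), mul_assoc,
        mul_inv_cancel₀ (pow_ne_zero _ hω0), mul_one]
    have h2 : f r = f 0 := by
      rw [hf]
      simp only
      rw [hT, pow_zero T, inv_pow, ← pow_mul, mul_comm a, pow_mul, hω.pow_eq_one, one_pow, inv_one,
        pow_zero]
    simp_rw [h1, smul_smul]
    have h3 := Finset.sum_range_succ f r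
    rw [Finset.sum_range_succ' f r, h2, add_right_cancel_iff] at h3
    exact h3
  have hTπj : ∀ a j (w : W), (T ^ j) (π a w) = (ω ^ a) ^ j • π a w := by
    intro a j w
    induction j with
    | zero => simp
    | succ j ih =>
      rw [pow_succ, Module.End.mul_apply, ← Module.End.mul_apply T, hTπ, LinearMap.smul_apply,
        map_smul, ih, smul_smul, ← pow_succ']
  have hπ : ∀ a b, a < r → b < r → ∀ w, π a (π b w) = if a = b then π b w else 0 := by
    intro a b ha hb w
    show ((r : F)⁻¹ • ∑ j ∈ Finset.range r, ((ω ^ a)⁻¹ ^ j) • T ^ j) (π b w) = _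
    simp only [LinearMap.smul_apply, LinearMap.sum_apply, hTπj, smul_smul, ← Finset.sum_smul]
    rw [hgeom a b ha hb]
    split_ifs with h
    · rw [inv_mul_cancel₀ hrF, one_smul]
    · rw [mul_zero, zero_smul]
  have hsum1 : ∀ w, ∑ a ∈ Finset.range r, π a w = w := by
    intro w
    simp only [π, LinearMap.smul_apply, LinearMap.sum_apply]
    rw [← Finset.smul_sum, Finset.sum_comm]
    simp_rw [← Finset.sum_smul]
    rw [Finset.sum_eq_single 0]
    · simp [smul_smul, inv_mul_cancel₀ hrF]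
    · intro j hj hj0
      have hne : (ω ^ j)⁻¹ ≠ 1 := by
        rw [ne_eq, inv_eq_one]
        exact hω.pow_ne_one_of_pos_of_lt hj0 (Finset.mem_range.mp hj)
      have h0 : ∑ a ∈ Finset.range r, (ω ^ a)⁻¹ ^ j = 0 := by
        simp_rw [inv_pow, ← pow_mul, mul_comm _ j, pow_mul, ← inv_pow]
        rw [← inv_pow] at hne
        rw [geom_sum_eq hne, ← pow_mul, mul_comm, pow_mul, inv_pow ω r, hω.pow_eq_one]
        simp
      rw [h0, zero_smul]
    · intro h; exact absurd (Finset.mem_range.mpr hr.out.pos) h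
  let E : Fin (r - 1) → Submodule F W := fun i => LinearMap.range (π ((i : ℕ) + 1))
  let P : ∀ i : Fin (r - 1), W →ₗ[F] E i := fun i => (π ((i : ℕ) + 1)).rangeRestrict
  have hlt : ∀ i : Fin (r - 1), (i : ℕ) + 1 < r := fun i => by have := i.2; omega
  have hPP : ∀ (i k : Fin (r - 1)) (e : E k), (P i (e : W) : W) = if i = k then (e : W) else 0 := by
    intro i k e
    obtain ⟨w, hw⟩ := e.2
    rw [show (P i (e : W) : W) = π ((i : ℕ) + 1) (e : W) from rfl, ← hw, hπ _ _ (hlt i) (hlt k)]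
    exact if_congr (by rw [Fin.ext_iff]; omega) rfl rfl
  have hdim : finrank F W ≤ ∑ i, finrank F (E i) := by
    rw [← Module.finrank_pi_fintype]
    refine LinearMap.finrank_le_finrank_of_injective (f := LinearMap.pi P) ?_
    rw [injective_iff_map_eq_zero]
    intro w hw
    rw [← hsum1 w]
    refine Finset.sum_eq_zero fun a ha => ?_
    rcases Nat.eq_zero_or_pos a with rfl | hapos
    · rw [hπ0, LinearMap.zero_apply]
    · have hlta : a - 1 < r - 1 := by have := Finset.mem_range.mp ha; omega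
      have := congrArg Subtype.val (congrFun hw ⟨a - 1, hlta⟩)
      simpa [P, Nat.sub_add_cancel hapos] using this
  let Φ : (∀ i, E i →ₗ[F] E i) →ₗ[F] ↥(intertw T T) :=
    LinearMap.codRestrict _
      { toFun := fun f => ∑ i, (E i).subtype.comp ((f i).comp (P i))
        map_add' := fun f g => by
          simp [LinearMap.add_comp, LinearMap.comp_add, Finset.sum_add_distrib]
        map_smul' := fun c f => by
          simp [LinearMap.smul_comp, LinearMap.comp_smul, Finset.smul_sum] }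
      (fun f => by
        refine mem_intertw.mpr fun v => ?_
        simp only [LinearMap.coe_mk, AddHom.coe_mk, LinearMap.sum_apply, LinearMap.comp_apply,
          Submodule.coe_subtype, map_sum]
        refine Finset.sum_congr rfl fun i _ => ?_
        have h1 : ∀ e : E i, T (e : W) = ω ^ ((i : ℕ) + 1) • (e : W) := fun e => by
          obtain ⟨w, hw⟩ := e.2
          rw [← hw, ← Module.End.mul_apply, hTπ, LinearMap.smul_apply]
        have hcm : Commute T (π ((i : ℕ) + 1)) :=
          (Commute.sum_right _ _ _ fun j _ => ((Commute.refl T).pow_right j).smul_right _).smul_right _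
        have h2 : P i (T v) = ω ^ ((i : ℕ) + 1) • P i v := Subtype.ext (by
          show π ((i : ℕ) + 1) (T v) = ω ^ ((i : ℕ) + 1) • π ((i : ℕ) + 1) v
          rw [← Module.End.mul_apply, ← hcm.eq, hTπ, LinearMap.smul_apply])
        rw [h1, h2, map_smul, Submodule.coe_smul])
  have hΦ : Function.Injective Φ := by
    rw [injective_iff_map_eq_zero]
    intro f hf
    funext k
    refine LinearMap.ext fun e => Subtype.ext ?_
    have h := LinearMap.congr_fun (congrArg Subtype.val hf) (e : W)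
    simp only [Φ, LinearMap.codRestrict_apply, LinearMap.coe_mk, AddHom.coe_mk, LinearMap.sum_apply,
      LinearMap.comp_apply, Submodule.coe_subtype] at h
    rw [Finset.sum_eq_single k] at h
    · rw [show P k (e : W) = e from Subtype.ext ((hPP k k e).trans (if_pos rfl))] at h
      simpa using h
    · intro i _ hik
      rw [show P i (e : W) = 0 from Subtype.ext ((hPP i k e).trans (if_neg hik)), map_zero,
        Submodule.coe_zero]
    · intro h; exact absurd (Finset.mem_univ k) h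
  have hc : ∑ i, finrank F (E i) ^ 2 ≤ finrank F ↥(intertw T T) := by
    have h := LinearMap.finrank_le_finrank_of_injective hΦ
    rw [Module.finrank_pi_fintype] at h
    refine le_trans (le_of_eq (Finset.sum_congr rfl fun i _ => ?_)) h
    rw [Module.finrank_linearMap, pow_two]
  calc finrank F W ^ 2 ≤ (∑ i, finrank F (E i)) ^ 2 := Nat.pow_le_pow_left hdim 2
    _ ≤ (r - 1) * ∑ i, finrank F (E i) ^ 2 := by
        simpa using sq_sum_le_card_mul_sum_sq (s := (Finset.univ : Finset (Fin (r - 1))))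
          (f := fun i => finrank F (E i))
    _ ≤ _ := Nat.mul_le_mul_left _ hc

variable {V : Type*} [AddCommGroup V] [Module F V] [FiniteDimensional F V]

/-- The fixed-point-free case over an algebraically closed field, for a critical subgroup `Q`. -/
theorem fermat_of_sum_eq_zero [IsAlgClosed F] {G : Type*} [Group G] [Finite G]
    (ρ : G →* Module.End F V) (Q : Subgroup G) (x : G)
    (hxN : x ∈ Subgroup.normalizer (Q : Set G)) {r : ℕ} [hr : Fact r.Prime] (hxr : x ^ r = 1)
    (hrF : (r : F) ≠ 0) {q : ℕ} (hq : q.Prime) (hqr : q ≠ r) (hqF : (q : F) ≠ 0)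
    (hQ : IsPGroup q Q) (hQQ : ∀ a ∈ Q, ∀ b ∈ Q, Commute x ⁅a, b⁆)
    (hcent : ∀ c ∈ Q, Commute x c → ∀ g ∈ Q, Commute c g)
    (hgen : Q ≤ Subgroup.closure ((fun g => ⁅g, x⁆) '' (Q : Set G)))
    (hne : ∃ g ∈ Q, ρ g ≠ 1) (hsum : ∑ i ∈ Finset.range r, ρ (x ^ i) = 0) :
    q = 2 ∧ (∃ m, r = 2 ^ m + 1) ∧ ∃ a ∈ Q, ∃ b ∈ Q, ¬ Commute a b := by
  classical
  have : Fact q.Prime := ⟨hq⟩
  obtain ⟨e, he⟩ := IsPGroup.iff_card.mp hQ
  have hQF : (Nat.card Q : F) ≠ 0 := by rw [he, Nat.cast_pow]; exact pow_ne_zero _ hqF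
  obtain ⟨g₀, hg₀, hg₀'⟩ := hne
  obtain ⟨W, hW, g₁, hg₁, w₁, hw₁, hw₁'⟩ := exists_nontrivial_simple hQF hg₀ hg₀'
  have hxi : ∀ i : ℕ, x ^ i ∈ Subgroup.normalizer (Q : Set G) := fun i => pow_mem hxN i
  let U : ℕ → Submodule F V := fun i => W.map (ρ (x ^ i))
  have hUs : ∀ i, IsSimpleInv ρ Q (U i) := fun i => hW.map (hxi i)
  have hUmod : ∀ i, U (i % r) = U i := fun i => by
    simp only [U]
    conv_rhs => rw [← Nat.mod_add_div i r, pow_add, pow_mul, hxr, one_pow, mul_one]
  have hU0 : U 0 = W := by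
    simp only [U, pow_zero, map_one]
    exact Submodule.map_id W
  have hUadd : ∀ i j, (U i).map (ρ (x ^ j)) = U (j + i) := fun i j => by
    simp only [U, map_map_rho, pow_add]
  -- `W` is isomorphic to its translate
  have hiso1 : QIso ρ Q W (W.map (ρ x)) := by
    by_contra hcon
    have hS : ∀ i, 0 < i → i < r → ¬ QIso ρ Q W (U i) := by
      intro i hi hir h
      have hSmul : ∀ k, QIso ρ Q W (U (i * k)) := by
        intro k
        induction k with
        | zero => rw [Nat.mul_zero, hU0]; exact QIso.refl W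
        | succ k ih =>
          have h1 : QIso ρ Q (U (i * k)) (U (i * (k + 1))) := by
            have h2 := QIso.map (hxi (i * k)) h
            rwa [hUadd, ← Nat.mul_succ] at h2
          exact QIso.trans hW.2.1 ih h1
      obtain ⟨k, -, hk⟩ := Nat.exists_mul_mod_eq_one_of_coprime
        ((hr.out.coprime_iff_not_dvd.mpr (fun hd => by
          have := Nat.le_of_dvd hi hd; omega)).symm) hr.out.one_lt
      have h1 := hSmul k
      rw [← hUmod, hk] at h1
      exact hcon (by simpa [U] using h1)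
    have hd : ∀ i ∈ Finset.Ico 1 r, ∀ j ∈ Finset.Ico 1 r, i ≠ j → ¬ QIso ρ Q (U i) (U j) := by
      intro i hi j hj hij h
      rw [Finset.mem_Ico] at hi hj
      have h2 := QIso.map (hxi (r - i)) h
      rw [hUadd, hUadd, ← hUmod (r - i + i), ← hUmod (r - i + j),
        Nat.sub_add_cancel hi.2.le, Nat.mod_self, hU0] at h2
      rcases lt_or_gt_of_ne hij with hlt | hlt
      · refine hS (j - i) (by omega) (by omega) ?_
        rwa [show (r - i + j) % r = j - i by
          rw [show r - i + j = (j - i) + r by omega, Nat.add_mod_right,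
            Nat.mod_eq_of_lt (by omega)]] at h2
      · refine hS (r - i + j) (by omega) (by omega) ?_
        rwa [Nat.mod_eq_of_lt (by omega)] at h2
    have hbot := inf_biSup_eq_bot (Finset.Ico 1 r) U (fun i _ => hUs i) hd W hW fun i hi =>
      hS i (Finset.mem_Ico.mp hi).1 (Finset.mem_Ico.mp hi).2
    refine hW.1 ((Submodule.eq_bot_iff _).mpr fun w hw => ?_)
    have h1 : ∑ i ∈ Finset.range r, ρ (x ^ i) w = 0 := by
      rw [← LinearMap.sum_apply, hsum, LinearMap.zero_apply]
    rw [Finset.range_eq_Ico, Finset.sum_eq_sum_Ico_succ_bot hr.out.pos, pow_zero, map_one,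
      Module.End.one_apply, add_eq_zero_iff_eq_neg] at h1
    have h2 : w ∈ W ⊓ ⨆ i ∈ Finset.Ico 1 r, U i := by
      refine ⟨hw, ?_⟩
      rw [h1]
      exact Submodule.neg_mem _ (Submodule.sum_mem _ fun i hi =>
        Submodule.mem_iSup_of_mem i (Submodule.mem_iSup_of_mem (by simpa using hi) ⟨w, hw, rfl⟩))
    rwa [hbot, Submodule.mem_bot] at h2
  obtain ⟨W', hW', hiso, hzW'⟩ := exists_invariant_translate hW hxN hiso1
  -- restrict to the stabilizer
  set G₀ := stabSub ρ W'
  have hQG₀ : Q ≤ G₀ := fun g hg => hW'.2.1 g hg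
  let x₀ : G₀ := ⟨x, hzW'⟩
  set ρ' := restrictHom ρ W'
  set Q' : Subgroup G₀ := Q.subgroupOf G₀
  have hrho : ∀ (g : G₀) (w : W'), ((ρ' g w : W') : V) = ρ (g : G) w := fun g w => rfl
  have : Nontrivial W' := Submodule.nontrivial_iff_ne_bot.mpr hW'.1
  have hirr : IsIrred ρ' Q' := by
    intro U₁ hU₁
    have hinv : IsInv ρ Q (U₁.map W'.subtype) := by
      rintro g hg _ ⟨u, hu, rfl⟩
      exact ⟨ρ' ⟨g, hQG₀ hg⟩ u, hU₁ ⟨g, hQG₀ hg⟩ hg u hu, rfl⟩
    rcases hW'.2.2 _ (Submodule.map_subtype_le _ _) hinv with h | h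
    · exact Or.inl (Submodule.map_injective_of_injective W'.subtype_injective
        (by rw [h, Submodule.map_bot]))
    · refine Or.inr (Submodule.map_injective_of_injective W'.subtype_injective ?_)
      rw [h, Submodule.map_top, Submodule.range_subtype]
  have hxQ' : x₀ ∈ Subgroup.normalizer (Q' : Set G₀) := by
    rw [Subgroup.mem_normalizer_iff]
    exact fun g => Subgroup.mem_normalizer_iff.mp hxN (g : G)
  have hsc : ∀ g : G₀, g ∈ Q' → Commute x₀ g → ∃ c : F, ρ' g = c • 1 := by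
    intro g hg hcomm
    refine mem_scalar_of_commute hirr _ fun a ha => ?_
    have h1 : Commute x (g : G) := congrArg Subtype.val hcomm.eq
    have h2 : Commute g a := Subtype.ext (hcent (g : G) hg h1 (a : G) ha).eq
    exact (h2.map ρ').eq
  have hcomm : ∀ g ∈ Q', ∀ h ∈ Q', ∃ c : F, ρ' ⁅g, h⁆ = c • 1 := by
    intro g hg h hh
    refine hsc _ ?_ (Subtype.ext ?_)
    · rw [commutatorElement_def]
      exact Q'.mul_mem (Q'.mul_mem (Q'.mul_mem hg hh) (Q'.inv_mem hg)) (Q'.inv_mem hh)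
    · simp only [Subgroup.coe_mul, commutatorElement_def, Subgroup.coe_inv]
      have := (hQQ (g : G) hg (h : G) hh).eq
      rwa [commutatorElement_def] at this
  set K := scalarSubgroup ρ' Q'
  let zaut : MulAut Q' := Q'.normalizerMonoidHom ⟨x₀, hxQ'⟩
  have hza : ∀ (j : ℕ) (g : Q'), (((zaut ^ j) g : Q') : G₀) = x₀ ^ j * g * (x₀ ^ j)⁻¹ := by
    intro j
    induction j with
    | zero => intro g; simp
    | succ j ih =>
      intro g
      rw [pow_succ', MulAut.mul_apply, pow_succ']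
      show x₀ * ((zaut ^ j) g : G₀) * x₀⁻¹ = _
      rw [ih]
      simp [mul_assoc]
  have hx₀r : x₀ ^ r = 1 := Subtype.ext (by rw [SubgroupClass.coe_pow]; exact hxr)
  have hKz : ∀ (i : ℕ) (a : Q'), a ∈ K → (zaut ^ i) a ∈ K := by
    rintro i a ⟨c, hc⟩
    refine ⟨c, ?_⟩
    rw [hza, map_mul, map_mul, hc, mul_smul_comm, mul_one, smul_mul_assoc, rho_mul_inv]
  have hfree : ∀ g : Q', ∀ j, 0 < j → j < r → g⁻¹ * (zaut ^ j) g ∈ K → g ∈ K := by
    intro g j hj hjr hmem
    have hZmul : ∀ m, g⁻¹ * (zaut ^ (j * m)) g ∈ K := fun m => by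
      induction m with
      | zero => simp
      | succ m ih =>
        rw [show g⁻¹ * (zaut ^ (j * (m + 1))) g =
            (g⁻¹ * (zaut ^ (j * m)) g) * (zaut ^ (j * m)) (g⁻¹ * (zaut ^ j) g) by
          rw [map_mul, map_inv, Nat.mul_succ, pow_add, MulAut.mul_apply]; group]
        exact K.mul_mem ih (hKz _ _ hmem)
    obtain ⟨m, -, hm⟩ := Nat.exists_mul_mod_eq_one_of_coprime
      ((hr.out.coprime_iff_not_dvd.mpr (fun hd => by
        have := Nat.le_of_dvd hj hd; omega)).symm) hr.out.one_lt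
    have hy' : g⁻¹ * (zaut ^ 1) g ∈ K := by
      have h1 : g⁻¹ * (zaut ^ (j * m)) g ∈ K := hZmul m
      convert h1 using 3
      refine MulEquiv.ext fun a => Subtype.ext ?_
      rw [hza, hza]
      conv_rhs => rw [← Nat.mod_add_div (j * m) r, pow_add, pow_mul, hx₀r, one_pow, mul_one]
      rw [hm]
    -- lift to a fixed point of `x`
    let K' : Subgroup G₀ := K.map Q'.subtype
    have hcop : (Nat.card (Subgroup.zpowers x₀)).Coprime (Nat.card Q') := by
      have hcQ : Nat.card Q' = q ^ e :=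
        (Nat.card_congr (Subgroup.subgroupOfEquivOfLe hQG₀).toEquiv).trans he
      rw [Nat.card_zpowers, hcQ]
      exact (((Nat.coprime_primes hr.out hq).mpr (Ne.symm hqr)).coprime_dvd_left
        (orderOf_dvd_of_pow_eq_one hx₀r)).pow_right e
    have hAK : Subgroup.zpowers x₀ ≤ Subgroup.normalizer (Q' : Set G₀) :=
      Subgroup.zpowers_le.mpr hxQ'
    have hnorm : Subgroup.zpowers x₀ ≤ Subgroup.normalizer (K' : Set G₀) := by
      refine Subgroup.zpowers_le.mpr ?_
      rw [Subgroup.mem_normalizer_iff]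
      intro a
      constructor
      · rintro ⟨b, hb, rfl⟩
        refine ⟨(zaut ^ 1) b, hKz 1 b hb, ?_⟩
        show (((zaut ^ 1) b : Q') : G₀) = _
        rw [hza, pow_one]; rfl
      · rintro ⟨b, hb, hbe⟩
        refine ⟨(zaut ^ (r - 1)) b, hKz _ b hb, ?_⟩
        show (((zaut ^ (r - 1)) b : Q') : G₀) = _
        have hr1 : x₀ ^ (r - 1) = x₀⁻¹ := eq_inv_of_mul_eq_one_left (by
          rw [← pow_succ, Nat.sub_add_cancel hr.out.pos, hx₀r])
        rw [hza, hr1, show ((b : Q') : G₀) = x₀ * a * x₀⁻¹ from hbe]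
        simp [mul_assoc]
    obtain ⟨c, hc, hcK⟩ := Coprime.exists_mem_centralizer_of_coset' hAK hcop
      (Or.inl inferInstance) (N := K') (Subgroup.map_subtype_le _) hnorm (k := (g : G₀)) g.2 (by
        have hy1 : (g : G₀)⁻¹ * x₀ * g * x₀⁻¹ ∈ K' :=
          ⟨_, hy', by
            rw [Subgroup.coe_subtype, Subgroup.coe_mul, Subgroup.coe_inv, hza, pow_one]; group⟩
        let L : Subgroup G₀ :=
          { carrier := {a | a ∈ Subgroup.normalizer (K' : Set G₀) ∧ (g : G₀)⁻¹ * a * g * a⁻¹ ∈ K'}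
            one_mem' := ⟨one_mem _, by simp⟩
            mul_mem' := fun {a b} ha hb => ⟨mul_mem ha.1 hb.1, by
              have h1 := K'.mul_mem ha.2 ((Subgroup.mem_normalizer_iff.mp ha.1 _).mp hb.2)
              simpa [mul_assoc] using h1⟩
            inv_mem' := fun {a} ha => ⟨inv_mem ha.1, by
              have h1 := (Subgroup.mem_normalizer_iff.mp (inv_mem ha.1) _).mp (K'.inv_mem ha.2)
              simpa [mul_assoc] using h1⟩ }
        have h2 : Subgroup.zpowers x₀ ≤ L :=
          Subgroup.zpowers_le.mpr (show x₀ ∈ L from ⟨hnorm (Subgroup.mem_zpowers _), hy1⟩)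
        intro a ha
        exact (h2 ha).2)
    obtain ⟨b, hb, hbe⟩ := hcK
    have hcS : (⟨c, hc.1⟩ : Q') ∈ K :=
      hsc c hc.1 (Subgroup.mem_centralizer_iff.mp hc.2 x₀ (Subgroup.mem_zpowers _))
    rw [show g = (⟨c, hc.1⟩ : Q') * b⁻¹ from Subtype.ext (by
      rw [Subgroup.coe_mul, Subgroup.coe_inv, show ((b : Q') : G₀) = (g : G₀)⁻¹ * c from hbe]
      simp)]
    exact K.mul_mem hcS (K.inv_mem hb)
  -- `Q` does not act by scalars
  have hKne : K ≠ ⊤ := by
    intro htop
    have hall : ∀ g ∈ Q', ∃ c : F, ρ' g = c • 1 := fun g hg =>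
      mem_scalarSubgroup.mp (htop ▸ Subgroup.mem_top (⟨g, hg⟩ : Q'))
    have hfix : ∀ g ∈ Q, ∀ w ∈ W', ρ ⁅g, x⁆ w = w := by
      intro g hg w hw
      obtain ⟨c, hc⟩ := hall ⟨g, hQG₀ hg⟩ hg
      have hG : ρ' ⁅(⟨g, hQG₀ hg⟩ : G₀), x₀⁆ = 1 := by
        have hc0 : c ≠ 0 := scalar_ne_zero hc
        have hinv : ρ' (⟨g, hQG₀ hg⟩ : G₀)⁻¹ = c⁻¹ • 1 := by
          have h1 := rho_inv_mul (ρ := ρ') (⟨g, hQG₀ hg⟩ : G₀)
          rw [hc, mul_smul_comm, mul_one] at h1
          rw [← h1, smul_smul, inv_mul_cancel₀ hc0, one_smul]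
        rw [commutatorElement_def, map_mul, map_mul, map_mul, hc, hinv]
        simp [smul_mul_assoc, smul_smul, inv_mul_cancel₀ hc0, mul_inv_cancel₀ hc0, rho_mul_inv]
      have h2 : ((ρ' ⁅(⟨g, hQG₀ hg⟩ : G₀), x₀⁆ ⟨w, hw⟩ : W') : V) = w := by rw [hG]; rfl
      rw [hrho] at h2
      rwa [commutatorElement_def, Subgroup.coe_mul, Subgroup.coe_mul, Subgroup.coe_mul,
        Subgroup.coe_inv, Subgroup.coe_inv, ← commutatorElement_def] at h2
    obtain ⟨f, hf, hfr, hfe⟩ := hiso
    have hcl : Subgroup.closure ((fun g => ⁅g, x⁆) '' (Q : Set G)) ≤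
        { carrier := {a : G | ∀ w ∈ W', ρ a w = w}
          one_mem' := fun w _ => by simp
          mul_mem' := fun {a b} ha hb w hw => by rw [rho_mul_apply, hb w hw, ha w hw]
          inv_mem' := fun {a} ha w hw => by
            conv_lhs => rw [← ha w hw, rho_inv_apply] } := by
      rw [Subgroup.closure_le]
      rintro _ ⟨g, hg, rfl⟩
      exact hfix g hg
    refine hw₁' ?_
    have h1 := hcl (hgen hg₁) (f ⟨w₁, hw₁⟩) (hfr ▸ ⟨_, rfl⟩)
    rw [← hfe g₁ hg₁ ⟨w₁, hw₁⟩ ⟨ρ g₁ w₁, hW.2.1 g₁ hg₁ w₁ hw₁⟩ rfl] at h1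
    exact congrArg Subtype.val (hf h1)
  have hcard := card_quotient_scalar hirr hcomm
  have hcard2 : 2 ≤ finrank F W' := by
    by_contra hcon
    have h1 : finrank F W' = 1 := by
      have : 0 < finrank F W' := Module.finrank_pos
      omega
    rw [h1, Nat.mul_one] at hcard
    exact hKne (Subgroup.index_eq_one.mp hcard)
  have hnab : ∃ a ∈ Q, ∃ b ∈ Q, ¬ Commute a b := by
    by_contra hcon
    push Not at hcon
    refine hKne (top_le_iff.mp fun g _ => mem_scalar_of_commute hirr _ fun a ha => ?_)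
    have h2 : Commute (g : G₀) a := Subtype.ext (hcon (g : G) g.2 (a : G) ha).eq
    exact (h2.map ρ').eq
  set T : Module.End F W' := ρ' x₀
  have hTr : T ^ r = 1 := by rw [← map_pow, hx₀r, map_one]
  have hTsum : ∑ j ∈ Finset.range r, T ^ j = 0 := by
    refine LinearMap.ext fun w => Subtype.ext ?_
    have h := LinearMap.congr_fun hsum (w : V)
    simp only [LinearMap.sum_apply, Submodule.coe_sum, ← map_pow, LinearMap.zero_apply,
      Submodule.coe_zero, T, hrho, SubgroupClass.coe_pow] at h ⊢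
    exact h
  have hzr : zaut ^ r = 1 := MulEquiv.ext fun g => Subtype.ext (by
    rw [hza, hx₀r]; simp)
  have hmul := finrank_commutant_mul hirr hcomm T (ρ' x₀⁻¹) (rho_mul_inv x₀) (rho_inv_mul x₀) zaut
    (fun g => by
      rw [show ((zaut g : Q') : G₀) = x₀ * g * x₀⁻¹ from rfl, map_mul, map_mul])
    hr.out.pos hTr hzr hfree
  have hlow := sq_le_mul_finrank_commutant hrF T hTr hTsum
  set d := finrank F W' with hd
  set c := finrank F ↥(intertw T T) with hc
  obtain ⟨j, hj⟩ : ∃ j, d = q ^ j := by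
    have h1 : Nat.card (Q' ⧸ scalarSubgroup ρ' Q') ∣ q ^ e := by
      rw [← he, ← Nat.card_congr (Subgroup.subgroupOfEquivOfLe hQG₀).toEquiv]
      exact Subgroup.card_quotient_dvd_card _
    obtain ⟨j, -, hj⟩ := (Nat.dvd_prime_pow hq).mp ((Dvd.intro _ hcard.symm : d ∣ _).trans h1)
    exact ⟨j, hj⟩
  have h4 : 4 ≤ d * d := Nat.mul_le_mul hcard2 hcard2
  have hc2 : 2 ≤ c := by
    by_contra hcon
    rw [show c - 1 = 0 by omega, Nat.mul_zero] at hmul
    omega
  have hdle : d ≤ r - 1 := by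
    by_contra hcon
    have h1 : r * c = d * d + (r - 1) := by
      have : r * c = r * (c - 1) + r := by
        rw [← Nat.mul_succ, Nat.succ_eq_add_one, Nat.sub_add_cancel (by omega)]
      have := hr.out.two_le
      omega
    have h2 : d * d * r ≤ (r - 1) * (r * c) := by
      rw [mul_left_comm, mul_comm (d * d), ← pow_two]
      exact Nat.mul_le_mul_left _ hlow
    rw [h1] at h2
    obtain ⟨k, hk⟩ : ∃ k, r = k + 1 := ⟨r - 1, by have := hr.out.two_le; omega⟩
    subst hk
    simp only [Nat.add_sub_cancel] at hcon h2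
    nlinarith
  have hdvd : r ∣ (d + 1) * (d - 1) := by
    rw [← Nat.sq_sub_sq, one_pow, pow_two, ← hmul]
    exact Dvd.intro _ rfl
  have hdr : r = d + 1 := by
    rcases hr.out.dvd_mul.mp hdvd with h | h
    · exact le_antisymm (Nat.le_of_dvd (Nat.succ_pos _) h) (by have := hr.out.two_le; omega)
    · have := Nat.le_of_dvd (by omega) h
      omega
  have hq2 : q = 2 := by
    rcases hr.out.eq_two_or_odd with h2 | h2
    · omega
    · by_contra hne2
      have hodd : Odd d := hj ▸ (hq.odd_of_ne_two hne2).pow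
      rw [Nat.odd_iff] at hodd
      omega
  exact ⟨hq2, ⟨j, by rw [hdr, hj, hq2]⟩, hnab⟩

/-- An element of prime order `r` without fixed points on `V` commutes on `V` with every `q`-group it
normalises, unless `q = 2`, `r` is a Fermat prime and the `q`-group is non-abelian on `V`. -/
theorem fermat_of_not_commute {ℓ : ℕ} [CharP F ℓ] {G : Type*} [Group G] [Finite G]
    (ρ : G →* Module.End F V) (P : Subgroup G) (x : G)
    (hxN : x ∈ Subgroup.normalizer (P : Set G)) {r : ℕ} [hr : Fact r.Prime] (hxr : x ^ r = 1)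
    (hℓr : (r : F) ≠ 0) {q : ℕ} [hq : Fact q.Prime] (hqr : q ≠ r) (hℓq : (q : F) ≠ 0)
    (hP : IsPGroup q P) (hsum : ∑ i ∈ Finset.range r, ρ (x ^ i) = 0)
    (hne : ∃ g ∈ P, ¬ Commute (ρ x) (ρ g)) :
    q = 2 ∧ (∃ m, r = 2 ^ m + 1) ∧ ∃ a ∈ P, ∃ b ∈ P, ¬ Commute (ρ a) (ρ b) := by
  classical
  set π := QuotientGroup.mk' ρ.ker with hπ
  set σ := QuotientGroup.lift ρ.ker ρ le_rfl with hσ
  have hσπ : ∀ g, σ (π g) = ρ g := fun g => rfl
  have hσinj : Function.Injective σ := by
    rw [injective_iff_map_eq_one]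
    intro y hy0
    obtain ⟨y', rfl⟩ := QuotientGroup.mk'_surjective ρ.ker y
    exact (QuotientGroup.eq_one_iff y').mpr hy0
  have hxb : π x ^ (r ^ (0 + 1)) = 1 := by rw [pow_one, ← map_pow, hxr, map_one]
  have hy : π x ^ r ^ 0 = π x := by rw [pow_zero, pow_one]
  have hnorm : π x ∈ Subgroup.normalizer (P.map π : Set (G ⧸ ρ.ker)) :=
    (Subgroup.le_normalizer_map π) ⟨x, hxN, rfl⟩
  have hnc : ¬ P.map π ≤ Subgroup.centralizer ({π x ^ r ^ 0} : Set (G ⧸ ρ.ker)) := by
    rw [hy]
    intro hle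
    obtain ⟨g, hg, hg'⟩ := hne
    have h1 := Subgroup.mem_centralizer_singleton_iff.mp (hle (Subgroup.mem_map_of_mem π hg))
    apply hg'
    rw [← hσπ x, ← hσπ g]
    exact (Commute.map h1.symm σ : Commute (σ (π x)) (σ (π g)))
  obtain ⟨Q, hQP, hxQ, h1, h2, h3, hQ1⟩ :=
    exists_critical_le (π x) hxb hqr (hP.map π) hnorm hnc
  simp only [hy] at h1 h2 h3
  -- extend the scalars
  let K := AlgebraicClosure F
  let b := Module.finBasis F V
  let φ : Module.End F V →+* Module.End K (Fin (Module.finrank F V) → K) :=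
    (Matrix.toLinAlgEquiv' (R := K)).toRingEquiv.toRingHom.comp
      ((algebraMap F K).mapMatrix.comp (LinearMap.toMatrixAlgEquiv b).toRingEquiv.toRingHom)
  have hφ : Function.Injective φ :=
    (Matrix.toLinAlgEquiv' (R := K)).injective.comp
      ((Matrix.map_injective (algebraMap F K).injective).comp
        (LinearMap.toMatrixAlgEquiv b).injective)
  have hcast : ∀ n : ℕ, (n : F) ≠ 0 → (n : K) ≠ 0 := fun n hn h => hn
    ((algebraMap F K).injective (by rw [map_natCast, map_zero]; exact h))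
  obtain ⟨g, hg, hg1⟩ := (Subgroup.bot_or_exists_ne_one Q).resolve_left hQ1
  obtain ⟨h2', hm, a, ha, c, hc, hac⟩ := fermat_of_sum_eq_zero
    (φ.toMonoidHom.comp σ) Q (π x) hxQ (r := r) (by rw [← map_pow, hxr, map_one]) (hcast r hℓr)
    hq.out hqr (hcast q hℓq) ((hP.map π).to_le hQP) h1 h2 h3
    ⟨g, hg, fun h => hg1 (hσinj
      ((hφ (h.trans (map_one φ).symm)).trans (map_one σ).symm))⟩
    (by
      show ∑ i ∈ Finset.range r, φ (σ (π x ^ i)) = 0
      simp only [← map_pow, hσπ]
      rw [← map_sum, hsum, map_zero])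
  refine ⟨h2', hm, ?_⟩
  obtain ⟨a', ha', rfl⟩ := hQP ha
  obtain ⟨c', hc', rfl⟩ := hQP hc
  refine ⟨a', ha', c', hc', fun hcomm => hac (hσinj ?_)⟩
  show σ (π a' * π c') = σ (π c' * π a')
  rw [map_mul, map_mul, hσπ, hσπ]
  exact hcomm.eq

/-- For odd `q` an element of prime order without fixed points commutes with the `q`-group. -/
theorem commute_of_sum_eq_zero {ℓ : ℕ} [CharP F ℓ] {G : Type*} [Group G] [Finite G]
    (ρ : G →* Module.End F V) (P : Subgroup G) (x : G)
    (hxN : x ∈ Subgroup.normalizer (P : Set G)) {r : ℕ} [Fact r.Prime] (hxr : x ^ r = 1)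
    (hℓr : (r : F) ≠ 0) {q : ℕ} [Fact q.Prime] (hqr : q ≠ r) (hℓq : (q : F) ≠ 0) (hq2 : q ≠ 2)
    (hP : IsPGroup q P) (hsum : ∑ i ∈ Finset.range r, ρ (x ^ i) = 0) {g : G} (hg : g ∈ P) :
    Commute (ρ x) (ρ g) := by
  by_contra hne
  exact hq2 (fermat_of_not_commute (ℓ := ℓ) ρ P x hxN hxr hℓr hqr hℓq hP hsum ⟨g, hg, hne⟩).1

end Cfsg.Agent.HallHigman
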