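/-
Fixed points of an element of prime order on a module for a q-group (helper3).

Main results (namespace `Cfsg.Agent.HallHigman`):
* commutant_ge_of_order
* fixed_or_exceptional
-/
import Cfsg.Agent.Lib.HallHigman.TheoremB
import Mathlib.RingTheory.RootsOfUnity.EnoughRootsOfUnity
import Mathlib.FieldTheory.IsSepClosed
import Mathlib.Algebra.Order.Chebyshev

set_option autoImplicit false

namespace Cfsg.Agent.HallHigman

open Module
open scoped commutatorElement

variable {F : Type*} [Field F]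

/-- Without fixed vectors, an element of prime order `r` has a large commutant. -/
theorem commutant_ge_of_order [IsAlgClosed F] {W : Type*} [AddCommGroup W] [Module F W]
    [FiniteDimensional F W] (T : Module.End F W) {r : ℕ} (hr : r.Prime) (hrF : (r : F) ≠ 0)
    (hT : T ^ r = 1) (hfix : ∀ w, T w = w → w = 0) :
    finrank F W * finrank F W ≤ (r - 1) * finrank F ↥(intertw T T) := by
  classical
  have : NeZero (r : F) := ⟨hrF⟩
  have : NeZero r := ⟨hr.ne_zero⟩
  obtain ⟨ζ, hζ⟩ := HasEnoughRootsOfUnity.exists_primitiveRoot F r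
  let μ : ℕ → F := fun a => ζ ^ a
  have hμr : ∀ a, μ a ^ r = 1 := fun a => by
    rw [← pow_mul, mul_comm, pow_mul, hζ.pow_eq_one, one_pow]
  have hμ0 : ∀ a, μ a ≠ 0 := fun a h => by
    have h1 := hμr a
    rw [h, zero_pow hr.ne_zero] at h1
    exact zero_ne_one h1
  let P : ℕ → Module.End F W := fun a =>
    (r : F)⁻¹ • ∑ k ∈ Finset.range r, ((μ a)⁻¹) ^ k • T ^ k
  have hTP : ∀ a, T * P a = μ a • P a := by
    intro a
    have h1 : ∑ k ∈ Finset.range r, ((μ a)⁻¹) ^ (k + 1) • T ^ (k + 1) =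
        ∑ k ∈ Finset.range r, ((μ a)⁻¹) ^ k • T ^ k := by
      have e1 := Finset.sum_range_succ' (fun k => ((μ a)⁻¹) ^ k • T ^ k) r
      rw [Finset.sum_range_succ] at e1
      simp only [inv_pow, hμr, inv_one, hT, pow_zero, one_smul] at e1
      simpa only [inv_pow] using (add_right_cancel e1).symm
    simp only [P]
    rw [mul_smul_comm, smul_comm (μ a), Finset.mul_sum]
    conv_rhs => rw [← h1]
    rw [Finset.smul_sum (r := μ a)]
    congr 1
    refine Finset.sum_congr rfl fun k _ => ?_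
    rw [mul_smul_comm, ← pow_succ', smul_smul, pow_succ ((μ a)⁻¹), mul_comm (((μ a)⁻¹) ^ k),
      ← mul_assoc, mul_inv_cancel₀ (hμ0 a), one_mul]
  have hPT : ∀ a, P a * T = T * P a := fun a => by
    refine (Commute.smul_left (Commute.sum_left _ _ _ fun k _ => ?_) _).eq
    exact (Commute.pow_self T k).smul_left _
  have hone : ∑ a ∈ Finset.range r, P a = 1 := by
    simp only [P]
    rw [← Finset.smul_sum, Finset.sum_comm]
    simp only [← Finset.sum_smul]
    rw [Finset.sum_eq_single_of_mem 0 (Finset.mem_range.mpr hr.pos) fun k hk hk0 => ?_]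
    · simp only [pow_zero, Finset.sum_const, Finset.card_range, nsmul_one, smul_smul,
        inv_mul_cancel₀ hrF, one_smul]
    · have hne : (ζ⁻¹) ^ k ≠ 1 := by
        rw [inv_pow, Ne, inv_eq_one]
        exact hζ.pow_ne_one_of_pos_of_lt hk0 (Finset.mem_range.mp hk)
      have hs : ∑ a ∈ Finset.range r, ((μ a)⁻¹) ^ k = 0 := by
        have e : ∀ a, ((μ a)⁻¹) ^ k = ((ζ⁻¹) ^ k) ^ a := fun a => by
          simp only [μ, inv_pow, ← pow_mul, mul_comm]
        simp only [e]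
        rw [geom_sum_eq hne, ← pow_mul, mul_comm, pow_mul, inv_pow ζ r, hζ.pow_eq_one, inv_one,
          one_pow, sub_self, zero_div]
      rw [hs, zero_smul]
  have hP0 : P 0 = 0 := LinearMap.ext fun w => hfix _ (by
    rw [← Module.End.mul_apply, hTP 0]
    simp [μ])
  let E : Fin (r - 1) → Submodule F W := fun i => T.eigenspace (μ (i + 1))
  have hPE : ∀ (i : Fin (r - 1)) (w : W), P (i + 1) w ∈ E i := fun i w => by
    rw [Module.End.mem_eigenspace_iff, ← Module.End.mul_apply, hTP]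
    rfl
  have hdelta : ∀ (i j : Fin (r - 1)) (v : W), v ∈ E j →
      P (i + 1) v = if i = j then v else 0 := by
    intro i j v hv
    rw [Module.End.mem_eigenspace_iff] at hv
    have hpow : ∀ k : ℕ, (T ^ k) v = μ (j + 1) ^ k • v := by
      intro k
      induction k with
      | zero => simp
      | succ k ih => rw [pow_succ', Module.End.mul_apply, ih, map_smul, hv, smul_smul, pow_succ]
    simp only [P, LinearMap.smul_apply, LinearMap.sum_apply, hpow, smul_smul, ← mul_pow,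
      ← Finset.sum_smul]
    split
    · subst i
      rw [inv_mul_cancel₀ (hμ0 _)]
      simp [hrF]
    · have hne : (μ (i + 1))⁻¹ * μ (j + 1) ≠ 1 := by
        intro h
        rw [inv_mul_eq_one₀ (hμ0 _)] at h
        have := hζ.pow_inj (by omega) (by omega) h
        exact ‹¬i = j› (Fin.ext (by omega))
      rw [geom_sum_eq hne, mul_pow, inv_pow, hμr, hμr, inv_one, one_mul, sub_self, zero_div,
        mul_zero, zero_smul]
  -- the sum map is onto
  let S : (Π i, E i) →ₗ[F] W := ∑ i, (E i).subtype.comp (LinearMap.proj i)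
  have hS : Function.Surjective S := fun w => by
    refine ⟨fun i => ⟨P (i + 1) w, hPE i w⟩, ?_⟩
    have h1 : ∑ i : Fin (r - 1), P (i + 1) w = w := by
      have e := congrArg (fun f : Module.End F W => f w) hone
      simp only [LinearMap.sum_apply, Module.End.one_apply] at e
      refine Eq.trans ?_ e
      conv_rhs => rw [show r = r - 1 + 1 from (Nat.sub_add_cancel hr.pos).symm]
      rw [Finset.sum_range_succ', hP0, LinearMap.zero_apply, add_zero,
        ← Fin.sum_univ_eq_sum_range (fun k => P (k + 1) w)]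
    simpa [S, LinearMap.sum_apply] using h1
  have hd : finrank F W ≤ ∑ i, finrank F (E i) := by
    rw [← Module.finrank_pi_fintype F]
    rw [← finrank_top, ← LinearMap.range_eq_top.mpr hS]
    exact S.finrank_range_le
  -- the block diagonal maps commute with `T`
  let Φ₀ : (Π i, Module.End F (E i)) →ₗ[F] Module.End F W :=
    { toFun := fun f => ∑ i, (E i).subtype ∘ₗ (f i) ∘ₗ ((P (i + 1)).codRestrict (E i) (hPE i))
      map_add' := fun f g => by
        simp only [Pi.add_apply, LinearMap.add_comp, LinearMap.comp_add, Finset.sum_add_distrib]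
      map_smul' := fun c f => by
        simp only [Pi.smul_apply, LinearMap.smul_comp, LinearMap.comp_smul, RingHom.id_apply,
          Finset.smul_sum] }
  have hΦ₀ : ∀ f w, Φ₀ f w = ∑ i, ((f i ⟨P (i + 1) w, hPE i w⟩ : E i) : W) := fun f w => by
    simp [Φ₀, LinearMap.sum_apply, LinearMap.codRestrict]
  have hmem : ∀ f, Φ₀ f ∈ intertw T T := fun f => mem_intertw.mpr fun w => by
    rw [hΦ₀, hΦ₀, map_sum]
    refine Finset.sum_congr rfl fun i _ => ?_
    have h1 : (⟨P (i + 1) (T w), hPE i (T w)⟩ : E i) = μ (i + 1) • ⟨P (i + 1) w, hPE i w⟩ :=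
      Subtype.ext (by
        show P (i + 1) (T w) = μ (i + 1) • P (i + 1) w
        rw [← Module.End.mul_apply, hPT, hTP]
        rfl)
    rw [h1, map_smul, Submodule.coe_smul]
    exact Module.End.mem_eigenspace_iff.mp (f i _).2
  have hinj : Function.Injective (Φ₀.codRestrict _ hmem) := by
    rw [injective_iff_map_eq_zero]
    intro f hf
    funext j
    refine LinearMap.ext fun v => Subtype.ext ?_
    have h1 : Φ₀ f = 0 := congrArg Subtype.val hf
    have h2 := LinearMap.congr_fun h1 (v : W)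
    rw [hΦ₀, Finset.sum_eq_single j (fun i _ hij => by
      rw [show (⟨P (i + 1) (v : W), hPE i _⟩ : E i) = 0 from Subtype.ext (by
        show P (i + 1) (v : W) = 0
        rw [hdelta i j _ v.2, if_neg hij]), map_zero]
      rfl) (fun h => absurd (Finset.mem_univ j) h)] at h2
    rw [show (⟨P (j + 1) (v : W), hPE j _⟩ : E j) = v from Subtype.ext (by
      show P (j + 1) (v : W) = v
      rw [hdelta j j _ v.2, if_pos rfl])] at h2
    simpa using h2
  have hsq : ∑ i, finrank F (E i) ^ 2 ≤ finrank F ↥(intertw T T) := by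
    have h1 := LinearMap.finrank_le_finrank_of_injective hinj
    rw [Module.finrank_pi_fintype] at h1
    simpa [Module.finrank_linearMap, sq] using h1
  calc finrank F W * finrank F W ≤ (∑ i, finrank F (E i)) ^ 2 := by
        rw [sq]; exact Nat.mul_le_mul hd hd
    _ ≤ (r - 1) * ∑ i, finrank F (E i) ^ 2 := by
        simpa using sq_sum_le_card_mul_sum_sq (s := Finset.univ) (f := fun i => finrank F (E i))
    _ ≤ _ := Nat.mul_le_mul_left _ hsq

variable {V : Type*} [AddCommGroup V] [Module F V] [IsAlgClosed F] [FiniteDimensional F V]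

/-- An element of prime order acting on a critical `q`-group has a fixed vector, except in the
case `q = 2`, `r = 2^m + 1`. -/
theorem fixed_or_exceptional {G : Type*} [Group G] [Finite G] (ρ : G →* Module.End F V)
    (Q : Subgroup G) (x : G) (hxN : x ∈ Subgroup.normalizer (Q : Set G)) {r : ℕ} (hr : r.Prime)
    (hrF : (r : F) ≠ 0) (hxr : x ^ r = 1) {q : ℕ} (hq : q.Prime) (hqF : (q : F) ≠ 0)
    (hqr : q ≠ r) (hQ : IsPGroup q Q) (hQQ : ∀ a ∈ Q, ∀ b ∈ Q, Commute x ⁅a, b⁆)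
    (hcent : ∀ c ∈ Q, Commute x c → ∀ g ∈ Q, Commute c g)
    (hgen : Q ≤ Subgroup.closure ((fun g => ⁅g, x⁆) '' (Q : Set G)))
    (hne : ∃ g ∈ Q, ρ g ≠ 1) :
    (∃ v : V, v ≠ 0 ∧ ρ x v = v) ∨ (q = 2 ∧ ∃ m, 1 ≤ m ∧ r = 2 ^ m + 1 ∧
      (∃ a ∈ Q, ∃ b ∈ Q, ¬ Commute a b) ∧
      ∃ W : Submodule F V, (∃ a ∈ Q, ∃ b ∈ Q, ∃ w ∈ W, ρ ⁅a, b⁆ w ≠ w) ∧
        ∃ K₀ : Subgroup G, K₀ ≤ Q ∧ K₀.relIndex Q = 2 ^ m * 2 ^ m ∧
          (∀ c ∈ Q, (∀ g ∈ Q, Commute c g) → c ∈ K₀) ∧
          ∀ k ∈ K₀, ∀ g ∈ Q, ∀ w ∈ W, ρ ⁅k, g⁆ w = w) := by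
  classical
  have : Fact q.Prime := ⟨hq⟩
  have : Fact r.Prime := ⟨hr⟩
  obtain ⟨e, he⟩ := IsPGroup.iff_card.mp hQ
  have hQF : (Nat.card Q : F) ≠ 0 := by rw [he, Nat.cast_pow]; exact pow_ne_zero _ hqF
  obtain ⟨g₀, hg₀, hg₀'⟩ := hne
  obtain ⟨W, hW, g₁, hg₁, w₁, hw₁, hw₁'⟩ := exists_nontrivial_simple hQF hg₀ hg₀'
  have hxi : ∀ i : ℕ, x ^ i ∈ Subgroup.normalizer (Q : Set G) := fun i => pow_mem hxN i
  let U : ℕ → Submodule F V := fun i => W.map (ρ (x ^ i))
  have hUs : ∀ i, IsSimpleInv ρ Q (U i) := fun i => hW.map (hxi i)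
  have hU0 : U 0 = W := by
    simp only [U, pow_zero, map_one]
    exact Submodule.map_id W
  have hUadd : ∀ i j, (U i).map (ρ (x ^ j)) = U (j + i) := fun i j => by
    simp only [U, map_map_rho, pow_add]
  have hUmod : ∀ i, U i = U (i % r) := fun i => by
    simp only [U]
    conv_lhs => rw [← Nat.mod_add_div i r, pow_add, pow_mul, hxr, one_pow, mul_one]
  by_cases hiso : QIso ρ Q W (U 1)
  swap
  · -- the translates are independent
    left
    have hd : ∀ i ∈ Finset.range r, ∀ j ∈ Finset.range r, i ≠ j → ¬ QIso ρ Q (U i) (U j) := by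
      intro i hi j hj hij h
      rw [Finset.mem_range] at hi hj
      have h1 := QIso.map (hxi (r - i)) h
      rw [hUadd, hUadd, Nat.sub_add_cancel hi.le, hUmod r, Nat.mod_self, hU0,
        hUmod (r - i + j)] at h1
      set k := (r - i + j) % r with hk
      have hk0 : k ≠ 0 := by
        intro h0
        have hd' : r ∣ r - i + j := Nat.dvd_of_mod_eq_zero h0
        obtain ⟨c, hc⟩ := hd'
        rcases Nat.lt_or_ge c 2 with hc2 | hc2
        · interval_cases c <;> omega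
        · have := Nat.mul_le_mul_left r hc2
          omega
      have hS : ∀ n, QIso ρ Q W (U (k * n)) := by
        intro n
        induction n with
        | zero => rw [Nat.mul_zero, hU0]; exact QIso.refl W
        | succ n ih =>
          refine QIso.trans hW.2.1 h1 ?_
          have h2 := QIso.map (hxi k) ih
          rwa [hUadd, show k + k * n = k * (n + 1) by ring] at h2
      have hkr : k < r := Nat.mod_lt _ hr.pos
      have hcop : k.Coprime r := Nat.coprime_comm.mp (hr.coprime_iff_not_dvd.mpr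
        (Nat.not_dvd_of_pos_of_lt (Nat.pos_of_ne_zero hk0) hkr))
      obtain ⟨n, -, hn⟩ := Nat.exists_mul_mod_eq_gcd (show k.gcd r < r by rw [hcop.gcd_eq_one]; exact hr.one_lt)
      have h3 := hS n
      rw [hUmod, hn, hcop] at h3
      exact hiso h3
    obtain ⟨w, hw, hw0⟩ := Submodule.exists_mem_ne_zero_of_ne_bot hW.1
    refine ⟨∑ i ∈ Finset.range r, ρ (x ^ i) w, fun h => ?_, ?_⟩
    · have h0 : (0 : ℕ) ∈ Finset.range r := Finset.mem_range.mpr hr.pos
      rw [← Finset.add_sum_erase _ _ h0, add_eq_zero_iff_eq_neg] at h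
      have hi := inf_biSup_eq_bot ((Finset.range r).erase 0) U (fun i _ => hUs i)
        (fun i hi j hj => hd i (Finset.mem_of_mem_erase hi) j (Finset.mem_of_mem_erase hj))
        (U 0) (hUs 0) (fun i hi => hd 0 h0 i (Finset.mem_of_mem_erase hi)
          (Finset.ne_of_mem_erase hi).symm)
      have h1 : ρ (x ^ 0) w ∈ U 0 ⊓ ⨆ i ∈ (Finset.range r).erase 0, U i :=
        ⟨⟨w, hw, rfl⟩, h ▸ Submodule.neg_mem _ (Submodule.sum_mem _ fun i hi =>
          Submodule.mem_iSup_of_mem i (Submodule.mem_iSup_of_mem hi ⟨w, hw, rfl⟩))⟩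
      rw [hi, Submodule.mem_bot] at h1
      exact hw0 (by simpa using h1)
    · rw [map_sum]
      have e1 := Finset.sum_range_succ' (fun i => ρ (x ^ i) w) r
      rw [Finset.sum_range_succ, hxr, pow_zero] at e1
      rw [add_right_cancel e1]
      refine Finset.sum_congr rfl fun i _ => ?_
      rw [← rho_mul_apply, pow_succ']
  -- an invariant copy
  have hiso' : QIso ρ Q W (W.map (ρ x)) := by simpa [U] using hiso
  obtain ⟨W', hW', hW'iso, hxW'⟩ := exists_invariant_translate hW hxN hiso'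
  set G₀ := stabSub ρ W'
  have hQG₀ : Q ≤ G₀ := fun g hg => hW'.2.1 g hg
  let z₀ : G₀ := ⟨x, hxW'⟩
  set ρ' := restrictHom ρ W'
  set Q' : Subgroup G₀ := Q.subgroupOf G₀
  have hrho : ∀ (g : G₀) (w : W'), ((ρ' g w : W') : V) = ρ (g : G) w := fun g w => rfl
  by_cases hfix : ∃ w : W', w ≠ 0 ∧ ρ' z₀ w = w
  · obtain ⟨w, hw0, hw⟩ := hfix
    exact Or.inl ⟨w, fun h => hw0 (Subtype.ext h), congrArg Subtype.val hw⟩
  push Not at hfix
  right
  have : Nontrivial W' := Submodule.nontrivial_iff_ne_bot.mpr hW'.1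
  have hirr : IsIrred ρ' Q' := by
    intro U₁ hU₁
    have hinv : IsInv ρ Q (U₁.map W'.subtype) := by
      rintro g hg _ ⟨u, hu, rfl⟩
      exact ⟨ρ' ⟨g, hQG₀ hg⟩ u, hU₁ ⟨g, hQG₀ hg⟩ hg u hu, rfl⟩
    rcases hW'.2.2 _ (Submodule.map_subtype_le _ _) hinv with h | h
    · exact Or.inl (Submodule.map_injective_of_injective W'.subtype_injective
        (by rw [h, Submodule.map_bot]))
    · refine Or.inr (Submodule.map_injective_of_injective W'.subtype_injective ?_)
      rw [h, Submodule.map_top, Submodule.range_subtype]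
  have hsc : ∀ g : G₀, g ∈ Q' → Commute (x : G) (g : G) → ∃ c : F, ρ' g = c • 1 := by
    intro g hg h1
    refine mem_scalar_of_commute hirr _ fun a ha => ?_
    have h2 : Commute g a := Subtype.ext (hcent (g : G) hg h1 (a : G) ha).eq
    exact (h2.map ρ').eq
  have hcomm : ∀ g ∈ Q', ∀ h ∈ Q', ∃ c : F, ρ' ⁅g, h⁆ = c • 1 := by
    intro g hg h hh
    refine hsc _ ?_ ?_
    · rw [commutatorElement_def]
      exact Q'.mul_mem (Q'.mul_mem (Q'.mul_mem hg hh) (Q'.inv_mem hg)) (Q'.inv_mem hh)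
    · exact hQQ (g : G) hg (h : G) hh
  set K := scalarSubgroup ρ' Q'
  have hzN : z₀ ∈ Subgroup.normalizer (Q' : Set G₀) := by
    rw [Subgroup.mem_normalizer_iff]
    exact fun g => Subgroup.mem_normalizer_iff.mp hxN (g : G)
  let zaut : MulAut Q' := Q'.normalizerMonoidHom ⟨z₀, hzN⟩
  have hza : ∀ (j : ℕ) (g : Q'), (((zaut ^ j) g : Q') : G₀) = z₀ ^ j * g * (z₀ ^ j)⁻¹ := by
    intro j
    induction j with
    | zero => intro g; simp
    | succ j ih =>
      intro g
      rw [pow_succ', MulAut.mul_apply, pow_succ']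
      show z₀ * ((zaut ^ j) g : G₀) * z₀⁻¹ = _
      rw [ih]
      simp [mul_assoc]
  have hz₀r : z₀ ^ r = 1 := Subtype.ext hxr
  set T : Module.End F W' := ρ' z₀
  set T' : Module.End F W' := ρ' z₀⁻¹
  have hfree : ∀ g : Q', ∀ j, 0 < j → j < r → g⁻¹ * (zaut ^ j) g ∈ K → g ∈ K := by
    intro g j hj hjr hmem
    have hKz : ∀ (i : ℕ) (a : Q'), a ∈ K → (zaut ^ i) a ∈ K := by
      rintro i a ⟨c, hc⟩
      refine ⟨c, ?_⟩
      rw [hza, map_mul, map_mul, hc, mul_smul_comm, mul_one, smul_mul_assoc, rho_mul_inv]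
    let Z : Set ℕ := {i | g⁻¹ * (zaut ^ i) g ∈ K}
    have hZadd : ∀ i l, i ∈ Z → l ∈ Z → i + l ∈ Z := fun i l hi hl => by
      show g⁻¹ * (zaut ^ (i + l)) g ∈ K
      rw [show g⁻¹ * (zaut ^ (i + l)) g = (g⁻¹ * (zaut ^ i) g) * (zaut ^ i) (g⁻¹ * (zaut ^ l) g) by
        rw [map_mul, map_inv, pow_add, MulAut.mul_apply]; group]
      exact K.mul_mem hi (hKz i _ hl)
    have hZmul : ∀ m, j * m ∈ Z := fun m => by
      induction m with
      | zero => show g⁻¹ * (zaut ^ 0) g ∈ K; simp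
      | succ m ih => rw [Nat.mul_succ]; exact hZadd _ _ ih hmem
    have hcop : j.Coprime r := Nat.coprime_comm.mp (hr.coprime_iff_not_dvd.mpr
      (Nat.not_dvd_of_pos_of_lt hj hjr))
    obtain ⟨m, -, hm⟩ := Nat.exists_mul_mod_eq_gcd (show j.gcd r < r by rw [hcop.gcd_eq_one]; exact hr.one_lt)
    rw [hcop] at hm
    have h1 : g⁻¹ * (zaut ^ (j * m)) g ∈ K := hZmul m
    have hz1 : g⁻¹ * zaut g ∈ K := by
      convert h1 using 3
      refine MulEquiv.ext fun a => Subtype.ext ?_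
      rw [hza]
      conv_rhs => rw [← Nat.mod_add_div (j * m) r, hm, pow_add, pow_mul, hz₀r, one_pow, mul_one,
        pow_one]
      rfl
    let K' : Subgroup G₀ := K.map Q'.subtype
    have hcop' : (Nat.card (Subgroup.zpowers z₀)).Coprime (Nat.card Q') := by
      have hcQ : Nat.card Q' = q ^ e :=
        (Nat.card_congr (Subgroup.subgroupOfEquivOfLe hQG₀).toEquiv).trans he
      rw [Nat.card_zpowers, hcQ]
      exact (((Nat.coprime_primes hr hq).mpr hqr.symm).coprime_dvd_left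
        (orderOf_dvd_of_pow_eq_one hz₀r)).pow_right e
    have hAK : Subgroup.zpowers z₀ ≤ Subgroup.normalizer (Q' : Set G₀) :=
      Subgroup.zpowers_le.mpr hzN
    have hzK : z₀ ∈ Subgroup.normalizer (K' : Set G₀) := by
      refine Coprime.mem_normalizer_of_forall ?_
      rintro _ ⟨b, hb, rfl⟩
      exact ⟨(zaut ^ 1) b, hKz 1 b hb, by show ((((zaut ^ 1) b) : Q') : G₀) = _; rw [hza, pow_one]; rfl⟩
    have hy1 : (g : G₀)⁻¹ * z₀ * g * z₀⁻¹ ∈ K' := ⟨_, hz1, by
      rw [Subgroup.coe_subtype, Subgroup.coe_mul, Subgroup.coe_inv]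
      show (g : G₀)⁻¹ * (z₀ * g * z₀⁻¹) = _
      group⟩
    let L : Subgroup G₀ :=
      { carrier := {a | a ∈ Subgroup.normalizer (K' : Set G₀) ∧ (g : G₀)⁻¹ * a * g * a⁻¹ ∈ K'}
        one_mem' := ⟨one_mem _, by simp⟩
        mul_mem' := fun {a b} ha hb => ⟨mul_mem ha.1 hb.1, by
          have h1 := K'.mul_mem ha.2 ((Subgroup.mem_normalizer_iff.mp ha.1 _).mp hb.2)
          simpa [mul_assoc] using h1⟩
        inv_mem' := fun {a} ha => ⟨inv_mem ha.1, by
          have h1 := (Subgroup.mem_normalizer_iff.mp (inv_mem ha.1) _).mp (K'.inv_mem ha.2)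
          simpa [mul_assoc] using h1⟩ }
    have hL : Subgroup.zpowers z₀ ≤ L :=
      Subgroup.zpowers_le.mpr (show z₀ ∈ L from ⟨hzK, hy1⟩)
    obtain ⟨c, hc, b, hb, hbe⟩ := Coprime.exists_mem_centralizer_of_coset' hAK hcop'
      (Or.inl inferInstance) (N := K') (Subgroup.map_subtype_le _) (Subgroup.zpowers_le.mpr hzK)
      (k := (g : G₀)) g.2 (fun a ha => (hL ha).2)
    have hcS : (⟨c, hc.1⟩ : Q') ∈ K := hsc c hc.1 (by
      have := congrArg Subtype.val (Subgroup.mem_centralizer_iff.mp hc.2 z₀ (Subgroup.mem_zpowers _))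
      exact this)
    rw [show g = (⟨c, hc.1⟩ : Q') * b⁻¹ from Subtype.ext (by
      rw [Subgroup.coe_mul, Subgroup.coe_inv, show ((b : Q') : G₀) = (g : G₀)⁻¹ * c from hbe]
      simp)]
    exact K.mul_mem hcS (K.inv_mem hb)
  have h0 := finrank_commutant_mul hirr hcomm T T' (rho_mul_inv z₀) (rho_inv_mul z₀) zaut
    (fun g => by
      rw [show ((zaut g : Q') : G₀) = z₀ * g * z₀⁻¹ from rfl, map_mul, map_mul])
    hr.pos (by rw [← map_pow, hz₀r, map_one])
    (MulEquiv.ext fun a => Subtype.ext (by rw [hza, hz₀r]; simp)) hfree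
  have hge := commutant_ge_of_order T hr hrF (by rw [← map_pow, hz₀r, map_one])
    (fun w hw => by by_contra hw0; exact hfix w hw0 hw)
  have hcard := card_quotient_scalar hirr hcomm
  -- `d ≠ 1`
  have hnt : ∃ a ∈ Q, ∃ b ∈ Q, ∃ w ∈ W', ρ ⁅a, b⁆ w ≠ w := by
    by_contra hcon
    push Not at hcon
    -- `Q` would act by scalars, hence trivially
    have hall : ∀ g : G₀, g ∈ Q' → ∃ c : F, ρ' g = c • 1 := fun g hg => by
      refine mem_scalar_of_commute hirr _ fun a ha => ?_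
      have h1 : ρ' ⁅g, a⁆ = 1 := LinearMap.ext fun w =>
        Subtype.ext (hcon (g : G) hg (a : G) ha w w.2)
      rw [commute_iff_eq, ← map_mul, ← map_mul]
      rw [show g * a = ⁅g, a⁆ * (a * g) by rw [commutatorElement_def]; group, map_mul, h1, one_mul]
    obtain ⟨f, hf, hfr, hfe⟩ := hW'iso
    have hcl : Subgroup.closure ((fun g => ⁅g, x⁆) '' (Q : Set G)) ≤
        { carrier := {a : G | ∀ w ∈ W', ρ a w = w}
          one_mem' := fun w _ => by simp
          mul_mem' := fun {a b} ha hb w hw => by rw [rho_mul_apply, hb w hw, ha w hw]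
          inv_mem' := fun {a} ha w hw => by
            conv_lhs => rw [← ha w hw, rho_inv_apply] } := by
      rw [Subgroup.closure_le]
      rintro _ ⟨g, hg, rfl⟩ w hw
      obtain ⟨c, hc⟩ := hall ⟨g, hQG₀ hg⟩ hg
      have hc0 : c ≠ 0 := scalar_ne_zero hc
      have hinv : ρ' (⟨g, hQG₀ hg⟩ : G₀)⁻¹ = c⁻¹ • 1 := by
        have h1 := rho_inv_mul (ρ := ρ') (⟨g, hQG₀ hg⟩ : G₀)
        rw [hc, mul_smul_comm, mul_one] at h1
        rw [← h1, smul_smul, inv_mul_cancel₀ hc0, one_smul]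
      have hG : ρ' ⁅(⟨g, hQG₀ hg⟩ : G₀), z₀⁆ = 1 := by
        rw [commutatorElement_def, map_mul, map_mul, map_mul, hc, hinv]
        simp [smul_smul, inv_mul_cancel₀ hc0, rho_mul_inv]
      have h2 : ((ρ' ⁅(⟨g, hQG₀ hg⟩ : G₀), z₀⁆ ⟨w, hw⟩ : W') : V) = w := by rw [hG]; rfl
      rw [hrho] at h2
      exact h2
    refine hw₁' ?_
    have h1 := hcl (hgen hg₁) (f ⟨w₁, hw₁⟩) (hfr ▸ ⟨_, rfl⟩)
    rw [← hfe g₁ hg₁ ⟨w₁, hw₁⟩ ⟨ρ g₁ w₁, hW.2.1 g₁ hg₁ w₁ hw₁⟩ rfl] at h1
    exact congrArg Subtype.val (hf h1)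
  have hd2 : 2 ≤ finrank F W' := by
    by_contra hcon
    have h1 : finrank F W' = 1 := by
      have : 0 < finrank F W' := Module.finrank_pos
      omega
    rw [h1, Nat.mul_one] at hcard
    have hKtop : K = ⊤ := Subgroup.index_eq_one.mp hcard
    obtain ⟨a, ha, b, hb, w, hw, hne⟩ := hnt
    obtain ⟨c, hc⟩ : ∃ c : F, ρ' ⟨a, hQG₀ ha⟩ = c • 1 :=
      mem_scalarSubgroup.mp (hKtop ▸ Subgroup.mem_top (⟨⟨a, hQG₀ ha⟩, ha⟩ : Q'))
    refine hne ?_
    have h2 : ρ' (⟨a, hQG₀ ha⟩ * ⟨b, hQG₀ hb⟩) = ρ' (⟨b, hQG₀ hb⟩ * ⟨a, hQG₀ ha⟩) := by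
      rw [map_mul, map_mul, hc, smul_mul_assoc, one_mul, mul_smul_comm, mul_one]
    have h3 : ρ' ⁅(⟨a, hQG₀ ha⟩ : G₀), ⟨b, hQG₀ hb⟩⁆ = 1 := by
      rw [show ⁅(⟨a, hQG₀ ha⟩ : G₀), (⟨b, hQG₀ hb⟩ : G₀)⁆ =
        (⟨a, hQG₀ ha⟩ * ⟨b, hQG₀ hb⟩) * (⟨b, hQG₀ hb⟩ * ⟨a, hQG₀ ha⟩)⁻¹ by
          rw [commutatorElement_def]; group, map_mul, h2, ← map_mul, mul_inv_cancel, map_one]
    exact congrArg Subtype.val (LinearMap.congr_fun h3 ⟨w, hw⟩)
  set d := finrank F W'
  have hC1 : 1 ≤ finrank F ↥(intertw T T) := by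
    refine Nat.one_le_iff_ne_zero.mpr fun h => ?_
    rw [h, mul_zero] at hge
    have := Nat.mul_le_mul hd2 hd2
    omega
  obtain ⟨c, hc⟩ : ∃ c, finrank F ↥(intertw T T) = c + 1 := ⟨_, (Nat.succ_pred_eq_of_pos hC1).symm⟩
  rw [hc, Nat.add_sub_cancel] at h0
  rw [hc] at hge
  have h4 : 4 ≤ d * d := Nat.mul_le_mul hd2 hd2
  obtain ⟨s, hs⟩ : ∃ s, r = s + 2 := ⟨r - 2, by have := hr.two_le; omega⟩
  have hdd : d * d = r * c + 1 := by omega
  have hcs : c ≤ s := by
    rw [hs, show s + 2 - 1 = s + 1 by omega, hdd] at hge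
    have e : (s + 1) * (c + 1) = s * c + s + c + 1 := by ring
    have e' : r * c = s * c + 2 * c := by rw [hs]; ring
    omega
  have hdr : d ≤ r - 1 := by
    by_contra hcon
    have h5 : r * r ≤ d * d := Nat.mul_le_mul (by omega) (by omega)
    have h6 : r * c ≤ r * s := Nat.mul_le_mul_left r hcs
    have e' : r * r = r * s + 2 * r := by rw [hs]; ring
    omega
  have hdvd : r ∣ (d - 1) * (d + 1) := by
    refine ⟨c, ?_⟩
    rw [mul_comm (d - 1), ← Nat.mul_self_sub_mul_self_eq, hdd]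
    simp
  have hd : d + 1 = r := by
    rcases hr.dvd_mul.mp hdvd with h | h
    · have := Nat.le_of_dvd (by omega) h; omega
    · have := Nat.le_of_dvd (by omega) h; omega
  obtain ⟨m, -, hm⟩ : ∃ m ≤ e, d = q ^ m := by
    refine (Nat.dvd_prime_pow hq).mp ?_
    have h1 : Nat.card (Q' ⧸ K) ∣ Nat.card Q' := Subgroup.index_dvd_card K
    rw [hcard, (Nat.card_congr (Subgroup.subgroupOfEquivOfLe hQG₀).toEquiv).trans he] at h1
    exact (Dvd.intro _ rfl).trans h1
  have hm1 : 1 ≤ m := by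
    refine Nat.one_le_iff_ne_zero.mpr fun h => ?_
    rw [h, pow_zero] at hm
    omega
  have hq2 : q = 2 := by
    have hodd : Odd r := hr.odd_of_ne_two (by omega)
    have he2 : Even d := by
      rw [← hd] at hodd
      exact Nat.not_odd_iff_even.mp fun h => Nat.not_even_iff_odd.mpr hodd (h.add_one)
    rw [hm] at he2
    exact (hq.even_iff).mp (Nat.even_pow.mp he2).1
  subst hq2
  refine ⟨rfl, m, hm1, by omega, ?_, W', hnt, (K.map Q'.subtype).map G₀.subtype, ?_, ?_, ?_, ?_⟩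
  · obtain ⟨a, ha, b, hb, w, -, hne⟩ := hnt
    refine ⟨a, ha, b, hb, fun hab => hne ?_⟩
    rw [commutatorElement_eq_one_iff_commute.mpr hab]
    simp
  · rintro _ ⟨g, ⟨g', hg', rfl⟩, rfl⟩
    exact g'.2
  · conv_lhs => rw [← Subgroup.map_subgroupOf_eq_of_le hQG₀]
    rw [Subgroup.relIndex_map_map_of_injective _ _ G₀.subtype_injective, Subgroup.relIndex]
    show ((K.map Q'.subtype).comap Q'.subtype).index = _
    rw [Subgroup.comap_map_eq_self_of_injective Q'.subtype_injective, Subgroup.index, hcard, hm]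
  · intro a ha hac
    refine ⟨⟨a, hQG₀ ha⟩, ⟨⟨⟨a, hQG₀ ha⟩, ha⟩, mem_scalar_of_commute hirr _ fun b hb => ?_, rfl⟩, rfl⟩
    have h2 : Commute (⟨a, hQG₀ ha⟩ : G₀) b := Subtype.ext (hac (b : G) hb).eq
    exact (h2.map ρ').eq
  · rintro _ ⟨g, ⟨g', ⟨a, hga⟩, rfl⟩, rfl⟩ b hb w hw
    let b₀ : G₀ := ⟨b, hQG₀ hb⟩
    have h2 : ρ' ((g' : G₀) * b₀) = ρ' (b₀ * g') := by
      rw [map_mul, map_mul, hga, smul_mul_assoc, one_mul, mul_smul_comm, mul_one]
    have h3 : ρ' ⁅(g' : G₀), b₀⁆ = 1 := by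
      rw [show ⁅(g' : G₀), b₀⁆ = ((g' : G₀) * b₀) * (b₀ * g')⁻¹ by
        rw [commutatorElement_def]; group, map_mul, h2, ← map_mul, mul_inv_cancel, map_one]
    exact congrArg Subtype.val (LinearMap.congr_fun h3 ⟨w, hw⟩)

end Cfsg.Agent.HallHigman
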