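/-
Fixed points of an element of prime order on an elementary abelian normalised subgroup (helper3).

Main results (namespace `Cfsg.Agent.HallHigman`):
* exists_module_of_normalized
* fixed_or_exceptional_group
-/
import Cfsg.Agent.Lib.HallHigman.FixedPoint
import Cfsg.Agent.Lib.HallHigman.FrattiniModule

set_option autoImplicit false

namespace Cfsg.Agent.HallHigman

open scoped commutatorElement

universe u

/-- The module of an elementary abelian subgroup for its normalizer. -/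
theorem exists_module_of_normalized {G : Type u} [Group G] [Finite G] {p : ℕ} (V : Subgroup G)
    (hV : Cfsg.IsElementaryAbelian p V) :
    ∃ (W : Type u) (_ : AddCommGroup W) (_ : Module (ZMod p) W) (_ : Finite W)
      (π : V → W) (ρ : Subgroup.normalizer (V : Set G) →* Module.End (ZMod p) W),
      Function.Bijective π ∧ π 1 = 0 ∧ ∀ (g : Subgroup.normalizer (V : Set G)) (v : V),
        ρ g (π v) = π ⟨g * v * (g : G)⁻¹, (Subgroup.mem_normalizer_iff.mp g.2 v).mp v.2⟩ := by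
  let inst : CommGroup V :=
    { (inferInstance : Group V) with mul_comm := fun a b => hV.1.is_comm.comm a b }
  obtain ⟨instM, σ, hσ⟩ := exists_linear_rep (p := p) (Q := V)
    (fun x => Subtype.ext (hV.2 x x.2)) V.normalizerMonoidHom
  exact ⟨Additive V, inferInstance, instM, inferInstance, Additive.ofMul, σ,
    Additive.ofMul.bijective, rfl, fun g v => hσ g v⟩

/-- A critical `q`-group and an element `x` of prime order `r` on an elementary abelian `p`-group. -/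
theorem fixed_or_exceptional_group {G : Type u} [Group G] [Finite G] {p q r : ℕ} (hp : p.Prime)
    (hq : q.Prime) (hr : r.Prime) (hpq : p ≠ q) (hpr : p ≠ r) (hqr : q ≠ r) {V Q : Subgroup G}
    {x : G} (hV : Cfsg.IsElementaryAbelian p V) (hxV : x ∈ Subgroup.normalizer (V : Set G))
    (hQV : Q ≤ Subgroup.normalizer (V : Set G)) (hxQ : x ∈ Subgroup.normalizer (Q : Set G))
    (hxr : x ^ r = 1) (hQ : IsPGroup q Q) (hQQ : ∀ a ∈ Q, ∀ b ∈ Q, Commute x ⁅a, b⁆)
    (hcent : ∀ c ∈ Q, Commute x c → ∀ g ∈ Q, Commute c g)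
    (hgen : Q ≤ Subgroup.closure ((fun g => ⁅g, x⁆) '' (Q : Set G)))
    (hne : ¬ Q ≤ Subgroup.centralizer (V : Set G)) :
    V ⊓ Subgroup.centralizer ({x} : Set G) ≠ ⊥ ∨ (q = 2 ∧ ∃ m, 1 ≤ m ∧ r = 2 ^ m + 1 ∧
      (∃ a ∈ Q, ∃ b ∈ Q, ¬ Commute a b) ∧
      ∃ N : Subgroup G, (∃ a ∈ Q, ∃ b ∈ Q, ⁅a, b⁆ ∉ N) ∧
        ∃ K₀ : Subgroup G, K₀ ≤ Q ∧ K₀.relIndex Q = 2 ^ m * 2 ^ m ∧
          (∀ c ∈ Q, (∀ g ∈ Q, Commute c g) → c ∈ K₀) ∧ ∀ k ∈ K₀, ∀ g ∈ Q, ⁅k, g⁆ ∈ N) := by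
  classical
  have : Fact p.Prime := ⟨hp⟩
  by_cases hfix : V ⊓ Subgroup.centralizer ({x} : Set G) ≠ ⊥
  · exact Or.inl hfix
  push Not at hfix
  obtain ⟨W, _, _, _, π, ρ, hπ, hπ1, hρ⟩ := exists_module_of_normalized V hV
  have : FiniteDimensional (ZMod p) W := Module.Finite.of_finite
  obtain ⟨F, _, _, _, d, σ, hσ, hσr, hσfix⟩ := exists_algClosed_rep (p := p) ρ
  let H : Subgroup G := Subgroup.normalizer (V : Set G)
  let x' : H := ⟨x, hxV⟩
  set Q' : Subgroup H := Q.subgroupOf H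
  have hxQ' : x' ∈ Subgroup.normalizer (Q' : Set H) := by
    rw [Subgroup.mem_normalizer_iff]
    exact fun g => Subgroup.mem_normalizer_iff.mp hxQ (g : G)
  have hcharF : ∀ {l : ℕ}, l.Prime → p ≠ l → (l : F) ≠ 0 := fun hl hne h =>
    hne ((Nat.prime_dvd_prime_iff_eq hp hl).mp ((CharP.cast_eq_zero_iff F p _).mp h))
  have hgen' : Q' ≤ Subgroup.closure ((fun g => ⁅g, x'⁆) '' (Q' : Set H)) := by
    rw [← Subgroup.map_le_map_iff_of_injective H.subtype_injective,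
      Subgroup.map_subgroupOf_eq_of_le hQV, MonoidHom.map_closure, Set.image_image]
    refine hgen.trans (Subgroup.closure_mono ?_)
    rintro _ ⟨g, hg, rfl⟩
    exact ⟨⟨g, hQV hg⟩, hg, rfl⟩
  have hne' : ∃ g ∈ Q', σ g ≠ 1 := by
    by_contra hcon
    push Not at hcon
    refine hne fun g hg => Subgroup.mem_centralizer_iff.mpr fun v hv => ?_
    have h1 := hρ ⟨g, hQV hg⟩ ⟨v, hv⟩
    rw [hσ _ (hcon ⟨g, hQV hg⟩ hg), Module.End.one_apply] at h1
    have h2 : v = g * v * g⁻¹ := congrArg Subtype.val (hπ.1 h1)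
    conv_lhs => rw [h2]
    group
  rcases fixed_or_exceptional σ Q' x' hxQ' hr (hcharF hr hpr) (Subtype.ext hxr) hq (hcharF hq hpq)
    hqr hQ.comap_subtype (fun a ha b hb => Subtype.ext (hQQ (a : G) ha (b : G) hb).eq)
    (fun c hc h g hg => Subtype.ext (hcent (c : G) hc (congrArg Subtype.val h.eq) (g : G) hg).eq)
    hgen' hne' with ⟨v, hv0, hv⟩ | ⟨hq2, m, hm, hrm, ⟨a, ha, b, hb, hab⟩, U, hU, K₀, h1, h2, h3, h4⟩
  · exfalso
    refine hv0 (hσfix x' (fun w hw => ?_) v hv)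
    obtain ⟨u, rfl⟩ := hπ.2 w
    rw [hρ] at hw
    have h2 : x * u * x⁻¹ = u := congrArg Subtype.val (hπ.1 hw)
    have h3 : (u : G) ∈ V ⊓ Subgroup.centralizer ({x} : Set G) :=
      ⟨u.2, Subgroup.mem_centralizer_singleton_iff.mpr (mul_inv_eq_iff_eq_mul.mp h2).symm⟩
    rw [hfix, Subgroup.mem_bot] at h3
    rw [show u = 1 from Subtype.ext h3, hπ1]
  right
  refine ⟨hq2, m, hm, hrm, ⟨a, ha, b, hb, fun h => hab (Subtype.ext h.eq)⟩, ?_⟩
  let N' : Subgroup H :=
    { carrier := {g | ∀ w ∈ U, σ g w = w}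
      one_mem' := fun w _ => by simp
      mul_mem' := fun {a b} ha hb w hw => by rw [rho_mul_apply, hb w hw, ha w hw]
      inv_mem' := fun {a} ha w hw => by conv_lhs => rw [← ha w hw, rho_inv_apply] }
  refine ⟨N'.map H.subtype, ?_, K₀.map H.subtype, ?_, ?_, ?_, ?_⟩
  · obtain ⟨a, ha, b, hb, w, hw, hne⟩ := hU
    refine ⟨a, ha, b, hb, ?_⟩
    rintro ⟨g, hg, hge⟩
    rw [show ⁅a, b⁆ = g from Subtype.ext hge.symm] at hne
    exact hne (hg w hw)
  · exact (Subgroup.map_mono h1).trans (Subgroup.map_subgroupOf_eq_of_le hQV).le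
  · conv_lhs => rw [← Subgroup.map_subgroupOf_eq_of_le hQV]
    rw [Subgroup.relIndex_map_map_of_injective _ _ H.subtype_injective]
    exact h2
  · intro c hc hcc
    exact ⟨⟨c, hQV hc⟩, h3 _ hc (fun g hg => Subtype.ext (hcc (g : G) hg).eq), rfl⟩
  · rintro _ ⟨k, hk, rfl⟩ g hg
    exact ⟨⁅k, ⟨g, hQV hg⟩⁆, fun w hw => h4 k hk ⟨g, hQV hg⟩ hg w hw, rfl⟩

end Cfsg.Agent.HallHigman

namespace Cfsg.Agent.HallHigman

theorem centralizer_zpowers_eq {G : Type*} [Group G] (x : G) :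
    Subgroup.centralizer ((Subgroup.zpowers x : Subgroup G) : Set G) =
      Subgroup.centralizer ({x} : Set G) := by
  rw [Subgroup.zpowers_eq_closure, Subgroup.centralizer_closure]

theorem exists_zpowers_of_card_prime {G : Type*} [Group G] {r : ℕ} (hr : r.Prime) {X : Subgroup G}
    (hX : Nat.card X = r) : ∃ x : G, Subgroup.zpowers x = X ∧ x ^ r = 1 ∧ x ≠ 1 := by
  have : Fact r.Prime := ⟨hr⟩
  have : Finite X := Nat.finite_of_card_ne_zero (hX ▸ hr.ne_zero)
  obtain ⟨x, hx⟩ := exists_prime_orderOf_dvd_card' (G := X) r (by rw [hX])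
  have hxo : orderOf (x : G) = r := (Subgroup.orderOf_coe x).trans hx
  refine ⟨x, Subgroup.eq_of_le_of_card_ge (Subgroup.zpowers_le.mpr x.2)
    (by rw [hX, Nat.card_zpowers, hxo]), hxo ▸ pow_orderOf_eq_one (x : G), fun h => ?_⟩
  rw [h, orderOf_one] at hxo
  exact hr.one_lt.ne hxo

end Cfsg.Agent.HallHigman
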