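import Cfsg.Agent.Lib.HallHigman.PrimeOrder
import Cfsg.Agent.Lib.HallHigman.FixedPointGroup
import Cfsg.Agent.Lib.Coprime.Generation

/-!
BG 3.3/3.4 in subgroup form: `commutator_le_centralizer_of_fpf` (one odd `q`-group) and
`le_commGroup_of_fpf` / `commutator_le_centralizer_of_fpf_coprime` (a solvable group of odd order
with a coprime element of prime order) (helper38).
-/

set_option autoImplicit false

namespace Cfsg.Agent.HallHigman

open scoped commutatorElement

variable {G : Type*} [Group G] [Finite G]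

/-- An element of prime order fixed-point-free on `V` centralises modulo `C(V)` every odd
`q`-group it normalises. -/
theorem commutator_le_centralizer_of_fpf {p q r : ℕ} (hp : p.Prime) [hq : Fact q.Prime]
    [hr : Fact r.Prime] (hpq : p ≠ q) (hpr : p ≠ r) (hqr : q ≠ r) (hq2 : q ≠ 2) {X P V : Subgroup G}
    (hX : Nat.card X = r) (hP : IsPGroup q P) (hV : Cfsg.IsElementaryAbelian p V)
    (hXV : X ≤ Subgroup.normalizer (V : Set G)) (hPV : P ≤ Subgroup.normalizer (V : Set G))
    (hXP : X ≤ Subgroup.normalizer (P : Set G))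
    (hfix : V ⊓ Subgroup.centralizer (X : Set G) = ⊥) :
    ⁅X, P⁆ ≤ Subgroup.centralizer (V : Set G) := by
  classical
  have : Fact p.Prime := ⟨hp⟩
  obtain ⟨W, _, _, _, π, ρ, hπ, hπ1, hρ⟩ := exists_module_of_normalized V hV
  have : FiniteDimensional (ZMod p) W := Module.Finite.of_finite
  have hcast : ∀ {l : ℕ}, l.Prime → p ≠ l → ((l : ℕ) : ZMod p) ≠ 0 := fun hl hne h =>
    hne ((Nat.prime_dvd_prime_iff_eq hp hl).mp ((CharP.cast_eq_zero_iff (ZMod p) p _).mp h))
  rw [Subgroup.commutator_le]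
  intro a ha b hb
  by_cases ha1 : a = 1
  · subst ha1; simp [commutatorElement_def]
  have hao : orderOf a = r := by
    refine orderOf_eq_prime ?_ ha1
    have h1 : (⟨a, ha⟩ : X) ^ r = 1 := hX ▸ pow_card_eq_one'
    exact congrArg Subtype.val h1
  have hza : Subgroup.zpowers a = X := Subgroup.eq_of_le_of_card_ge (Subgroup.zpowers_le.mpr ha)
    (by rw [hX, Nat.card_zpowers, hao])
  let H : Subgroup G := Subgroup.normalizer (V : Set G)
  let a' : H := ⟨a, hXV ha⟩
  have hzero : π 1 = 0 := hπ1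
  have haP : a' ∈ Subgroup.normalizer ((P.subgroupOf H : Subgroup H) : Set H) := by
    rw [Subgroup.mem_normalizer_iff]
    exact fun g => Subgroup.mem_normalizer_iff.mp (hXP ha) (g : G)
  have har : a' ^ r = 1 := Subtype.ext (by
    rw [SubgroupClass.coe_pow, ← hao]; exact pow_orderOf_eq_one a)
  have hsum : ∑ i ∈ Finset.range r, ρ (a' ^ i) = 0 := by
    refine LinearMap.ext fun w => ?_
    rw [LinearMap.sum_apply, LinearMap.zero_apply]
    obtain ⟨u, hu⟩ := hπ.2 (∑ i ∈ Finset.range r, ρ (a' ^ i) w)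
    have hfixu : ρ a' (π u) = π u := by
      rw [hu, map_sum]
      have hstep : ∀ i, ρ a' (ρ (a' ^ i) w) = ρ (a' ^ (i + 1)) w := fun i => by
        rw [pow_succ', map_mul, Module.End.mul_apply]
      simp_rw [hstep]
      have h3 := Finset.sum_range_succ (fun i => ρ (a' ^ i) w) r
      rw [Finset.sum_range_succ' (fun i => ρ (a' ^ i) w) r, har, pow_zero,
        add_right_cancel_iff] at h3
      exact h3
    rw [hρ] at hfixu
    have h2 : a * u * a⁻¹ = u := congrArg Subtype.val (hπ.1 hfixu)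
    have h3 : (u : G) ∈ V ⊓ Subgroup.centralizer (X : Set G) := by
      refine ⟨u.2, ?_⟩
      rw [← hza, centralizer_zpowers_eq]
      exact Subgroup.mem_centralizer_singleton_iff.mpr (mul_inv_eq_iff_eq_mul.mp h2).symm
    rw [hfix, Subgroup.mem_bot] at h3
    rw [← hu, show u = 1 from Subtype.ext h3, hπ1]
  have hc := commute_of_sum_eq_zero (ℓ := p) ρ (P.subgroupOf H) a' haP har (hcast hr.out hpr) hqr
    (hcast hq.out hpq) hq2 hP.comap_subtype hsum (g := (⟨b, hPV hb⟩ : H)) hb
  have h1 : ρ ⁅a', (⟨b, hPV hb⟩ : H)⁆ = 1 := by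
    rw [commutatorElement_def, map_mul, map_mul, map_mul, hc.eq]
    rw [mul_assoc (ρ (⟨b, hPV hb⟩ : H)), ← map_mul, mul_inv_cancel, map_one, mul_one, ← map_mul,
      mul_inv_cancel, map_one]
  refine Subgroup.mem_centralizer_iff.mpr fun v hv => ?_
  have h2 := hρ ⁅a', (⟨b, hPV hb⟩ : H)⁆ ⟨v, hv⟩
  rw [h1, Module.End.one_apply] at h2
  have h4 := congrArg Subtype.val (hπ.1 h2)
  simp only [commutatorElement_def, Subgroup.coe_mul, Subgroup.coe_inv, a'] at h4
  rw [commutatorElement_def]
  conv_lhs => rw [h4]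
  group

omit [Finite G] in
/-- The elements of `N` whose commutators with `X` lie in `C`. -/
def commGroup (X N C : Subgroup G) (hC : N ≤ Subgroup.normalizer (C : Set G)) : Subgroup G where
  carrier := {k | k ∈ N ∧ ∀ x ∈ X, ⁅x, k⁆ ∈ C}
  one_mem' := ⟨one_mem _, fun x _ => by simp [commutatorElement_def]⟩
  mul_mem' := fun {a b} ha hb => ⟨mul_mem ha.1 hb.1, fun x hx => by
    have h1 := mul_mem (ha.2 x hx)
      ((Subgroup.mem_normalizer_iff.mp (hC ha.1) _).mp (hb.2 x hx))
    convert h1 using 1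
    simp [commutatorElement_def, mul_assoc]⟩
  inv_mem' := fun {a} ha => ⟨inv_mem ha.1, fun x hx => by
    have h1 := (Subgroup.mem_normalizer_iff.mp (hC (inv_mem ha.1)) _).mp (inv_mem (ha.2 x hx))
    convert h1 using 1
    simp [commutatorElement_def, mul_assoc]⟩

/-- BG 3.4: a solvable group of odd order normalised by an element of prime order that is
fixed-point-free on `V`. -/
theorem commutator_le_centralizer_of_fpf_coprime {p r : ℕ} (hp : p.Prime) [hr : Fact r.Prime]
    (hpr : p ≠ r) {X K V : Subgroup G} (hX : Nat.card X = r) (hK : Group.IsSolvable K)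
    (hodd : Odd (Nat.card K)) (hrK : ¬ r ∣ Nat.card K) (hpK : ¬ p ∣ Nat.card K)
    (hV : Cfsg.IsElementaryAbelian p V)
    (hXV : X ≤ Subgroup.normalizer (V : Set G)) (hKV : K ≤ Subgroup.normalizer (V : Set G))
    (hXK : X ≤ Subgroup.normalizer (K : Set G))
    (hfix : V ⊓ Subgroup.centralizer (X : Set G) = ⊥) :
    ⁅X, K⁆ ≤ Subgroup.centralizer (V : Set G) := by
  classical
  set N := Subgroup.normalizer (V : Set G) with hN
  have hC : N ≤ Subgroup.normalizer ((Subgroup.centralizer (V : Set G) : Subgroup G) : Set G) := by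
    intro g hg
    refine Coprime.mem_normalizer_of_forall fun c hc => Subgroup.mem_centralizer_iff.mpr fun v hv => ?_
    have hv' := (Subgroup.mem_normalizer_iff.mp (inv_mem hg) v).mp hv
    rw [inv_inv] at hv'
    have h := Subgroup.mem_centralizer_iff.mp hc _ hv'
    calc v * (g * c * g⁻¹) = g * ((g⁻¹ * v * g) * c) * g⁻¹ := by group
      _ = g * (c * (g⁻¹ * v * g)) * g⁻¹ := by rw [h]
      _ = g * c * g⁻¹ * v := by group
  suffices hle : K ≤ commGroup X N _ hC by
    rw [Subgroup.commutator_le]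
    exact fun x hx k hk => (hle hk).2 x hx
  have hcop : (Nat.card X).Coprime (Nat.card K) := hX ▸ (hr.out.coprime_iff_not_dvd.mpr hrK)
  refine Coprime.le_of_invariant_sylow_le hXK hcop (Or.inr hK) fun q Q hq hQ hQq hXQ => ?_
  have : Fact q.Prime := ⟨hq⟩
  by_cases hQ1 : Q = ⊥
  · rw [hQ1]; exact bot_le
  have hqK : q ∣ Nat.card K := by
    rcases hQq.card_eq_or_dvd with h | h
    · exact absurd (Subgroup.eq_bot_of_card_eq Q h) hQ1
    · exact h.trans (Subgroup.card_dvd_of_le hQ)
  have hle := commutator_le_centralizer_of_fpf hp (fun h => hpK (h ▸ hqK)) hpr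
    (fun h => hrK (h ▸ hqK)) (fun h => Nat.not_even_iff_odd.mpr hodd
      (even_iff_two_dvd.mpr (h ▸ hqK))) hX hQq hV hXV (hQ.trans hKV) hXQ hfix
  exact fun k hk => ⟨hKV (hQ hk), fun x hx => hle (Subgroup.commutator_mem_commutator hx hk)⟩

end Cfsg.Agent.HallHigman
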