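/-
Odd-order operators preserving an anisotropic quadratic map over the field of two elements (helper3).

Main results (namespace `Cfsg.Agent.HallHigman.Anisotropic`):
* fixed_of_sq_fixed: an odd-order operator that is unipotent on a vector fixes it
* commuting_disjoint: commuting `q`-operators told apart by an inverting symmetry move disjoint parts
* card_le_of_commuting_family: `n` such operators need `2 ^ n ≤ card E`
-/
import Mathlib
import Cfsg.Agent.EqLemmas

set_option autoImplicit false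

namespace Cfsg.Agent.HallHigman.Anisotropic

variable {G W E : Type*} [Group G] [AddCommGroup W] [AddCommGroup E]
  (ρ : G →* AddMonoid.End W)

theorem rho_mul (g h : G) (w : W) : ρ (g * h) w = ρ g (ρ h w) := by
  rw [map_mul]; rfl

theorem rho_one (w : W) : ρ 1 w = w := by
  rw [map_one]; rfl

section

variable (hW : ∀ w : W, w + w = 0)

include hW

theorem odd_nsmul {m : ℕ} (hm : Odd m) (w : W) : m • w = w := by
  obtain ⟨k, rfl⟩ := hm
  rw [add_nsmul, one_nsmul, mul_nsmul, two_nsmul, hW, nsmul_zero, zero_add]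

theorem eq_of_add_eq_zero {v w : W} (h : v + w = 0) : v = w := by
  calc v = v + (w + w) := by rw [hW, add_zero]
    _ = w := by rw [← add_assoc, h, zero_add]

/-- An odd-order operator that fixes its displacement of `v` fixes `v`. -/
theorem fixed_of_sq_fixed {a : G} {m : ℕ} (hm : Odd m) (ha : a ^ m = 1) {v : W}
    (h : ρ a (ρ a v + v) = ρ a v + v) : ρ a v = v := by
  have hstep : ρ a v = v + (ρ a v + v) := by
    rw [← add_assoc, add_comm v (ρ a v), add_assoc, hW, add_zero]
  have key : ∀ k : ℕ, ρ (a ^ k) v = v + k • (ρ a v + v) := by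
    intro k
    induction k with
    | zero => rw [pow_zero, rho_one, zero_nsmul, add_zero]
    | succ k ih =>
      rw [pow_succ', rho_mul, ih, map_add, map_nsmul, h]
      generalize hd : ρ a v + v = d at hstep
      rw [hstep, succ_nsmul']
      abel
  have h1 := key m
  rw [ha, rho_one, odd_nsmul hW hm, ← hstep] at h1
  exact h1.symm

end

variable [Finite W] (hW : ∀ w : W, w + w = 0) (hE : ∀ e : E, e + e = 0)
  (f : W → E) (β : W →+ W →+ E) (hadd : ∀ u v, f (u + v) = f u + f v + β u v)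
  (hker : ∀ w, f w = 0 → w = 0) (hfρ : ∀ g w, f (ρ g w) = f w)

include hadd hfρ

omit [Finite W] in
theorem beta_invariant (g : G) (u v : W) : β (ρ g u) (ρ g v) = β u v := by
  have h1 := hadd (ρ g u) (ρ g v)
  rw [← map_add, hfρ, hfρ, hfρ, hadd u v] at h1
  exact (add_left_cancel h1).symm

include hW hE hker

/-- If `x` inverts `a` and centralises `b`, then `b` fixes every displacement under `a`. -/
theorem commuting_disjoint {a b x : G} {q e : ℕ} (hq : q.Prime) (hq2 : q ≠ 2) (hab : Commute a b)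
    (ha : a ^ q ^ e = 1) (hb : b ^ q ^ e = 1) (hxa : x⁻¹ * a * x = a⁻¹) (hxb : x⁻¹ * b * x = b)
    (w₀ : W) : ρ b (ρ a w₀ + w₀) = ρ a w₀ + w₀ := by
  classical
  have hqodd : Odd q := hq.odd_of_ne_two hq2
  by_contra hcon
  let W' : AddSubgroup W := ((ρ b + 1) * (ρ a + 1) : AddMonoid.End W).range
  have hmemW' : ∀ {v}, v ∈ W' ↔ ∃ z, ρ b (ρ a z + z) + (ρ a z + z) = v := by
    intro v
    exact Iff.rfl
  have hW'0 : W' ≠ ⊥ := by
    intro h0
    refine hcon (eq_of_add_eq_zero hW ?_)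
    rw [← AddSubgroup.mem_bot, ← h0, hmemW']
    exact ⟨w₀, rfl⟩
  have hW'inv : ∀ g : G, Commute g a → Commute g b → ∀ v ∈ W', ρ g v ∈ W' := by
    intro g hga hgb v hv
    obtain ⟨z, rfl⟩ := hmemW'.1 hv
    refine hmemW'.2 ⟨ρ g z, ?_⟩
    simp only [map_add, ← rho_mul]
    rw [← hga.eq, ← hgb.eq, show b * (g * a) = g * (b * a) by rw [← mul_assoc, ← hgb.eq, mul_assoc]]
  obtain ⟨S, ⟨hS0, hSW, hSa, hSb⟩, hmin⟩ := wellFounded_lt.has_min
    {S : AddSubgroup W | S ≠ ⊥ ∧ S ≤ W' ∧ (∀ s ∈ S, ρ a s ∈ S) ∧ ∀ s ∈ S, ρ b s ∈ S}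
    ⟨W', hW'0, le_rfl, hW'inv a (Commute.refl a) hab, hW'inv b hab.symm (Commute.refl b)⟩
  let St : Subgroup G :=
    { carrier := {k | ∀ s ∈ S, ρ k s = s}
      one_mem' := fun s _ => rho_one ρ s
      mul_mem' := fun {g h} hg hh s hs => by rw [rho_mul, hh s hs, hg s hs]
      inv_mem' := fun {g} hg s hs => by
        conv_lhs => rw [← hg s hs]
        rw [← rho_mul, inv_mul_cancel, rho_one] }
  -- an element commuting with `a` and `b` is either trivial or fixed-point-free on `S`
  have hfree : ∀ k : G, Commute k a → Commute k b → k ∉ St → ∀ s ∈ S, ρ k s = s → s = 0 := by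
    intro k hka hkb hk s hs hfix
    by_contra hs0
    let F : AddSubgroup W :=
      { carrier := {v | v ∈ S ∧ ρ k v = v}
        zero_mem' := ⟨S.zero_mem, map_zero _⟩
        add_mem' := fun {u v} hu hv => ⟨S.add_mem hu.1 hv.1, by rw [map_add, hu.2, hv.2]⟩
        neg_mem' := fun {u} hu => ⟨S.neg_mem hu.1, by rw [map_neg, hu.2]⟩ }
    have hFS : F = S := eq_of_le_of_not_lt (fun v hv => hv.1) (hmin F
      ⟨fun h0 => hs0 (by
        have : s ∈ F := ⟨hs, hfix⟩
        rwa [h0, AddSubgroup.mem_bot] at this), le_trans (fun v hv => hv.1) hSW,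
      fun v hv => ⟨hSa v hv.1, by rw [← rho_mul, hka.eq, rho_mul, hv.2]⟩,
      fun v hv => ⟨hSb v hv.1, by rw [← rho_mul, hkb.eq, rho_mul, hv.2]⟩⟩)
    exact hk fun v hv => (hFS.symm ▸ hv : v ∈ F).2
  have hpowS : ∀ m n : ℕ, ∀ s ∈ S, ρ (a ^ m * b ^ n) s ∈ S := by
    intro m n
    induction m with
    | zero =>
      induction n with
      | zero => intro s hs; simpa [rho_one] using hs
      | succ n ih =>
        intro s hs
        have := hSb _ (ih s hs)
        rwa [pow_zero, one_mul, ← rho_mul, ← pow_succ', ← one_mul (b ^ (n + 1)), ← pow_zero a] at this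
    | succ m ih =>
      intro s hs
      have := hSa _ (ih s hs)
      rwa [← rho_mul, ← mul_assoc, ← pow_succ'] at this
  have hcomm : ∀ m n : ℕ, Commute (a ^ m * b ^ n) a ∧ Commute (a ^ m * b ^ n) b := fun m n =>
    ⟨((Commute.refl a).pow_left m).mul_left (hab.symm.pow_left n),
      (hab.pow_left m).mul_left ((Commute.refl b).pow_left n)⟩
  -- nothing outside `St` fixes the translate of `S` under `x`
  have hA : ∀ m n : ℕ, (∀ s ∈ S, ρ (a ^ m * b ^ n) (ρ x s) = ρ x s) → a ^ m * b ^ n ∈ St := by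
    intro m n hfix
    by_contra hk
    set k := a ^ m * b ^ n with hkdef
    have hf0 : f 0 = 0 := by
      have := hadd 0 0
      rw [add_zero, map_zero, add_zero, hE] at this
      exact this
    obtain ⟨s, hs, hs0⟩ : ∃ s ∈ S, s ≠ 0 := S.bot_or_exists_ne_zero.resolve_left hS0
    have hinj : Function.Injective (fun t : S => (⟨ρ k t + t, S.add_mem (hpowS m n t t.2) t.2⟩ : S)) := by
      intro t t' htt
      have h1 : ρ k (t : W) + t = ρ k t' + t' := congrArg Subtype.val htt
      have h2 : (t : W) + t' = 0 := by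
        refine hfree k (hcomm m n).1 (hcomm m n).2 hk _ (S.add_mem t.2 t'.2) ?_
        rw [map_add]
        refine eq_of_add_eq_zero hW ?_
        calc ρ k (t : W) + ρ k t' + ((t : W) + t') = (ρ k t + t) + (ρ k t' + t') := by abel
          _ = 0 := by rw [h1, hW]
      exact Subtype.ext (eq_of_add_eq_zero hW h2)
    obtain ⟨t, ht⟩ := Finite.injective_iff_surjective.1 hinj ⟨s, hs⟩
    have ht' : ρ k (t : W) + t = s := congrArg Subtype.val ht
    have hβ : β s (ρ x s) = 0 := by
      rw [← ht', map_add, AddMonoidHom.add_apply]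
      conv_lhs => arg 1; arg 2; rw [ht', ← hfix s hs]
      rw [beta_invariant ρ f β hadd hfρ, ht', hE]
    have h1 : f (s + ρ x s) = 0 := by rw [hadd, hfρ, hE, zero_add, hβ]
    have h2 : s = ρ x s := eq_of_add_eq_zero hW (hker _ h1)
    refine hs0 (hfree k (hcomm m n).1 (hcomm m n).2 hk s hs ?_)
    conv_lhs => rw [h2]
    rw [hfix s hs, ← h2]
  -- a `q`-element outside `St` has a power just outside
  have hbd : ∀ (i : ℕ) (c : G), c ^ q ^ i = 1 → c ∉ St → ∃ m, c ^ m ∉ St ∧ (c ^ m) ^ q ∈ St := by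
    intro i
    induction i with
    | zero => intro c hc hcS; exact absurd (by rw [pow_zero, pow_one] at hc; rw [hc]; exact St.one_mem) hcS
    | succ i ih =>
      intro c hc hcS
      by_cases hq' : c ^ q ∈ St
      · exact ⟨1, by rwa [pow_one], by rwa [pow_one]⟩
      · obtain ⟨m, hm1, hm2⟩ := ih (c ^ q) (by rw [← pow_mul, ← pow_succ']; exact hc) hq'
        exact ⟨q * m, by rwa [pow_mul], by rwa [pow_mul]⟩
  have hout : ∀ c d : G, c ^ q ^ e = 1 → Commute c d →
      (∀ v ∈ S, ∃ z, ρ c (ρ d z + z) + (ρ d z + z) = v) → c ∉ St := by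
    intro c d hc _ hrange hcS
    obtain ⟨s, hs, hs0⟩ : ∃ s ∈ S, s ≠ 0 := S.bot_or_exists_ne_zero.resolve_left hS0
    obtain ⟨z, hz⟩ := hrange s hs
    refine hs0 ?_
    have h1 := fixed_of_sq_fixed ρ hW (m := q ^ e) hqodd.pow hc (v := ρ d z + z)
      (by rw [hz]; exact hcS s hs)
    rw [h1, hW] at hz
    exact hz.symm
  have hbS : b ∉ St := hout b a hb hab.symm fun v hv => hmemW'.1 (hSW hv)
  have haS : a ∉ St := hout a b ha hab fun v hv => by
    obtain ⟨z, hz⟩ := hmemW'.1 (hSW hv)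
    refine ⟨z, ?_⟩
    rw [← hz]
    simp only [map_add, ← rho_mul, hab.eq]
    abel
  obtain ⟨m, ham, hamq⟩ := hbd e a ha haS
  obtain ⟨n, hbn, hbnq⟩ := hbd e b hb hbS
  -- `a^m b^(n i)` never lies in `St`
  have hki : ∀ i : ℕ, a ^ m * (b ^ n) ^ i ∉ St := by
    intro i hmem
    have hainv : (a ^ m)⁻¹ = a ^ (m * (q ^ e - 1)) := by
      refine inv_eq_of_mul_eq_one_left ?_
      rw [← pow_add, ← Nat.mul_succ, Nat.succ_eq_add_one, Nat.sub_add_cancel (Nat.one_le_pow _ _ hq.pos),
        mul_comm, pow_mul, ha, one_pow]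
    have h1 : (a ^ m)⁻¹ * (b ^ n) ^ i ∈ St := by
      rw [hainv, ← pow_mul]
      refine hA _ _ fun s hs => ?_
      rw [← hainv, pow_mul]
      have h2 : x⁻¹ * ((a ^ m)⁻¹ * (b ^ n) ^ i) * x = a ^ m * (b ^ n) ^ i := by
        have hconj : ∀ g h : G, x⁻¹ * (g * h) * x = (x⁻¹ * g * x) * (x⁻¹ * h * x) :=
          fun g h => by group
        have hconjp : ∀ (g : G) (k : ℕ), x⁻¹ * g ^ k * x = (x⁻¹ * g * x) ^ k := fun g k => by
          induction k with
          | zero => simp
          | succ k ih => rw [pow_succ, hconj, ih, ← pow_succ]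
        rw [hconj, ← pow_mul, hconjp, hxb, ← inv_pow, hconjp,
          show x⁻¹ * a⁻¹ * x = (x⁻¹ * a * x)⁻¹ by group, hxa, inv_inv]
      have h3 := congrArg (ρ x) (hmem s hs)
      rw [← rho_mul] at h3
      rw [← rho_mul, show (a ^ m)⁻¹ * (b ^ n) ^ i * x = x * (a ^ m * (b ^ n) ^ i) by
        rw [← h2]; group]
      exact h3
    have h4 : (a ^ m) ^ 2 ∈ St := by
      have := St.mul_mem hmem (St.inv_mem h1)
      rwa [mul_inv_rev, inv_inv, ← mul_assoc, mul_inv_cancel_right, ← pow_two] at this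
    obtain ⟨k, hk⟩ := hqodd
    refine ham ?_
    have h5 := St.mul_mem (St.inv_mem (St.pow_mem h4 k)) hamq
    rwa [← pow_mul (a ^ m), hk, pow_succ, inv_mul_cancel_left] at h5
  have hbj : ∀ j, 0 < j → j < q → (b ^ n) ^ j ∉ St := by
    intro j hj0 hjq hmem
    obtain ⟨l, -, hl⟩ := Nat.exists_mul_mod_eq_one_of_coprime
      ((hq.coprime_iff_not_dvd.2 (Nat.not_dvd_of_pos_of_lt hj0 hjq)).symm) hq.one_lt
    refine hbn ?_
    have h1 := St.mul_mem (St.inv_mem (St.pow_mem hbnq (j * l / q))) (St.pow_mem hmem l)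
    have h2 := Nat.div_add_mod (j * l) q
    rw [hl] at h2
    rw [← pow_mul (b ^ n) j] at h1
    generalize hd : j * l / q = d at h1 h2
    rwa [← h2, pow_add, pow_mul, pow_one, inv_mul_cancel_left] at h1
  obtain ⟨s, hs, hs0⟩ : ∃ s ∈ S, s ≠ 0 := S.bot_or_exists_ne_zero.resolve_left hS0
  -- norms vanish
  have hnorm : ∀ k l : ℕ, a ^ k * b ^ l ∉ St → (a ^ k * b ^ l) ^ q ∈ St → ∀ t ∈ S,
      ∑ j ∈ Finset.range q, ρ ((a ^ k * b ^ l) ^ j) t = 0 := by
    intro k l hk hkq t ht
    refine hfree _ (hcomm k l).1 (hcomm k l).2 hk _ (S.sum_mem fun j _ => ?_) ?_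
    · rw [((hab.pow_pow k l)).mul_pow, ← pow_mul, ← pow_mul]
      exact hpowS _ _ t ht
    · rw [map_sum]
      have e1 := Finset.sum_range_succ' (fun j => ρ ((a ^ k * b ^ l) ^ j) t) q
      have e2 := Finset.sum_range_succ (fun j => ρ ((a ^ k * b ^ l) ^ j) t) q
      rw [e1, pow_zero, rho_one, hkq t ht] at e2
      refine Eq.trans ?_ (add_right_cancel e2)
      exact Finset.sum_congr rfl fun j _ => by rw [← rho_mul, ← pow_succ']
  have hkq : ∀ i : ℕ, (a ^ m * (b ^ n) ^ i) ^ q ∈ St := fun i => by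
    rw [(((hab.pow_pow m n)).pow_right i).mul_pow, ← pow_mul (b ^ n), mul_comm i q, pow_mul]
    exact St.mul_mem hamq (St.pow_mem hbnq i)
  have h0 : ∑ j ∈ Finset.range q, ∑ i ∈ Finset.range q, ρ ((a ^ m * (b ^ n) ^ i) ^ j) s = 0 := by
    rw [Finset.sum_comm]
    refine Finset.sum_eq_zero fun i _ => ?_
    have h1 := hki i
    have h2 := hkq i
    rw [← pow_mul] at h1 h2 ⊢
    exact hnorm _ _ h1 h2 s hs
  rw [Finset.sum_eq_single 0 (fun j hj hj0 => ?_) (fun h => absurd (Finset.mem_range.2 hq.pos) h)] at h0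
  · simp only [pow_zero, rho_one, Finset.sum_const, Finset.card_range, odd_nsmul hW hqodd] at h0
    exact hs0 h0
  · have h1 : ∀ i : ℕ, ρ ((a ^ m * (b ^ n) ^ i) ^ j) s =
        ρ ((a ^ m) ^ j) (ρ (((b ^ n) ^ j) ^ i) s) := fun i => by
      rw [(((hab.pow_pow m n)).pow_right i).mul_pow, rho_mul, ← pow_mul (b ^ n), ← pow_mul (b ^ n),
        mul_comm i j]
    simp only [h1, ← map_sum]
    have h2 := hbj j (Nat.pos_of_ne_zero hj0) (Finset.mem_range.1 hj)
    have h3 : ((b ^ n) ^ j) ^ q ∈ St := by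
      rw [← pow_mul, mul_comm j q, pow_mul]
      exact St.pow_mem hbnq j
    have e : (b ^ n) ^ j = a ^ 0 * b ^ (n * j) := by rw [pow_zero, one_mul, pow_mul]
    rw [e] at h2 h3
    rw [Finset.sum_congr rfl fun i _ => by rw [e], hnorm _ _ h2 h3 s hs, map_zero]

/-- A family of commuting non-trivial `q`-operators, pairwise told apart, needs a large target. -/
theorem card_le_of_commuting_family [Finite E] {n q e : ℕ} (hq : q.Prime) (hq2 : q ≠ 2)
    (y : Fin n → G) (hy : ∀ i, y i ^ q ^ e = 1) (hcomm : ∀ i j, Commute (y i) (y j))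
    (hmove : ∀ i, ∃ w, ρ (y i) w ≠ w)
    (hsep : ∀ i j, i ≠ j → ∃ x, (x⁻¹ * y i * x = (y i)⁻¹ ∧ x⁻¹ * y j * x = y j) ∨
      (x⁻¹ * y j * x = (y j)⁻¹ ∧ x⁻¹ * y i * x = y i)) : 2 ^ n ≤ Nat.card E := by
  classical
  choose u hu using hmove
  let w : Fin n → W := fun i => ρ (y i) (u i) + u i
  have hqodd : Odd (q ^ e) := (hq.odd_of_ne_two hq2).pow
  have hwmove : ∀ i, ρ (y i) (w i) ≠ w i := fun i h => hu i (fixed_of_sq_fixed ρ hW hqodd (hy i) h)
  have hwfix : ∀ i j, i ≠ j → ρ (y j) (w i) = w i := by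
    intro i j hij
    obtain ⟨x, hx | hx⟩ := hsep i j hij
    · exact commuting_disjoint ρ hW hE f β hadd hker hfρ hq hq2 (hcomm i j) (hy i) (hy j) hx.1 hx.2 _
    · have h := commuting_disjoint ρ hW hE f β hadd hker hfρ hq hq2 (hcomm j i) (hy j) (hy i)
        hx.1 hx.2 (u i)
      -- symmetry of the double displacement
      refine eq_of_add_eq_zero hW ?_
      calc ρ (y j) (w i) + w i
          = ρ (y i) (ρ (y j) (u i) + u i) + (ρ (y j) (u i) + u i) := by
            simp only [w, map_add, ← rho_mul, (hcomm j i).eq]; abel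
        _ = 0 := by rw [h, hW]
  have hf0 : f 0 = 0 := by
    have := hadd 0 0
    rw [add_zero, map_zero, add_zero, hE] at this
    exact this
  have hβ : ∀ i j, β (w i) (w j) = 0 := by
    intro i j
    by_cases hij : i = j
    · subst hij
      have := hadd (w i) (w i)
      rw [hW, hf0, hE, zero_add] at this
      exact this.symm
    · have e : ∀ z, β (w i) z = β (ρ (y i) (u i)) z + β (u i) z := fun z => by
        show β (ρ (y i) (u i) + u i) z = _
        rw [map_add, AddMonoidHom.add_apply]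
      rw [e]
      conv_lhs => arg 1; rw [← hwfix j i (Ne.symm hij)]
      rw [beta_invariant ρ f β hadd hfρ, hE]
  have hfsum : ∀ s : Finset (Fin n), f (∑ i ∈ s, w i) = ∑ i ∈ s, f (w i) := by
    intro s
    induction s using Finset.induction with
    | empty => simp [hf0]
    | @insert a s ha ih =>
      rw [Finset.sum_insert ha, Finset.sum_insert ha, hadd, ih, map_sum,
        Finset.sum_eq_zero fun j _ => hβ a j, add_zero]
  have hinj : Function.Injective (fun s : Finset (Fin n) => f (∑ i ∈ s, w i)) := by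
    intro s t hst
    have h1 : ∀ s : Finset (Fin n), ∀ i, ρ (y i) (∑ j ∈ s, w j) + ∑ j ∈ s, w j =
        if i ∈ s then ρ (y i) (w i) + w i else 0 := by
      intro s i
      rw [map_sum, ← Finset.sum_add_distrib, ← Finset.sum_ite_eq' s i (fun j => ρ (y i) (w j) + w j)]
      refine Finset.sum_congr rfl fun j _ => ?_
      split_ifs with h
      · rfl
      · rw [hwfix j i h, hW]
    have hsum : ∑ i ∈ s, w i = ∑ i ∈ t, w i := by
      have h2 : f (∑ i ∈ s, w i + ∑ i ∈ t, w i) = 0 := by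
        rw [hadd, show f (∑ i ∈ s, w i) = f (∑ i ∈ t, w i) from hst, hE, zero_add, map_sum]
        simp only [AddMonoidHom.finset_sum_apply, map_sum]
        exact Finset.sum_eq_zero fun i _ => Finset.sum_eq_zero fun j _ => hβ _ _
      exact eq_of_add_eq_zero hW (hker _ h2)
    ext i
    have hne : ρ (y i) (w i) + w i ≠ 0 := fun h => hwmove i (eq_of_add_eq_zero hW h)
    have h3 := h1 s i
    rw [hsum, h1 t i] at h3
    by_cases hs : i ∈ s <;> by_cases ht : i ∈ t <;> simp_all
  have := Nat.card_le_card_of_injective _ hinj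
  simpa using this

end Cfsg.Agent.HallHigman.Anisotropic
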