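/-
Dimension of the commutant of a nilpotent endomorphism (helper3).

Main results (namespace `Cfsg.Agent.HallHigman`):
* intertw N M: the space of linear maps `f` with `M ∘ f = f ∘ N`
* kerPow_ge: `dim ker M^a * r ≥ a * dim U` if `M^r = 0`, `a ≤ r`
* intertw_ge: `dim Hom(N, M) * r ≥ dim V * dim U` if `N^r = 0` and `M^r = 0`
* finrank_commutant_ge: `dim C(N) * r ≥ (dim V)^2`
* finrank_commutant_le_of_cyclic
-/
import Cfsg.Agent.EqLemmas

set_option autoImplicit false

namespace Cfsg.Agent.HallHigman

open Module

universe u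

variable {F : Type*} [Field F] {V U : Type*} [AddCommGroup V] [Module F V]
  [AddCommGroup U] [Module F U]

/-- The linear maps intertwining `N` and `M`. -/
def intertw (N : Module.End F V) (M : Module.End F U) : Submodule F (V →ₗ[F] U) where
  carrier := {f | M ∘ₗ f = f ∘ₗ N}
  add_mem' := fun {a b} ha hb => by
    simp only [Set.mem_ofPred_eq] at ha hb ⊢
    rw [LinearMap.comp_add, LinearMap.add_comp, ha, hb]
  zero_mem' := by simp
  smul_mem' := fun c a ha => by
    simp only [Set.mem_ofPred_eq] at ha ⊢
    rw [LinearMap.comp_smul, LinearMap.smul_comp, ha]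

theorem mem_intertw {N : Module.End F V} {M : Module.End F U} {f : V →ₗ[F] U} :
    f ∈ intertw N M ↔ ∀ v, M (f v) = f (N v) :=
  ⟨fun h v => LinearMap.congr_fun h v, fun h => LinearMap.ext h⟩

theorem kerPow_step [FiniteDimensional F U] (M : Module.End F U) (n : ℕ) :
    finrank F ↥(LinearMap.range (M ^ n)) = finrank F ↥(LinearMap.range (M ^ (n + 1))) +
      finrank F ↥(LinearMap.range (M ^ n) ⊓ LinearMap.ker M : Submodule F U) := by
  have h := (M.domRestrict (LinearMap.range (M ^ n))).finrank_range_add_finrank_ker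
  rw [LinearMap.range_domRestrict, ← LinearMap.range_comp] at h
  have hk : (M.domRestrict (LinearMap.range (M ^ n))).ker =
      (LinearMap.range (M ^ n) ⊓ LinearMap.ker M : Submodule F U).comap
        (LinearMap.range (M ^ n)).subtype := by
    ext x; simp
  rw [hk] at h
  have e : finrank F ↥((LinearMap.range (M ^ n) ⊓ LinearMap.ker M : Submodule F U).comap
      (LinearMap.range (M ^ n)).subtype) =
      finrank F ↥(LinearMap.range (M ^ n) ⊓ LinearMap.ker M : Submodule F U) :=
    (Submodule.comapSubtypeEquivOfLe inf_le_left).finrank_eq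
  rw [e] at h
  rw [pow_succ', Module.End.mul_eq_comp]
  exact h.symm

theorem range_pow_antitone (M : Module.End F U) {a b : ℕ} (h : a ≤ b) :
    LinearMap.range (M ^ b) ≤ LinearMap.range (M ^ a) := by
  obtain ⟨c, rfl⟩ := Nat.exists_eq_add_of_le h
  rw [pow_add, Module.End.mul_eq_comp]
  exact LinearMap.range_comp_le_range _ _

/-- The dimensions of the kernels of powers grow concavely. -/
theorem kerPow_concave [FiniteDimensional F U] (M : Module.End F U) (n : ℕ) :
    n * finrank F ↥(LinearMap.ker (M ^ (n + 1))) ≤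
      (n + 1) * finrank F ↥(LinearMap.ker (M ^ n)) := by
  set d : ℕ → ℕ := fun i => finrank F ↥(LinearMap.range (M ^ i) ⊓ LinearMap.ker M : Submodule F U)
  have hk : ∀ i, finrank F ↥(LinearMap.ker (M ^ (i + 1))) =
      finrank F ↥(LinearMap.ker (M ^ i)) + d i := by
    intro i
    have h1 := (M ^ i).finrank_range_add_finrank_ker
    have h2 := (M ^ (i + 1)).finrank_range_add_finrank_ker
    have h3 : finrank F ↥(LinearMap.range (M ^ i)) =
        finrank F ↥(LinearMap.range (M ^ (i + 1))) + d i := kerPow_step M i
    omega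
  have hd : ∀ i ≤ n, i * d n ≤ finrank F ↥(LinearMap.ker (M ^ i)) := by
    intro i hi
    induction i with
    | zero => simp
    | succ i ih =>
      rw [hk, Nat.succ_mul]
      exact Nat.add_le_add (ih (by omega))
        (Submodule.finrank_mono (inf_le_inf_right _ (range_pow_antitone M (by omega))))
  rw [hk, Nat.mul_add, Nat.succ_mul]
  exact Nat.add_le_add_left (hd n le_rfl) _

theorem kerPow_ge [FiniteDimensional F U] (M : Module.End F U) {a r : ℕ} (ha : a ≤ r)
    (hr : M ^ r = 0) : a * finrank F U ≤ r * finrank F ↥(LinearMap.ker (M ^ a)) := by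
  have h : ∀ j, a + j = r → a * finrank F U ≤ r * finrank F ↥(LinearMap.ker (M ^ a)) := by
    intro j
    induction j generalizing a with
    | zero =>
      rintro rfl
      rw [Nat.add_zero] at hr
      rw [hr, LinearMap.ker_zero, finrank_top, Nat.add_zero]
    | succ j ih =>
      intro hj
      have h1 := ih (a := a + 1) (by omega) (by omega)
      have h2 := kerPow_concave M a
      refine Nat.le_of_mul_le_mul_left ?_ (Nat.succ_pos a)
      calc (a + 1) * (a * finrank F U) = a * ((a + 1) * finrank F U) := by ring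
        _ ≤ a * (r * finrank F ↥(LinearMap.ker (M ^ (a + 1)))) := Nat.mul_le_mul_left _ h1
        _ = r * (a * finrank F ↥(LinearMap.ker (M ^ (a + 1)))) := by ring
        _ ≤ r * ((a + 1) * finrank F ↥(LinearMap.ker (M ^ a))) := Nat.mul_le_mul_left _ h2
        _ = (a + 1) * (r * finrank F ↥(LinearMap.ker (M ^ a))) := by ring
  exact h (r - a) (by omega)

variable {N : Module.End F V}

/-- `u ↦ (w ↦ Σ f(N^(r-1-i) w) M^i u)`. -/
def cycMap (N : Module.End F V) (f : V →ₗ[F] F) (M : Module.End F U) (r : ℕ) :
    U →ₗ[F] (V →ₗ[F] U) where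
  toFun u := ∑ i ∈ Finset.range r, (f ∘ₗ (N ^ (r - 1 - i))).smulRight ((M ^ i) u)
  map_add' a b := by
    ext w; simp [Finset.sum_add_distrib, smul_add]
  map_smul' c a := by
    ext w; simp [Finset.smul_sum, smul_comm c]

theorem cycMap_apply (f : V →ₗ[F] F) (M : Module.End F U) (r : ℕ) (u : U) (w : V) :
    cycMap N f M r u w = ∑ i ∈ Finset.range r, f ((N ^ (r - 1 - i)) w) • (M ^ i) u := by
  simp [cycMap]

theorem cycMap_mem (f : V →ₗ[F] F) {r : ℕ} (hN : N ^ r = 0) (M : Module.End F U) {u : U}
    (hu : (M ^ r) u = 0) : cycMap N f M r u ∈ intertw N M := by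
  rw [mem_intertw]
  intro w
  rcases r with _ | r
  · simp [cycMap_apply]
  rw [cycMap_apply, cycMap_apply, map_sum, Finset.sum_range_succ, Finset.sum_range_succ' (fun i =>
    f ((N ^ (r + 1 - 1 - i)) (N w)) • (M ^ i) u)]
  have h0 : f ((N ^ (r + 1 - 1 - 0)) (N w)) • (M ^ 0) u = 0 := by
    rw [show r + 1 - 1 - 0 = r by omega, ← Module.End.mul_apply, ← pow_succ, hN]
    simp
  have h1 : M (f ((N ^ (r + 1 - 1 - r)) w) • (M ^ r) u) = 0 := by
    rw [map_smul, ← Module.End.mul_apply, ← pow_succ', hu, smul_zero]
  rw [h0, h1, add_zero, add_zero]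
  refine Finset.sum_congr rfl fun i hi => ?_
  rw [Finset.mem_range] at hi
  rw [map_smul, ← Module.End.mul_apply M, ← pow_succ', ← Module.End.mul_apply (N ^ _) N, ← pow_succ,
    show r + 1 - 1 - (i + 1) + 1 = r + 1 - 1 - i by omega]

theorem cycMap_self (f : V →ₗ[F] F) {v : V} {r : ℕ} (hr : 1 ≤ r)
    (hf : f ((N ^ (r - 1)) v) = 1) (M : Module.End F U) {u : U} (hu : (M ^ r) u = 0)
    (h0 : cycMap N f M r u v = 0) : u = 0 := by
  have h : ∀ j, (M ^ (r - j)) u = 0 := by
    intro j
    induction j with
    | zero => simpa using hu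
    | succ j ih =>
      by_cases hj : r ≤ j
      · rwa [show r - (j + 1) = r - j by omega]
      have h1 : (M ^ (r - (j + 1))) (cycMap N f M r u v) = 0 := by rw [h0, map_zero]
      rw [cycMap_apply, map_sum, Finset.sum_eq_single 0] at h1
      · rwa [map_smul, Nat.sub_zero, hf, one_smul, pow_zero, Module.End.one_apply] at h1
      · intro i _ hi0
        have he : r - (j + 1) + i = (i - 1) + (r - j) := by omega
        rw [map_smul, ← Module.End.mul_apply, ← pow_add, he, pow_add, Module.End.mul_apply, ih,
          map_zero, smul_zero]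
      · intro hn; exact absurd (Finset.mem_range.mpr (by omega)) hn
  simpa using h r

/-- The projection onto the cyclic subspace of a vector of maximal height. -/
theorem exists_cyclic_projection (N : Module.End F V) {r : ℕ} (hr : 1 ≤ r) (hN : N ^ r = 0)
    {v : V} (f : V →ₗ[F] F) (hf : f ((N ^ (r - 1)) v) = 1) :
    ∃ π : Module.End F V, π ∈ intertw N N ∧ π v = v ∧ π ∘ₗ π = π ∧
      LinearMap.range π ≤ Submodule.span F (Set.range fun i : Fin r => (N ^ (i : ℕ)) v) := by
  set T : Module.End F V := cycMap N f N r v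
  set c : ℕ → F := fun i => f ((N ^ (r - 1 - i)) v)
  set S : Module.End F V := ∑ i ∈ Finset.range r, c i • N ^ i
  have hcomm : ∀ i, Commute (N ^ i) S := fun i =>
    Commute.sum_right _ _ _ fun j _ => (Commute.pow_pow_self N i j).smul_right _
  have hnil : IsNilpotent (S - 1) := by
    obtain ⟨r', rfl⟩ := Nat.exists_eq_add_of_le hr
    have : S - 1 = N * ∑ i ∈ Finset.range r', c (i + 1) • N ^ i := by
      rw [show S = ∑ i ∈ Finset.range (r' + 1), c i • N ^ i by simp [S, add_comm 1 r'],
        Finset.sum_range_succ', pow_zero, show c 0 = 1 by simp only [c, Nat.sub_zero]; exact hf,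
        one_smul, add_sub_cancel_right, Finset.mul_sum]
      exact Finset.sum_congr rfl fun i _ => by rw [mul_smul_comm, pow_succ']
    rw [this]
    refine ⟨1 + r', ?_⟩
    have hc : Commute N (∑ i ∈ Finset.range r', c (i + 1) • N ^ i) :=
      Commute.sum_right _ _ _ fun j _ => (Commute.self_pow N j).smul_right _
    rw [hc.mul_pow, hN, zero_mul]
  obtain ⟨Su, hSu⟩ : IsUnit S := by simpa using hnil.isUnit_one_add
  have hcomm' : ∀ i, Commute (N ^ i) (↑Su⁻¹ : Module.End F V) := fun i => by
    have := hcomm i; rw [← hSu] at this; exact this.units_inv_right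
  have hTv : T v = S v := by simp [T, cycMap_apply, S, c, LinearMap.sum_apply]
  have hinv : ∀ w, (↑Su⁻¹ : Module.End F V) (S w) = w := fun w => by
    rw [← hSu, ← Module.End.mul_apply, Units.inv_mul, Module.End.one_apply]
  have hTT : ∀ w, T ((↑Su⁻¹ : Module.End F V) (T w)) = T w := by
    intro w
    have hT := mem_intertw.mp (cycMap_mem f hN N (u := v) (by rw [hN]; rfl))
    have hTN : ∀ (i : ℕ) (x : V), T ((N ^ i) x) = (N ^ i) (T x) := by
      intro i
      induction i with
      | zero => intro x; rfl
      | succ i ih =>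
        intro x
        rw [pow_succ, Module.End.mul_apply, Module.End.mul_apply, ih, ← hT x]
    have hTinv : ∀ x, T ((↑Su⁻¹ : Module.End F V) x) = (↑Su⁻¹ : Module.End F V) (T x) := by
      intro x
      have h1 : ∀ x, T (S x) = S (T x) := fun x => by
        simp [S, LinearMap.sum_apply, hTN]
      apply Function.LeftInverse.injective hinv
      rw [← h1]
      have h2 : ∀ y, S ((↑Su⁻¹ : Module.End F V) y) = y := fun y => by
        rw [← hSu, ← Module.End.mul_apply, Units.mul_inv, Module.End.one_apply]
      rw [h2, h2]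
    rw [hTinv]
    conv_lhs => rw [show T w = ∑ i ∈ Finset.range r, f ((N ^ (r - 1 - i)) w) • (N ^ i) v from
      cycMap_apply f N r v w]
    rw [map_sum, map_sum, cycMap_apply]
    refine Finset.sum_congr rfl fun i _ => ?_
    have hc := LinearMap.congr_fun (hcomm i).eq v
    simp only [Module.End.mul_apply] at hc
    rw [map_smul, map_smul, hTN, hTv, hc, hinv]
  refine ⟨(↑Su⁻¹ : Module.End F V) ∘ₗ T, ?_, ?_, ?_, ?_⟩
  · rw [mem_intertw]
    intro w
    have hT := mem_intertw.mp (cycMap_mem f hN N (u := v) (by rw [hN]; rfl))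
    have h1 := LinearMap.congr_fun (hcomm' 1).eq (T w)
    simp only [pow_one, Module.End.mul_apply] at h1
    simp only [LinearMap.comp_apply, h1]
    rw [hT w]
  · rw [LinearMap.comp_apply, hTv, hinv]
  · ext w
    simp only [LinearMap.comp_apply, hTT]
  · rintro _ ⟨w, rfl⟩
    rw [LinearMap.comp_apply]
    simp only [T, cycMap_apply, map_sum, map_smul]
    refine Submodule.sum_mem _ fun i hi => Submodule.smul_mem _ _ ?_
    have hmem : ∀ k, (N ^ k) v ∈ Submodule.span F (Set.range fun i : Fin r => (N ^ (i : ℕ)) v) := by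
      intro k
      by_cases hk : k < r
      · exact Submodule.subset_span ⟨⟨k, hk⟩, rfl⟩
      · rw [show k = r + (k - r) by omega, pow_add, hN, zero_mul]; simp
    -- the span of the powers is stable under `N`, hence under `S⁻¹`
    set Z := Submodule.span F (Set.range fun i : Fin r => (N ^ (i : ℕ)) v) with hZ
    have hSZ : ∀ x ∈ Z, S x ∈ Z := by
      intro x hx
      induction hx using Submodule.span_induction with
      | mem y hy =>
        obtain ⟨i, rfl⟩ := hy
        simp only [S, LinearMap.sum_apply, LinearMap.smul_apply, ← Module.End.mul_apply, ← pow_add]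
        exact Submodule.sum_mem _ fun j _ => Submodule.smul_mem _ _ (hmem _)
      | zero => simp
      | add a b _ _ ha hb => rw [map_add]; exact add_mem ha hb
      | smul c a _ ha => rw [map_smul]; exact Submodule.smul_mem _ _ ha
    have : FiniteDimensional F Z := FiniteDimensional.span_of_finite F (Set.finite_range _)
    have hbij : Function.Injective (S.restrict hSZ) := fun a b hab => by
      apply Subtype.ext
      rw [← hinv a, ← hinv b]
      exact congrArg _ (congrArg Subtype.val hab)
    obtain ⟨⟨y, hy⟩, hye⟩ := LinearMap.injective_iff_surjective.mp hbij ⟨_, hmem i⟩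
    have hye' : S y = (N ^ i) v := congrArg Subtype.val hye
    rw [← hye', hinv]
    exact hy

theorem intertw_ge_aux : ∀ (n : ℕ) {V : Type u} [AddCommGroup V] [Module F V]
    [FiniteDimensional F V] [FiniteDimensional F U] (N : Module.End F V) (M : Module.End F U)
    (r : ℕ), finrank F V = n → N ^ r = 0 → M ^ r = 0 →
    n * finrank F U ≤ r * finrank F ↥(intertw N M) := by
  intro n
  induction n using Nat.strong_induction_on with
  | _ n ih =>
    intro V _ _ _ _ N M r hn hN hM
    rcases Nat.eq_zero_or_pos n with h | h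
    · simp [h]
    have : Nontrivial V := Module.nontrivial_of_finrank_pos (R := F) (hn ▸ h)
    classical
    have hex : ∃ k, N ^ k = 0 := ⟨r, hN⟩
    set a := Nat.find hex
    have ha : N ^ a = 0 := Nat.find_spec hex
    have har : a ≤ r := Nat.find_min' hex hN
    have ha1 : 1 ≤ a := by
      refine Nat.one_le_iff_ne_zero.mpr fun h0 => ?_
      rw [h0, pow_zero] at ha
      obtain ⟨v, hv⟩ := exists_ne (0 : V)
      exact hv (LinearMap.congr_fun ha v)
    obtain ⟨v, hv⟩ : ∃ v, (N ^ (a - 1)) v ≠ 0 := by
      by_contra hcon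
      push Not at hcon
      exact Nat.find_min hex (show a - 1 < a by omega) (LinearMap.ext hcon)
    obtain ⟨f₀, hf₀⟩ : ∃ f : V →ₗ[F] F, f ((N ^ (a - 1)) v) ≠ 0 := by
      by_contra hcon
      push Not at hcon
      exact hv ((Module.forall_dual_apply_eq_zero_iff F _).mp hcon)
    set f : V →ₗ[F] F := (f₀ ((N ^ (a - 1)) v))⁻¹ • f₀
    have hf : f ((N ^ (a - 1)) v) = 1 := by simp [f, hf₀]
    obtain ⟨π, hπ, hπv, hππ, hπr⟩ := exists_cyclic_projection N ha1 ha f hf
    set V' : Submodule F V := LinearMap.ker π
    have hπ' := mem_intertw.mp hπ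
    have hNV : ∀ x ∈ V', N x ∈ V' := fun x hx => by
      rw [LinearMap.mem_ker] at hx ⊢
      rw [← hπ' x, hx, map_zero]
    set N' : Module.End F V' := N.restrict hNV
    have hN'pow : ∀ (k : ℕ) (x : V'), (((N' ^ k) x : V') : V) = (N ^ k) x := by
      intro k
      induction k with
      | zero => intro x; rfl
      | succ k ihk => intro x; rw [pow_succ, pow_succ, Module.End.mul_apply, Module.End.mul_apply, ihk]; rfl
    have hN' : N' ^ r = 0 := by
      ext x
      rw [hN'pow, hN]; rfl
    have hdim : finrank F ↥(LinearMap.range π) + finrank F V' = n := hn ▸ π.finrank_range_add_finrank_ker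
    have hrle : finrank F ↥(LinearMap.range π) ≤ a := by
      refine (Submodule.finrank_mono hπr).trans ?_
      exact (finrank_range_le_card _).trans (by simp)
    have hlt : finrank F V' < n := by
      have : 0 < finrank F ↥(LinearMap.range π) := by
        refine Module.finrank_pos_iff_exists_ne_zero.mpr ⟨⟨v, v, hπv⟩, fun he => hv ?_⟩
        rw [show v = 0 from congrArg Subtype.val he, map_zero]
      omega
    have h1 := ih _ hlt N' M r rfl hN' hM
    have h2 := kerPow_ge M har hM
    set q : V →ₗ[F] V' := (LinearMap.id - π).codRestrict V' fun x => by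
      rw [LinearMap.mem_ker, LinearMap.sub_apply, LinearMap.id_apply, map_sub,
        ← LinearMap.comp_apply π π, hππ, sub_self]
    have hqN : ∀ x, q (N x) = N' (q x) := fun x => Subtype.ext (by
      show N x - π (N x) = N (x - π x)
      rw [map_sub, hπ' x])
    let Φ : (↥(LinearMap.ker (M ^ a)) × ↥(intertw N' M)) →ₗ[F] ↥(intertw N M) :=
      { toFun := fun z => ⟨cycMap N f M a (z.1 : U) ∘ₗ π + (z.2 : V' →ₗ[F] U) ∘ₗ q, by
          rw [mem_intertw]
          intro x
          have e1 := mem_intertw.mp (cycMap_mem f ha M (LinearMap.mem_ker.mp z.1.2)) (π x)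
          have e2 := mem_intertw.mp z.2.2 (q x)
          simp only [LinearMap.add_apply, LinearMap.comp_apply, map_add, e1, e2, hqN, hπ' x]⟩
        map_add' := fun z z' => Subtype.ext (by
          ext x
          simp only [Prod.fst_add, Prod.snd_add, Submodule.coe_add, map_add, LinearMap.add_apply,
            LinearMap.comp_apply]
          abel)
        map_smul' := fun c z => Subtype.ext (by
          ext x
          simp only [Prod.smul_fst, Prod.smul_snd, Submodule.coe_smul, map_smul, LinearMap.add_apply,
            LinearMap.comp_apply, LinearMap.smul_apply, smul_add, RingHom.id_apply]) }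
    have hΦ : Function.Injective Φ := by
      rw [injective_iff_map_eq_zero]
      rintro ⟨u, b⟩ hz
      have hz' : ∀ x, cycMap N f M a (u : U) (π x) + (b : V' →ₗ[F] U) (q x) = 0 := fun x =>
        LinearMap.congr_fun (congrArg Subtype.val hz) x
      have hu : u = 0 := by
        refine Subtype.ext (cycMap_self f ha1 hf M (LinearMap.mem_ker.mp u.2) ?_)
        have h3 := hz' v
        have hqv : q v = 0 := Subtype.ext (show v - π v = 0 by rw [hπv, sub_self])
        rwa [hπv, hqv, map_zero, add_zero] at h3
      subst hu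
      refine Prod.ext rfl (Subtype.ext (LinearMap.ext fun x => ?_))
      have h3 := hz' x
      have hqx : q x = x := Subtype.ext (show (x : V) - π x = x by
        rw [LinearMap.mem_ker.mp x.2, sub_zero])
      rw [hqx] at h3
      simpa using h3
    have h3 := LinearMap.finrank_le_finrank_of_injective hΦ
    rw [Module.finrank_prod] at h3
    calc n * finrank F U ≤ (a + finrank F V') * finrank F U := Nat.mul_le_mul_right _ (by omega)
      _ = a * finrank F U + finrank F V' * finrank F U := by ring
      _ ≤ r * finrank F ↥(LinearMap.ker (M ^ a)) + r * finrank F ↥(intertw N' M) :=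
        Nat.add_le_add h2 h1
      _ = r * (finrank F ↥(LinearMap.ker (M ^ a)) + finrank F ↥(intertw N' M)) := by ring
      _ ≤ _ := Nat.mul_le_mul_left _ h3

theorem intertw_ge [FiniteDimensional F V] [FiniteDimensional F U] (N : Module.End F V)
    (M : Module.End F U) {r : ℕ} (hN : N ^ r = 0) (hM : M ^ r = 0) :
    finrank F V * finrank F U ≤ r * finrank F ↥(intertw N M) :=
  intertw_ge_aux _ N M r rfl hN hM

/-- If `N^r = 0` then the commutant of `N` has dimension at least `(dim V)^2 / r`. -/
theorem finrank_commutant_ge [FiniteDimensional F V] (N : Module.End F V) {r : ℕ}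
    (hN : N ^ r = 0) : finrank F V * finrank F V ≤ r * finrank F ↥(intertw N N) :=
  intertw_ge N N hN hN

/-- A cyclic nilpotent endomorphism has commutant of dimension at most `dim V`. -/
theorem finrank_commutant_le_of_cyclic [FiniteDimensional F V] (N : Module.End F V) (v : V)
    (hv : Submodule.span F (Set.range fun i : ℕ => (N ^ i) v) = ⊤) :
    finrank F ↥(intertw N N) ≤ finrank F V := by
  refine LinearMap.finrank_le_finrank_of_injective
    (f := (LinearMap.applyₗ v).comp (intertw N N).subtype) ?_
  rw [injective_iff_map_eq_zero]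
  intro g hg
  have hg' : (g : V →ₗ[F] V) v = 0 := hg
  refine Subtype.ext (LinearMap.ext_on_range hv fun i => ?_)
  have hpow : ∀ (i : ℕ) (x : V), (N ^ i) ((g : V →ₗ[F] V) x) = (g : V →ₗ[F] V) ((N ^ i) x) := by
    intro i
    induction i with
    | zero => intro x; rfl
    | succ i ih =>
      intro x
      rw [pow_succ, Module.End.mul_apply, Module.End.mul_apply, mem_intertw.mp g.2 x, ih]
  rw [← hpow, hg', map_zero]
  rfl

end Cfsg.Agent.HallHigman
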