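/-
Elements of prime power order without fixed vectors, on modules for q-groups in coprime
characteristic (helper3).

Main results (namespace `Cfsg.Agent.HallHigman`):
* exists_period_fpf, eigen_bounds_of_fpf, irred_fpf_dim
-/
import Cfsg.Agent.Lib.HallHigman.FixedPoint

set_option autoImplicit false

namespace Cfsg.Agent.HallHigman

open Module
open scoped commutatorElement

variable {F : Type*} [Field F] [IsAlgClosed F] {V : Type*} [AddCommGroup V] [Module F V]
  [FiniteDimensional F V] {G : Type*} [Group G] [Finite G]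

/-- The orbit of a simple submodule under a fixed-point-free `x`: an invariant translate on which
`x^(p^k)` has no fixed vector. -/
theorem exists_period_fpf {p : ℕ} [hp : Fact p.Prime]
    (ρ : G →* Module.End F V) {Q : Subgroup G} {x : G}
    (hxN : x ∈ Subgroup.normalizer (Q : Set G)) {n : ℕ} (hxn : x ^ p ^ (n + 1) = 1)
    {W : Submodule F V} (hW : IsSimpleInv ρ Q W) (hfpf : ∀ v, ρ x v = v → v = 0) :
    ∃ k ≤ n, ∃ W' : Submodule F V, IsSimpleInv ρ Q W' ∧ QIso ρ Q W W' ∧
      (∀ w ∈ W', ρ (x ^ p ^ k) w ∈ W') ∧ ∀ w ∈ W', ρ (x ^ p ^ k) w = w → w = 0 := by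
  classical
  have hxi : ∀ i : ℕ, x ^ i ∈ Subgroup.normalizer (Q : Set G) := fun i => pow_mem hxN i
  let U : ℕ → Submodule F V := fun i => W.map (ρ (x ^ i))
  have hUs : ∀ i, IsSimpleInv ρ Q (U i) := fun i => hW.map (hxi i)
  have hU0 : U 0 = W := by
    simp only [U, pow_zero, map_one]
    exact Submodule.map_id W
  have hUadd : ∀ i j, (U i).map (ρ (x ^ j)) = U (j + i) := fun i j => by
    simp only [U, map_map_rho, pow_add]
  -- the period
  let S : Set ℕ := {i | QIso ρ Q W (U i)}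
  have hS0 : 0 ∈ S := by show QIso ρ Q W (U 0); rw [hU0]; exact QIso.refl W
  have hSadd : ∀ i j, i ∈ S → j ∈ S → i + j ∈ S := fun i j hi hj => by
    have h1 : QIso ρ Q (U i) (U (i + j)) := by
      have := QIso.map (hxi i) hj
      rwa [hUadd] at this
    exact QIso.trans hW.2.1 hi h1
  have hSmul : ∀ i k, i ∈ S → i * k ∈ S := fun i k hi => by
    induction k with
    | zero => exact hS0
    | succ k ih => rw [Nat.mul_succ]; exact hSadd _ _ ih hi
  have hUper : ∀ i k, U (i + p ^ (n + 1) * k) = U i := fun i k => by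
    simp only [U]; rw [pow_add x i, pow_mul, hxn, one_pow, mul_one]
  have hSmod : ∀ i, i ∈ S → i % p ^ (n + 1) ∈ S := fun i hi => by
    show QIso ρ Q W (U _)
    rw [← hUper (i % p ^ (n + 1)) (i / p ^ (n + 1)), Nat.mod_add_div]
    exact hi
  have hPS : p ^ (n + 1) ∈ S := by
    show QIso ρ Q W (U _)
    rw [← Nat.zero_add (p ^ (n + 1)), ← Nat.mul_one (p ^ (n + 1)), hUper]
    exact hS0
  have hex : ∃ i, 0 < i ∧ i ∈ S := ⟨_, pow_pos hp.out.pos _, hPS⟩
  obtain ⟨ht0, htS⟩ := Nat.find_spec hex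
  have htmin : ∀ i, 0 < i → i ∈ S → Nat.find hex ≤ i := fun i h1 h2 => Nat.find_min' hex ⟨h1, h2⟩
  -- the period is a power of `p`
  obtain ⟨k, hk, htk⟩ : ∃ k ≤ n + 1, Nat.find hex = p ^ k := by
    refine (Nat.dvd_prime_pow hp.out).mp ?_
    rcases (htmin _ (pow_pos hp.out.pos _) hPS).eq_or_lt with h | h
    · rw [h]
    have hg : (Nat.find hex).gcd (p ^ (n + 1)) ∈ S := by
      have hlt : (Nat.find hex).gcd (p ^ (n + 1)) < p ^ (n + 1) :=
        (Nat.gcd_le_left _ ht0).trans_lt h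
      obtain ⟨m, -, hm⟩ := Nat.exists_mul_mod_eq_gcd hlt
      rw [← hm]
      exact hSmod _ (hSmul _ m htS)
    have h1 := htmin _ (Nat.gcd_pos_of_pos_left _ ht0) hg
    have h2 := Nat.gcd_le_left (p ^ (n + 1)) ht0
    rw [← le_antisymm h2 h1]
    exact Nat.gcd_dvd_right _ _
  set t := p ^ k with ht
  have htpos : 0 < t := pow_pos hp.out.pos k
  have hzW : QIso ρ Q W (W.map (ρ (x ^ t))) := htk ▸ htS
  obtain ⟨W', hW', hiso, hzW'⟩ := exists_invariant_translate hW (hxi t) hzW
  let U' : ℕ → Submodule F V := fun i => W'.map (ρ (x ^ i))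
  have hU's : ∀ i, IsSimpleInv ρ Q (U' i) := fun i => hW'.map (hxi i)
  have hindep : ∀ i ∈ Finset.range t, ∀ j ∈ Finset.range t, i ≠ j → ¬ QIso ρ Q (U' i) (U' j) := by
    have key : ∀ i j, i < j → j < t → ¬ QIso ρ Q (U' i) (U' j) := by
      intro i j hij hj h
      have h1 := QIso.map (A := U' i) (B := U' j) (inv_mem (hxi i)) h
      have e0 : (U' i).map (ρ (x ^ i)⁻¹) = W' := by
        simp only [U', map_map_rho, inv_mul_cancel, map_one]; exact Submodule.map_id W'
      have e1 : (U' j).map (ρ (x ^ i)⁻¹) = U' (j - i) := by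
        simp only [U', map_map_rho]
        conv_lhs => rw [← Nat.add_sub_cancel' hij.le, pow_add, inv_mul_cancel_left]
      rw [e0, e1] at h1
      have h2 : QIso ρ Q W (U (j - i)) :=
        QIso.trans hW.2.1 (QIso.trans hW.2.1 hiso h1)
          (QIso.symm (hW.map (hxi _)).2.1 (QIso.map (hxi _) hiso))
      have h3 := htmin (j - i) (by omega) h2
      omega
    intro i hi j hj hne h
    rcases Nat.lt_or_gt_of_ne hne with h' | h'
    · exact key i j h' (Finset.mem_range.mp hj) h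
    · exact key j i h' (Finset.mem_range.mp hi) (QIso.symm (hU's i).2.1 h)
  have hsum : ∀ w ∈ W', (∑ i ∈ Finset.range t, ρ (x ^ i) w) = 0 → w = 0 := by
    intro w hw h
    have h0 : (0 : ℕ) ∈ Finset.range t := Finset.mem_range.mpr htpos
    rw [← Finset.add_sum_erase _ _ h0, add_eq_zero_iff_eq_neg] at h
    have hi := inf_biSup_eq_bot ((Finset.range t).erase 0) U'
      (fun i _ => hU's i) (fun i hi j hj =>
        hindep i (Finset.mem_of_mem_erase hi) j (Finset.mem_of_mem_erase hj))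
      (U' 0) (hU's 0) (fun i hi => hindep 0 h0 i (Finset.mem_of_mem_erase hi)
        (Finset.ne_of_mem_erase hi).symm)
    have h1 : ρ (x ^ 0) w ∈ U' 0 ⊓ ⨆ i ∈ (Finset.range t).erase 0, U' i :=
      ⟨⟨w, hw, rfl⟩, h ▸ Submodule.neg_mem _ (Submodule.sum_mem _ fun i hi =>
        Submodule.mem_iSup_of_mem i (Submodule.mem_iSup_of_mem hi ⟨w, hw, rfl⟩))⟩
    rw [hi, Submodule.mem_bot] at h1
    simpa using h1
  have hfix : ∀ w ∈ W', ρ (x ^ t) w = w → w = 0 := by
    intro w hw hwf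
    refine hsum w hw (hfpf _ ?_)
    rw [map_sum]
    have e1 := Finset.sum_range_succ' (fun i => ρ (x ^ i) w) t
    rw [Finset.sum_range_succ, hwf, pow_zero, map_one, Module.End.one_apply] at e1
    rw [add_right_cancel e1]
    refine Finset.sum_congr rfl fun i _ => ?_
    rw [← rho_mul_apply, pow_succ']
  refine ⟨k, ?_, W', hW', hiso, hzW', hfix⟩
  rcases hk.eq_or_lt with rfl | h
  · obtain ⟨w, hw, hw0⟩ := Submodule.exists_mem_ne_zero_of_ne_bot hW'.1
    exact absurd (hfix w hw (by rw [ht, hxn, map_one, Module.End.one_apply])) hw0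
  · omega

omit [Finite G] in
/-- Eigenspace dimensions of `T` with `T^P = 1` and no fixed vector. -/
theorem eigen_bounds_of_fpf {W : Type*} [AddCommGroup W] [Module F W]
    [FiniteDimensional F W] (T : Module.End F W) {P₀ : ℕ} (hP₀ : 0 < P₀) (hPF : (P₀ : F) ≠ 0)
    (hT : T ^ P₀ = 1) (hfix : ∀ w, T w = w → w = 0) :
    finrank F W ≤ finrank F ↥(intertw T T) ∧
      finrank F W * finrank F W ≤ (P₀ - 1) * finrank F ↥(intertw T T) := by
  classical
  have : NeZero (P₀ : F) := ⟨hPF⟩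
  have : NeZero P₀ := ⟨hP₀.ne'⟩
  obtain ⟨ζ, hζ⟩ := HasEnoughRootsOfUnity.exists_primitiveRoot F P₀
  let μ : ℕ → F := fun a => ζ ^ a
  have hμr : ∀ a, μ a ^ P₀ = 1 := fun a => by
    rw [← pow_mul, mul_comm, pow_mul, hζ.pow_eq_one, one_pow]
  have hμ0 : ∀ a, μ a ≠ 0 := fun a h => by
    have h1 := hμr a
    rw [h, zero_pow hP₀.ne'] at h1
    exact zero_ne_one h1
  let P : ℕ → Module.End F W := fun a =>
    (P₀ : F)⁻¹ • ∑ k ∈ Finset.range P₀, ((μ a)⁻¹) ^ k • T ^ k
  have hTP : ∀ a, T * P a = μ a • P a := by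
    intro a
    have h1 : ∑ k ∈ Finset.range P₀, ((μ a)⁻¹) ^ (k + 1) • T ^ (k + 1) =
        ∑ k ∈ Finset.range P₀, ((μ a)⁻¹) ^ k • T ^ k := by
      have e1 := Finset.sum_range_succ' (fun k => ((μ a)⁻¹) ^ k • T ^ k) P₀
      rw [Finset.sum_range_succ] at e1
      simp only [inv_pow, hμr, inv_one, hT, pow_zero, one_smul] at e1
      simpa only [inv_pow] using (add_right_cancel e1).symm
    simp only [P]
    rw [mul_smul_comm, smul_comm (μ a), Finset.mul_sum]
    conv_rhs => rw [← h1]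
    rw [Finset.smul_sum (r := μ a)]
    congr 1
    refine Finset.sum_congr rfl fun k _ => ?_
    rw [mul_smul_comm, ← pow_succ', smul_smul, pow_succ ((μ a)⁻¹), mul_comm (((μ a)⁻¹) ^ k),
      ← mul_assoc, mul_inv_cancel₀ (hμ0 a), one_mul]
  have hPT : ∀ a, P a * T = T * P a := fun a => by
    refine (Commute.smul_left (Commute.sum_left _ _ _ fun k _ => ?_) _).eq
    exact (Commute.pow_self T k).smul_left _
  have hone : ∑ a ∈ Finset.range P₀, P a = 1 := by
    simp only [P]
    rw [← Finset.smul_sum, Finset.sum_comm]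
    simp only [← Finset.sum_smul]
    rw [Finset.sum_eq_single_of_mem 0 (Finset.mem_range.mpr hP₀) fun k hk hk0 => ?_]
    · simp only [pow_zero, Finset.sum_const, Finset.card_range, nsmul_one, smul_smul,
        inv_mul_cancel₀ hPF, one_smul]
    · have hne : (ζ⁻¹) ^ k ≠ 1 := by
        rw [inv_pow, Ne, inv_eq_one]
        exact hζ.pow_ne_one_of_pos_of_lt hk0 (Finset.mem_range.mp hk)
      have hs : ∑ a ∈ Finset.range P₀, ((μ a)⁻¹) ^ k = 0 := by
        have e : ∀ a, ((μ a)⁻¹) ^ k = ((ζ⁻¹) ^ k) ^ a := fun a => by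
          simp only [μ, inv_pow, ← pow_mul, mul_comm]
        simp only [e]
        rw [geom_sum_eq hne, ← pow_mul, mul_comm, pow_mul, inv_pow ζ P₀, hζ.pow_eq_one, inv_one,
          one_pow, sub_self, zero_div]
      rw [hs, zero_smul]
  have hP0 : P 0 = 0 := LinearMap.ext fun w => hfix _ (by
    rw [← Module.End.mul_apply, hTP 0]
    simp [μ])
  let E : Fin (P₀ - 1) → Submodule F W := fun i => T.eigenspace (μ (i + 1))
  have hPE : ∀ (i : Fin (P₀ - 1)) (w : W), P (i + 1) w ∈ E i := fun i w => by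
    rw [Module.End.mem_eigenspace_iff, ← Module.End.mul_apply, hTP]
    rfl
  have hdelta : ∀ (i j : Fin (P₀ - 1)) (v : W), v ∈ E j →
      P (i + 1) v = if i = j then v else 0 := by
    intro i j v hv
    rw [Module.End.mem_eigenspace_iff] at hv
    have hpow : ∀ k : ℕ, (T ^ k) v = μ (j + 1) ^ k • v := by
      intro k
      induction k with
      | zero => simp
      | succ k ih => rw [pow_succ', Module.End.mul_apply, ih, map_smul, hv, smul_smul, pow_succ]
    simp only [P, LinearMap.smul_apply, LinearMap.sum_apply, hpow, smul_smul, ← mul_pow,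
      ← Finset.sum_smul]
    split
    · subst i
      rw [inv_mul_cancel₀ (hμ0 _)]
      simp [hPF]
    · have hne : (μ (i + 1))⁻¹ * μ (j + 1) ≠ 1 := by
        intro h
        rw [inv_mul_eq_one₀ (hμ0 _)] at h
        have := hζ.pow_inj (by omega) (by omega) h
        exact ‹¬i = j› (Fin.ext (by omega))
      rw [geom_sum_eq hne, mul_pow, inv_pow, hμr, hμr, inv_one, one_mul, sub_self, zero_div,
        mul_zero, zero_smul]
  -- the sum map is onto
  let S : (Π i, E i) →ₗ[F] W := ∑ i, (E i).subtype.comp (LinearMap.proj i)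
  have hS : Function.Surjective S := fun w => by
    refine ⟨fun i => ⟨P (i + 1) w, hPE i w⟩, ?_⟩
    have h1 : ∑ i : Fin (P₀ - 1), P (i + 1) w = w := by
      have e := congrArg (fun f : Module.End F W => f w) hone
      simp only [LinearMap.sum_apply, Module.End.one_apply] at e
      refine Eq.trans ?_ e
      conv_rhs => rw [show P₀ = P₀ - 1 + 1 from (Nat.sub_add_cancel hP₀).symm]
      rw [Finset.sum_range_succ', hP0, LinearMap.zero_apply, add_zero,
        ← Fin.sum_univ_eq_sum_range (fun k => P (k + 1) w)]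
    simpa [S, LinearMap.sum_apply] using h1
  have hd : finrank F W ≤ ∑ i, finrank F (E i) := by
    rw [← Module.finrank_pi_fintype F]
    rw [← finrank_top, ← LinearMap.range_eq_top.mpr hS]
    exact S.finrank_range_le
  -- the block diagonal maps commute with `T`
  let Φ₀ : (Π i, Module.End F (E i)) →ₗ[F] Module.End F W :=
    { toFun := fun f => ∑ i, (E i).subtype ∘ₗ (f i) ∘ₗ ((P (i + 1)).codRestrict (E i) (hPE i))
      map_add' := fun f g => by
        simp only [Pi.add_apply, LinearMap.add_comp, LinearMap.comp_add, Finset.sum_add_distrib]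
      map_smul' := fun c f => by
        simp only [Pi.smul_apply, LinearMap.smul_comp, LinearMap.comp_smul, RingHom.id_apply,
          Finset.smul_sum] }
  have hΦ₀ : ∀ f w, Φ₀ f w = ∑ i, ((f i ⟨P (i + 1) w, hPE i w⟩ : E i) : W) := fun f w => by
    simp [Φ₀, LinearMap.sum_apply, LinearMap.codRestrict]
  have hmem : ∀ f, Φ₀ f ∈ intertw T T := fun f => mem_intertw.mpr fun w => by
    rw [hΦ₀, hΦ₀, map_sum]
    refine Finset.sum_congr rfl fun i _ => ?_
    have h1 : (⟨P (i + 1) (T w), hPE i (T w)⟩ : E i) = μ (i + 1) • ⟨P (i + 1) w, hPE i w⟩ :=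
      Subtype.ext (by
        show P (i + 1) (T w) = μ (i + 1) • P (i + 1) w
        rw [← Module.End.mul_apply, hPT, hTP]
        rfl)
    rw [h1, map_smul, Submodule.coe_smul]
    exact Module.End.mem_eigenspace_iff.mp (f i _).2
  have hinj : Function.Injective (Φ₀.codRestrict _ hmem) := by
    rw [injective_iff_map_eq_zero]
    intro f hf
    funext j
    refine LinearMap.ext fun v => Subtype.ext ?_
    have h1 : Φ₀ f = 0 := congrArg Subtype.val hf
    have h2 := LinearMap.congr_fun h1 (v : W)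
    rw [hΦ₀, Finset.sum_eq_single j (fun i _ hij => by
      rw [show (⟨P (i + 1) (v : W), hPE i _⟩ : E i) = 0 from Subtype.ext (by
        show P (i + 1) (v : W) = 0
        rw [hdelta i j _ v.2, if_neg hij]), map_zero]
      rfl) (fun h => absurd (Finset.mem_univ j) h)] at h2
    rw [show (⟨P (j + 1) (v : W), hPE j _⟩ : E j) = v from Subtype.ext (by
      show P (j + 1) (v : W) = v
      rw [hdelta j j _ v.2, if_pos rfl])] at h2
    simpa using h2
  have hsq : ∑ i, finrank F (E i) ^ 2 ≤ finrank F ↥(intertw T T) := by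
    have h1 := LinearMap.finrank_le_finrank_of_injective hinj
    rw [Module.finrank_pi_fintype] at h1
    simpa [Module.finrank_linearMap, sq] using h1
  refine ⟨(hd.trans (Finset.sum_le_sum fun i _ => Nat.le_self_pow two_ne_zero _)).trans hsq, ?_⟩
  calc finrank F W * finrank F W ≤ (∑ i, finrank F (E i)) ^ 2 := by
        rw [sq]; exact Nat.mul_le_mul hd hd
    _ ≤ (P₀ - 1) * ∑ i, finrank F (E i) ^ 2 := by
        simpa using sq_sum_le_card_mul_sum_sq (s := Finset.univ) (f := fun i => finrank F (E i))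
    _ ≤ _ := Nat.mul_le_mul_left _ hsq

/-- An irreducible critical q-group with an element of order dividing `p^(N+1)` without fixed
vectors: the dimension is `q^m = p^(N+1) - 1`. -/
theorem irred_fpf_dim [Nontrivial V] (ρ : G →* Module.End F V) {Q : Subgroup G}
    (hirr : IsIrred ρ Q) {z : G} (hzN : z ∈ Subgroup.normalizer (Q : Set G)) {p : ℕ}
    [hp : Fact p.Prime] (hpF : (p : F) ≠ 0) {N : ℕ} (hzP : z ^ p ^ (N + 1) = 1) {q : ℕ}
    [hq' : Fact q.Prime] (hqp : q ≠ p) (hQ : IsPGroup q Q)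
    (hQA : ⁅Q, Subgroup.zpowers (z ^ p ^ N)⁆ = Q)
    (hD : ⁅Q, Q⁆ ≤ Subgroup.centralizer ({z ^ p ^ N} : Set G))
    (hne : ∃ g ∈ Q, ρ g ≠ 1) (hfix : ∀ v, ρ z v = v → v = 0) :
    ∃ m, 1 ≤ m ∧ q ^ m + 1 = p ^ (N + 1) ∧ (∃ a ∈ Q, ∃ b ∈ Q, ρ ⁅a, b⁆ ≠ 1) ∧
      ∃ K₀ : Subgroup G, K₀ ≤ Q ∧ K₀.relIndex Q = q ^ m * q ^ m ∧
        ∀ g, g ∈ K₀ ↔ g ∈ Q ∧ ∃ c : F, ρ g = c • 1 := by
  classical
  have hq := hq'.out
  obtain ⟨e, he⟩ := IsPGroup.iff_card.mp hQ
  obtain ⟨hQQ, hcent, hgen⟩ :=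
    critical_hyps (Subgroup.zpowers_le.mpr (pow_mem hzN (p ^ N))) hQA hD
  set y : G := z ^ p ^ N with hy₀
  have hsc : ∀ g : G, g ∈ Q → Commute y g → ∃ c : F, ρ g = c • 1 := by
    intro g hg hcomm
    exact mem_scalar_of_commute hirr _ fun a ha =>
      ((show Commute g a from hcent g hg hcomm a ha).map ρ).eq
  have hcomm : ∀ g ∈ Q, ∀ h ∈ Q, ∃ c : F, ρ ⁅g, h⁆ = c • 1 := by
    intro g hg h hh
    refine hsc _ ?_ (hQQ g hg h hh)
    rw [commutatorElement_def]
    exact Q.mul_mem (Q.mul_mem (Q.mul_mem hg hh) (Q.inv_mem hg)) (Q.inv_mem hh)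
  set K := scalarSubgroup ρ Q
  set P := p ^ (N + 1) with hP
  let zaut : MulAut Q := Q.normalizerMonoidHom ⟨z, hzN⟩
  have hza : ∀ (j : ℕ) (g : Q), (((zaut ^ j) g : Q) : G) = z ^ j * g * (z ^ j)⁻¹ := by
    intro j
    induction j with
    | zero => intro g; simp
    | succ j ih =>
      intro g
      rw [pow_succ', MulAut.mul_apply, pow_succ']
      show z * ((zaut ^ j) g : G) * z⁻¹ = _
      rw [ih]
      simp [mul_assoc]
  have hfree : ∀ g : Q, ∀ j, 0 < j → j < P → g⁻¹ * (zaut ^ j) g ∈ K → g ∈ K := by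
    intro g j hj hjP hmem
    let Z : Set ℕ := {i | g⁻¹ * (zaut ^ i) g ∈ K}
    have hKz : ∀ (i : ℕ) (a : Q), a ∈ K → (zaut ^ i) a ∈ K := by
      rintro i a ⟨c, hc⟩
      refine ⟨c, ?_⟩
      rw [hza, map_mul, map_mul, hc, mul_smul_comm, mul_one, smul_mul_assoc, rho_mul_inv]
    have hZadd : ∀ i l, i ∈ Z → l ∈ Z → i + l ∈ Z := fun i l hi hl => by
      show g⁻¹ * (zaut ^ (i + l)) g ∈ K
      rw [show g⁻¹ * (zaut ^ (i + l)) g = (g⁻¹ * (zaut ^ i) g) * (zaut ^ i) (g⁻¹ * (zaut ^ l) g) by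
        rw [map_mul, map_inv, pow_add, MulAut.mul_apply]; group]
      exact K.mul_mem hi (hKz i _ hl)
    have hZmul : ∀ m, j * m ∈ Z := fun m => by
      induction m with
      | zero => show g⁻¹ * (zaut ^ 0) g ∈ K; simp
      | succ m ih => rw [Nat.mul_succ]; exact hZadd _ _ ih hmem
    obtain ⟨m, hm⟩ := exists_mul_mod_eq_gcd_pow (n := N) hj hjP
    have hy' : g⁻¹ * (zaut ^ p ^ N) g ∈ K := by
      have h1 : g⁻¹ * (zaut ^ (j * m)) g ∈ K := hZmul m
      convert h1 using 3
      refine MulEquiv.ext fun a => Subtype.ext ?_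
      rw [hza, hza]
      conv_rhs => rw [← Nat.mod_add_div (j * m) P, pow_add, pow_mul, hzP, one_pow, mul_one]
      rw [hm]
    -- lift to a fixed point of `y`
    let K' : Subgroup G := K.map Q.subtype
    have hcop : (Nat.card (Subgroup.zpowers y)).Coprime (Nat.card Q) := by
      have hdvd : orderOf y ∣ p := by
        refine orderOf_dvd_of_pow_eq_one ?_
        rw [hy₀, ← pow_mul, ← pow_succ, ← hP, hzP]
      have hcQ : Nat.card Q = q ^ e := he
      rw [Nat.card_zpowers, hcQ]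
      exact (((Nat.coprime_primes hp.out hq).mpr (Ne.symm hqp)).coprime_dvd_left hdvd).pow_right e
    have hAK : Subgroup.zpowers y ≤ Subgroup.normalizer (Q : Set G) :=
      Subgroup.zpowers_le.mpr (pow_mem hzN _)
    have hnorm : Subgroup.zpowers y ≤ Subgroup.normalizer (K' : Set G) := by
      refine Subgroup.zpowers_le.mpr (pow_mem ?_ _)
      rw [Subgroup.mem_normalizer_iff]
      intro a
      constructor
      · rintro ⟨b, hb, rfl⟩
        refine ⟨(zaut ^ 1) b, hKz 1 b hb, ?_⟩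
        show (((zaut ^ 1) b : Q) : G) = _
        rw [hza, pow_one]; rfl
      · rintro ⟨b, hb, hbe⟩
        refine ⟨(zaut ^ (P - 1)) b, hKz _ b hb, ?_⟩
        show (((zaut ^ (P - 1)) b : Q) : G) = _
        have hP1 : z ^ (P - 1) = z⁻¹ := eq_inv_of_mul_eq_one_left (by
          rw [← pow_succ, Nat.sub_add_cancel (pow_pos hp.out.pos _), hzP])
        rw [hza, hP1, show ((b : Q) : G) = z * a * z⁻¹ from hbe]
        simp [mul_assoc]
    have hyy : ((zaut ^ p ^ N) g : G) = y * (g : G) * y⁻¹ := by rw [hza]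
    obtain ⟨c, hc, hcK⟩ := Coprime.exists_mem_centralizer_of_coset' hAK hcop
      (Or.inl inferInstance) (N := K') (Subgroup.map_subtype_le _) hnorm (k := (g : G)) g.2 (by
        -- the set of elements fixing the coset is a subgroup
        have hy1 : (g : G)⁻¹ * y * g * y⁻¹ ∈ K' :=
          ⟨_, hy', by rw [Subgroup.coe_subtype, Subgroup.coe_mul, Subgroup.coe_inv, hyy]; group⟩
        let L : Subgroup G :=
          { carrier := {a | a ∈ Subgroup.normalizer (K' : Set G) ∧ (g : G)⁻¹ * a * g * a⁻¹ ∈ K'}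
            one_mem' := ⟨one_mem _, by simp⟩
            mul_mem' := fun {a b} ha hb => ⟨mul_mem ha.1 hb.1, by
              have h1 := K'.mul_mem ha.2 ((Subgroup.mem_normalizer_iff.mp ha.1 _).mp hb.2)
              simpa [mul_assoc] using h1⟩
            inv_mem' := fun {a} ha => ⟨inv_mem ha.1, by
              have h1 := (Subgroup.mem_normalizer_iff.mp (inv_mem ha.1) _).mp (K'.inv_mem ha.2)
              simpa [mul_assoc] using h1⟩ }
        have h2 : Subgroup.zpowers y ≤ L :=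
          Subgroup.zpowers_le.mpr (show y ∈ L from ⟨hnorm (Subgroup.mem_zpowers _), hy1⟩)
        intro a ha
        exact (h2 ha).2)
    obtain ⟨b, hb, hbe⟩ := hcK
    have hcS : (⟨c, hc.1⟩ : Q) ∈ K :=
      hsc c hc.1 (Subgroup.mem_centralizer_iff.mp hc.2 y (Subgroup.mem_zpowers _))
    rw [show g = (⟨c, hc.1⟩ : Q) * b⁻¹ from Subtype.ext (by
      rw [Subgroup.coe_mul, Subgroup.coe_inv, show ((b : Q) : G) = (g : G)⁻¹ * c from hbe]
      simp)]
    exact K.mul_mem hcS (K.inv_mem hb)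
  have hnt : ∃ a ∈ Q, ∃ b ∈ Q, ρ ⁅a, b⁆ ≠ 1 := by
    by_contra hcon
    push Not at hcon
    have hall : ∀ g : G, g ∈ Q → ∃ c : F, ρ g = c • 1 := fun g hg => by
      refine mem_scalar_of_commute hirr _ fun a ha => ?_
      rw [commute_iff_eq, ← map_mul, ← map_mul]
      rw [show g * a = ⁅g, a⁆ * (a * g) by rw [commutatorElement_def]; group, map_mul,
        hcon g hg a ha, one_mul]
    obtain ⟨g₁, hg₁, hne'⟩ := hne
    have hcl : Subgroup.closure ((fun g => ⁅g, y⁆) '' (Q : Set G)) ≤ ρ.ker := by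
      rw [Subgroup.closure_le]
      rintro _ ⟨g, hg, rfl⟩
      obtain ⟨c, hc⟩ := hall g hg
      have hc0 : c ≠ 0 := scalar_ne_zero hc
      have hinv : ρ g⁻¹ = c⁻¹ • 1 := by
        have h1 := rho_inv_mul (ρ := ρ) g
        rw [hc, mul_smul_comm, mul_one] at h1
        rw [← h1, smul_smul, inv_mul_cancel₀ hc0, one_smul]
      show ρ ⁅g, y⁆ = 1
      rw [commutatorElement_def, map_mul, map_mul, map_mul, hc, hinv]
      simp [smul_smul, inv_mul_cancel₀ hc0, mul_inv_cancel₀ hc0, rho_mul_inv]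
    exact hne' (hcl (hgen hg₁))
  have hcard := card_quotient_scalar hirr hcomm
  set d := finrank F V
  have hd2 : 2 ≤ d := by
    by_contra hcon
    have h1 : d = 1 := by
      have : 0 < d := Module.finrank_pos
      omega
    rw [h1, Nat.mul_one] at hcard
    have hKtop : K = ⊤ := Subgroup.index_eq_one.mp hcard
    obtain ⟨a, ha, b, hb, hne⟩ := hnt
    obtain ⟨c, hc⟩ : ∃ c : F, ρ a = c • 1 :=
      mem_scalarSubgroup.mp (hKtop ▸ Subgroup.mem_top (⟨a, ha⟩ : Q))
    refine hne ?_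
    have h2 : ρ (a * b) = ρ (b * a) := by
      rw [map_mul, map_mul, hc, smul_mul_assoc, one_mul, mul_smul_comm, mul_one]
    rw [show ⁅a, b⁆ = (a * b) * (b * a)⁻¹ by rw [commutatorElement_def]; group, map_mul, h2,
      ← map_mul, mul_inv_cancel, map_one]
  have hTP : ρ z ^ P = 1 := by rw [← map_pow, hzP, map_one]
  have hPpos : 0 < P := pow_pos hp.out.pos _
  have h0 := finrank_commutant_mul hirr hcomm (ρ z) (ρ z⁻¹) (rho_mul_inv z) (rho_inv_mul z) zaut
    (fun g => by
      rw [show ((zaut g : Q) : G) = z * g * z⁻¹ from rfl, map_mul, map_mul])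
    hPpos hTP (MulEquiv.ext fun a => Subtype.ext (by rw [hza, hzP]; simp)) hfree
  obtain ⟨hb1, hb2⟩ := eigen_bounds_of_fpf (ρ z) hPpos
    (by rw [hP, Nat.cast_pow]; exact pow_ne_zero _ hpF) hTP hfix
  obtain ⟨c, hc⟩ : ∃ c, finrank F ↥(intertw (ρ z) (ρ z)) = c + 1 :=
    ⟨finrank F ↥(intertw (ρ z) (ρ z)) - 1, by omega⟩
  rw [hc, Nat.add_sub_cancel] at h0
  rw [hc] at hb1 hb2
  change P * c = d * d - 1 at h0
  change d ≤ c + 1 at hb1
  change d * d ≤ (P - 1) * (c + 1) at hb2
  have hdP : d + 1 = P := by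
    obtain ⟨d', hd'⟩ : ∃ d', d = d' + 2 := ⟨d - 2, by omega⟩
    obtain ⟨P', hP'⟩ : ∃ P', P = P' + 1 := ⟨P - 1, by omega⟩
    rw [hd'] at h0 hb1 hb2 ⊢
    rw [hP', Nat.add_sub_cancel] at hb2
    rw [hP'] at h0 ⊢
    have e1 : (d' + 2) * (d' + 2) - 1 = (d' + 1) * (d' + 3) := by
      rw [show (d' + 2) * (d' + 2) = (d' + 1) * (d' + 3) + 1 by ring, Nat.add_sub_cancel]
    rw [e1] at h0
    refine le_antisymm ?_ ?_
    · nlinarith [h0, hb2]
    · nlinarith [h0, hb1]
  obtain ⟨m, -, hm⟩ : ∃ m ≤ e, d = q ^ m := by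
    refine (Nat.dvd_prime_pow hq).mp ?_
    have h1 : Nat.card (Q ⧸ K) ∣ Nat.card Q := Subgroup.index_dvd_card K
    rw [hcard, he] at h1
    exact (Dvd.intro _ rfl).trans h1
  have hm1 : 1 ≤ m := by
    refine Nat.one_le_iff_ne_zero.mpr fun h => ?_
    rw [h, pow_zero] at hm
    omega
  refine ⟨m, hm1, by rw [← hm, hdP], hnt, K.map Q.subtype, Subgroup.map_subtype_le _, ?_, ?_⟩
  · rw [Subgroup.relIndex, Subgroup.subgroupOf,
      Subgroup.comap_map_eq_self_of_injective Q.subtype_injective, Subgroup.index, hcard, hm]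
  · intro g
    constructor
    · rintro ⟨g', hg', rfl⟩
      exact ⟨g'.2, mem_scalarSubgroup.mp hg'⟩
    · rintro ⟨hg, hc⟩
      exact ⟨⟨g, hg⟩, mem_scalarSubgroup.mpr hc, rfl⟩

end Cfsg.Agent.HallHigman
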