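import Cfsg.Agent.Lib.HallHigman.EndModule
import Cfsg.Agent.Lib.HallHigman.Bound

/-!
The endomorphism module for a fixed-point-free cyclic `p`-group (owner: helper77).

* `finrank_eq_mul_of_ker_le_range`, `d_add_one_eq'`, `finrank_commutant_mul_of_fixedPointFree`
-/

set_option autoImplicit false

namespace Cfsg.Agent.HallHigman

open Module

variable {F : Type*} [Field F] {W : Type*} [AddCommGroup W] [Module F W] [FiniteDimensional F W] [Nontrivial W]


/-- A nilpotent map all of whose Jordan blocks have size `P`. -/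
theorem finrank_eq_mul_of_ker_le_range {M : Type*} [AddCommGroup M] [Module F M] [FiniteDimensional F M]
    (N : Module.End F M) {P : ℕ} (hN : N ^ P = 0)
    (h : LinearMap.ker N ≤ LinearMap.range (N ^ (P - 1))) :
    finrank F M = P * finrank F (LinearMap.ker N) := by
  have hstep : ∀ i ≤ P, finrank F ↥(LinearMap.range (N ^ i)) + i * finrank F (LinearMap.ker N) = finrank F M := by
    intro i
    induction i with
    | zero => intro _; rw [pow_zero, zero_mul, add_zero, LinearMap.range_eq_top.mpr fun x => ⟨x, rfl⟩, finrank_top]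
    | succ i ih =>
      intro hi
      have h1 := LinearMap.finrank_range_add_finrank_ker (N.domRestrict (LinearMap.range (N ^ i)))
      have hr : LinearMap.range (N.domRestrict (LinearMap.range (N ^ i))) = LinearMap.range (N ^ (i + 1)) := by
        rw [LinearMap.range_domRestrict, pow_succ', Module.End.mul_eq_comp, LinearMap.range_comp]
      have hle : LinearMap.ker N ≤ LinearMap.range (N ^ i) := h.trans (range_pow_antitone N (by omega))
      have hk : finrank F (LinearMap.ker (N.domRestrict (LinearMap.range (N ^ i)))) =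
          finrank F (LinearMap.ker N) := by
        rw [← LinearMap.finrank_range_of_inj (f := (LinearMap.range (N ^ i)).subtype.domRestrict
          (LinearMap.ker (N.domRestrict (LinearMap.range (N ^ i))))) (fun a b e => Subtype.ext (Subtype.ext e))]
        congr 2 <;>
          first
          | rfl
          | (rw [LinearMap.range_domRestrict]
             ext y
             exact ⟨by rintro ⟨a, ha, rfl⟩; exact ha, fun hy => ⟨⟨y, hle hy⟩, hy, rfl⟩⟩)
      rw [hr, hk] at h1
      rw [← ih (by omega), ← h1, add_one_mul]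
      omega
  have := hstep P le_rfl
  rw [hN, LinearMap.range_zero, finrank_bot, zero_add] at this
  exact this.symm


/-- `End W` is scalars plus a free module for a cyclic `p`-group acting without fixed points on `Q / K`. -/
theorem finrank_commutant_mul_of_fixedPointFree [IsAlgClosed F] {G : Type*} [Group G] {ρ : G →* Module.End F W}
    {Q : Subgroup G} [Finite Q] (hirr : IsIrred ρ Q) {p : ℕ} [Fact p.Prime] [CharP F p]
    (T T' : Module.End F W) (hTT' : T * T' = 1) (hT'T : T' * T = 1)
    (z : MulAut Q) (hz : ∀ g : Q, T * ρ (g : G) * T' = ρ (z g : G)) {n : ℕ}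
    (hTP : T ^ p ^ (n + 1) = 1) (hzP : z ^ p ^ (n + 1) = 1)
    (K : Subgroup Q) [hKn : K.Normal] (hK : ∀ g ∈ K, ∃ c : F, ρ (g : G) = c • 1) (hKz : ∀ g ∈ K, z g ∈ K)
    (hfree : ∀ g : Q, ∀ j, 0 < j → j < p ^ (n + 1) → g⁻¹ * (z ^ j) g ∈ K → g ∈ K) :
    p ^ (n + 1) * (finrank F ↥(intertw T T) - 1) = finrank F W * finrank F W - 1 := by
  classical
  set P := p ^ (n + 1) with hP
  have hPpos : 0 < P := pow_pos (Fact.out : p.Prime).pos _
  have hPF : (P : F) = 0 := by rw [hP, Nat.cast_pow, CharP.cast_eq_zero F p, zero_pow n.succ_ne_zero]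
  -- conjugation
  let L : Module.End F (Module.End F W) := (LinearMap.mulLeft F T).comp (LinearMap.mulRight F T')
  have hL : ∀ X, L X = T * X * T' := fun X => (mul_assoc _ _ _).symm
  let cj : Q →* Module.End F (Module.End F W) :=
    { toFun := fun g => (LinearMap.mulLeft F (ρ (g : G))).comp (LinearMap.mulRight F (ρ ((g⁻¹ : Q) : G)))
      map_one' := LinearMap.ext fun X => by simp
      map_mul' := fun a b => LinearMap.ext fun X => by simp [mul_assoc] }
  have hcj : ∀ (g : Q) X, cj g X = ρ (g : G) * X * ρ ((g⁻¹ : Q) : G) := fun g X => (mul_assoc _ _ _).symm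
  let c : Q ⧸ K →* Module.End F (Module.End F W) := QuotientGroup.lift K cj fun g hg => LinearMap.ext fun X => by
    obtain ⟨a, ha⟩ := hK g hg
    have h1 : ρ ((g⁻¹ : Q) : G) * ρ (g : G) = 1 := rho_inv_mul (g : G)
    rw [ha, mul_smul_comm, mul_one] at h1
    rw [hcj, ha, smul_mul_assoc, one_mul, smul_mul_assoc, ← mul_smul_comm, h1, mul_one, Module.End.one_apply]
  have hc : ∀ (g : Q), c g = cj g := fun g => rfl
  let σ : Q ⧸ K → Q ⧸ K := QuotientGroup.map K K z.toMonoidHom (fun g hg => hKz g hg)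
  have hσ : ∀ (j : ℕ) (g : Q), σ^[j] (g : Q ⧸ K) = (((z ^ j) g : Q) : Q ⧸ K) := by
    intro j
    induction j with
    | zero => intro g; rfl
    | succ j ih => intro g; rw [Function.iterate_succ_apply', ih, pow_succ', MulAut.mul_apply]; rfl
  have hσP : ∀ u, σ^[P] u = u := fun u => by
    obtain ⟨g, rfl⟩ := QuotientGroup.mk_surjective u
    rw [hσ, hzP]; rfl
  have hσmul : ∀ i u, σ^[P * i] u = u := fun i u => by
    rw [Function.iterate_mul]; exact Function.iterate_fixed (hσP u) i
  have hsemi : ∀ u, ∀ j, 0 < j → j < P → σ^[j] u = u → u = 1 := by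
    intro u j hj hjP h
    obtain ⟨g, rfl⟩ := QuotientGroup.mk_surjective u
    rw [hσ, eq_comm, QuotientGroup.eq] at h
    exact (QuotientGroup.eq_one_iff g).mpr (hfree g j hj hjP h)
  have hσ1 : ∀ j, σ^[j] (1 : Q ⧸ K) = 1 := fun j => by
    rw [show (1 : Q ⧸ K) = ((1 : Q) : Q ⧸ K) from rfl, hσ, map_one]
  have hσne : ∀ j, ∀ u : Q ⧸ K, u ≠ 1 → σ^[j] u ≠ 1 := fun j u hu h => hu (by
    obtain ⟨k, hk⟩ : ∃ k, P * (j + 1) = k + j := ⟨P * (j + 1) - j, by
      have := Nat.le_mul_of_pos_left (j + 1) hPpos; omega⟩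
    rw [← hσmul (j + 1) u, hk, Function.iterate_add_apply, h, hσ1])
  -- `L` and `c`
  have hLc : ∀ (j : ℕ) (u : Q ⧸ K) X, (L ^ j) (c u X) = c (σ^[j] u) ((L ^ j) X) := by
    intro j
    induction j with
    | zero => intro u X; rfl
    | succ j ih =>
      intro u X
      rw [pow_succ', Module.End.mul_apply, Module.End.mul_apply, ih, Function.iterate_succ_apply']
      obtain ⟨g, hg⟩ := QuotientGroup.mk_surjective (σ^[j] u)
      rw [← hg, show σ (g : Q ⧸ K) = ((z g : Q) : Q ⧸ K) from rfl, hc, hc, hcj, hcj, hL, hL, ← hz, ← map_inv z, ← hz]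
      generalize (L ^ j) X = Y
      generalize ρ (g : G) = a
      generalize ρ ((g⁻¹ : Q) : G) = b
      calc T * (a * Y * b) * T' = T * a * 1 * Y * 1 * b * T' := by simp [mul_assoc]
        _ = T * a * (T' * T) * Y * (T' * T) * b * T' := by rw [hT'T]
        _ = T * a * T' * (T * Y * T') * (T * b * T') := by simp only [mul_assoc]
  -- orbit representatives
  letI := Fintype.ofFinite (Q ⧸ K)
  let e : Q ⧸ K → ℕ := fun u => Fintype.equivFin (Q ⧸ K) u
  have he : Function.Injective e := Fin.val_injective.comp (Fintype.equivFin (Q ⧸ K)).injective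
  let R : Finset (Q ⧸ K) := Finset.univ.filter fun u => u ≠ 1 ∧ ∀ j < P, e u ≤ e (σ^[j] u)
  have hred : ∀ k u, σ^[k] u = σ^[k % P] u := fun k u => by
    conv_lhs => rw [← Nat.mod_add_div k P, Function.iterate_add_apply, hσmul]
  have hbij : ∀ (f : Q ⧸ K → Module.End F W),
      ∑ x ∈ Finset.range P ×ˢ R, f (σ^[x.1] x.2) = ∑ u ∈ Finset.univ.erase 1, f u := by
    intro f
    refine Finset.sum_bij (fun x _ => σ^[x.1] x.2) ?_ ?_ ?_ (fun _ _ => rfl)
    · rintro ⟨j, u⟩ h
      obtain ⟨-, hu⟩ := Finset.mem_product.mp h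
      exact Finset.mem_erase.mpr ⟨hσne j u (Finset.mem_filter.mp hu).2.1, Finset.mem_univ _⟩
    · rintro ⟨i, u⟩ hiu ⟨j, v⟩ hjv h
      obtain ⟨hi, hu⟩ := Finset.mem_product.mp hiu
      obtain ⟨hj, hv⟩ := Finset.mem_product.mp hjv
      rw [Finset.mem_range] at hi hj
      obtain ⟨-, hu1, hu⟩ := Finset.mem_filter.mp hu
      obtain ⟨-, hv1, hv⟩ := Finset.mem_filter.mp hv
      have h1 : u = σ^[(P - i + j) % P] v := by
        rw [← hred, Function.iterate_add_apply, ← h, ← Function.iterate_add_apply, Nat.sub_add_cancel hi.le, hσP]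
      have h2 : v = σ^[(P - j + i) % P] u := by
        rw [← hred, Function.iterate_add_apply, h, ← Function.iterate_add_apply, Nat.sub_add_cancel hj.le, hσP]
      have h3 : u = v := he (le_antisymm (le_of_le_of_eq (hu _ (Nat.mod_lt _ hPpos)) (congrArg e h2.symm))
        (le_of_le_of_eq (hv _ (Nat.mod_lt _ hPpos)) (congrArg e h1.symm)))
      subst h3
      have h4 : (P - i + j) % P = 0 := by
        by_contra hne
        exact hu1 (hsemi u _ (Nat.pos_of_ne_zero hne) (Nat.mod_lt _ hPpos) h1.symm)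
      have h5 : i = j := by
        rcases Nat.lt_trichotomy j i with h' | h' | h'
        · rw [Nat.mod_eq_of_lt (by omega)] at h4; omega
        · exact h'.symm
        · rw [show P - i + j = (j - i) + P by omega, Nat.add_mod_right, Nat.mod_eq_of_lt (by omega)] at h4
          omega
      rw [h5]
    · intro u hu
      obtain ⟨hu1, -⟩ := Finset.mem_erase.mp hu
      obtain ⟨j₀, hj₀, hmin⟩ := Finset.exists_min_image (Finset.range P) (fun j => e (σ^[j] u))
        ⟨0, Finset.mem_range.mpr hPpos⟩
      rw [Finset.mem_range] at hj₀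
      refine ⟨((P - j₀) % P, σ^[j₀] u), Finset.mem_product.mpr ⟨Finset.mem_range.mpr (Nat.mod_lt _ hPpos),
        Finset.mem_filter.mpr ⟨Finset.mem_univ _, hσne _ u hu1, fun j _ => ?_⟩⟩, ?_⟩
      · rw [← Function.iterate_add_apply, hred (j + j₀)]
        exact hmin _ (Finset.mem_range.mpr (Nat.mod_lt _ hPpos))
      · show σ^[(P - j₀) % P] (σ^[j₀] u) = u
        rw [← hred, ← Function.iterate_add_apply, Nat.sub_add_cancel hj₀.le, hσP]
  have hcard : (Nat.card (Q ⧸ K) : F) = 1 := by
    have h1 := hbij (fun _ => (1 : Module.End F W))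
    rw [Finset.sum_const, Finset.sum_const, Finset.card_product, Finset.card_range,
      Finset.card_erase_of_mem (Finset.mem_univ _), Finset.card_univ, ← Nat.card_eq_fintype_card,
      ← Nat.cast_smul_eq_nsmul F, ← Nat.cast_smul_eq_nsmul F (Nat.card (Q ⧸ K) - 1), Nat.cast_mul, hPF, zero_mul,
      zero_smul, eq_comm, smul_eq_zero, Nat.cast_sub (Nat.card_pos (α := Q ⧸ K)), sub_eq_zero, Nat.cast_one] at h1
    exact h1.resolve_right one_ne_zero
  -- averaging
  set E : Module.End F (Module.End F W) := ∑ u, c u with hE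
  set A : Module.End F (Module.End F W) := ∑ u ∈ R, c u with hA
  have hcE : ∀ u, c u * E = E := fun u => by
    rw [hE, Finset.mul_sum]
    exact Fintype.sum_equiv (Equiv.mulLeft u) _ _ fun v => by rw [Equiv.coe_mulLeft, map_mul]
  have hEc : ∀ u, E * c u = E := fun u => by
    rw [hE, Finset.sum_mul]
    exact Fintype.sum_equiv (Equiv.mulRight u) _ _ fun v => by rw [Equiv.coe_mulRight, map_mul]
  have hEE : E * E = E := by
    conv_lhs => arg 2; rw [hE]
    rw [Finset.mul_sum, Finset.sum_congr rfl fun u _ => hEc u, Finset.sum_const, Finset.card_univ,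
      ← Nat.card_eq_fintype_card, ← Nat.cast_smul_eq_nsmul F, hcard, one_smul]
  have hE1 : E 1 = 1 := by
    rw [hE, LinearMap.sum_apply, Finset.sum_congr rfl (fun u _ => show c u 1 = (1 : Module.End F W) by
      obtain ⟨g, rfl⟩ := QuotientGroup.mk_surjective u
      rw [hc, hcj, mul_one, Subgroup.coe_inv, rho_mul_inv]),
      Finset.sum_const, Finset.card_univ,
      ← Nat.card_eq_fintype_card, ← Nat.cast_smul_eq_nsmul F, hcard, one_smul]
  have hErange : LinearMap.range E = F ∙ (1 : Module.End F W) := by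
    refine le_antisymm ?_ ((Submodule.span_singleton_le_iff_mem _ _).mpr ⟨1, hE1⟩)
    rintro _ ⟨X, rfl⟩
    have hfix : ∀ g ∈ Q, Commute (E X) (ρ g) := by
      intro g hg
      have h1 := LinearMap.congr_fun (hcE ((⟨g, hg⟩ : Q) : Q ⧸ K)) X
      rw [Module.End.mul_apply, hc, hcj] at h1
      show E X * ρ g = ρ g * E X
      conv_lhs => rw [← h1]
      rw [Subgroup.coe_inv, mul_assoc, rho_inv_mul, mul_one]
    obtain ⟨a, ha⟩ := mem_scalar_of_commute hirr (E X) hfix
    exact ha ▸ Submodule.smul_mem _ _ (Submodule.mem_span_singleton_self _)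
  have hone : (1 : Module.End F W) ≠ 0 := one_ne_zero
  have hrk : finrank F (LinearMap.ker E) + 1 = finrank F W * finrank F W := by
    have h1 := LinearMap.finrank_range_add_finrank_ker E
    rw [hErange, finrank_span_singleton hone, Module.finrank_linearMap] at h1
    omega
  have hLE : ∀ X, L (E X) = E (L X) := fun X => by
    rw [hE, LinearMap.sum_apply, LinearMap.sum_apply, map_sum]
    refine Fintype.sum_bijective σ ?_ _ _ fun u => by simpa using hLc 1 u X
    refine Finite.injective_iff_bijective.mp fun u v h => ?_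
    rw [← hσP u, ← hσP v, ← Nat.sub_add_cancel (show 1 ≤ P from hPpos), Function.iterate_succ_apply,
      Function.iterate_succ_apply, h]
  have hLker : ∀ X ∈ LinearMap.ker E, L X ∈ LinearMap.ker E := fun X hX => by
    rw [LinearMap.mem_ker] at hX ⊢
    rw [← hLE, hX, map_zero]
  have hLpow : L ^ P = 1 := by
    have h : ∀ j X, (L ^ j) X = T ^ j * X * T' ^ j := by
      intro j
      induction j with
      | zero => intro X; simp
      | succ j ih => intro X; rw [pow_succ', Module.End.mul_apply, ih, hL, pow_succ', pow_succ]; simp only [mul_assoc]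
    refine LinearMap.ext fun X => ?_
    have h' : T' ^ P = 1 := by
      have h2 := (show Commute T T' from hTT'.trans hT'T.symm).mul_pow P
      rw [hTT', one_pow, hTP, one_mul] at h2
      exact h2.symm
    rw [h, hTP, h', one_mul, mul_one, Module.End.one_apply]
  set L' : Module.End F (LinearMap.ker E) := L.restrict hLker with hL'
  have hL'pow : ∀ (j : ℕ) (Y : LinearMap.ker E), (((L' ^ j) Y : LinearMap.ker E) : Module.End F W) = (L ^ j) Y := by
    intro j
    induction j with
    | zero => intro Y; rfl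
    | succ j ih => intro Y; rw [pow_succ', pow_succ', Module.End.mul_apply, Module.End.mul_apply, ← ih]; rfl
  have hNP : (L' - 1) ^ P = 0 := by
    have h1 : L' ^ p ^ (n + 1) = 1 := LinearMap.ext fun Y => Subtype.ext (by rw [hL'pow, ← hP, hLpow]; rfl)
    rw [hP, sub_one_pow_prime_pow, h1]
    exact sub_self (1 : Module.End F (LinearMap.ker E))
  have hNgeom : (L' - 1) ^ (P - 1) = ∑ j ∈ Finset.range P, L' ^ j := sub_one_pow_eq_geom L' (n + 1)
  have hker : LinearMap.ker (L' - 1) ≤ LinearMap.range ((L' - 1) ^ (P - 1)) := by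
    intro Y hY
    rw [LinearMap.mem_ker, LinearMap.sub_apply, Module.End.one_apply, sub_eq_zero] at hY
    have hYL : L (Y : Module.End F W) = Y := congrArg Subtype.val hY
    have hYj : ∀ j, (L ^ j) (Y : Module.End F W) = Y := fun j => by
      induction j with
      | zero => rfl
      | succ j ih => rw [pow_succ, Module.End.mul_apply, hYL, ih]
    have hAY : A (Y : Module.End F W) ∈ LinearMap.ker E := by
      rw [LinearMap.mem_ker, ← Module.End.mul_apply, hA, Finset.mul_sum, Finset.sum_congr rfl fun u _ => hEc u,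
        LinearMap.sum_apply, Finset.sum_eq_zero fun u _ => LinearMap.mem_ker.mp Y.2]
    refine ⟨-⟨_, hAY⟩, Subtype.ext ?_⟩
    rw [map_neg, Submodule.coe_neg, hNgeom, LinearMap.sum_apply, Submodule.coe_sum,
      Finset.sum_congr rfl fun j _ => hL'pow j ⟨_, hAY⟩]
    have h1 := hbij (fun u => c u (Y : Module.End F W))
    rw [Finset.sum_product, Finset.sum_erase_eq_sub (Finset.mem_univ _), ← LinearMap.sum_apply, ← hE,
      LinearMap.mem_ker.mp Y.2, map_one, Module.End.one_apply, zero_sub] at h1
    rw [Finset.sum_congr rfl fun j _ => show (L ^ j) (A (Y : Module.End F W)) =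
        ∑ u ∈ R, c (σ^[j] u) (Y : Module.End F W) by
      rw [hA, LinearMap.sum_apply, map_sum]
      exact Finset.sum_congr rfl fun u _ => by rw [hLc, hYj], h1, neg_neg]
  have hdim := finrank_eq_mul_of_ker_le_range (L' - 1) hNP hker
  -- the commutant
  have hint : ∀ X, X ∈ intertw T T ↔ L X = X := fun X => by
    show T * X = X * T ↔ _
    rw [hL]
    refine ⟨fun h => by rw [h, mul_assoc, hTT', mul_one], fun h => ?_⟩
    conv_rhs => rw [← h]
    rw [mul_assoc, hT'T, mul_one]
  have hC : finrank F ↥(intertw T T) = finrank F (LinearMap.ker (L' - 1)) + 1 := by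
    have h1 := LinearMap.finrank_range_add_finrank_ker (E.domRestrict (intertw T T))
    have hr : LinearMap.range (E.domRestrict (intertw T T)) = F ∙ (1 : Module.End F W) := by
      refine le_antisymm ?_ ((Submodule.span_singleton_le_iff_mem _ _).mpr
        ⟨⟨1, (hint 1).mpr (by rw [hL, mul_one, hTT'])⟩, hE1⟩)
      rw [← hErange]
      rintro _ ⟨X, rfl⟩
      exact ⟨X, rfl⟩
    have hk : finrank F (LinearMap.ker (E.domRestrict (intertw T T))) = finrank F (LinearMap.ker (L' - 1)) :=
      LinearEquiv.finrank_eq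
        { toFun := fun X => ⟨⟨X.1.1, X.2⟩, by
            rw [LinearMap.mem_ker, LinearMap.sub_apply, Module.End.one_apply, sub_eq_zero]
            exact Subtype.ext ((hint _).mp X.1.2)⟩
          map_add' := fun _ _ => rfl
          map_smul' := fun _ _ => rfl
          invFun := fun Y => ⟨⟨Y.1.1, (hint _).mpr (by
            have := Y.2
            rw [LinearMap.mem_ker, LinearMap.sub_apply, Module.End.one_apply, sub_eq_zero] at this
            exact congrArg Subtype.val this)⟩, Y.1.2⟩
          left_inv := fun _ => rfl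
          right_inv := fun _ => rfl }
    rw [hr, finrank_span_singleton hone, hk] at h1
    exact h1.symm.trans (add_comm _ _)
  rw [hC, Nat.add_sub_cancel, ← hdim]
  omega

/-- The unipotent case: if `(T - 1)^r = 0` with `r < P` then `d + 1 = P` and `d ≤ r`. -/
theorem d_add_one_eq' (T : Module.End F W) {P : ℕ}
    (h0 : P * (finrank F ↥(intertw T T) - 1) = finrank F W * finrank F W - 1)
    (hd : 2 ≤ finrank F W) {r : ℕ} (hr : (T - 1) ^ r = 0) (hrP : r < P) :
    finrank F W + 1 = P ∧ finrank F W ≤ r := by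
  classical
  set d := finrank F W with hd'
  have heq : intertw (T - 1) (T - 1) = intertw T T := by
    ext X
    show (T - 1) * X = X * (T - 1) ↔ T * X = X * T
    rw [sub_mul, mul_sub, one_mul, mul_one, sub_left_inj]
  have hpos : 1 ≤ finrank F ↥(intertw T T) := by
    refine Nat.one_le_iff_ne_zero.mpr fun h => ?_
    have h1 : (1 : Module.End F W) ∈ intertw T T := show T * 1 = 1 * T by simp
    rw [Submodule.finrank_eq_zero.mp h, Submodule.mem_bot] at h1
    exact one_ne_zero h1
  have hge := finrank_commutant_ge (T - 1) hr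
  rw [heq] at hge
  obtain ⟨C₀, hC₀⟩ : ∃ c, finrank F ↥(intertw T T) = c + 1 := ⟨_, (Nat.succ_pred_eq_of_pos hpos).symm⟩
  rw [hC₀, Nat.add_sub_cancel] at h0
  rw [hC₀] at hge
  have hd2 : d * d = P * C₀ + 1 := by
    have : 1 ≤ d * d := by nlinarith
    omega
  obtain ⟨s, hs⟩ : ∃ s, P = r + s + 1 := ⟨P - r - 1, by omega⟩
  have hle : d ≤ r := by
    by_contra hcon
    push Not at hcon
    have h1 : d * d * P ≤ r * ((C₀ + 1) * P) := by
      calc d * d * P ≤ r * (C₀ + 1) * P := Nat.mul_le_mul_right _ hge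
        _ = _ := mul_assoc _ _ _
    have h2 : (C₀ + 1) * P + 1 = d * d + P := by rw [hd2]; ring
    have h3 : (r + 1) * (r + 1) ≤ d * d := Nat.mul_le_mul hcon hcon
    subst hs
    have h5 : r * ((C₀ + 1) * (r + s + 1) + 1) = r * (d * d + (r + s + 1)) := by rw [h2]
    have h6 : (r + 1) * (r + 1) * (s + 1) ≤ d * d * (s + 1) := Nat.mul_le_mul_right _ h3
    nlinarith [Nat.zero_le (r * r * s), Nat.zero_le (r * s)]
  refine ⟨?_, hle⟩
  have hex : ∃ k, (T - 1) ^ k = 0 := ⟨r, hr⟩
  set r₀ := Nat.find hex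
  have hr₀ : (T - 1) ^ r₀ = 0 := Nat.find_spec hex
  have hr₀r : r₀ ≤ r := Nat.find_min' hex hr
  have hle₀ : d ≤ r₀ := by
    by_contra hcon
    push Not at hcon
    have hge₀ := finrank_commutant_ge (T - 1) hr₀
    rw [heq, hC₀] at hge₀
    have h1 : d * d * P ≤ r₀ * ((C₀ + 1) * P) := by
      calc d * d * P ≤ r₀ * (C₀ + 1) * P := Nat.mul_le_mul_right _ hge₀
        _ = _ := mul_assoc _ _ _
    have h2 : (C₀ + 1) * P + 1 = d * d + P := by rw [hd2]; ring
    have h3 : (r₀ + 1) * (r₀ + 1) ≤ d * d := Nat.mul_le_mul hcon hcon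
    obtain ⟨t, ht⟩ : ∃ t, P = r₀ + t + 1 := ⟨P - r₀ - 1, by omega⟩
    subst ht
    have h5 : r₀ * ((C₀ + 1) * (r₀ + t + 1) + 1) = r₀ * (d * d + (r₀ + t + 1)) := by rw [h2]
    have h6 : (r₀ + 1) * (r₀ + 1) * (t + 1) ≤ d * d * (t + 1) := Nat.mul_le_mul_right _ h3
    nlinarith [Nat.zero_le (r₀ * r₀ * t), Nat.zero_le (r₀ * t)]
  obtain ⟨v, hv⟩ : ∃ v, ((T - 1) ^ (d - 1)) v ≠ 0 := by
    by_contra hcon
    push Not at hcon
    exact Nat.find_min hex (show d - 1 < r₀ by omega) (LinearMap.ext hcon)
  have hnil : IsNilpotent (T - 1) := ⟨r, hr⟩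
  have hdN : (T - 1) ^ d = 0 := by
    have := (LinearMap.isNilpotent_iff_charpoly (T - 1)).mp hnil
    have h := LinearMap.aeval_self_charpoly (T - 1)
    rw [this] at h
    simpa using h
  have hind : LinearIndependent F fun i : Fin d => ((T - 1) ^ (i : ℕ)) v := by
    rw [Fintype.linearIndependent_iff]
    intro a ha
    by_contra hcon
    push Not at hcon
    obtain ⟨i, hi⟩ := hcon
    have hne : (Finset.univ.filter fun i => a i ≠ 0).Nonempty := ⟨i, by simp [hi]⟩
    set i₀ := (Finset.univ.filter fun i => a i ≠ 0).min' hne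
    have hi₀ : a i₀ ≠ 0 := (Finset.mem_filter.mp (Finset.min'_mem _ hne)).2
    have h1 := congrArg (fun u : W => ((T - 1) ^ (d - 1 - (i₀ : ℕ))) u) ha
    beta_reduce at h1
    rw [map_sum, map_zero, Finset.sum_eq_single i₀] at h1
    · rw [map_smul, ← Module.End.mul_apply, ← pow_add,
        show d - 1 - (i₀ : ℕ) + (i₀ : ℕ) = d - 1 by omega] at h1
      exact hi₀ ((smul_eq_zero.mp h1).resolve_right hv)
    · intro j _ hj
      by_cases h : a j = 0
      · simp [h]
      have h2 : (i₀ : ℕ) < j := by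
        refine lt_of_le_of_ne ?_ fun he => hj (Fin.ext he).symm
        exact Finset.min'_le _ j (by simp [h])
      have h3 : d ≤ d - 1 - (i₀ : ℕ) + (j : ℕ) := by omega
      rw [map_smul, ← Module.End.mul_apply, ← pow_add]
      obtain ⟨k, hk⟩ := Nat.exists_eq_add_of_le h3
      rw [hk, pow_add, hdN]
      simp
    · simp
  have htop : Submodule.span F (Set.range fun i : ℕ => ((T - 1) ^ i) v) = ⊤ := by
    have : Nonempty (Fin d) := ⟨⟨0, by omega⟩⟩
    refine eq_top_iff.mpr ((hind.span_eq_top_of_card_eq_finrank (by simp [hd'])).ge.trans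
      (Submodule.span_mono ?_))
    rintro _ ⟨i, rfl⟩
    exact ⟨(i : ℕ), rfl⟩
  have hup := finrank_commutant_le_of_cyclic (T - 1) v htop
  rw [heq, hC₀] at hup
  have hlow := finrank_commutant_ge (T - 1) hdN
  rw [heq, hC₀] at hlow
  have hC : d = C₀ + 1 := le_antisymm (Nat.le_of_mul_le_mul_left hlow (by omega)) hup
  obtain ⟨m, hm⟩ : ∃ m, C₀ = m + 1 := ⟨C₀ - 1, by omega⟩
  subst hm
  rw [hC] at hd2
  nlinarith

end Cfsg.Agent.HallHigman
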