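/-
Automorphisms of a 2-group moving little commute (helper3).

Main results (namespace `Cfsg.Agent.HallHigman`):
* movedHom, movedCard, SmallMoved
* commute_of_smallMoved
-/
import Cfsg.Agent.Lib.PGroup.UniqueOrderP
import Cfsg.Agent.Lib.PGroup.Critical

set_option autoImplicit false

namespace Cfsg.Agent.HallHigman

open Subgroup
open scoped commutatorElement

universe u

variable {A : Type*} [CommGroup A] {p : ℕ}

/-- `a ↦ y a * a⁻¹`. -/
def movedHom (y : MulAut A) : A →* A where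
  toFun a := y a * a⁻¹
  map_one' := by simp
  map_mul' a b := by rw [map_mul, mul_inv, mul_mul_mul_comm]

theorem mem_ker_movedHom {y : MulAut A} {a : A} : a ∈ (movedHom y).ker ↔ y a = a := by
  rw [MonoidHom.mem_ker]
  show y a * a⁻¹ = 1 ↔ _
  rw [mul_inv_eq_one]

/-- The order of `[A, y]`. -/
noncomputable def movedCard (y : MulAut A) : ℕ := Nat.card (movedHom y).range

/-- `y` moves at most `(p-1)^2` elements, or `p = 3` and `y` is the cube of an element of `R` and
moves at most `64`. -/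
def SmallMoved (p : ℕ) (R : Subgroup (MulAut A)) (y : MulAut A) : Prop :=
  y ∈ R ∧ y ^ p = 1 ∧
    (movedCard y ≤ (p - 1) ^ 2 ∨ (p = 3 ∧ ∃ z ∈ R, z ^ 3 = y ∧ movedCard y ≤ 64))

/-- Restriction to an invariant subgroup. -/
def resHom (R : Subgroup (MulAut A)) (B : Subgroup A) (hB : ∀ r ∈ R, ∀ b ∈ B, r b ∈ B) :
    R →* MulAut B where
  toFun r :=
    { toFun := fun b => ⟨(r : MulAut A) b, hB r r.2 b b.2⟩
      invFun := fun b => ⟨((r : MulAut A)⁻¹) b, hB _ (inv_mem r.2) b b.2⟩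
      left_inv := fun b => Subtype.ext ((r : MulAut A).symm_apply_apply b)
      right_inv := fun b => Subtype.ext ((r : MulAut A).apply_symm_apply b)
      map_mul' := fun a b => Subtype.ext (map_mul (r : MulAut A) _ _) }
  map_one' := MulEquiv.ext fun b => Subtype.ext rfl
  map_mul' r s := MulEquiv.ext fun b => Subtype.ext rfl

theorem resHom_apply {R : Subgroup (MulAut A)} {B : Subgroup A}
    (hB : ∀ r ∈ R, ∀ b ∈ B, r b ∈ B) (r : R) (b : B) :
    ((resHom R B hB r b : B) : A) = (r : MulAut A) b := rfl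

theorem map_invariant {R : Subgroup (MulAut A)} {B : Subgroup A}
    (hB : ∀ r ∈ R, ∀ b ∈ B, r b ∈ B) (r : R) : B.map (r : MulAut A).toMonoidHom = B := by
  refine le_antisymm ?_ fun b hb => ⟨((r : MulAut A)⁻¹) b, hB _ (inv_mem r.2) b hb,
    (r : MulAut A).apply_symm_apply b⟩
  rintro _ ⟨b, hb, rfl⟩
  exact hB r r.2 b hb

/-- The action on the quotient by an invariant subgroup. -/
def quotHom (R : Subgroup (MulAut A)) (B : Subgroup A) (hB : ∀ r ∈ R, ∀ b ∈ B, r b ∈ B) :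
    R →* MulAut (A ⧸ B) where
  toFun r := QuotientGroup.congr B B (r : MulAut A) (map_invariant hB r)
  map_one' := MulEquiv.ext fun x => by
    induction x using QuotientGroup.induction_on with | _ x => rfl
  map_mul' r s := MulEquiv.ext fun x => by
    induction x using QuotientGroup.induction_on with | _ x => rfl

theorem quotHom_apply {R : Subgroup (MulAut A)} {B : Subgroup A}
    (hB : ∀ r ∈ R, ∀ b ∈ B, r b ∈ B) (r : R) (a : A) :
    quotHom R B hB r (a : A ⧸ B) = (((r : MulAut A) a : A) : A ⧸ B) := rfl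

theorem movedCard_resHom [Finite A] {R : Subgroup (MulAut A)} {B : Subgroup A}
    (hB : ∀ r ∈ R, ∀ b ∈ B, r b ∈ B) (r : R) :
    movedCard (resHom R B hB r) ≤ movedCard (r : MulAut A) := by
  rw [movedCard, movedCard, ← Subgroup.card_map_of_injective B.subtype_injective]
  refine Nat.le_of_dvd Nat.card_pos (Subgroup.card_dvd_of_le ?_)
  rintro _ ⟨_, ⟨b, rfl⟩, rfl⟩
  exact ⟨b, rfl⟩

theorem movedCard_quotHom [Finite A] {R : Subgroup (MulAut A)} {B : Subgroup A}
    (hB : ∀ r ∈ R, ∀ b ∈ B, r b ∈ B) (r : R) :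
    movedCard (quotHom R B hB r) ≤ movedCard (r : MulAut A) := by
  refine Nat.le_of_dvd Nat.card_pos ?_
  refine dvd_trans (Subgroup.card_dvd_of_le (H := (movedHom (quotHom R B hB r)).range)
    (K := (movedHom (r : MulAut A)).range.map (QuotientGroup.mk' B)) ?_)
    (Subgroup.card_map_dvd _ _)
  rintro _ ⟨x, rfl⟩
  induction x using QuotientGroup.induction_on with
  | _ x => exact ⟨_, ⟨x, rfl⟩, rfl⟩

theorem SmallMoved.map {A' : Type*} [CommGroup A'] {R : Subgroup (MulAut A)}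
    (f : R →* MulAut A') (hf : ∀ r : R, movedCard (f r) ≤ movedCard (r : MulAut A))
    {y : MulAut A} (hy : SmallMoved p R y) : SmallMoved p f.range (f ⟨y, hy.1⟩) := by
  refine ⟨⟨_, rfl⟩, ?_, ?_⟩
  · rw [← map_pow, show (⟨y, hy.1⟩ : R) ^ p = 1 from Subtype.ext hy.2.1, map_one]
  · rcases hy.2.2 with h | ⟨h3, z, hz, hzy, h⟩
    · exact Or.inl ((hf _).trans h)
    · refine Or.inr ⟨h3, f ⟨z, hz⟩, ⟨_, rfl⟩, ?_, (hf _).trans h⟩
      rw [← map_pow]
      exact congrArg f (Subtype.ext hzy)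

/-- Two commuting automorphisms of order `p` of a nontrivial 2-group, one without fixed points:
some product fixes a nontrivial element. -/
theorem exists_fixed_of_pair [Finite A] [hp : Fact p.Prime] (hA : IsPGroup 2 A) (hp2 : p ≠ 2)
    [Nontrivial A] {b c : MulAut A} (hbc : Commute b c) (hb : b ^ p = 1) (hc : c ^ p = 1)
    (hfpf : ∀ a, c a = a → a = 1) : ∃ j < p, ∃ a, a ≠ 1 ∧ (b * c ^ j) a = a := by
  by_contra hcon
  push Not at hcon
  obtain ⟨v, hv⟩ := exists_ne (1 : A)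
  have hfix : ∀ g : MulAut A, g ^ p = 1 → ∀ a,
      g (∏ i ∈ Finset.range p, (g ^ i) a) = ∏ i ∈ Finset.range p, (g ^ i) a := by
    intro g hg a
    have h1 : ∏ i ∈ Finset.range p, (g ^ (i + 1)) a = ∏ i ∈ Finset.range p, (g ^ i) a := by
      have e1 := Finset.prod_range_succ' (fun i => (g ^ i) a) p
      rw [Finset.prod_range_succ, hg] at e1
      simpa using e1.symm
    rw [map_prod]
    refine (Finset.prod_congr rfl fun i _ => ?_).trans h1
    rw [pow_succ', MulAut.mul_apply]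
  have hN : ∀ j < p, ∏ i ∈ Finset.range p, ((b * c ^ j) ^ i) v = 1 := fun j hj => by
    by_contra hne
    refine hcon j hj _ hne (hfix _ ?_ v)
    rw [(hbc.pow_right j).mul_pow, hb, ← pow_mul, mul_comm, pow_mul, hc, one_pow, one_mul]
  have hsum : ∏ i ∈ Finset.range p, ∏ j ∈ Finset.range p, ((b * c ^ j) ^ i) v = 1 := by
    rw [Finset.prod_comm]
    exact Finset.prod_eq_one fun j hj => hN j (Finset.mem_range.mp hj)
  rw [Finset.prod_eq_single_of_mem 0 (Finset.mem_range.mpr hp.out.pos)] at hsum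
  · simp only [pow_zero, MulAut.one_apply, Finset.prod_const, Finset.card_range] at hsum
    exact hv (PGroup.eq_one_of_pow_eq_one_coprime hA
      ((Nat.coprime_primes hp.out Nat.prime_two).mpr hp2) hsum)
  · intro i hi hi0
    have h1 : ∀ j, ((b * c ^ j) ^ i) v = (b ^ i) (((c ^ i) ^ j) v) := fun j => by
      rw [(hbc.pow_right j).mul_pow, MulAut.mul_apply, ← pow_mul, mul_comm, pow_mul]
    simp only [h1, ← map_prod]
    have hco : c ∈ Subgroup.zpowers (c ^ i) := by
      have hcop : i.Coprime p := Nat.coprime_comm.mp (hp.out.coprime_iff_not_dvd.mpr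
        (Nat.not_dvd_of_pos_of_lt (Nat.pos_of_ne_zero hi0) (Finset.mem_range.mp hi)))
      have hco' : i.Coprime (orderOf c) :=
        hcop.coprime_dvd_right (orderOf_dvd_of_pow_eq_one hc)
      obtain ⟨m, hm⟩ := exists_pow_eq_self_of_coprime hco'
      have h3 := Subgroup.npow_mem_zpowers (c ^ i) m
      rwa [hm] at h3
    have hci : (c ^ i) ^ p = 1 := by rw [← pow_mul, mul_comm, pow_mul, hc, one_pow]
    have h2 := hfix (c ^ i) hci v
    generalize (∏ j ∈ Finset.range p, ((c ^ i) ^ j) v) = w at h2 ⊢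
    obtain ⟨l, hl⟩ := Subgroup.mem_zpowers_iff.mp hco
    have hst : c ^ i ∈ MulAction.stabilizer (MulAut A) w := h2
    have : c ∈ MulAction.stabilizer (MulAut A) w := hl ▸ zpow_mem hst l
    rw [hfpf w this, map_one]

/-- Three blocks fixed by `b, b d, b d²` are independent. -/
theorem blocks_indep {b d : MulAut A} (hbd : Commute b d) (hd : ∀ a, d a = a → a = 1)
    (hd2 : ∀ a, (d ^ 2) a = a → a = 1) {x₀ x₁ x₂ : A} (h0 : b x₀ = x₀) (h1 : (b * d) x₁ = x₁)
    (h2 : (b * d ^ 2) x₂ = x₂) (h : x₀ * x₁ * x₂ = 1) : x₀ = 1 ∧ x₁ = 1 ∧ x₂ = 1 := by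
  have hcomm : ∀ (g : MulAut A), Commute b g → ∀ x, g x = x → g (b x) = b x := fun g hg x hx => by
    rw [← MulAut.mul_apply, ← hg.eq, MulAut.mul_apply, hx]
  have hu : b x₁ * x₁⁻¹ * (b x₂ * x₂⁻¹) = 1 := by
    have e : b (x₀ * x₁ * x₂) = 1 := by rw [h, map_one]
    rw [map_mul, map_mul, h0] at e
    have h' : b x₁ * b x₂ = x₁ * x₂ := mul_left_cancel (a := x₀) (by
      rw [← mul_assoc, ← mul_assoc, e, h])
    rw [mul_mul_mul_comm, ← mul_inv, h', mul_inv_cancel]
  have e1 : (b * d) (b x₁ * x₁⁻¹) = b x₁ * x₁⁻¹ := by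
    rw [map_mul, map_inv, h1, hcomm _ ((Commute.refl b).mul_right hbd) _ h1]
  have e2 : (b * d ^ 2) (b x₁ * x₁⁻¹) = b x₁ * x₁⁻¹ := by
    rw [eq_inv_of_mul_eq_one_left hu, map_inv, map_mul, map_inv, h2,
      hcomm _ ((Commute.refl b).mul_right (hbd.pow_right 2)) _ h2]
  have hu1 : b x₁ * x₁⁻¹ = 1 := by
    refine hd _ ((b * d).injective ?_)
    rw [e1]
    rw [pow_two, ← mul_assoc, MulAut.mul_apply] at e2
    exact e2
  have hu2 : b x₂ * x₂⁻¹ = 1 := by rwa [hu1, one_mul] at hu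
  rw [mul_inv_eq_one] at hu1 hu2
  have hx1 : x₁ = 1 := hd x₁ (b.injective (by rw [← MulAut.mul_apply, h1, hu1]))
  have hx2 : x₂ = 1 := hd2 x₂ (b.injective (by rw [← MulAut.mul_apply, h2, hu2]))
  exact ⟨by simpa [hx1, hx2] using h, hx1, hx2⟩

/-- Coprime: an element fixing `B` and `A/B` is trivial. -/
theorem eq_one_of_fix_chain [hp : Fact p.Prime] [Finite A] (hA : IsPGroup 2 A) (hp2 : p ≠ 2)
    {R : Subgroup (MulAut A)} (hR : IsPGroup p R) {g : MulAut A} (hg : g ∈ R) {B : Subgroup A}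
    (hfix : ∀ b ∈ B, g b = b) (hquot : ∀ a, g a * a⁻¹ ∈ B) : g = 1 := by
  have hco : Nat.Coprime (orderOf g) 2 := by
    obtain ⟨k, hk⟩ := hR ⟨g, hg⟩
    exact (((Nat.coprime_primes hp.out Nat.prime_two).mpr hp2).pow_left k).coprime_dvd_left
      (orderOf_dvd_of_pow_eq_one (congrArg Subtype.val hk))
  refine MulEquiv.ext fun a => PGroup.fixed_of_displacement_fixed hA hco (hfix _ ?_)
  rw [mul_comm]
  exact hquot a

theorem commute_of_smallMoved_aux {p : ℕ} [hp : Fact p.Prime] (hp2 : p ≠ 2) : ∀ (n : ℕ),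
    ∀ (A : Type u) [CommGroup A] [Finite A], Nat.card A = n → IsPGroup 2 A →
    ∀ (R : Subgroup (MulAut A)), IsPGroup p R → ∀ y₁ y₂ : MulAut A,
    SmallMoved p R y₁ → SmallMoved p R y₂ → y₁ * y₂ = y₂ * y₁ := by
  intro n
  induction n using Nat.strong_induction_on with | _ n ih => ?_
  intro A _ _ hn hA R hR y₁ y₂ hy₁ hy₂
  classical
  by_contra hne
  have hsub : ∀ (B : Subgroup A), B ≠ ⊤ → ∀ (R₀ : Subgroup (MulAut A)), IsPGroup p R₀ →
      ∀ (hB : ∀ r ∈ R₀, ∀ b ∈ B, r b ∈ B) (z₁ z₂ : R₀),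
      SmallMoved p (resHom R₀ B hB).range (resHom R₀ B hB z₁) →
      SmallMoved p (resHom R₀ B hB).range (resHom R₀ B hB z₂) →
      ∀ b ∈ B, ⁅(z₁ : MulAut A), (z₂ : MulAut A)⁆ b = b := by
    intro B hBt R₀ hR₀ hB z₁ z₂ h1 h2 b hb
    have hlt : Nat.card B < n := by
      refine hn ▸ lt_of_le_of_ne (Nat.le_of_dvd Nat.card_pos B.card_subgroup_dvd_card) fun h => hBt ?_
      exact Subgroup.eq_top_of_card_eq B h
    have hc := ih _ hlt B rfl (hA.to_subgroup B) _
      (hR₀.of_surjective _ (resHom R₀ B hB).rangeRestrict_surjective) _ _ h1 h2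
    have hone : resHom R₀ B hB ⁅z₁, z₂⁆ = 1 := by
      rw [map_commutatorElement, commutatorElement_eq_one_iff_commute]
      exact hc
    have := resHom_apply hB ⁅z₁, z₂⁆ ⟨b, hb⟩
    rw [hone] at this
    exact this.symm
  have hgne : ⁅y₁, y₂⁆ ≠ 1 := fun h => hne (commutatorElement_eq_one_iff_commute.mp h).eq
  have hgR : ⁅y₁, y₂⁆ ∈ R :=
    R.mul_mem (R.mul_mem (R.mul_mem hy₁.1 hy₂.1) (R.inv_mem hy₁.1)) (R.inv_mem hy₂.1)
  -- irreducibility
  have hirr : ∀ B : Subgroup A, (∀ r ∈ R, ∀ b ∈ B, r b ∈ B) → B ≠ ⊥ → B = ⊤ := by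
    intro B hB hbot
    by_contra htop
    refine hgne (eq_one_of_fix_chain hA hp2 hR hgR (B := B) (fun b hb => hsub B htop R hR hB
      ⟨y₁, hy₁.1⟩ ⟨y₂, hy₂.1⟩ (hy₁.map _ (movedCard_resHom hB)) (hy₂.map _ (movedCard_resHom hB))
      b hb) fun a => ?_)
    have hlt : Nat.card (A ⧸ B) < n := by
      have h1 := Subgroup.card_eq_card_quotient_mul_card_subgroup B
      have h2 : 1 < Nat.card B := Subgroup.one_lt_card_iff_ne_bot B |>.mpr hbot
      have h3 : 0 < Nat.card (A ⧸ B) := Nat.card_pos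
      rw [← hn, h1]
      exact lt_mul_of_one_lt_right h3 h2
    have hc := ih _ hlt (A ⧸ B) rfl (hA.to_quotient B) _
      (hR.of_surjective _ (quotHom R B hB).rangeRestrict_surjective) _ _
      (hy₁.map _ (movedCard_quotHom hB)) (hy₂.map _ (movedCard_quotHom hB))
    have hone : quotHom R B hB ⁅(⟨y₁, hy₁.1⟩ : R), ⟨y₂, hy₂.1⟩⁆ = 1 := by
      rw [map_commutatorElement, commutatorElement_eq_one_iff_commute]
      exact hc
    have := quotHom_apply hB ⁅(⟨y₁, hy₁.1⟩ : R), ⟨y₂, hy₂.1⟩⁆ a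
    rw [hone, MulAut.one_apply] at this
    rw [← QuotientGroup.eq_one_iff, QuotientGroup.mk_mul, QuotientGroup.mk_inv]
    exact mul_inv_eq_one.mpr this.symm
  have hfpf : ∀ c ∈ R, (∀ r ∈ R, Commute c r) → c ≠ 1 → ∀ a, c a = a → a = 1 := by
    intro c _ hcc hc1 a ha
    by_contra ha1
    refine hc1 (MulEquiv.ext fun x => ?_)
    have htop := hirr (movedHom c).ker (fun r hr b hb => by
      rw [mem_ker_movedHom] at hb ⊢
      rw [← MulAut.mul_apply, (hcc r hr).eq, MulAut.mul_apply, hb])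
      (fun h => ha1 (Subgroup.mem_bot.mp (h ▸ mem_ker_movedHom.mpr ha)))
    exact mem_ker_movedHom.mp (htop ▸ Subgroup.mem_top x)
  have hncyc : ¬ IsCyclic (⊤ : Subgroup R) := fun h => by
    have := h.isMulCommutative.is_comm.comm (⟨⟨y₁, hy₁.1⟩, trivial⟩ : (⊤ : Subgroup R))
      ⟨⟨y₂, hy₂.1⟩, trivial⟩
    exact hne (congrArg (fun t : (⊤ : Subgroup R) => ((t : R) : MulAut A)) this)
  have hAnt : Nontrivial A := by
    by_contra h
    rw [not_nontrivial_iff_subsingleton] at h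
    exact hne (MulEquiv.ext fun a => Subsingleton.elim _ _)
  have : Finite R := inferInstance
  obtain ⟨B, -, hBn, hBel, hBc⟩ := PGroup.exists_normal_elementary_sq hp2 hR hncyc
  have hBne : B ≠ ⊥ := fun h => by
    rw [h, Subgroup.card_bot] at hBc
    exact absurd hBc (Nat.one_lt_pow two_ne_zero hp.out.one_lt).ne
  obtain ⟨c, hcB, hcZ, hco⟩ := PGroup.exists_central_order_p hR hBne
  have hcR : ∀ r ∈ R, Commute (c : MulAut A) r := fun r hr => by
    have := Subgroup.mem_center_iff.mp hcZ ⟨r, hr⟩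
    exact (congrArg Subtype.val this).symm
  have hcp : (c : MulAut A) ^ p = 1 := congrArg Subtype.val (hBel.2 c hcB)
  have hcord : orderOf (c : MulAut A) = p := (Subgroup.orderOf_coe c).trans hco
  have hcfpf : ∀ d, (c : MulAut A) ^ d ≠ 1 → ∀ a, ((c : MulAut A) ^ d) a = a → a = 1 := fun d hd =>
    hfpf _ (pow_mem c.2 d) (fun r hr => (hcR r hr).pow_left d) hd
  have hc1 : (c : MulAut A) ≠ 1 := fun h => hp.out.one_lt.ne (by rw [← hcord, h, orderOf_one])
  have hczn : (Subgroup.zpowers c).Normal := PGroup.zpowers_normal_of_mem_center hcZ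
  have hczB : Subgroup.zpowers c < B := by
    refine lt_of_le_of_ne (Subgroup.zpowers_le.mpr hcB) fun h => ?_
    rw [← h, Nat.card_zpowers, hco] at hBc
    exact absurd hBc (by nlinarith [hp.out.two_le])
  obtain ⟨b, hbB, hbc⟩ := SetLike.exists_of_lt hczB
  have hBcomm : ∀ r : R, ⁅b, r⁆ ∈ Subgroup.zpowers c := by
    obtain ⟨K, -, -, hKB, hKc, hKcomm⟩ := PGroup.exists_normal_between hR hczB
    rw [Nat.card_zpowers, hco, ← sq, ← hBc] at hKc
    obtain rfl := Subgroup.eq_of_le_of_card_ge hKB hKc.ge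
    exact fun r => hKcomm (Subgroup.commutator_mem_commutator hbB trivial)
  have hbp : (b : MulAut A) ^ p = 1 := congrArg Subtype.val (hBel.2 b hbB)
  have hbcc : Commute (b : MulAut A) c := (hcR b b.2).symm
  have hconj : ∀ r ∈ R, ∃ χ : ℕ, r * b * r⁻¹ = b * (c : MulAut A) ^ χ := by
    intro r hr
    have h1 := inv_mem (hBcomm ⟨r, hr⟩)
    obtain ⟨χ, hχ⟩ := (isOfFinOrder_of_finite c).mem_powers_iff_mem_zpowers.mpr h1
    refine ⟨χ, ?_⟩
    have h2 : (c : MulAut A) ^ χ = ⁅(b : MulAut A), r⁆⁻¹ := congrArg Subtype.val hχ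
    rw [(hbcc.pow_right χ).eq, h2, commutatorElement_inv, commutatorElement_def]
    group
  set Fx : ℕ → Subgroup A := fun j => (movedHom ((b : MulAut A) * (c : MulAut A) ^ j)).ker with hFx
  have hFxm : ∀ {j a}, a ∈ Fx j ↔ ((b : MulAut A) * (c : MulAut A) ^ j) a = a := fun {j a} =>
    mem_ker_movedHom
  have hmap : ∀ r ∈ R, ∀ χ : ℕ, r * b * r⁻¹ = b * (c : MulAut A) ^ χ → ∀ j, ∀ a ∈ Fx j,
      r a ∈ Fx (χ + j) := by
    intro r hr χ hχ j a ha
    rw [hFxm] at ha ⊢
    have e : (b : MulAut A) * (c : MulAut A) ^ (χ + j) =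
        r * ((b : MulAut A) * (c : MulAut A) ^ j) * r⁻¹ := by
      rw [pow_add, ← mul_assoc, ← hχ, mul_assoc _ _ r⁻¹, mul_assoc, mul_assoc, mul_assoc,
        ((hcR r hr).pow_left j).symm.inv_left.eq]
      simp only [mul_assoc]
    rw [e, MulAut.mul_apply, MulAut.inv_apply_self, MulAut.mul_apply, ha]
  have hHtop : (⨆ j, Fx j) = ⊤ := by
    refine hirr _ (fun r hr a ha => ?_) ?_
    · obtain ⟨χ, hχ⟩ := hconj r hr
      have hle : (⨆ j, Fx j).map r.toMonoidHom ≤ ⨆ j, Fx j := by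
        rw [Subgroup.map_iSup]
        refine iSup_le fun j => ?_
        rintro _ ⟨a, ha, rfl⟩
        exact le_iSup Fx (χ + j) (hmap r hr χ hχ j a ha)
      exact hle ⟨a, ha, rfl⟩
    · obtain ⟨j, -, a, ha1, ha⟩ := exists_fixed_of_pair hA hp2 hbcc hbp hcp
        (fun a => by simpa using hcfpf 1 (by rwa [pow_one]) a)
      exact fun h => ha1 (Subgroup.mem_bot.mp (h ▸ Subgroup.mem_iSup_of_mem j (hFxm.mpr ha)))
  have hFxne : ∀ j, Fx j ≠ ⊤ := by
    intro j h
    refine hbc ?_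
    have h1 : (b : MulAut A) * (c : MulAut A) ^ j = 1 :=
      MulEquiv.ext fun a => hFxm.mp (h ▸ Subgroup.mem_top a)
    have h2 : b * c ^ j = 1 := Subtype.ext h1
    rw [eq_inv_of_mul_eq_one_left h2]
    exact inv_mem (Subgroup.npow_mem_zpowers c j)
  have hd2 : ∀ χ, (c : MulAut A) ^ χ ≠ 1 → ((c : MulAut A) ^ χ) ^ 2 ≠ 1 := fun χ h h2 => h <| by
    have h3 : ((c : MulAut A) ^ χ) ^ p = 1 := by rw [← pow_mul, mul_comm, pow_mul, hcp, one_pow]
    have h4 := Nat.eq_one_of_dvd_coprimes ((Nat.coprime_primes hp.out Nat.prime_two).mpr hp2)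
      (orderOf_dvd_of_pow_eq_one h3) (orderOf_dvd_of_pow_eq_one h2)
    exact orderOf_eq_one_iff.mp h4
  -- three blocks under a moving element
  have hindep : ∀ r ∈ R, ∀ χ : ℕ, r * b * r⁻¹ = b * (c : MulAut A) ^ χ → (c : MulAut A) ^ χ ≠ 1 →
      ∀ j, ∀ x₀ ∈ Fx j, ∀ x₁ ∈ Fx j, ∀ x₂ ∈ Fx j, x₀ * r x₁ * r (r x₂) = 1 →
      x₀ = 1 ∧ x₁ = 1 ∧ x₂ = 1 := by
    intro r hr χ hχ hne j x₀ h0 x₁ h1 x₂ h2 heq
    have e1 := hFxm.mp (hmap r hr χ hχ j x₁ h1)
    have e2 := hFxm.mp (hmap r hr χ hχ _ _ (hmap r hr χ hχ j x₂ h2))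
    rw [add_comm χ j, pow_add, ← mul_assoc] at e1
    rw [show χ + (χ + j) = j + χ * 2 by ring, pow_add, ← mul_assoc, pow_mul] at e2
    have hcomm : Commute ((b : MulAut A) * (c : MulAut A) ^ j) ((c : MulAut A) ^ χ) :=
      (hbcc.pow_right χ).mul_left (Commute.pow_pow_self _ j χ)
    obtain ⟨a0, a1, a2⟩ := blocks_indep hcomm (hcfpf χ hne) (fun a => by
      rw [← pow_mul]; exact hcfpf _ (by rw [pow_mul]; exact hd2 χ hne) a) (hFxm.mp h0) e1 e2 heq
    exact ⟨a0, (map_eq_one_iff r r.injective).mp a1,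
      (map_eq_one_iff r r.injective).mp ((map_eq_one_iff r r.injective).mp a2)⟩
  -- every small element commutes with `b`
  have hfix : ∀ y, SmallMoved p R y → y * b * y⁻¹ = b := by
    rintro y ⟨hyR, -, hT⟩
    rcases hT with hT | ⟨h3, z, hz, rfl, -⟩
    · obtain ⟨χ, hχ⟩ := hconj y hyR
      by_cases hne : (c : MulAut A) ^ χ = 1
      · rwa [hne, mul_one] at hχ
      exfalso
      obtain ⟨j, -, a, ha1, ha⟩ := exists_fixed_of_pair hA hp2 hbcc hbp hcp
        (fun a => by simpa using hcfpf 1 (by rwa [pow_one]) a)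
      let f : Fx j × Fx j → (movedHom y).range := fun w =>
        ⟨movedHom y ((w.1 : A) * y w.2), ⟨_, rfl⟩⟩
      have hf : Function.Injective f := by
        rintro ⟨v, w⟩ ⟨v', w'⟩ h
        have h1 : movedHom y ((v : A) * y w) = movedHom y ((v' : A) * y w') := congrArg Subtype.val h
        have h2 : movedHom y (((v : A) * (v' : A)⁻¹) * y ((w : A) * (w' : A)⁻¹)) = 1 := by
          have : ((v : A) * (v' : A)⁻¹) * y ((w : A) * (w' : A)⁻¹) =
              ((v : A) * y w) * ((v' : A) * y w')⁻¹ := by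
            rw [map_mul, map_inv, mul_inv, mul_mul_mul_comm]
          rw [this, map_mul, map_inv, h1, mul_inv_cancel]
        have h3 : ((v : A) * (v' : A)⁻¹)⁻¹ *
            y (((v : A) * (v' : A)⁻¹) * ((w : A) * (w' : A)⁻¹)⁻¹) *
            y (y ((w : A) * (w' : A)⁻¹)) = 1 := by
          rw [← h2]
          show _ = y (_ * y _) * (_ * y _)⁻¹
          simp only [map_mul, map_inv, mul_inv, inv_inv, mul_comm, mul_left_comm, mul_assoc]
        have hv := (Fx j).mul_mem v.2 ((Fx j).inv_mem v'.2)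
        have hw := (Fx j).mul_mem w.2 ((Fx j).inv_mem w'.2)
        obtain ⟨a0, -, a2⟩ := hindep y hyR χ hχ hne j _ ((Fx j).inv_mem hv) _
          ((Fx j).mul_mem hv ((Fx j).inv_mem hw)) _ hw h3
        rw [inv_eq_one, mul_inv_eq_one] at a0
        rw [mul_inv_eq_one] at a2
        exact Prod.ext (Subtype.ext a0) (Subtype.ext a2)
      have hcard := Nat.card_le_card_of_injective f hf
      rw [Nat.card_prod] at hcard
      have hp' : p ≤ Nat.card (Fx j) := by
        let g : Fin p → Fx j := fun i => ⟨((c : MulAut A) ^ (i : ℕ)) a, hFxm.mpr (by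
          rw [← MulAut.mul_apply, ((hbcc.pow_right (i : ℕ)).mul_left
            (Commute.pow_pow_self _ j (i : ℕ))).eq, MulAut.mul_apply, ha])⟩
        have hg : Function.Injective g := by
          intro i l h
          have h1 : ((c : MulAut A) ^ (i : ℕ)) a = ((c : MulAut A) ^ (l : ℕ)) a :=
            congrArg Subtype.val h
          by_contra hil
          have key : ∀ i l : Fin p, (i : ℕ) < l →
              ((c : MulAut A) ^ (i : ℕ)) a ≠ ((c : MulAut A) ^ (l : ℕ)) a := by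
            intro i l hlt h1
            rw [← Nat.add_sub_cancel' hlt.le, pow_add, MulAut.mul_apply] at h1
            refine ha1 (hcfpf ((l : ℕ) - i) ?_ a (MulEquiv.injective _ h1).symm)
            intro h
            have h5 := orderOf_dvd_of_pow_eq_one h
            rw [hcord] at h5
            exact Nat.not_dvd_of_pos_of_lt (by omega) (by have := l.2; omega) h5
          rcases Nat.lt_or_gt_of_ne (fun h => hil (Fin.ext h)) with h' | h'
          · exact key i l h' h1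
          · exact key l i h' h1.symm
        simpa using Nat.card_le_card_of_injective g hg
      have h5 : Nat.card (movedHom y).range ≤ (p - 1) ^ 2 := hT
      have h6 := Nat.mul_le_mul hp' hp'
      have h7 : (p - 1) ^ 2 < p * p := by
        rw [sq]; exact Nat.mul_lt_mul_of_lt_of_lt (by have := hp.out.pos; omega)
          (by have := hp.out.pos; omega)
      omega
    · obtain ⟨χ, hχ⟩ := hconj z hz
      subst h3
      have key : ∀ i : ℕ, z ^ i * b * (z ^ i)⁻¹ = b * ((c : MulAut A) ^ χ) ^ i := fun i => by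
        induction i with
        | zero => simp
        | succ i ih =>
          calc z ^ (i + 1) * b * (z ^ (i + 1))⁻¹
              = z * (z ^ i * b * (z ^ i)⁻¹) * z⁻¹ := by rw [pow_succ']; group
            _ = z * b * z⁻¹ * (z * ((c : MulAut A) ^ χ) ^ i * z⁻¹) := by rw [ih]; group
            _ = _ := by
              rw [hχ, ← (((hcR z hz).pow_left χ).pow_left i).eq, mul_inv_cancel_right, mul_assoc,
                pow_succ']
      rw [key 3, ← pow_mul, mul_comm, pow_mul, hcp, one_pow, mul_one]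
  -- blocks
  set R₀ := R ⊓ Subgroup.centralizer ({(b : MulAut A)} : Set (MulAut A)) with hR₀
  have hmem0 : ∀ y, SmallMoved p R y → y ∈ R₀ := fun y hy => by
    refine ⟨hy.1, Subgroup.mem_centralizer_singleton_iff.mpr ?_⟩
    have := hfix y hy
    rw [mul_inv_eq_iff_eq_mul] at this
    exact this
  have hR₀p : IsPGroup p R₀ := hR.to_le inf_le_left
  have hinv : ∀ j, ∀ r ∈ R₀, ∀ a ∈ Fx j, r a ∈ Fx j := fun j r hr a ha => by
    have h0 : r * b * r⁻¹ = b * (c : MulAut A) ^ 0 := by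
      rw [pow_zero, mul_one, Subgroup.mem_centralizer_singleton_iff.mp hr.2, mul_inv_cancel_right]
    simpa using hmap r hr.1 0 h0 j a ha
  have hsmall : ∀ (j : ℕ) (y : MulAut A) (hy : SmallMoved p R y),
      SmallMoved p (resHom R₀ (Fx j) (hinv j)).range (resHom R₀ (Fx j) (hinv j) ⟨y, hmem0 y hy⟩) := by
    intro j y hy
    refine ⟨⟨_, rfl⟩, ?_, ?_⟩
    · rw [← map_pow, show (⟨y, hmem0 y hy⟩ : R₀) ^ p = 1 from Subtype.ext hy.2.1, map_one]
    rcases hy.2.2 with h | ⟨h3, z, hz, hzy, h⟩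
    · exact Or.inl ((movedCard_resHom (hinv j) _).trans h)
    obtain ⟨χ, hχ⟩ := hconj z hz
    by_cases hne : (c : MulAut A) ^ χ = 1
    · rw [hne, mul_one, mul_inv_eq_iff_eq_mul] at hχ
      refine Or.inr ⟨h3, resHom R₀ (Fx j) (hinv j)
        ⟨z, hz, Subgroup.mem_centralizer_singleton_iff.mpr hχ⟩, ⟨_, rfl⟩, ?_,
        (movedCard_resHom (hinv j) _).trans h⟩
      rw [← map_pow]
      exact congrArg _ (Subtype.ext hzy)
    refine Or.inl ?_
    set M₀ := (movedHom (resHom R₀ (Fx j) (hinv j) ⟨y, hmem0 y hy⟩)).range.map (Fx j).subtype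
    have hM₀ : movedCard (resHom R₀ (Fx j) (hinv j) ⟨y, hmem0 y hy⟩) = Nat.card M₀ :=
      (Subgroup.card_map_of_injective (Fx j).subtype_injective).symm
    have hM₀F : M₀ ≤ Fx j := Subgroup.map_subtype_le _
    have hM₀m : M₀ ≤ (movedHom y).range := by
      rintro _ ⟨_, ⟨v, rfl⟩, rfl⟩
      exact ⟨v, rfl⟩
    have hzm : ∀ v ∈ (movedHom y).range, z v ∈ (movedHom y).range := by
      rintro _ ⟨v, rfl⟩
      refine ⟨z v, ?_⟩
      show y (z v) * (z v)⁻¹ = z (y v * v⁻¹)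
      rw [map_mul, map_inv, ← MulAut.mul_apply, ← MulAut.mul_apply, ← hzy, ← pow_succ, pow_succ']
    let f : M₀ × M₀ × M₀ → (movedHom y).range := fun w =>
      ⟨(w.1 : A) * z w.2.1 * z (z w.2.2),
        mul_mem (mul_mem (hM₀m w.1.2) (hzm _ (hM₀m w.2.1.2))) (hzm _ (hzm _ (hM₀m w.2.2.2)))⟩
    have hf : Function.Injective f := by
      rintro ⟨u, v, w⟩ ⟨u', v', w'⟩ h
      have h1 : (u : A) * z v * z (z w) = (u' : A) * z v' * z (z w') := congrArg Subtype.val h
      have h2 : ((u : A) * (u' : A)⁻¹) * z ((v : A) * (v' : A)⁻¹) *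
          z (z ((w : A) * (w' : A)⁻¹)) = 1 := by
        simp only [map_mul, map_inv]
        calc _ = ((u : A) * z v * z (z w)) * ((u' : A) * z v' * z (z w'))⁻¹ := by
              simp only [mul_inv, inv_inv, mul_comm, mul_left_comm, mul_assoc]
          _ = 1 := by rw [h1, mul_inv_cancel]
      obtain ⟨a0, a1, a2⟩ := hindep z hz χ hχ hne j _ (hM₀F (mul_mem u.2 (inv_mem u'.2))) _
        (hM₀F (mul_mem v.2 (inv_mem v'.2))) _ (hM₀F (mul_mem w.2 (inv_mem w'.2))) h2
      rw [mul_inv_eq_one] at a0 a1 a2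
      exact Prod.ext (Subtype.ext a0) (Prod.ext (Subtype.ext a1) (Subtype.ext a2))
    have h5 := (Nat.card_le_card_of_injective f hf).trans h
    rw [Nat.card_prod, Nat.card_prod] at h5
    rw [hM₀, h3]
    norm_num
    by_contra hlt
    push Not at hlt
    have := Nat.mul_le_mul hlt (Nat.mul_le_mul hlt hlt)
    simp only [Nat.succ_eq_add_one] at this
    omega
  refine hgne (MulEquiv.ext fun a => ?_)
  have hle : (⨆ j, Fx j) ≤ (movedHom ⁅y₁, y₂⁆).ker := iSup_le fun j a ha =>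
    mem_ker_movedHom.mpr (hsub (Fx j) (hFxne j) R₀ hR₀p (hinv j) ⟨y₁, hmem0 y₁ hy₁⟩
      ⟨y₂, hmem0 y₂ hy₂⟩ (hsmall j y₁ hy₁) (hsmall j y₂ hy₂) a ha)
  rw [hHtop] at hle
  exact mem_ker_movedHom.mp (hle (Subgroup.mem_top a))

theorem commute_of_smallMoved [Finite A] [Fact p.Prime] (hp2 : p ≠ 2) (hA : IsPGroup 2 A)
    {R : Subgroup (MulAut A)} (hR : IsPGroup p R) {y₁ y₂ : MulAut A}
    (h₁ : SmallMoved p R y₁) (h₂ : SmallMoved p R y₂) : y₁ * y₂ = y₂ * y₁ :=
  commute_of_smallMoved_aux hp2 _ A rfl hA R hR y₁ y₂ h₁ h₂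

end Cfsg.Agent.HallHigman
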