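/-
The `p^n`-th powers of deficient elements of a common p-subgroup commute (helper3).

Main results (namespace `Cfsg.Agent.HallHigman`):
* commute_of_deficient
-/
import Cfsg.Agent.Lib.HallHigman.Deficient
import Cfsg.Agent.Lib.HallHigman.SmallMoved

set_option autoImplicit false

namespace Cfsg.Agent.HallHigman

open scoped commutatorElement

theorem eq_one_of_fix_simple {F : Type*} [Field F] {V : Type*} [AddCommGroup V] [Module F V]
    [FiniteDimensional F V] {G : Type*} [Group G] {ρ : G →* Module.End F V}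
    (hρ : Function.Injective ρ) {C : Subgroup G} {t : G} (htc : ∀ c ∈ C, Commute t c)
    {N : ℕ} (htN : t ^ N = 1) (hN : (N : F) ≠ 0)
    (h : ∀ U, IsSimpleInv ρ C U → ∀ u ∈ U, ρ t u = u) : t = 1 := by
  by_contra ht
  have hne : LinearMap.range (ρ t - 1) ≠ ⊥ := fun h0 => ht (hρ (by
    rw [map_one]
    exact sub_eq_zero.mp (LinearMap.range_eq_bot.mp h0)))
  have hinv : IsInv ρ C (LinearMap.range (ρ t - 1)) := by
    rintro c hc _ ⟨v, rfl⟩
    refine ⟨ρ c v, ?_⟩
    simp only [LinearMap.sub_apply, Module.End.one_apply, map_sub]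
    rw [← rho_mul_apply, ← rho_mul_apply, (htc c hc).eq]
  obtain ⟨U, hUle, hU⟩ := exists_simple_le hne hinv
  obtain ⟨w, hw, hw0⟩ := Submodule.exists_mem_ne_zero_of_ne_bot hU.1
  obtain ⟨v, hv⟩ := hUle hw
  have h1 : ρ t v = v + w := by
    rw [← hv]; simp
  have h2 : ∀ i : ℕ, ρ (t ^ i) v = v + (i : F) • w := by
    intro i
    induction i with
    | zero => simp
    | succ i ih =>
      rw [pow_succ', rho_mul_apply, ih, map_add, map_smul, h1, h U hU w hw, Nat.cast_succ,
        add_smul, one_smul]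
      abel
  have h3 := h2 N
  rw [htN, map_one, Module.End.one_apply, left_eq_add, smul_eq_zero] at h3
  exact hw0 (h3.resolve_left hN)

variable {F : Type*} [Field F] {V : Type*} [AddCommGroup V] [Module F V] {p : ℕ}
  {G : Type*} [Group G] [IsAlgClosed F] [FiniteDimensional F V] [hp : Fact p.Prime] [CharP F p]
  [Finite G]

theorem centralizes_classTwo_of_deficient {ρ : G →* Module.End F V} (hρ : Function.Injective ρ)
    (hp2 : p ≠ 2) {P₁ : Subgroup G} (hP₁ : IsPGroup p P₁) {C : Subgroup G} (hCp : IsPGroup 2 C)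
    (hC : ∀ a ∈ C, ∀ b ∈ C, ∀ c ∈ C, Commute ⁅a, b⁆ c)
    (hPC : P₁ ≤ Subgroup.normalizer (C : Set G)) {x₁ x₂ : G} (hx₁ : x₁ ∈ P₁) (hx₂ : x₂ ∈ P₁)
    {n : ℕ} (hd₁ : Deficient ρ p n x₁) (hd₂ : Deficient ρ p n x₂) :
    ∀ c ∈ C, ⁅x₁ ^ p ^ n, x₂ ^ p ^ n⁆ * c = c * ⁅x₁ ^ p ^ n, x₂ ^ p ^ n⁆ := by
  classical
  have : Fact (Nat.Prime 2) := ⟨Nat.prime_two⟩
  set y₁ := x₁ ^ p ^ n with hy₁
  set y₂ := x₂ ^ p ^ n with hy₂
  set g := ⁅y₁, y₂⁆ with hg
  have hgP : g ∈ P₁ := P₁.mul_mem (P₁.mul_mem (P₁.mul_mem (pow_mem hx₁ _) (pow_mem hx₂ _))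
    (P₁.inv_mem (pow_mem hx₁ _))) (P₁.inv_mem (pow_mem hx₂ _))
  intro c hc
  set d := g * c * g⁻¹ * c⁻¹ with hdd
  have hdC : d ∈ C :=
    C.mul_mem ((Subgroup.mem_normalizer_iff.mp (hPC hgP) c).mp hc) (C.inv_mem hc)
  -- `d` is trivial modulo every `centralMod`
  have hmod : ∀ U, IsSimpleInv ρ C U → d ∈ centralMod ρ C hC U := by
    intro U hU
    set K := centralMod ρ C hC U with hK
    set K' := K.subgroupOf C with hK'
    have hcommK : ∀ a ∈ C, ∀ b ∈ C, ⁅a, b⁆ ∈ K := fun a ha b hb =>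
      ⟨C.mul_mem (C.mul_mem (C.mul_mem ha hb) (C.inv_mem ha)) (C.inv_mem hb), fun e he u _ => by
        rw [commutatorElement_eq_one_iff_commute.mpr (hC a ha b hb e he)]; simp⟩
    have hK'n : K'.Normal := ⟨fun a ha b => by
      have h1 := K.mul_mem (hcommK b b.2 a a.2) ha
      show (b : G) * a * (b : G)⁻¹ ∈ K
      simpa [commutatorElement_def, mul_assoc] using h1⟩
    letI : CommGroup (C ⧸ K') :=
      { (inferInstance : Group (C ⧸ K')) with
        mul_comm := fun a b => by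
          induction a using QuotientGroup.induction_on with | _ a => ?_
          induction b using QuotientGroup.induction_on with | _ b => ?_
          rw [← QuotientGroup.mk_mul, ← QuotientGroup.mk_mul, QuotientGroup.eq]
          show ((a * b : C) : G)⁻¹ * ((b * a : C) : G) ∈ K
          have h1 := hcommK (b : G)⁻¹ (C.inv_mem b.2) (a : G)⁻¹ (C.inv_mem a.2)
          simpa [commutatorElement_def, mul_assoc] using h1 }
    set R₀ := P₁ ⊓ Subgroup.normalizer (K : Set G) with hR₀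
    let f : R₀ →* MulAut C := C.normalizerMonoidHom.comp (Subgroup.inclusion (inf_le_left.trans hPC))
    have hf : ∀ (r : R₀) (a : C), ((f r a : C) : G) = (r : G) * a * (r : G)⁻¹ := fun r a => rfl
    have hfK : ∀ r : R₀, K'.map (f r).toMonoidHom = K' := fun r => by
      refine le_antisymm ?_ fun a ha => ⟨f r⁻¹ a, ?_, ?_⟩
      · rintro _ ⟨a, ha, rfl⟩
        exact (Subgroup.mem_normalizer_iff.mp r.2.2 (a : G)).mp ha
      · exact (Subgroup.mem_normalizer_iff.mp (r⁻¹).2.2 (a : G)).mp ha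
      · show f r (f r⁻¹ a) = a
        rw [← MulAut.mul_apply, ← map_mul, mul_inv_cancel, map_one, MulAut.one_apply]
    let φ : R₀ →* MulAut (C ⧸ K') :=
      { toFun := fun r => QuotientGroup.congr _ _ (f r) (hfK r)
        map_one' := MulEquiv.ext fun a => by
          induction a using QuotientGroup.induction_on with | _ a => ?_
          show ((f 1 a : C) : C ⧸ K') = (a : C ⧸ K')
          rw [map_one, MulAut.one_apply]
        map_mul' := fun r s => MulEquiv.ext fun a => by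
          induction a using QuotientGroup.induction_on with | _ a => ?_
          show ((f (r * s) a : C) : C ⧸ K') = ((f r (f s a) : C) : C ⧸ K')
          rw [map_mul, MulAut.mul_apply] }
    have hsmall : ∀ x ∈ P₁, Deficient ρ p n x → ∃ r : R₀, (r : G) = x ^ p ^ n ∧
        SmallMoved p φ.range (φ r) := by
      intro x hx hd
      have hxC := hPC hx
      have hyN : x ^ p ^ n ∈ Subgroup.normalizer (K : Set G) :=
        mem_normalizer_centralMod (pow_mem hxC _) (Or.inl fun a ha b hb =>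
          commute_commutator_of_deficient hρ hp2 hd hCp hC hxC ha hb)
      refine ⟨⟨x ^ p ^ n, pow_mem hx _, hyN⟩, rfl, ⟨_, rfl⟩, ?_, ?_⟩
      · rw [← map_pow, show (⟨x ^ p ^ n, pow_mem hx _, hyN⟩ : R₀) ^ p = 1 from Subtype.ext (by
          rw [SubgroupClass.coe_pow, ← pow_mul, ← pow_succ, hd.1]; rfl), map_one]
      set Q := ⁅C, Subgroup.zpowers (x ^ p ^ n)⁆ with hQ
      have hQC : Q ≤ C :=
        Coprime.commutator_le_left' (Subgroup.zpowers_le.mpr (pow_mem hxC _))
      have hmoved : movedCard (φ ⟨x ^ p ^ n, pow_mem hx _, hyN⟩) ≤ K.relIndex Q := by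
        have h1 : K.relIndex Q = Nat.card ((Q.subgroupOf C).map (QuotientGroup.mk' K')) := by
          rw [← Subgroup.relIndex_ker, QuotientGroup.ker_mk']
          exact (Subgroup.relIndex_subgroupOf hQC).symm
        rw [h1]
        refine Nat.le_of_dvd Nat.card_pos (Subgroup.card_dvd_of_le ?_)
        rintro _ ⟨a, rfl⟩
        induction a using QuotientGroup.induction_on with | _ a => ?_
        refine ⟨f ⟨x ^ p ^ n, pow_mem hx _, hyN⟩ a * a⁻¹, ?_, rfl⟩
        show ((f ⟨x ^ p ^ n, pow_mem hx _, hyN⟩ a * a⁻¹ : C) : G) ∈ Q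
        rw [Subgroup.coe_mul, Subgroup.coe_inv, hf, hQ, Subgroup.commutator_comm]
        exact Subgroup.commutator_mem_commutator (Subgroup.mem_zpowers _) a.2
      rcases relIndex_centralMod_le hρ hp2 hd hCp (hC := hC) hxC hU with
        h | ⟨h3, z, hz, hzy, hzN, h⟩
      · exact Or.inl (hmoved.trans h)
      · refine Or.inr ⟨h3, φ ⟨z, (Subgroup.zpowers_le.mpr hx) hz, hzN⟩, ⟨_, rfl⟩, ?_, hmoved.trans h⟩
        rw [← map_pow]
        exact congrArg φ (Subtype.ext hzy)
    obtain ⟨r₁, hr₁, hs₁⟩ := hsmall x₁ hx₁ hd₁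
    obtain ⟨r₂, hr₂, hs₂⟩ := hsmall x₂ hx₂ hd₂
    have hcomm := commute_of_smallMoved hp2 (hCp.to_quotient K')
      ((hP₁.to_le (inf_le_left : R₀ ≤ P₁)).of_surjective _ φ.rangeRestrict_surjective) hs₁ hs₂
    have hone : φ ⁅r₁, r₂⁆ = 1 := by
      rw [map_commutatorElement, commutatorElement_eq_one_iff_commute]
      exact hcomm
    have h1 : ((f ⁅r₁, r₂⁆ ⟨c, hc⟩ : C) : C ⧸ K') = ((⟨c, hc⟩ : C) : C ⧸ K') := by
      show φ ⁅r₁, r₂⁆ ((⟨c, hc⟩ : C) : C ⧸ K') = _
      rw [hone, MulAut.one_apply]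
    have h2 : f ⁅r₁, r₂⁆ ⟨c, hc⟩ * (⟨c, hc⟩ : C)⁻¹ ∈ K' := by
      rw [← QuotientGroup.eq_one_iff, QuotientGroup.mk_mul, QuotientGroup.mk_inv, h1, mul_inv_cancel]
    have e : ((⁅r₁, r₂⁆ : R₀) : G) = g := by
      rw [hg, commutatorElement_def, commutatorElement_def]
      simp [hr₁, hr₂, hy₁, hy₂]
    have h3 : ((f ⁅r₁, r₂⁆ ⟨c, hc⟩ * (⟨c, hc⟩ : C)⁻¹ : C) : G) ∈ K := h2
    rwa [Subgroup.coe_mul, Subgroup.coe_inv, hf, e] at h3
  -- so `d` is central in `C`
  have hdZ : ∀ e ∈ C, Commute d e := by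
    intro e he
    rw [← commutatorElement_eq_one_iff_commute]
    have htC : ⁅d, e⁆ ∈ C :=
      C.mul_mem (C.mul_mem (C.mul_mem hdC he) (C.inv_mem hdC)) (C.inv_mem he)
    obtain ⟨j, hj⟩ := hCp ⟨_, htC⟩
    refine eq_one_of_fix_simple hρ (fun a ha => hC d hdC e he a ha) (congrArg Subtype.val hj) ?_
      fun U hU u hu => (hmod U hU).2 e he u hu
    rw [Nat.cast_pow]
    refine pow_ne_zero _ fun h => hp2 ?_
    exact (Nat.prime_dvd_prime_iff_eq hp.out Nat.prime_two).mp ((CharP.cast_eq_zero_iff F p 2).mp h)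
  -- `g` fixes `d`
  have hfix : ∀ x ∈ P₁, Deficient ρ p n x → Commute (x ^ p ^ n) d := by
    intro x hx hd
    have hxC := hPC hx
    have hxZ : x ∈ Subgroup.normalizer ((C ⊓ Subgroup.centralizer (C : Set G) : Subgroup G) : Set G) :=
      Coprime.mem_normalizer_of_forall fun z hz =>
        ⟨(Subgroup.mem_normalizer_iff.mp hxC z).mp hz.1, Subgroup.mem_centralizer_iff.mpr fun e he => by
          have h1 := Subgroup.mem_centralizer_iff.mp hz.2 (x⁻¹ * e * x) (conj_mem_of_normalizer hxC he)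
          calc e * (x * z * x⁻¹) = x * (x⁻¹ * e * x * z) * x⁻¹ := by group
            _ = x * (z * (x⁻¹ * e * x)) * x⁻¹ := by rw [h1]
            _ = _ := by group⟩
    have h1 := le_centralizer_of_deficient hρ hp2 hd hp2.symm (hCp.to_le inf_le_left) hxZ
      (Or.inr fun u hu v hv => Subgroup.mem_centralizer_iff.mp hv.2 u hu.1)
    exact (Subgroup.mem_centralizer_singleton_iff.mp
      (h1 ⟨hdC, Subgroup.mem_centralizer_iff.mpr fun e he => (hdZ e he).symm.eq⟩)).symm
  have hgd : Commute g d := by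
    have h1 := hfix x₁ hx₁ hd₁
    have h2 := hfix x₂ hx₂ hd₂
    rw [hg, commutatorElement_def]
    exact ((h1.mul_left h2).mul_left h1.inv_left).mul_left h2.inv_left
  have hpow : ∀ i : ℕ, g ^ i * c * (g ^ i)⁻¹ = d ^ i * c := by
    intro i
    induction i with
    | zero => simp
    | succ i ih =>
      calc g ^ (i + 1) * c * (g ^ (i + 1))⁻¹ = g * (g ^ i * c * (g ^ i)⁻¹) * g⁻¹ := by
            rw [pow_succ']; group
        _ = g * (d ^ i * c) * g⁻¹ := by rw [ih]
        _ = d ^ i * (g * c * g⁻¹) := by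
            rw [← mul_assoc g, (hgd.pow_right i).eq]; group
        _ = d ^ i * (d * c) := by
            rw [show d * c = g * c * g⁻¹ by rw [hdd]; group]
        _ = _ := by rw [pow_succ]; exact (mul_assoc (d ^ i) d c).symm
  obtain ⟨j, hj⟩ := hP₁ ⟨g, hgP⟩
  have hgj : g ^ p ^ j = 1 := congrArg Subtype.val hj
  have h1 := hpow (p ^ j)
  rw [hgj, one_mul, inv_one, mul_one, eq_comm, mul_eq_right] at h1
  have hd1 : (⟨d, hdC⟩ : C) = 1 := PGroup.eq_one_of_pow_eq_one_coprime hCp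
    (((Nat.coprime_primes hp.out Nat.prime_two).mpr hp2).pow_left j) (Subtype.ext h1)
  have : d = 1 := congrArg Subtype.val hd1
  rw [hdd, mul_inv_eq_one, mul_inv_eq_iff_eq_mul] at this
  exact this

/-- The `p^n`-th powers of deficient elements of a `p`-subgroup commute. -/
theorem commute_of_deficient {ρ : G →* Module.End F V} (hρ : Function.Injective ρ) (hp2 : p ≠ 2)
    {M : Subgroup G} [M.Normal] (hMp : ∀ q : ℕ, q.Prime → q ∣ Nat.card M → q ≠ p)
    (hCM : Subgroup.centralizer (M : Set G) ≤ M) {P₁ : Subgroup G} (hP₁ : IsPGroup p P₁)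
    {x₁ x₂ : G} (hx₁ : x₁ ∈ P₁) (hx₂ : x₂ ∈ P₁) {n : ℕ} (hd₁ : Deficient ρ p n x₁)
    (hd₂ : Deficient ρ p n x₂) : Commute (x₁ ^ p ^ n) (x₂ ^ p ^ n) := by
  classical
  have : Fact (Nat.Prime 2) := ⟨Nat.prime_two⟩
  set g := ⁅x₁ ^ p ^ n, x₂ ^ p ^ n⁆ with hg
  rw [← commutatorElement_eq_one_iff_commute]
  have hgP : g ∈ P₁ := P₁.mul_mem (P₁.mul_mem (P₁.mul_mem (pow_mem hx₁ _) (pow_mem hx₂ _))
    (P₁.inv_mem (pow_mem hx₁ _))) (P₁.inv_mem (pow_mem hx₂ _))
  have hPM : P₁ ≤ Subgroup.normalizer (M : Set G) :=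
    le_top.trans (Subgroup.normalizer_eq_top_iff.mpr inferInstance).ge
  have hsolv : Group.IsSolvable P₁ := Solvable.isSolvable_of_isPGroup hP₁
  have hcop : (Nat.card P₁).Coprime (Nat.card M) := by
    obtain ⟨e, he⟩ := IsPGroup.iff_card.mp hP₁
    rw [he]
    exact ((hp.out.coprime_iff_not_dvd).mpr fun h => hMp p hp.out h rfl).pow_left _
  have hM : M ≤ Subgroup.centralizer ({g} : Set G) := by
    refine le_centralizer_singleton_of_sylows fun q hq => ?_
    have : Fact q.Prime := ⟨hq⟩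
    obtain ⟨S, hS⟩ := Coprime.exists_invariant_sylow hPM hcop (Or.inl hsolv) q
    refine ⟨S, ?_⟩
    set SG := (S : Subgroup M).map M.subtype with hSG
    have hSGq : IsPGroup q SG := S.2.map _
    by_cases hSb : SG = ⊥
    · rw [hSb]; exact bot_le
    have hqp : q ≠ p := by
      refine hMp q hq ((dvd_trans ?_ (Subgroup.card_dvd_of_le (Subgroup.map_subtype_le _ : SG ≤ M))))
      rcases hSGq.card_eq_or_dvd with h | h
      · exact absurd (Subgroup.eq_bot_of_card_eq _ h) hSb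
      · exact h
    by_cases hq2 : q = 2
    · subst hq2
      obtain ⟨H, hH⟩ := PGroup.exists_critical hSGq
      have := hH.char
      set C := H.map SG.subtype with hC
      have hclass : ∀ a ∈ C, ∀ b ∈ C, ∀ c ∈ C, Commute ⁅a, b⁆ c := by
        rintro _ ⟨a, ha, rfl⟩ _ ⟨b, -, rfl⟩ _ ⟨c, hc, rfl⟩
        have h1 := Subgroup.mem_centralizer_iff.mp (hH.comm_mem a ha b).2 c hc
        rw [← map_commutatorElement]
        show Commute (SG.subtype ⁅a, b⁆) (SG.subtype c)
        exact (show Commute ⁅a, b⁆ c from h1.symm).map SG.subtype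
      have hgC := centralizes_classTwo_of_deficient hρ hp2 hP₁ (hSGq.to_le (Subgroup.map_subtype_le _))
        hclass (hS.trans (Cores.normalizer_le_normalizer_map H)) hx₁ hx₂ hd₁ hd₂
      let a : MulAut SG := SG.normalizerMonoidHom ⟨g, hS hgP⟩
      have ha : Nat.Coprime (orderOf a) 2 := by
        obtain ⟨j, hj⟩ := hP₁ ⟨g, hgP⟩
        refine (((Nat.coprime_primes hp.out Nat.prime_two).mpr hp2).pow_left j).coprime_dvd_left ?_
        refine orderOf_dvd_of_pow_eq_one ?_
        rw [← map_pow, show (⟨g, hS hgP⟩ : Subgroup.normalizer (SG : Set G)) ^ p ^ j = 1 from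
          Subtype.ext (by rw [SubgroupClass.coe_pow]; exact congrArg Subtype.val hj), map_one]
      have ha1 := PGroup.aut_eq_one_of_fix_selfCentralizing hSGq hH.self_centralizing ha
        (fun h hh => Subtype.ext (show g * (h : G) * g⁻¹ = h by
          have h5 : g * (h : G) = (h : G) * g := hgC _ ⟨h, hh, rfl⟩
          rw [h5, mul_inv_cancel_right]))
      intro s hs
      rw [Subgroup.mem_centralizer_singleton_iff]
      have h1 := congrArg (fun a : MulAut SG => ((a ⟨s, hs⟩ : SG) : G)) ha1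
      have h2 : g * s * g⁻¹ = s := h1
      exact (mul_inv_eq_iff_eq_mul.mp h2).symm
    · intro s hs
      rw [Subgroup.mem_centralizer_singleton_iff]
      have h1 : ∀ x ∈ P₁, Deficient ρ p n x → Commute (x ^ p ^ n) s := fun x hx hd =>
        (Subgroup.mem_centralizer_singleton_iff.mp (le_centralizer_of_deficient hρ hp2 hd hqp hSGq
          (hS hx) (Or.inl hq2) hs)).symm
      have h2 := h1 x₁ hx₁ hd₁
      have h3 := h1 x₂ hx₂ hd₂
      rw [hg, commutatorElement_def]
      exact (((h2.mul_left h3).mul_left h2.inv_left).mul_left h3.inv_left).symm.eq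
  have hgM : g ∈ M := hCM (Subgroup.mem_centralizer_iff.mpr fun m hm =>
    Subgroup.mem_centralizer_singleton_iff.mp (hM hm))
  obtain ⟨j, hj⟩ := hP₁ ⟨g, hgP⟩
  have hgj : g ^ p ^ j = 1 := congrArg Subtype.val hj
  refine orderOf_eq_one_iff.mp (Nat.eq_one_of_dvd_coprimes (hcop.coprime_dvd_left ?_)
    dvd_rfl (Subgroup.orderOf_dvd_natCard M hgM))
  exact Subgroup.orderOf_dvd_natCard P₁ hgP

end Cfsg.Agent.HallHigman
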