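/-
A fixed-point-free element of odd prime power order centralises the critical 2-groups of a
faithful module (helper3).

Main results (namespace `Cfsg.Agent.Gross`):
* mul_ord_two_dvd, false_of_odd_critical
-/
import Cfsg.Agent.Lib.HallHigman.CoprimePow
import Cfsg.Agent.Lib.HallHigman.GrossTools
import Cfsg.Agent.Lib.HallHigman.DeficientTwo
import Mathlib.NumberTheory.Multiplicity

set_option autoImplicit false

namespace Cfsg.Agent.Gross

open Module HallHigman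
open scoped commutatorElement

/-- `2` has order `2m·p^k` modulo `p^(k+N)` when `2^m + 1 = p^N`. -/
theorem mul_ord_two_dvd {p m N k D : ℕ} [hp : Fact p.Prime] (hp2 : p ≠ 2) (hm : 1 ≤ m)
    (hN : 2 ^ m + 1 = p ^ N) (hN1 : 1 ≤ N) (hd : p ^ (k + N) ∣ 2 ^ D - 1) :
    2 * m * p ^ k ∣ D := by
  have hm2 : 2 ≤ 2 ^ m := Nat.le_self_pow (by omega) 2
  have hPd : 2 ^ m + 1 ∣ 2 ^ D - 1 := hN ▸ (pow_dvd_pow p (Nat.le_add_left N k)).trans hd
  have hsq : 2 ^ m + 1 ∣ 2 ^ (2 * m) - 1 := by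
    refine ⟨2 ^ m - 1, ?_⟩
    rw [show (2 : ℕ) ^ (2 * m) - 1 = 2 ^ m * 2 ^ m - 1 * 1 by rw [← pow_add, two_mul, one_mul],
      Nat.mul_self_sub_mul_self_eq]
  obtain ⟨l, r, hrm, rfl⟩ : ∃ l r, r < 2 * m ∧ D = 2 * m * l + r :=
    ⟨D / (2 * m), D % (2 * m), Nat.mod_lt _ (by omega), (Nat.div_add_mod D (2 * m)).symm⟩
  have hcop : Nat.Coprime (2 ^ m + 1) 2 := by
    rw [Nat.coprime_two_right]
    exact (Nat.even_pow.mpr ⟨even_two, by omega⟩).add_one
  have hl : 2 ^ m + 1 ∣ 2 ^ (2 * m * l) - 1 := by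
    refine hsq.trans ?_
    have := Nat.sub_dvd_pow_sub_pow (2 ^ (2 * m)) 1 l
    rwa [one_pow, ← pow_mul] at this
  have hr : 2 ^ m + 1 ∣ 2 ^ r - 1 := by
    have e : 2 ^ (2 * m * l + r) - 1 = 2 ^ r * (2 ^ (2 * m * l) - 1) + (2 ^ r - 1) := by
      rw [pow_add, Nat.mul_sub, mul_one, mul_comm (2 ^ (2 * m * l))]
      have h1 : 2 ^ r ≤ 2 ^ r * 2 ^ (2 * m * l) := Nat.le_mul_of_pos_right _ (pow_pos two_pos _)
      have h2 : 0 < 2 ^ r := pow_pos two_pos r
      omega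
    rw [e] at hPd
    exact (Nat.dvd_add_right (dvd_mul_of_dvd_right hl _)).mp hPd
  have hr0 : r = 0 := by
    by_contra hr0
    rcases Nat.lt_or_ge m r with h | h
    · obtain ⟨j, rfl⟩ : ∃ j, r = m + j := ⟨r - m, by omega⟩
      have h3 : 2 ^ m + 1 ∣ 2 ^ j + 1 := by
        have h4 : 2 ^ m + 1 ∣ 2 ^ j * (2 ^ m + 1) := dvd_mul_left _ _
        have h5 : 2 ^ j * (2 ^ m + 1) = 2 ^ (m + j) - 1 + (2 ^ j + 1) := by
          have : 0 < 2 ^ (m + j) := pow_pos two_pos _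
          rw [Nat.mul_add, mul_one, pow_add, mul_comm]
          rw [pow_add] at this
          omega
        rw [h5] at h4
        exact (Nat.dvd_add_right hr).mp h4
      have h6 := Nat.le_of_dvd (by positivity) h3
      have h7 : 2 ^ j < 2 ^ m := Nat.pow_lt_pow_right one_lt_two (by omega)
      omega
    · have h1 : 2 ≤ 2 ^ r := Nat.le_self_pow hr0 2
      have h6 := Nat.le_of_dvd (by omega) hr
      have h7 : 2 ^ r ≤ 2 ^ m := Nat.pow_le_pow_right two_pos h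
      omega
  subst hr0
  rw [add_zero] at hd ⊢
  rcases Nat.eq_zero_or_pos l with rfl | hlpos
  · simp
  refine Nat.mul_dvd_mul_left _ ?_
  set x := 2 ^ (2 * m) with hx
  have hx1 : 1 < x := Nat.one_lt_pow (by omega) one_lt_two
  have hpx : ¬ p ∣ x := fun h => hp2 ((Nat.prime_dvd_prime_iff_eq hp.out Nat.prime_two).mp
    (hp.out.dvd_of_dvd_pow h))
  have hpodd : Odd p := hp.out.odd_of_ne_two hp2
  have hpdvd : p ∣ x - 1 := ((hN ▸ dvd_pow_self p (by omega) : p ∣ 2 ^ m + 1)).trans hsq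
  have h1 := padicValNat.pow_sub_pow (p := p) hpodd (y := 1) hx1 hpdvd hpx (n := l) hlpos.ne'
  rw [one_pow] at h1
  have hv : padicValNat p (x - 1) = N := by
    have e : x - 1 = (2 ^ m - 1) * p ^ N := by
      rw [hx, show (2 : ℕ) ^ (2 * m) - 1 = 2 ^ m * 2 ^ m - 1 * 1 by rw [← pow_add, two_mul, one_mul],
        Nat.mul_self_sub_mul_self_eq, hN, mul_comm]
    rw [e, padicValNat.mul (by omega) (pow_ne_zero _ hp.out.ne_zero), padicValNat.prime_pow]
    have : ¬ p ∣ 2 ^ m - 1 := fun h => by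
      have h2 : p ∣ 2 ^ m + 1 := hN ▸ dvd_pow_self p (by omega)
      have h3 := Nat.dvd_sub h2 h
      rw [show 2 ^ m + 1 - (2 ^ m - 1) = 2 by omega] at h3
      exact hp2 ((Nat.prime_dvd_prime_iff_eq hp.out Nat.prime_two).mp h3)
    rw [padicValNat.eq_zero_of_not_dvd this, zero_add]
  rw [hv] at h1
  rw [pow_mul] at hd
  have hne : x ^ l - 1 ≠ 0 := Nat.sub_ne_zero_of_lt (Nat.one_lt_pow hlpos.ne' hx1)
  have h2 : k + N ≤ padicValNat p (x ^ l - 1) := (padicValNat_dvd_iff_le hne).mp hd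
  exact (padicValNat_dvd_iff_le hlpos.ne').mpr (by omega)

variable {F : Type*} [Field F] [IsAlgClosed F] {V : Type*} [AddCommGroup V] [Module F V]
  [FiniteDimensional F V] {G : Type*} [Group G] [Finite G]

/-- No critical subgroup for a fixed-point-free element of odd prime power order. -/
theorem false_of_odd_critical {p : ℕ} [hp : Fact p.Prime] (hp2 : p ≠ 2) (hpF : (p : F) ≠ 0)
    {ρ : G →* Module.End F V} {x : G} {n : ℕ} (hxn : x ^ p ^ (n + 1) = 1)
    {q : ℕ} [hq : Fact q.Prime] (hqF : (q : F) ≠ 0) (hqp : q ≠ p) {Q : Subgroup G}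
    (hQ : IsPGroup q Q) (hxQ : x ∈ Subgroup.normalizer (Q : Set G))
    (c1 : ∀ a ∈ Q, ∀ b ∈ Q, Commute (x ^ p ^ n) ⁅a, b⁆)
    (c2 : ∀ c ∈ Q, Commute (x ^ p ^ n) c → ∀ g ∈ Q, Commute c g)
    (c3 : Q ≤ Subgroup.closure ((fun g => ⁅g, x ^ p ^ n⁆) '' (Q : Set G)))
    (hne : ∃ g ∈ Q, ρ g ≠ 1) (hfixQ : ∀ a ∈ Q, x * a * x⁻¹ = a → a = 1)
    (hfpf : ∀ v, ρ x v = v → v = 0) : False := by
  classical
  set y := x ^ p ^ n with hy
  obtain ⟨e, he⟩ := IsPGroup.iff_card.mp hQ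
  have hpQ : ¬ p ∣ Nat.card Q := fun h =>
    hqp ((Nat.prime_dvd_prime_iff_eq hp.out hq.out).mp (hp.out.dvd_of_dvd_pow (he ▸ h))).symm
  have hQF : (Nat.card Q : F) ≠ 0 := by rw [he, Nat.cast_pow]; exact pow_ne_zero _ hqF
  obtain ⟨g₀, hg₀, hg₀'⟩ := hne
  obtain ⟨W₀, hW₀, g₁, hg₁, w₁, hw₁, hw₁'⟩ := exists_nontrivial_simple hQF hg₀ hg₀'
  obtain ⟨k, hk, W, hW, hiso, hzW, hzfix⟩ := exists_period_fpf ρ hxQ hxn hW₀ hfpf
  set t := p ^ k with ht
  have htpos : 0 < t := pow_pos hp.out.pos k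
  obtain ⟨N, hN⟩ : ∃ N, n = k + N := ⟨n - k, by omega⟩
  set G₀ := stabSub ρ W with hG₀
  have hQG₀ : Q ≤ G₀ := fun g hg => hW.2.1 g hg
  let z : G₀ := ⟨x ^ t, hzW⟩
  set ρ' := restrictHom ρ W
  have hrho : ∀ (g : G₀) (w : W), ((ρ' g w : W) : V) = ρ (g : G) w := fun g w => rfl
  have : Nontrivial W := Submodule.nontrivial_iff_ne_bot.mpr hW.1
  have hirr : IsIrred ρ' (Q.subgroupOf G₀) := by
    intro U₁ hU₁
    have hinv : IsInv ρ Q (U₁.map W.subtype) := by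
      rintro g hg _ ⟨u, hu, rfl⟩
      exact ⟨ρ' ⟨g, hQG₀ hg⟩ u, hU₁ ⟨g, hQG₀ hg⟩ hg u hu, rfl⟩
    rcases hW.2.2 _ (Submodule.map_subtype_le _ _) hinv with h | h
    · exact Or.inl (Submodule.map_injective_of_injective W.subtype_injective
        (by rw [h, Submodule.map_bot]))
    · refine Or.inr (Submodule.map_injective_of_injective W.subtype_injective ?_)
      rw [h, Submodule.map_top, Submodule.range_subtype]
  have hzy : ((z ^ p ^ N : G₀) : G) = y := by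
    rw [SubgroupClass.coe_pow, ← pow_mul, ht, ← pow_add, ← hN]
  obtain ⟨hQA, hD⟩ := critical_eq (pow_mem hxQ _) c1 c3
  obtain ⟨a1, -, a3⟩ := critical_hyps_subgroupOf (H := G₀) hQG₀ (y := z ^ p ^ N)
    (by rw [hzy]; exact Subgroup.zpowers_le.mpr (pow_mem hxQ _)) (by rw [hzy]; exact hQA)
    (by rw [hzy]; exact hD)
  have hzQ : z ∈ Subgroup.normalizer ((Q.subgroupOf G₀ : Subgroup G₀) : Set G₀) := by
    rw [Subgroup.mem_normalizer_iff]
    exact fun a => Subgroup.mem_normalizer_iff.mp (pow_mem hxQ t) (a : G)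
  obtain ⟨m, hm, hqm, ⟨a₀, ha₀, b₀, hb₀, hab⟩, K₀, hK₀Q, hK₀i, hK₀⟩ :=
    irred_fpf_dim ρ' hirr hzQ (N := N) hpF
      (Subtype.ext (by
        rw [SubgroupClass.coe_pow, ← pow_mul, ht, ← pow_add, show k + (N + 1) = n + 1 by omega, hxn]
        rfl)) hqp hQ.comap_subtype a1 a3
      (by
        obtain ⟨f, hf, hfr, hfe⟩ := hiso
        refine ⟨⟨g₁, hQG₀ hg₁⟩, hg₁, fun h => hw₁' ?_⟩
        have hfW : f ⟨w₁, hw₁⟩ ∈ W := hfr ▸ LinearMap.mem_range_self f _
        have h1 : ρ g₁ (f ⟨w₁, hw₁⟩) = f ⟨w₁, hw₁⟩ :=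
          congrArg (fun T : Module.End F W => ((T ⟨f ⟨w₁, hw₁⟩, hfW⟩ : W) : V)) h
        rw [← hfe g₁ hg₁ ⟨w₁, hw₁⟩ ⟨ρ g₁ w₁, hW₀.2.1 g₁ hg₁ w₁ hw₁⟩ rfl] at h1
        exact congrArg Subtype.val (hf h1))
      (fun w hw => Subtype.ext (hzfix w w.2 (congrArg Subtype.val hw)))
  -- the exceptional case: `q = 2`
  obtain rfl : q = 2 := by
    have hodd : Odd (p ^ (N + 1)) := (hp.out.odd_of_ne_two hp2).pow
    have he2 : Even (q ^ m) := by
      rw [← hqm] at hodd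
      exact Nat.not_odd_iff_even.mp fun h => Nat.not_even_iff_odd.mpr hodd (h.add_one)
    exact (hq.out.even_iff).mp (Nat.even_pow.mp he2).1
  -- the kernels of the translates
  set K := K₀.map G₀.subtype with hKdef
  have hKQ : K ≤ Q := by rintro _ ⟨g, hg, rfl⟩; exact hK₀Q hg
  have hKi : K.relIndex Q = 2 ^ (2 * m) := by
    conv_lhs => rw [← Subgroup.map_subgroupOf_eq_of_le hQG₀]
    rw [hKdef, Subgroup.relIndex_map_map_of_injective _ _ G₀.subtype_injective, hK₀i, ← pow_add,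
      two_mul]
  have hKmem : ∀ {g}, g ∈ K ↔ g ∈ Q ∧ ∃ c : F, ∀ w ∈ W, ρ g w = c • w := by
    intro g
    constructor
    · rintro ⟨g', hg', rfl⟩
      obtain ⟨h1, c, hc⟩ := (hK₀ g').mp hg'
      exact ⟨h1, c, fun w hw => congrArg (fun T : Module.End F W => ((T ⟨w, hw⟩ : W) : V)) hc⟩
    · rintro ⟨hg, c, hc⟩
      exact ⟨⟨g, hQG₀ hg⟩, (hK₀ _).mpr ⟨hg, c, LinearMap.ext fun w => Subtype.ext (hc w w.2)⟩, rfl⟩
  let L : Fin t → Subgroup G := fun i => K.map (MulAut.conj (x ^ (i : ℕ))).toMonoidHom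
  have hxi : ∀ i : ℕ, x ^ i ∈ Subgroup.normalizer (Q : Set G) := fun i => pow_mem hxQ i
  have hLmem : ∀ (i : Fin t) {g}, g ∈ L i ↔ (x ^ (i : ℕ))⁻¹ * g * x ^ (i : ℕ) ∈ K := by
    intro i g
    constructor
    · rintro ⟨c, hc, rfl⟩
      show (x ^ (i : ℕ))⁻¹ * (x ^ (i : ℕ) * c * (x ^ (i : ℕ))⁻¹) * x ^ (i : ℕ) ∈ K
      simpa [mul_assoc] using hc
    · intro h
      exact ⟨_, h, by show x ^ (i : ℕ) * _ * (x ^ (i : ℕ))⁻¹ = g; group⟩
  have hLQ : ∀ i, L i ≤ Q := fun i g hg => by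
    have h1 := (Subgroup.mem_normalizer_iff.mp (hxi i) _).mp (hKQ ((hLmem i).mp hg))
    simpa [mul_assoc] using h1
  have hLi : ∀ i, (L i).relIndex Q = 2 ^ (2 * m) := fun i => by
    have h1 := Subgroup.relIndex_map_map_of_injective K Q
      (f := (MulAut.conj (x ^ (i : ℕ))).toMonoidHom) (MulAut.conj (x ^ (i : ℕ))).injective
    have h2 : Q.map (MulAut.conj (x ^ (i : ℕ))).toMonoidHom = Q :=
      Subgroup.mem_normalizer_iff_map_conj_eq.mp (hxi i)
    rw [h2, hKi] at h1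
    exact h1
  have hxtK : ∀ g, g ∈ K → (x ^ t)⁻¹ * g * x ^ t ∈ K ∧ x ^ t * g * (x ^ t)⁻¹ ∈ K := by
    intro g hg
    obtain ⟨hgQ, c, hc⟩ := hKmem.mp hg
    refine ⟨hKmem.mpr ⟨conj_mem_of_normalizer (hxi t) hgQ, c, fun w hw => ?_⟩,
      hKmem.mpr ⟨(Subgroup.mem_normalizer_iff.mp (hxi t) g).mp hgQ, c, fun w hw => ?_⟩⟩
    · rw [rho_mul_apply, rho_mul_apply, hc _ (hzW w hw), map_smul, rho_inv_apply]
    · rw [rho_mul_apply, rho_mul_apply, hc _ ((stabSub ρ W).inv_mem hzW w hw), map_smul,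
        rho_apply_inv]
  -- the intersection and its index
  set M := Q ⊓ ⨅ i, L i with hMdef
  have hMn : ∀ g ∈ M, x * g * x⁻¹ ∈ M := by
    intro g hg
    refine ⟨(Subgroup.mem_normalizer_iff.mp hxQ g).mp hg.1, Subgroup.mem_iInf.mpr fun i => ?_⟩
    rw [hLmem]
    rcases Nat.eq_zero_or_pos (i : ℕ) with h0 | h0
    · rw [h0, pow_zero, inv_one, one_mul, mul_one]
      have h1 := (hLmem ⟨t - 1, by omega⟩).mp (Subgroup.mem_iInf.mp hg.2 _)
      have h2 := (hxtK _ h1).2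
      convert h2 using 1
      have e : x ^ t = x * x ^ (t - 1) := by rw [← pow_succ', Nat.sub_add_cancel htpos]
      rw [e]; group
    · have h1 := (hLmem ⟨(i : ℕ) - 1, by omega⟩).mp (Subgroup.mem_iInf.mp hg.2 _)
      convert h1 using 1
      have e : x ^ (i : ℕ) = x * x ^ ((i : ℕ) - 1) := by rw [← pow_succ', Nat.sub_add_cancel h0]
      rw [e]; group
  have hxM : x ∈ Subgroup.normalizer (M : Set G) := Coprime.mem_normalizer_of_forall hMn
  have hMle : M.relIndex Q ≤ (2 ^ (2 * m)) ^ t := by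
    rw [hMdef, Subgroup.inf_relIndex_left]
    exact (Subgroup.relIndex_iInf_le L).trans (by simp [hLi])
  -- semiregularity
  set M' := M.subgroupOf Q
  let xaut : MulAut Q := Q.normalizerMonoidHom ⟨x, hxQ⟩
  have hxa : ∀ (j : ℕ) (g : Q), (((xaut ^ j) g : Q) : G) = x ^ j * g * (x ^ j)⁻¹ := by
    intro j
    induction j with
    | zero => intro g; simp
    | succ j ih =>
      intro g
      rw [pow_succ', MulAut.mul_apply, pow_succ']
      show x * ((xaut ^ j) g : G) * x⁻¹ = _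
      rw [ih]
      simp [mul_assoc]
  have hM'n : M'.Normal := by
    refine ⟨fun a ha b => ?_⟩
    have hcl : ∀ i, ∀ c ∈ Q, ∀ g ∈ L i, c * g * c⁻¹ ∈ L i := by
      intro i c hc g hg
      rw [hLmem] at hg ⊢
      have hc' : (x ^ (i : ℕ))⁻¹ * c * x ^ (i : ℕ) ∈ Q := conj_mem_of_normalizer (hxi i) hc
      obtain ⟨hgQ, s, hs⟩ := hKmem.mp hg
      refine hKmem.mpr ⟨conj_mem_of_normalizer (hxi i) (Q.mul_mem (Q.mul_mem hc (hLQ i ((hLmem i).mpr hg)))
        (Q.inv_mem hc)), s, fun w hw => ?_⟩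
      rw [show (x ^ (i : ℕ))⁻¹ * (c * g * c⁻¹) * x ^ (i : ℕ) = ((x ^ (i : ℕ))⁻¹ * c * x ^ (i : ℕ)) *
        ((x ^ (i : ℕ))⁻¹ * g * x ^ (i : ℕ)) * ((x ^ (i : ℕ))⁻¹ * c * x ^ (i : ℕ))⁻¹ by group,
        rho_mul_apply, rho_mul_apply, hs _ (hW.2.1 _ (Q.inv_mem hc') w hw), map_smul, rho_apply_inv]
    exact ⟨(b * a * b⁻¹ : Q).2,
      Subgroup.mem_iInf.mpr fun i => hcl i b b.2 a (Subgroup.mem_iInf.mp ha.2 i)⟩
  have hmap : ∀ g : Q, g ∈ M' → xaut g ∈ M' := fun g hg => hMn (g : G) hg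
  let σ : Equiv.Perm (Q ⧸ M') := (QuotientGroup.congr M' M' xaut (by
    refine le_antisymm ?_ fun g hg => ⟨xaut⁻¹ g, ?_, xaut.apply_symm_apply g⟩
    · rintro _ ⟨g, hg, rfl⟩; exact hmap g hg
    · rw [show xaut⁻¹ = Q.normalizerMonoidHom (⟨x, hxQ⟩ : Subgroup.normalizer (Q : Set G))⁻¹ from
        (map_inv _ _).symm]
      show x⁻¹ * (g : G) * x⁻¹⁻¹ ∈ M
      rw [inv_inv]
      exact conj_mem_of_normalizer hxM hg)).toEquiv
  have hσ : ∀ (j : ℕ) (g : Q), (σ ^ j) (g : Q ⧸ M') = (((xaut ^ j) g : Q) : Q ⧸ M') := by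
    intro j
    induction j with
    | zero => intro g; rfl
    | succ j ih => intro g; rw [pow_succ', Equiv.Perm.mul_apply, ih, pow_succ', MulAut.mul_apply]; rfl
  have hcent : ∀ g ∈ Q, Commute y g → g ∈ M := by
    intro g hg hyg
    refine ⟨hg, Subgroup.mem_iInf.mpr fun i => ?_⟩
    rw [hLmem]
    set g' := (x ^ (i : ℕ))⁻¹ * g * x ^ (i : ℕ)
    have hg' : g' ∈ Q := conj_mem_of_normalizer (hxi i) hg
    have hyg' : Commute y g' := by
      have h1 : Commute y (x ^ (i : ℕ)) := (Commute.refl x).pow_pow _ _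
      exact (h1.inv_right.mul_right hyg).mul_right h1
    obtain ⟨c, hc⟩ := mem_scalar_of_commute hirr (ρ' ⟨g', hQG₀ hg'⟩) fun a ha =>
      ((show Commute (⟨g', hQG₀ hg'⟩ : G₀) a from
        Subtype.ext (c2 g' hg' hyg' (a : G) ha).eq).map ρ').eq
    exact hKmem.mpr ⟨hg', c, fun w hw =>
      congrArg (fun T : Module.End F W => ((T ⟨w, hw⟩ : W) : V)) hc⟩
  have hdiv : p ^ (n + 1) ∣ Nat.card (Q ⧸ M') - 1 := by
    refine ⟨_, (card_orbits_semiregular σ ((1 : Q) : Q ⧸ M') (pow_pos hp.out.pos _) ?_ ?_ ?_).symm⟩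
    · have := hσ 1 1
      simpa using this
    · ext q'
      induction q' using QuotientGroup.induction_on with | _ g => ?_
      rw [hσ, show (xaut ^ p ^ (n + 1)) g = g from Subtype.ext (by rw [hxa, hxn]; simp)]
      rfl
    · intro q' hq' j hj hjP hfixj
      induction q' using QuotientGroup.induction_on with | _ g => ?_
      apply hq'
      rw [hσ, eq_comm, QuotientGroup.eq] at hfixj
      -- `y` fixes the coset too
      let Z : Set ℕ := {i | g⁻¹ * (xaut ^ i) g ∈ M'}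
      have hMx : ∀ (i : ℕ) (a : Q), a ∈ M' → (xaut ^ i) a ∈ M' := by
        intro i
        induction i with
        | zero => intro a ha; simpa using ha
        | succ i ih => intro a ha; rw [pow_succ', MulAut.mul_apply]; exact hmap _ (ih a ha)
      have hZadd : ∀ i l, i ∈ Z → l ∈ Z → i + l ∈ Z := fun i l hi hl => by
        show g⁻¹ * (xaut ^ (i + l)) g ∈ M'
        rw [show g⁻¹ * (xaut ^ (i + l)) g = (g⁻¹ * (xaut ^ i) g) * (xaut ^ i) (g⁻¹ * (xaut ^ l) g) by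
          rw [map_mul, map_inv, pow_add, MulAut.mul_apply]; group]
        exact M'.mul_mem hi (hMx i _ hl)
      have hZmul : ∀ i, j * i ∈ Z := fun i => by
        induction i with
        | zero => show g⁻¹ * (xaut ^ 0) g ∈ M'; simp
        | succ i ih => rw [Nat.mul_succ]; exact hZadd _ _ ih hfixj
      obtain ⟨i, hi⟩ := exists_mul_mod_eq_gcd_pow (n := n) hj hjP
      have h1 : g⁻¹ * (xaut ^ (j * i)) g ∈ M' := hZmul i
      have h2 : (g : G)⁻¹ * (y * g * y⁻¹) ∈ M := by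
        have h3 : ((g⁻¹ * (xaut ^ (j * i)) g : Q) : G) ∈ M := h1
        rw [Subgroup.coe_mul, Subgroup.coe_inv, hxa] at h3
        conv at h3 => rw [← Nat.mod_add_div (j * i) (p ^ (n + 1)), pow_add, pow_mul, hxn, one_pow,
          mul_one, hi]
        exact h3
      let L' : Subgroup G :=
        { carrier := {b | b ∈ Subgroup.normalizer (M : Set G) ∧ (g : G)⁻¹ * b * g * b⁻¹ ∈ M}
          one_mem' := ⟨one_mem _, by simp⟩
          mul_mem' := fun {b c} hb hc => ⟨mul_mem hb.1 hc.1, by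
            have h4 := M.mul_mem hb.2 ((Subgroup.mem_normalizer_iff.mp hb.1 _).mp hc.2)
            simpa [mul_assoc] using h4⟩
          inv_mem' := fun {b} hb => ⟨inv_mem hb.1, by
            have h4 := (Subgroup.mem_normalizer_iff.mp (inv_mem hb.1) _).mp (M.inv_mem hb.2)
            simpa [mul_assoc] using h4⟩ }
      have hL' : Subgroup.zpowers y ≤ L' := Subgroup.zpowers_le.mpr (show y ∈ L' from
        ⟨pow_mem hxM _, by simpa [mul_assoc] using h2⟩)
      obtain ⟨c, hc, hcM⟩ := Coprime.exists_mem_centralizer_of_coset'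
        (Subgroup.zpowers_le.mpr (pow_mem hxQ _ : y ∈ _))
        (card_zpowers_coprime (n := 1) (by rw [← pow_mul, ← pow_add, hxn]) hpQ)
        (Or.inl inferInstance) (N := M) inf_le_left (Subgroup.zpowers_le.mpr (pow_mem hxM _))
        (k := (g : G)) g.2 (fun b hb => (hL' hb).2)
      have hcM' : c ∈ M := hcent c hc.1
        (Subgroup.mem_centralizer_iff.mp hc.2 y (Subgroup.mem_zpowers y))
      have hgM : (g : G) ∈ M := by
        have h5 := M.mul_mem hcM' (M.inv_mem hcM)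
        rwa [mul_inv_rev, inv_inv, mul_inv_cancel_left] at h5
      exact (QuotientGroup.eq_one_iff g).mpr hgM
  obtain ⟨D, -, hD'⟩ : ∃ D ≤ e, M.relIndex Q = 2 ^ D := by
    refine (Nat.dvd_prime_pow Nat.prime_two).mp (he ▸ Subgroup.relIndex_dvd_card _ _)
  have hcardQM : Nat.card (Q ⧸ M') = 2 ^ D := hD'
  rw [hcardQM] at hdiv
  have hDdvd := mul_ord_two_dvd hp2 hm (N := N + 1) hqm (by omega) (k := k)
    (by rwa [show k + (N + 1) = n + 1 by omega])
  have hKtop : K.relIndex Q ≠ 1 := by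
    rw [hKi]
    exact (Nat.one_lt_pow (by omega) one_lt_two).ne'
  have hD0 : D ≠ 0 := by
    rintro rfl
    refine hKtop (Subgroup.relIndex_eq_one.mpr fun g hg => ?_)
    have hgM : g ∈ M := Subgroup.relIndex_eq_one.mp (by rw [hD', pow_zero]) hg
    have := (hLmem ⟨0, htpos⟩).mp (Subgroup.mem_iInf.mp hgM.2 _)
    simpa using this
  have hDle := Nat.le_of_dvd (Nat.pos_of_ne_zero hD0) hDdvd
  change 2 * m * t ≤ D at hDle
  -- an element outside `K` in all the other kernels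
  have hex : ∃ a ∈ Q, a ∉ K ∧ ∀ i : Fin t, (i : ℕ) ≠ 0 → a ∈ L i := by
    by_contra hcon
    push Not at hcon
    have hle : Q ⊓ ⨅ i : {i : Fin t // (i : ℕ) ≠ 0}, L i ≤ M := fun g hg => by
      have hg2 : ∀ i : Fin t, (i : ℕ) ≠ 0 → g ∈ L i := fun i hi =>
        Subgroup.mem_iInf.mp hg.2 (⟨i, hi⟩ : {i : Fin t // (i : ℕ) ≠ 0})
      refine ⟨hg.1, Subgroup.mem_iInf.mpr fun i => ?_⟩
      by_cases hi : (i : ℕ) = 0
      · rw [hLmem, hi]
        by_contra h'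
        obtain ⟨i', hi', hg'⟩ := hcon g hg.1 (by simpa using h')
        exact hg' (hg2 i' hi')
      · exact hg2 i hi
    have hcard : Fintype.card {i : Fin t // (i : ℕ) ≠ 0} = t - 1 := by
      rw [Fintype.card_subtype, show (Finset.univ.filter fun i : Fin t => (i : ℕ) ≠ 0) =
        Finset.univ.erase ⟨0, htpos⟩ by
          ext i
          simp only [Finset.mem_filter, Finset.mem_univ, true_and, Finset.mem_erase, and_true, ne_eq,
            Fin.ext_iff],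
        Finset.card_erase_of_mem (Finset.mem_univ _), Finset.card_univ, Fintype.card_fin]
    have h1 : M.relIndex Q ≤ (2 ^ (2 * m)) ^ (t - 1) := by
      refine le_trans (Nat.le_of_dvd ?_ (Subgroup.relIndex_dvd_of_le_left Q hle)) ?_
      · exact Nat.pos_of_ne_zero (show (Subgroup.subgroupOf _ Q).index ≠ 0 from Subgroup.index_ne_zero_of_finite)
      · rw [Subgroup.inf_relIndex_left]
        exact (Subgroup.relIndex_iInf_le _).trans (by simp [hLi, hcard])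
    rw [hD', ← pow_mul] at h1
    have h2 := (Nat.pow_le_pow_iff_right one_lt_two).mp h1
    have h3 : 2 * m * (t - 1) + 2 * m = 2 * m * t := by
      rw [← Nat.mul_succ, Nat.succ_eq_add_one, Nat.sub_add_cancel htpos]
    omega
  obtain ⟨a, haQ, haK, haL⟩ := hex
  obtain ⟨b, hbQ, w₀, hw₀, hw₀ε⟩ : ∃ b ∈ Q, ∃ w ∈ W, ρ ⁅a, b⁆ w ≠ w := by
    by_contra hcon
    push Not at hcon
    refine haK ?_
    obtain ⟨c, hc⟩ := mem_scalar_of_commute hirr (ρ' ⟨a, hQG₀ haQ⟩) fun b hb => by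
      have h1 : ρ' ⁅(⟨a, hQG₀ haQ⟩ : G₀), b⁆ = 1 :=
        LinearMap.ext fun w => Subtype.ext (hcon (b : G) hb w w.2)
      rw [commute_iff_eq, ← map_mul, ← map_mul, show (⟨a, hQG₀ haQ⟩ : G₀) * b =
        ⁅(⟨a, hQG₀ haQ⟩ : G₀), b⁆ * (b * ⟨a, hQG₀ haQ⟩) by rw [commutatorElement_def]; group,
        map_mul, h1, one_mul]
    exact hKmem.mpr ⟨haQ, c, fun w hw =>
      congrArg (fun T : Module.End F W => ((T ⟨w, hw⟩ : W) : V)) hc⟩
  set ε := ⁅a, b⁆ with hε
  have hεQ : ε ∈ Q := Q.mul_mem (Q.mul_mem (Q.mul_mem haQ hbQ) (Q.inv_mem haQ)) (Q.inv_mem hbQ)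
  -- `ε` is trivial on the other translates
  have hεtriv : ∀ i : ℕ, 0 < i → i < t → ∀ w ∈ W, ρ ε (ρ (x ^ i) w) = ρ (x ^ i) w := by
    intro i hi hit w hw
    have ha' := (hLmem ⟨i, hit⟩).mp (haL ⟨i, hit⟩ (by simpa using hi.ne'))
    obtain ⟨ha'Q, s, hs⟩ := hKmem.mp ha'
    set a' := (x ^ i)⁻¹ * a * x ^ i
    set b' := (x ^ i)⁻¹ * b * x ^ i with hb'
    have hb'Q : b' ∈ Q := conj_mem_of_normalizer (hxi i) hbQ
    have e1 : ε = x ^ i * ⁅a', b'⁆ * (x ^ i)⁻¹ := by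
      simp only [hε, commutatorElement_def, a', hb']; group
    rw [e1, rho_mul_apply, rho_mul_apply, rho_inv_apply]
    congr 1
    have hs0 : ∀ u ∈ W, ρ a'⁻¹ u = s⁻¹ • u := by
      intro u hu
      have hinj : s ≠ 0 := by
        intro h0
        obtain ⟨v, hv, hv0⟩ := Submodule.exists_mem_ne_zero_of_ne_bot hW.1
        have h1 := hs v hv
        rw [h0, zero_smul] at h1
        exact hv0 (by rw [← rho_inv_apply (ρ := ρ) a' v, h1, map_zero])
      conv_lhs => rw [← one_smul F u, ← inv_mul_cancel₀ hinj, mul_smul, ← hs u hu, map_smul,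
        rho_inv_apply]
    rw [commutatorElement_def, rho_mul_apply, rho_mul_apply, rho_mul_apply,
      hs0 _ (hW.2.1 _ (Q.inv_mem hb'Q) w hw), map_smul, rho_apply_inv, map_smul, hs w hw, smul_smul]
    rw [inv_mul_cancel₀, one_smul]
    intro h0
    obtain ⟨v, hv, hv0⟩ := Submodule.exists_mem_ne_zero_of_ne_bot hW.1
    have h1 := hs v hv
    rw [h0, zero_smul] at h1
    exact hv0 (by rw [← rho_inv_apply (ρ := ρ) a' v, h1, map_zero])
  -- the product over the orbit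
  have hεc : ∀ g ∈ Q, Commute ε g := fun g hg => c2 ε hεQ (c1 a haQ b hbQ) g hg
  let f : ℕ → G := fun j => x ^ j * ε * (x ^ j)⁻¹
  have hfQ : ∀ j, f j ∈ Q := fun j => (Subgroup.mem_normalizer_iff.mp (hxi j) ε).mp hεQ
  let E : ℕ → G := fun l => ((List.range l).map f).prod
  have hE : ∀ l, E (l + 1) = E l * f l := fun l => by
    simp [E, List.range_succ]
  have hEQ : ∀ l, E l ∈ Q := fun l => by
    induction l with
    | zero => simp [E]
    | succ l ih => rw [hE]; exact mul_mem ih (hfQ l)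
  have hfc : ∀ j, ∀ g ∈ Q, Commute (f j) g := fun j g hg => by
    have h1 := hεc _ (conj_mem_of_normalizer (hxi j) hg)
    show x ^ j * ε * (x ^ j)⁻¹ * g = g * (x ^ j * ε * (x ^ j)⁻¹)
    calc x ^ j * ε * (x ^ j)⁻¹ * g = x ^ j * (ε * ((x ^ j)⁻¹ * g * x ^ j)) * (x ^ j)⁻¹ := by group
      _ = x ^ j * (((x ^ j)⁻¹ * g * x ^ j) * ε) * (x ^ j)⁻¹ := by rw [h1.eq]
      _ = _ := by group
  have hshift : ∀ l, x * E l * x⁻¹ * f 0 = E l * f l := by
    intro l
    induction l with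
    | zero => simp [E]
    | succ l ih =>
      have hxf : x * f l * x⁻¹ = f (l + 1) := by
        simp only [f]; rw [pow_succ']; group
      rw [hE, show x * (E l * f l) * x⁻¹ = (x * E l * x⁻¹) * (x * f l * x⁻¹) by group, hxf,
        mul_assoc, (hfc (l + 1) (f 0) (hfQ 0)).eq, ← mul_assoc, ih]
  -- on the translates, `E t` is fixed by `x`
  let M₀ : Subgroup G :=
    { carrier := {g | g ∈ Q ∧ ∀ i : ℕ, ∀ w ∈ W, ρ g (ρ (x ^ i) w) = ρ (x ^ i) w}
      one_mem' := ⟨one_mem _, fun i w _ => by simp⟩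
      mul_mem' := fun {g g'} hg hg' => ⟨mul_mem hg.1 hg'.1, fun i w hw => by
        rw [rho_mul_apply, hg'.2 i w hw, hg.2 i w hw]⟩
      inv_mem' := fun {g} hg => ⟨inv_mem hg.1, fun i w hw => by
        conv_lhs => rw [← hg.2 i w hw, rho_inv_apply]⟩ }
  have hxM₀ : x ∈ Subgroup.normalizer (M₀ : Set G) := Coprime.mem_normalizer_of_forall fun g hg =>
    ⟨(Subgroup.mem_normalizer_iff.mp hxQ g).mp hg.1, fun i w hw => by
      have e : i + (p ^ (n + 1) - 1) + 1 = i + p ^ (n + 1) := by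
        have := pow_pos hp.out.pos (n + 1)
        omega
      have hxx : ρ (x ^ i) w = ρ (x * x ^ (i + (p ^ (n + 1) - 1))) w := by
        rw [← pow_succ', e, pow_add, hxn, mul_one]
      rw [hxx, rho_mul_apply, rho_mul_apply, rho_mul_apply, rho_inv_apply, hg.2 _ w hw]⟩
  -- the action of `x^t` on `ε`
  have hft : f t * (f 0)⁻¹ ∈ M₀ := by
    refine ⟨mul_mem (hfQ t) (inv_mem (hfQ 0)), fun i w hw => ?_⟩
    obtain ⟨l, r, hr, rfl⟩ : ∃ l r, r < t ∧ i = r + t * l :=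
      ⟨i / t, i % t, Nat.mod_lt _ htpos, (Nat.mod_add_div i t).symm⟩
    have hwl : ρ (x ^ (t * l)) w ∈ W := by
      rw [pow_mul]
      exact (stabSub ρ W).pow_mem (show x ^ t ∈ stabSub ρ W from hzW) l w hw
    rw [pow_add x r, rho_mul_apply (x ^ r)]
    set u := ρ (x ^ (t * l)) w
    show ρ (x ^ t * ε * (x ^ t)⁻¹ * (x ^ 0 * ε * (x ^ 0)⁻¹)⁻¹) (ρ (x ^ r) u) = ρ (x ^ r) u
    rw [pow_zero, one_mul, inv_one, mul_one]
    rcases Nat.eq_zero_or_pos r with rfl | hr0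
    · rw [pow_zero, map_one, Module.End.one_apply]
      obtain ⟨s, hs⟩ := mem_scalar_of_commute hirr (ρ' ⟨ε, hQG₀ hεQ⟩) fun c hc =>
        ((show Commute (⟨ε, hQG₀ hεQ⟩ : G₀) c from Subtype.ext (hεc (c : G) hc).eq).map ρ').eq
      have hs' : ∀ v ∈ W, ρ ε v = s • v := fun v hv =>
        congrArg (fun T : Module.End F W => ((T ⟨v, hv⟩ : W) : V)) hs
      have h1 : ρ ε⁻¹ u ∈ W := hW.2.1 _ (Q.inv_mem hεQ) u hwl
      rw [rho_mul_apply, rho_mul_apply, rho_mul_apply,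
        hs' _ ((stabSub ρ W).inv_mem hzW _ h1), map_smul, rho_apply_inv, ← hs' _ h1, rho_apply_inv]
    · have h3 : ρ ε⁻¹ (ρ (x ^ r) u) = ρ (x ^ r) u := by
        conv_lhs => rw [← hεtriv r hr0 hr u hwl, rho_inv_apply]
      have h4 : ρ (x ^ t)⁻¹ (ρ (x ^ r) u) = ρ (x ^ r) (ρ (x ^ t)⁻¹ u) := by
        rw [← rho_mul_apply (ρ := ρ) (x ^ t)⁻¹ (x ^ r) u, ← rho_mul_apply (ρ := ρ) (x ^ r) (x ^ t)⁻¹ u,
          ((Commute.refl x).pow_pow t r).inv_left.eq]
      rw [rho_mul_apply, rho_mul_apply, rho_mul_apply, h3, h4,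
        hεtriv r hr0 hr _ ((stabSub ρ W).inv_mem hzW u hwl), ← h4, rho_apply_inv]
  have hpM₀ : ¬ p ∣ Nat.card Q := hpQ
  have hEt : E t ∈ M₀ := by
    refine mem_of_fixed_mod (K := Q) (N := M₀) hxn (fun g hg => hg.1) hxQ hxM₀ hpQ hfixQ (hEQ t) ?_
    have h1 := hshift t
    have h2 : (E t)⁻¹ * x * E t * x⁻¹ = f t * (f 0)⁻¹ := by
      rw [eq_mul_inv_iff_mul_eq]
      calc (E t)⁻¹ * x * E t * x⁻¹ * f 0 = (E t)⁻¹ * (x * E t * x⁻¹ * f 0) := by group
        _ = _ := by rw [h1, inv_mul_cancel_left]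
    rw [h2]
    exact hft
  -- but it is not trivial on `W`
  refine hw₀ε ?_
  have hEw : ∀ l, l ≤ t → 1 ≤ l → ∀ w ∈ W, ρ (E l) w = ρ ε w := by
    intro l
    induction l with
    | zero => intro _ h; omega
    | succ l ih =>
      intro hlt _ w hw
      rw [hE, rho_mul_apply]
      rcases Nat.eq_zero_or_pos l with rfl | hl
      · simp [E, f]
      · have h3 : ρ (f l) w = w := by
          show ρ (x ^ l * ε * (x ^ l)⁻¹) w = w
          have hw' : ρ (x ^ t)⁻¹ w ∈ W := (stabSub ρ W).inv_mem hzW w hw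
          have e : ρ (x ^ l)⁻¹ w = ρ (x ^ (t - l)) (ρ (x ^ t)⁻¹ w) := by
            rw [← rho_mul_apply]
            have e1 : x ^ l * x ^ (t - l) = x ^ t := by rw [← pow_add]; congr 1; omega
            rw [← e1, mul_inv_rev, mul_inv_cancel_left]
          rw [rho_mul_apply, rho_mul_apply, e, hεtriv (t - l) (by omega) (by omega) _ hw', ← e,
            rho_apply_inv]
        rw [h3, ih (by omega) hl w hw]
  have h5 := hEt.2 0 w₀ hw₀
  rw [pow_zero, map_one, Module.End.one_apply, hEw t le_rfl htpos w₀ hw₀] at h5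
  exact h5

end Cfsg.Agent.Gross
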