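/-
Reduction of the Shult-Gross theorems to modules (helper3).

Main results (namespace `Cfsg.Agent.Gross`):
* exists_setting, exists_nilMod_odd, shult_gross
-/
import Cfsg.Agent.Lib.HallHigman.GrossOdd
import Cfsg.Agent.Lib.FPF.Basic
import Cfsg.Agent.S3794

set_option autoImplicit false

namespace Cfsg.Agent.Gross

open HallHigman
open scoped commutatorElement

universe u

variable {p : ℕ} [hp : Fact p.Prime]

theorem not_dvd_card_of_fpf {G : Type u} [Group G] [Finite G] (σ : MulAut G) {n : ℕ}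
    (hσ : σ ^ p ^ n = 1) (hfix : ∀ g, σ g = g → g = 1) : ¬ p ∣ Nat.card G := by
  have : Finite (MulAut G) := Finite.of_injective _ DFunLike.coe_injective
  refine FPF.not_dvd_card (Subgroup.zpowers σ).subtype ?_ ?_
  · rintro ⟨a, ha⟩
    obtain ⟨i, rfl⟩ := Subgroup.mem_zpowers_iff.mp ha
    exact ⟨n, Subtype.ext (show (σ ^ i) ^ p ^ n = 1 by
      rw [← zpow_natCast, ← zpow_mul, mul_comm, zpow_mul, zpow_natCast, hσ, one_zpow])⟩
  · exact fun g hg => hfix g (hg ⟨σ, Subgroup.mem_zpowers σ⟩)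

/-- The setting: a faithful module for `Γ` on which `x` has no fixed vector, a normal solvable
`H` on which `x` has no fixed point. -/
theorem exists_setting {G : Type u} [Group G] [Finite G] (hG : Group.IsSolvable G) {r : ℕ}
    [hr : Fact r.Prime] (hO : Cfsg.pPrimeCore r G = ⊥) (hrp : r ≠ p) (σ : MulAut G) {n : ℕ}
    (hσ : σ ^ p ^ (n + 1) = 1) (hfix : ∀ g, σ g = g → g = 1) :
    ∃ (Γ : Type u) (_ : Group Γ) (_ : Finite Γ) (f : G →* Γ) (x : Γ) (F : Type) (_ : Field F)
      (_ : IsAlgClosed F) (_ : CharP F r) (d : ℕ) (ρ : Γ →* Module.End F (Fin d → F)),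
      f.range.Normal ∧ Group.IsSolvable f.range ∧ x ^ p ^ (n + 1) = 1 ∧
      (∀ i : ℕ, ∀ g, x ^ i * f g * (x ^ i)⁻¹ = f ((σ ^ i) g)) ∧
      (∀ g, f g = 1 → g ∈ Cfsg.pCore r G) ∧
      ¬ p ∣ Nat.card f.range ∧ (∀ a ∈ f.range, x * a * x⁻¹ = a → a = 1) ∧
      Cfsg.pCore r f.range = ⊥ ∧ Function.Injective ρ ∧ ∀ v, ρ x v = v → v = 0 := by
  classical
  have hpG := not_dvd_card_of_fpf σ hσ hfix
  have : Finite (MulAut G) := Finite.of_injective _ DFunLike.coe_injective
  set X := Subgroup.zpowers σ with hX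
  let Δ := G ⋊[X.subtype] X
  have : Finite Δ := Finite.of_equiv _ SemidirectProduct.equivProd.symm
  let x₀ : Δ := SemidirectProduct.inr ⟨σ, Subgroup.mem_zpowers σ⟩
  have hx₀conj : ∀ (i : ℕ) (g : G), x₀ ^ i * SemidirectProduct.inl g * (x₀ ^ i)⁻¹ =
      SemidirectProduct.inl ((σ ^ i) g) := by
    intro i g
    have h1 := SemidirectProduct.inl_aut (φ := X.subtype) (⟨σ, Subgroup.mem_zpowers σ⟩ ^ i : X) g
    rw [map_inv] at h1
    show SemidirectProduct.inr _ ^ i * SemidirectProduct.inl g * (SemidirectProduct.inr _ ^ i)⁻¹ = _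
    rw [← map_pow, ← h1]
    rfl
  have hx₀n : x₀ ^ p ^ (n + 1) = 1 := by
    show SemidirectProduct.inr _ ^ _ = 1
    rw [← map_pow, show (⟨σ, Subgroup.mem_zpowers σ⟩ : X) ^ p ^ (n + 1) = 1 from Subtype.ext hσ,
      map_one]
  set H := (SemidirectProduct.inl : G →* Δ).range with hH
  have hHn : H.Normal := by
    rw [hH, SemidirectProduct.range_inl_eq_ker_rightHom]; infer_instance
  have hinj : Function.Injective (SemidirectProduct.inl : G →* Δ) := SemidirectProduct.inl_injective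
  have hpH : ¬ p ∣ Nat.card H := by
    rwa [Nat.card_congr (MonoidHom.ofInjective hinj).toEquiv.symm]
  have hfixH : ∀ a ∈ H, x₀ * a * x₀⁻¹ = a → a = 1 := by
    rintro _ ⟨g, rfl⟩ h
    have h1 := hx₀conj 1 g
    rw [pow_one, pow_one, h] at h1
    rw [hfix g (hinj h1).symm, map_one]
  have hx₀H : x₀ ∈ Subgroup.normalizer (H : Set Δ) := by
    rw [Subgroup.normalizer_eq_top_iff.mpr hHn]; exact Subgroup.mem_top _
  have hΔs : Group.IsSolvable Δ := by
    have := hG
    have : Group.IsSolvable X := by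
      open scoped IsMulCommutative in infer_instance
    exact solvable_of_ker_le_range (SemidirectProduct.inl : G →* Δ) SemidirectProduct.rightHom
      SemidirectProduct.range_inl_eq_ker_rightHom.ge
  -- `O_{r'}(Δ) = 1`
  have hOΔ : Cfsg.pPrimeCore r Δ = ⊥ := by
    set N := Cfsg.pPrimeCore r Δ with hN
    have hNn : N.Normal := Cores.pPrimeCore_normal _ _
    have hNH : N ⊓ H = ⊥ := by
      have hle : N.comap (SemidirectProduct.inl : G →* Δ) ≤ Cfsg.pPrimeCore r G := by
        refine Cores.le_pPrimeCore (hNn.comap _) ?_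
        refine Nat.Coprime.coprime_dvd_left ?_ (Cores.coprime_card_pPrimeCore (G := Δ) r)
        rw [← Subgroup.card_map_of_injective hinj]
        exact Subgroup.card_dvd_of_le (Subgroup.map_comap_le _ _)
      rw [hO, le_bot_iff] at hle
      refine (Subgroup.eq_bot_iff_forall _).mpr ?_
      rintro _ ⟨ha, g, rfl⟩
      rw [show g = 1 from Subgroup.mem_bot.mp (hle ▸ (ha : g ∈ N.comap _)), map_one]
    refine (Subgroup.eq_bot_iff_forall _).mpr fun a ha => ?_
    have hcomm : ∀ b ∈ H, Commute a b := fun b hb =>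
      Subgroup.commute_of_normal_of_disjoint N H hNn hHn (disjoint_iff.mpr hNH) a b ha hb
    obtain ⟨i, hi⟩ := (isOfFinOrder_of_finite σ).mem_powers_iff_mem_zpowers.mpr a.right.2
    have ha' : a = SemidirectProduct.inl a.left * x₀ ^ i := by
      conv_lhs => rw [← SemidirectProduct.inl_left_mul_inr_right a]
      congr 1
      show SemidirectProduct.inr a.right = SemidirectProduct.inr _ ^ i
      rw [← map_pow]
      exact congrArg _ (Subtype.ext hi.symm)
    have key : ∀ (u : Δ) (j : ℕ), x₀ * (u * x₀ ^ j) * x₀⁻¹ = (x₀ * u * x₀⁻¹) * x₀ ^ j :=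
      fun u j => by simp only [mul_assoc, ((Commute.refl x₀).pow_left j).inv_right.eq]
    have h1 : ((x₀ * a * x₀⁻¹) * a⁻¹) ∈ N ⊓ H := by
      refine Subgroup.mem_inf.mpr
        ⟨mul_mem (hNn.conj_mem a ha x₀) (inv_mem ha), σ a.left * a.left⁻¹, ?_⟩
      have h2 := hx₀conj 1 a.left
      rw [pow_one, pow_one] at h2
      rw [map_mul, map_inv, ← h2]
      conv_rhs => rw [ha']
      rw [key, mul_inv_rev]
      simp only [mul_assoc, mul_inv_cancel_left]
    rw [hNH, Subgroup.mem_bot] at h1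
    replace h1 : x₀ * a * x₀⁻¹ = a := mul_inv_eq_one.mp h1
    have hl : SemidirectProduct.inl a.left = (1 : Δ) := by
      have h2 := hx₀conj 1 a.left
      rw [pow_one, pow_one] at h2
      have h3 : x₀ * SemidirectProduct.inl a.left * x₀⁻¹ = SemidirectProduct.inl a.left := by
        have h4 : x₀ * a * x₀⁻¹ = (x₀ * SemidirectProduct.inl a.left * x₀⁻¹) * x₀ ^ i := by
          conv_lhs => rw [ha']
          exact key _ i
        rw [h1] at h4
        conv_lhs at h4 => rw [ha']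
        exact (mul_right_cancel h4).symm
      exact hfixH _ ⟨_, rfl⟩ h3
    rw [hl, one_mul] at ha'
    have hσi : σ ^ i = 1 := MulEquiv.ext fun g => by
      have h2 := hx₀conj i g
      rw [← ha', (hcomm _ ⟨g, rfl⟩).eq] at h2
      exact (hinj ((mul_inv_cancel_right _ _).symm.trans h2)).symm
    rw [ha']
    show SemidirectProduct.inr _ ^ i = 1
    rw [← map_pow, show (⟨σ, Subgroup.mem_zpowers σ⟩ : X) ^ i = 1 from Subtype.ext hσi, map_one]
  obtain ⟨D⟩ := exists_frattiniData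
    (Solvable.centralizer_pCore_le (Solvable.isPiSeparable_of_isSolvable _) hOΔ)
  have := D.finiteDimensional
  have hOn : (Cfsg.pCore r Δ).Normal := Cores.pCore_normal _ _
  set O := Cfsg.pCore r Δ with hOdef
  have hOH : O ≤ H := by
    intro a ha
    obtain ⟨k, hk⟩ := Cores.isPGroup_pCore r Δ ⟨a, ha⟩
    have hk' : a ^ r ^ k = 1 := congrArg Subtype.val hk
    rw [hH, SemidirectProduct.range_inl_eq_ker_rightHom, MonoidHom.mem_ker]
    refine orderOf_eq_one_iff.mp (Nat.eq_one_of_dvd_coprimes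
      (((Nat.coprime_primes hr.out hp.out).mpr hrp).pow k (n + 1))
      (orderOf_dvd_of_pow_eq_one (by rw [← map_pow, hk', map_one])) (orderOf_dvd_of_pow_eq_one ?_))
    obtain ⟨i, hi⟩ := Subgroup.mem_zpowers_iff.mp (SemidirectProduct.rightHom a).2
    refine Subtype.ext ?_
    rw [SubgroupClass.coe_pow, ← hi, ← zpow_natCast, ← zpow_mul, mul_comm, zpow_mul, zpow_natCast,
      hσ, one_zpow]
    rfl
  obtain ⟨K, _, _, _, d, τ, hτ, -, hτfix⟩ := exists_algClosed_rep (p := r) D.ρ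
  set mk := QuotientGroup.mk' O
  have hmk : Function.Surjective mk := QuotientGroup.mk'_surjective O
  set f : G →* Δ ⧸ O := mk.comp SemidirectProduct.inl with hf
  have hrange : f.range = H.map mk := MonoidHom.range_comp _ _
  have hfn : f.range.Normal := hrange ▸ hHn.map mk hmk
  refine ⟨Δ ⧸ O, inferInstance, inferInstance, f, mk x₀, K, inferInstance, inferInstance,
    inferInstance, d, τ, hfn, ?_, ?_, ?_, ?_, ?_, ?_, ?_, ?_, ?_⟩
  · have := hΔs
    infer_instance
  · rw [← map_pow, hx₀n, map_one]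
  · intro i g
    show mk x₀ ^ i * mk (SemidirectProduct.inl g) * (mk x₀ ^ i)⁻¹ = mk (SemidirectProduct.inl _)
    rw [← map_pow, ← map_inv, ← map_mul, ← map_mul, hx₀conj]
  · intro g hg
    refine Cores.le_pCore (hOn.comap (SemidirectProduct.inl : G →* Δ)) ?_
      ((QuotientGroup.eq_one_iff _).mp hg : SemidirectProduct.inl g ∈ O)
    rintro ⟨a, ha⟩
    obtain ⟨k, hk⟩ := Cores.isPGroup_pCore r Δ ⟨_, ha⟩
    refine ⟨k, Subtype.ext (hinj ?_)⟩
    rw [SubgroupClass.coe_pow, map_pow]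
    exact (congrArg Subtype.val hk).trans (map_one _).symm
  · rw [hrange]
    exact fun h => hpH (h.trans (Subgroup.card_map_dvd _ _))
  · rw [hrange]
    exact noFixed_quotient hx₀n hOH hx₀H hpH hfixH
  · have hC : (Cfsg.pCore r f.range).map f.range.subtype ≤ Cfsg.pCore r (Δ ⧸ O) := by
      have : (Cfsg.pCore r f.range).Characteristic := Cores.pCore_characteristic _ _
      exact Cores.le_pCore (Cores.map_subtype_normal_of_characteristic _ _)
        ((Cores.isPGroup_pCore _ _).map _)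
    rw [show Cfsg.pCore r (Δ ⧸ O) = ⊥ from Cores.pCore_quotient_self r Δ, le_bot_iff,
      Subgroup.map_eq_bot_iff_of_injective _ f.range.subtype_injective] at hC
    exact hC
  · exact (injective_iff_map_eq_one τ).mpr fun g hg =>
      D.injective ((hτ g hg).trans (map_one D.ρ).symm)
  · refine hτfix _ fun v hv => ?_
    obtain ⟨w, rfl⟩ := D.pi_surjective v
    let N₀ : Subgroup Δ :=
      { carrier := {a | ∃ h : a ∈ O, D.pi ⟨a, h⟩ = 0}
        one_mem' := ⟨one_mem _, D.pi_one⟩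
        mul_mem' := fun {a b} ⟨ha, ha'⟩ ⟨hb, hb'⟩ => ⟨mul_mem ha hb,
          (D.pi_mul ⟨a, ha⟩ ⟨b, hb⟩).trans (by rw [ha', hb', add_zero])⟩
        inv_mem' := fun {a} ⟨ha, ha'⟩ => ⟨inv_mem ha, by
          have := D.pi_mul ⟨a⁻¹, inv_mem ha⟩ ⟨a, ha⟩
          rw [ha', add_zero] at this
          rw [← this]
          exact (D.pi_eq_of_eq (b := 1) (inv_mul_cancel a)).trans D.pi_one⟩ }
    have hxN : x₀ ∈ Subgroup.normalizer (N₀ : Set Δ) := Coprime.mem_normalizer_of_forall
      fun a ⟨ha, ha'⟩ => ⟨hOn.conj_mem a ha x₀, by rw [← D.pi_conj x₀ ⟨a, ha⟩, ha', map_zero]⟩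
    have hv' : D.ρ (x₀ : Δ ⧸ O) (D.pi w) = D.pi w := hv
    rw [D.pi_conj] at hv'
    have hmem : (w : Δ) ∈ N₀ := by
      refine mem_of_fixed_mod (K := O) (N := N₀) hx₀n (fun a ha => ha.1)
        (by rw [Subgroup.normalizer_eq_top_iff.mpr hOn]; exact Subgroup.mem_top _) hxN
        (fun h => hpH (h.trans (Subgroup.card_dvd_of_le hOH))) (fun a ha h => hfixH a (hOH ha) h) w.2 ?_
      have hc := hOn.conj_mem w w.2 x₀
      have he : (w : Δ)⁻¹ * x₀ * w * x₀⁻¹ = ((w⁻¹ * ⟨_, hc⟩ : O) : Δ) := by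
        rw [Subgroup.coe_mul, Subgroup.coe_inv]; simp only [mul_assoc]
      refine ⟨by rw [he]; exact SetLike.coe_mem _, (D.pi_eq_of_eq he).trans ?_⟩
      have h1 := D.pi_mul w (w⁻¹ * ⟨_, hc⟩)
      rw [mul_inv_cancel_left, hv'] at h1
      exact left_eq_add.mp h1
    obtain ⟨h1, h2⟩ := hmem
    exact h2

/-- `M` a normal subgroup with all `g⁻¹ σ g`. -/
theorem mem_of_conj {G Γ : Type*} [Group G] [Group Γ] (f : G →* Γ) (σ : MulAut G) {y : Γ}
    (hy : ∀ g, y * f g * y⁻¹ = f (σ g)) (g : G) : f (g⁻¹ * σ g) = (f g)⁻¹ * y * f g * y⁻¹ := by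
  rw [map_mul, map_inv, ← hy]
  group

theorem exists_nilMod_odd (hp2 : p ≠ 2) {G : Type u} [Group G] [Finite G]
    (hG : Group.IsSolvable G) {r : ℕ} [hr : Fact r.Prime] (hO : Cfsg.pPrimeCore r G = ⊥)
    (σ : MulAut G) {n : ℕ} (hσ : σ ^ p ^ (n + 1) = 1) (hfix : ∀ g, σ g = g → g = 1) (g : G) :
    g⁻¹ * (σ ^ p ^ n) g ∈ Cfsg.pCore r G := by
  classical
  by_cases hrp : r = p
  · subst hrp
    have : Cfsg.pPrimeCore r G = ⊤ := top_le_iff.mp (Cores.le_pPrimeCore inferInstance (by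
      rw [Subgroup.card_top, Nat.coprime_comm]
      exact hp.out.coprime_iff_not_dvd.mpr (not_dvd_card_of_fpf σ hσ hfix)))
    have hg : ∀ a : G, a = 1 := fun a =>
      Subgroup.mem_bot.mp (by rw [← hO, this]; exact Subgroup.mem_top a)
    rw [hg (g⁻¹ * _)]; exact one_mem _
  obtain ⟨Γ, _, _, f, x, F, _, _, _, d, ρ, hHn, hHs, hxn, hconj, hker, hpH, hfixH, hOr, hρ, hfpf⟩ :=
    exists_setting hG hO hrp σ hσ hfix
  refine hker _ ?_
  rw [mem_of_conj f _ (hconj (p ^ n))]
  set H := f.range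
  have hpF : ∀ {l : ℕ}, l.Prime → r ≠ l → (l : F) ≠ 0 := fun hl hne h =>
    hne ((Nat.prime_dvd_prime_iff_eq hr.out hl).mp ((CharP.cast_eq_zero_iff F r _).mp h))
  have hy : (x ^ p ^ n) ^ p ^ 1 = 1 := by rw [← pow_mul, ← pow_add, hxn]
  have hcent : ∀ a ∈ H, Commute (x ^ p ^ n) a := by
    refine commute_of_fitting hHs hy hpH fun q hq a ha => ?_
    have : Fact q.Prime := ⟨hq⟩
    by_contra hna
    set S := (Cfsg.pCore q H).map H.subtype with hS
    have hqr : q ≠ r := by
      rintro rfl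
      rw [hS, hOr, Subgroup.map_bot, Subgroup.mem_bot] at ha
      exact hna (ha ▸ Commute.one_right _)
    have hSq : IsPGroup q S := (Cores.isPGroup_pCore _ _).map _
    have hqp : q ≠ p := by
      rintro rfl
      rcases hSq.card_eq_or_dvd with h | h
      · rw [Subgroup.eq_bot_of_card_eq _ h, Subgroup.mem_bot] at ha
        exact hna (ha ▸ Commute.one_right _)
      · exact hpH (h.trans (Subgroup.card_dvd_of_le (Subgroup.map_subtype_le _)))
    have hSn : S.Normal := by
      have : (Cfsg.pCore q H).Characteristic := Cores.pCore_characteristic _ _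
      exact Cores.map_subtype_normal_of_characteristic _ _
    obtain ⟨Q, hQS, hxQ, c1, c2, c3, hQne⟩ := exists_critical_le x hxn hqp hSq
      (by rw [Subgroup.normalizer_eq_top_iff.mpr hSn]; exact Subgroup.mem_top x)
      (fun hle => hna (Subgroup.mem_centralizer_singleton_iff.mp (hle ha)).symm)
    obtain ⟨g₀, hg₀, hg₀'⟩ : ∃ g₀ ∈ Q, g₀ ≠ 1 := by
      by_contra hc
      push Not at hc
      exact hQne ((Subgroup.eq_bot_iff_forall Q).mpr hc)
    exact false_of_odd_critical hp2 (hpF hp.out hrp) hxn (hpF hq hqr.symm) hqp (hSq.to_le hQS) hxQ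
      c1 c2 c3 ⟨g₀, hg₀, fun h => hg₀' (hρ (h.trans (map_one ρ).symm))⟩
      (fun b hb => hfixH b (Subgroup.map_subtype_le _ (hQS hb))) hfpf
  rw [mul_assoc (f g)⁻¹, (hcent (f g) ⟨g, rfl⟩).eq]
  group

theorem map_lcs_le {G H : Type*} [Group G] [Group H] (f : G →* H) {M : Subgroup G} {k : ℕ}
    {N : Subgroup H} (h : (M.map f).lowerCentralSeries k ≤ N) :
    M.lowerCentralSeries k ≤ N.comap f := by
  rw [← Subgroup.map_le_iff_le_comap, Subgroup.map_lowerCentralSeries]
  exact h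

theorem lcs_mono {G : Type*} [Group G] {M M' : Subgroup G} (h : M ≤ M') :
    ∀ k, M.lowerCentralSeries k ≤ M'.lowerCentralSeries k
  | 0 => h
  | k + 1 => Subgroup.commutator_mono (lcs_mono h k) h

theorem exists_lcs_le_iInf {G : Type*} [Group G] {ι : Type*} [Fintype ι] {M : Subgroup G}
    (N : ι → Subgroup G) (h : ∀ i, NilMod M (N i)) : ∃ k, M.lowerCentralSeries k ≤ ⨅ i, N i := by
  choose k hk using h
  exact ⟨Finset.univ.sup k, le_iInf fun i =>
    (M.lowerCentralSeries_antitone (Finset.le_sup (Finset.mem_univ i))).trans (hk i)⟩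

theorem nilMod_of_isNilpotent {G : Type*} [Group G] {M : Subgroup G} (h : Group.IsNilpotent M) :
    ∀ N, NilMod M N := fun _ => by
  obtain ⟨k, hk⟩ := (Subgroup.isNilpotent_iff_lowerCentralSeries M).mp h
  exact ⟨k, hk.le.trans bot_le⟩

/-- From each `G/O_{r'}(G)` to `G`. -/
theorem nilpotent_pre {G : Type u} [Group G] [Finite G] :
    ∃ P : Subgroup G, P ≤ Cfsg.fittingSubgroup G ∧ P.Normal ∧
      ∀ a, (∀ r ∈ (Nat.card G).primeFactors,
        QuotientGroup.mk' (Cfsg.pPrimeCore r G) a ∈ Cfsg.pCore r (G ⧸ Cfsg.pPrimeCore r G)) → a ∈ P := by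
  classical
  let Pr : (Nat.card G).primeFactors → Subgroup G := fun r =>
    (Cfsg.pCore r (G ⧸ Cfsg.pPrimeCore r G)).comap (QuotientGroup.mk' (Cfsg.pPrimeCore r G))
  refine ⟨⨅ r, Pr r, ?_, Subgroup.normal_iInf_normal fun r => (Cores.pCore_normal _ _).comap _, ?_⟩
  · refine Cores.le_fittingSubgroup (Subgroup.normal_iInf_normal fun r => (Cores.pCore_normal _ _).comap _)
      ((Subgroup.isNilpotent_iff_lowerCentralSeries _).mpr ?_)
    have h : ∀ r : (Nat.card G).primeFactors, NilMod (⨅ r, Pr r) (Cfsg.pPrimeCore (r : ℕ) G) := by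
      intro r
      have : Fact (r : ℕ).Prime := ⟨Nat.prime_of_mem_primeFactors r.2⟩
      have hK : IsPGroup (r : ℕ) ((⨅ r, Pr r).map (QuotientGroup.mk' (Cfsg.pPrimeCore (r : ℕ) G))) :=
        (Cores.isPGroup_pCore _ _).to_le (Subgroup.map_le_iff_le_comap.mpr (iInf_le _ r))
      obtain ⟨k, hk⟩ := (Subgroup.isNilpotent_iff_lowerCentralSeries _).mp hK.isNilpotent
      exact ⟨k, (map_lcs_le _ hk.le).trans (by rw [MonoidHom.comap_bot, QuotientGroup.ker_mk'])⟩
    obtain ⟨k, hk⟩ := exists_lcs_le_iInf _ h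
    refine ⟨k, le_bot_iff.mp (hk.trans fun a ha => Subgroup.mem_bot.mpr ?_)⟩
    by_contra ha1
    obtain ⟨l, hl, hla⟩ := Nat.exists_prime_and_dvd
      (fun h => ha1 (orderOf_eq_one_iff.mp h) : orderOf a ≠ 1)
    have : Fact l.Prime := ⟨hl⟩
    have hmem : l ∈ (Nat.card G).primeFactors :=
      Nat.mem_primeFactors.mpr ⟨hl, hla.trans (orderOf_dvd_natCard a), Nat.card_pos.ne'⟩
    have ha' : a ∈ Cfsg.pPrimeCore l G := Subgroup.mem_iInf.mp ha ⟨l, hmem⟩
    exact Cores.not_dvd_card_pPrimeCore (G := G) (p := l)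
      (hla.trans (Subgroup.orderOf_dvd_natCard _ ha'))
  · exact fun a ha => Subgroup.mem_iInf.mpr fun r => ha r r.2

/-- The induced automorphism of a quotient. -/
theorem exists_quot_aut {G : Type u} [Group G] [Finite G] (N : Subgroup G) [N.Normal] (σ : MulAut G)
    (hN : N.map σ.toMonoidHom = N) (hfix : ∀ g, σ g = g → g = 1) :
    ∃ τ : MulAut (G ⧸ N), (∀ (i : ℕ) (g : G), (τ ^ i) (g : G ⧸ N) = ((σ ^ i) g : G)) ∧
      (∀ i : ℕ, σ ^ i = 1 → τ ^ i = 1) ∧ ∀ q, τ q = q → q = 1 := by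
  have hmem : ∀ a ∈ N, σ a ∈ N := fun a ha => hN ▸ ⟨a, ha, rfl⟩
  refine ⟨QuotientGroup.congr N N σ hN, ?_, ?_, fun q hq => ?_⟩
  · intro i
    induction i with
    | zero => intro g; rfl
    | succ i ih => intro g; rw [pow_succ', MulAut.mul_apply, ih, pow_succ', MulAut.mul_apply]; rfl
  · intro i hi
    refine MulEquiv.ext fun q => ?_
    induction q using QuotientGroup.induction_on with | _ g => ?_
    have : ∀ j : ℕ, ((QuotientGroup.congr N N σ hN : MulAut (G ⧸ N)) ^ j) (g : G ⧸ N) =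
        ((σ ^ j) g : G) := by
      intro j
      induction j with
      | zero => rfl
      | succ j ih => rw [pow_succ', MulAut.mul_apply, ih, pow_succ', MulAut.mul_apply]; rfl
    rw [this, hi]; rfl
  · refine Cfsg.Agent.S3794.fpf_quotient σ.toMonoidHom hfix N hmem q ?_
    induction q using QuotientGroup.induction_on with | _ g => exact hq

theorem heightLE_succ {G : Type*} [Group G] {N : Subgroup G} [N.Normal] (hN : NilMod N ⊥) {m : ℕ}
    (h : HeightLE (G ⧸ N) m) : HeightLE G (m + 1) := by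
  obtain ⟨F, h0, hl, hm, hn, hk⟩ := h
  refine ⟨Fin.cons ⊥ fun i => (F i).comap (QuotientGroup.mk' N), Fin.cons_zero .., ?_, ?_, ?_, ?_⟩
  · rw [← Fin.succ_last, Fin.cons_succ, hl, Subgroup.comap_top]
  · intro i j hij
    induction i using Fin.cases with
    | zero => rw [Fin.cons_zero]; exact bot_le
    | succ i =>
      induction j using Fin.cases with
      | zero => exact absurd hij (not_le.mpr (Fin.succ_pos i))
      | succ j =>
        rw [Fin.cons_succ, Fin.cons_succ]
        exact Subgroup.comap_mono (hm (Fin.succ_le_succ_iff.mp hij))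
  · intro i
    induction i using Fin.cases with
    | zero => rw [Fin.cons_zero]; infer_instance
    | succ i => rw [Fin.cons_succ]; exact (hn i).comap _
  · intro i
    induction i using Fin.cases with
    | zero =>
      obtain ⟨k, hk⟩ := hN
      refine ⟨k, ?_⟩
      rw [Fin.cons_succ, Fin.castSucc_zero, Fin.cons_zero, h0, MonoidHom.comap_bot,
        QuotientGroup.ker_mk']
      exact hk
    | succ i =>
      obtain ⟨k, hk⟩ := hk i
      refine ⟨k, ?_⟩
      rw [Fin.cons_succ, ← Fin.succ_castSucc, Fin.cons_succ]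
      refine map_lcs_le _ ?_
      rw [Subgroup.map_comap_eq_self_of_surjective (QuotientGroup.mk'_surjective N)]
      exact hk

/-- `g⁻¹ σ^(p^n) g` lies in the Fitting subgroup, `p` odd. -/
theorem mem_fitting_of_odd (hp2 : p ≠ 2) {G : Type u} [Group G] [Finite G]
    (hG : Group.IsSolvable G) (σ : MulAut G) {n : ℕ} (hσ : σ ^ p ^ (n + 1) = 1)
    (hfix : ∀ g, σ g = g → g = 1) (g : G) : g⁻¹ * (σ ^ p ^ n) g ∈ Cfsg.fittingSubgroup G := by
  obtain ⟨P, hPF, -, hP⟩ := nilpotent_pre (G := G)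
  refine hPF (hP _ fun r hr => ?_)
  have : Fact r.Prime := ⟨Nat.prime_of_mem_primeFactors hr⟩
  have := hG
  have hN : (Cfsg.pPrimeCore r G).Normal := Cores.pPrimeCore_normal _ _
  obtain ⟨τ, hτ, hτn, hτfix⟩ := exists_quot_aut (Cfsg.pPrimeCore r G) σ
    (Cores.pPrimeCore_map_mulEquiv σ r) hfix
  have h1 := exists_nilMod_odd (p := p) hp2 (G := G ⧸ Cfsg.pPrimeCore r G) inferInstance
    (Cores.pPrimeCore_quotient_self r) τ (hτn _ hσ) hτfix (g : G ⧸ Cfsg.pPrimeCore r G)
  rw [hτ, ← QuotientGroup.mk_inv, ← QuotientGroup.mk_mul] at h1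
  exact h1

theorem heightLE_zero {G : Type*} [Group G] (h : ∀ g : G, g = 1) : HeightLE G 0 :=
  ⟨fun _ => ⊥, rfl, (Subgroup.eq_top_iff' ⊥).mpr (fun g => Subgroup.mem_bot.mpr (h g)),
    fun _ _ _ => le_rfl, fun _ => inferInstance, fun i => i.elim0⟩

theorem shult_gross (hp2 : p ≠ 2) : ∀ (n : ℕ) (G : Type u) [Group G] [Finite G],
    Group.IsSolvable G → ∀ σ : MulAut G, σ ^ p ^ n = 1 → (∀ g, σ g = g → g = 1) → HeightLE G n := by
  intro n
  induction n with
  | zero =>
    intro G _ _ _ σ hσ hfix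
    rw [pow_zero, pow_one] at hσ
    exact heightLE_zero fun g => hfix g (by rw [hσ]; rfl)
  | succ n ih =>
    intro G _ _ hG σ hσ hfix
    have := hG
    have hFn : (Cfsg.fittingSubgroup G).Normal := Subgroup.sSup_normal _ fun _ h => h.1
    have : (Cfsg.fittingSubgroup G).Characteristic := Cores.fittingSubgroup_characteristic _
    obtain ⟨τ, hτ, -, hτfix⟩ := exists_quot_aut (Cfsg.fittingSubgroup G) σ
      (Subgroup.characteristic_iff_map_eq.mp inferInstance σ) hfix
    refine heightLE_succ (nilMod_of_isNilpotent Cores.fittingSubgroup_isNilpotent _)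
      (ih (G ⧸ Cfsg.fittingSubgroup G) inferInstance τ ?_ hτfix)
    refine MulEquiv.ext fun q => ?_
    induction q using QuotientGroup.induction_on with | _ g => ?_
    rw [hτ, MulAut.one_apply, eq_comm, QuotientGroup.eq]
    exact mem_fitting_of_odd hp2 hG σ hσ hfix g

end Cfsg.Agent.Gross
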