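/-
Modules for fixed-point-free elements of 2-power order: the exceptional planes (helper3).

Main results (namespace `Cfsg.Agent.Gross`):
* exists_noncommuting_of_fpf, commute_abelian_of_fpf, plane_of_fpf, eq_one_of_moved_fixed
-/
import Cfsg.Agent.Lib.HallHigman.CoprimePow
import Cfsg.Agent.Lib.HallHigman.GrossTools
import Cfsg.Agent.Lib.HallHigman.DeficientTwo
import Cfsg.Agent.Lib.HallHigman.SmallMoved

set_option autoImplicit false
set_option maxHeartbeats 800000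

namespace Cfsg.Agent.Gross

open Module HallHigman
open scoped commutatorElement

variable {F : Type*} [Field F] [IsAlgClosed F] {V : Type*} [AddCommGroup V] [Module F V]
  [FiniteDimensional F V] {G : Type*} [Group G] [Finite G]

/-- A critical subgroup of a fixed-point-free element acts noncommutatively. -/
theorem exists_noncommuting_of_fpf {p : ℕ} [hp : Fact p.Prime] (hpF : (p : F) ≠ 0)
    {ρ : G →* Module.End F V} {x : G} {n : ℕ} (hxn : x ^ p ^ (n + 1) = 1)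
    (hfpf : ∀ v, ρ x v = v → v = 0) {q : ℕ} [hq : Fact q.Prime] (hqF : (q : F) ≠ 0) (hqp : q ≠ p)
    {Q : Subgroup G} (hQ : IsPGroup q Q) (hxQ : x ∈ Subgroup.normalizer (Q : Set G))
    (c1 : ∀ a ∈ Q, ∀ b ∈ Q, Commute (x ^ p ^ n) ⁅a, b⁆)
    (c3 : Q ≤ Subgroup.closure ((fun g => ⁅g, x ^ p ^ n⁆) '' (Q : Set G)))
    (hne : ∃ g ∈ Q, ρ g ≠ 1) : ∃ a ∈ Q, ∃ b ∈ Q, ρ ⁅a, b⁆ ≠ 1 := by
  classical
  set y := x ^ p ^ n with hy
  obtain ⟨e, he⟩ := IsPGroup.iff_card.mp hQ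
  have hQF : (Nat.card Q : F) ≠ 0 := by rw [he, Nat.cast_pow]; exact pow_ne_zero _ hqF
  obtain ⟨g₀, hg₀, hg₀'⟩ := hne
  obtain ⟨W₀, hW₀, g₁, hg₁, w₁, hw₁, hw₁'⟩ := exists_nontrivial_simple hQF hg₀ hg₀'
  obtain ⟨k, hk, W, hW, hiso, hzW, hzfix⟩ := exists_period_fpf ρ hxQ hxn hW₀ hfpf
  obtain ⟨N, hN⟩ : ∃ N, n = k + N := ⟨n - k, by omega⟩
  set G₀ := stabSub ρ W with hG₀
  have hQG₀ : Q ≤ G₀ := fun g hg => hW.2.1 g hg
  let z : G₀ := ⟨x ^ p ^ k, hzW⟩
  set ρ' := restrictHom ρ W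
  have : Nontrivial W := Submodule.nontrivial_iff_ne_bot.mpr hW.1
  have hirr : IsIrred ρ' (Q.subgroupOf G₀) := by
    intro U₁ hU₁
    have hinv : IsInv ρ Q (U₁.map W.subtype) := by
      rintro g hg _ ⟨u, hu, rfl⟩
      exact ⟨ρ' ⟨g, hQG₀ hg⟩ u, hU₁ ⟨g, hQG₀ hg⟩ hg u hu, rfl⟩
    rcases hW.2.2 _ (Submodule.map_subtype_le _ _) hinv with h | h
    · exact Or.inl (Submodule.map_injective_of_injective W.subtype_injective
        (by rw [h, Submodule.map_bot]))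
    · refine Or.inr (Submodule.map_injective_of_injective W.subtype_injective ?_)
      rw [h, Submodule.map_top, Submodule.range_subtype]
  have hzy : ((z ^ p ^ N : G₀) : G) = y := by
    rw [SubgroupClass.coe_pow, ← pow_mul, ← pow_add, ← hN]
  obtain ⟨hQA, hD⟩ := critical_eq (pow_mem hxQ _) c1 c3
  obtain ⟨a1, -, a3⟩ := critical_hyps_subgroupOf (H := G₀) hQG₀ (y := z ^ p ^ N)
    (by rw [hzy]; exact Subgroup.zpowers_le.mpr (pow_mem hxQ _)) (by rw [hzy]; exact hQA)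
    (by rw [hzy]; exact hD)
  have hzQ : z ∈ Subgroup.normalizer ((Q.subgroupOf G₀ : Subgroup G₀) : Set G₀) := by
    rw [Subgroup.mem_normalizer_iff]
    exact fun a => Subgroup.mem_normalizer_iff.mp (pow_mem hxQ _) (a : G)
  obtain ⟨-, -, -, ⟨a, ha, b, hb, hab⟩, -⟩ :=
    irred_fpf_dim ρ' hirr hzQ (N := N) hpF
      (Subtype.ext (by
        rw [SubgroupClass.coe_pow, ← pow_mul, ← pow_add, show k + (N + 1) = n + 1 by omega, hxn]
        rfl)) hqp hQ.comap_subtype a1 a3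
      (by
        obtain ⟨f, hf, hfr, hfe⟩ := hiso
        refine ⟨⟨g₁, hQG₀ hg₁⟩, hg₁, fun h => hw₁' ?_⟩
        have hfW : f ⟨w₁, hw₁⟩ ∈ W := hfr ▸ LinearMap.mem_range_self f _
        have h1 : ρ g₁ (f ⟨w₁, hw₁⟩) = f ⟨w₁, hw₁⟩ :=
          congrArg (fun T : Module.End F W => ((T ⟨f ⟨w₁, hw₁⟩, hfW⟩ : W) : V)) h
        rw [← hfe g₁ hg₁ ⟨w₁, hw₁⟩ ⟨ρ g₁ w₁, hW₀.2.1 g₁ hg₁ w₁ hw₁⟩ rfl] at h1
        exact congrArg Subtype.val (hf h1))
      (fun w hw => Subtype.ext (hzfix w w.2 (congrArg Subtype.val hw)))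
  refine ⟨(a : G), ha, (b : G), hb, fun h => hab (LinearMap.ext fun w => Subtype.ext ?_)⟩
  show ρ ((⁅a, b⁆ : G₀) : G) (w : V) = (w : V)
  rw [show ((⁅a, b⁆ : G₀) : G) = ⁅(a : G), (b : G)⁆ from map_commutatorElement G₀.subtype a b, h]
  rfl

/-- `x^(p^n)` centralises the abelian groups normalised by `x`. -/
theorem commute_abelian_of_fpf {p : ℕ} [hp : Fact p.Prime] (hpF : (p : F) ≠ 0)
    {ρ : G →* Module.End F V} (hρ : Function.Injective ρ) {x : G} {n : ℕ}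
    (hxn : x ^ p ^ (n + 1) = 1) (hfpf : ∀ v, ρ x v = v → v = 0) {q : ℕ} [hq : Fact q.Prime]
    (hqF : (q : F) ≠ 0) (hqp : q ≠ p) {R : Subgroup G} (hR : IsPGroup q R)
    (hab : ∀ a ∈ R, ∀ b ∈ R, Commute a b) (hxR : x ∈ Subgroup.normalizer (R : Set G)) :
    ∀ a ∈ R, Commute (x ^ p ^ n) a := by
  by_contra hcon
  push Not at hcon
  obtain ⟨a, ha, hna⟩ := hcon
  obtain ⟨Q, hQR, hxQ, c1, -, c3, hQne⟩ := exists_critical_le x hxn hqp hR hxR
    (fun h => hna (Subgroup.mem_centralizer_singleton_iff.mp (h ha)).symm)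
  obtain ⟨g, hg, hg1⟩ : ∃ g ∈ Q, g ≠ 1 := by
    by_contra hc
    push Not at hc
    exact hQne ((Subgroup.eq_bot_iff_forall Q).mpr hc)
  obtain ⟨b, hb, c, hc, hbc⟩ := exists_noncommuting_of_fpf hpF hxn hfpf hqF hqp (hR.to_le hQR) hxQ
    c1 c3 ⟨g, hg, fun h => hg1 (hρ (h.trans (map_one ρ).symm))⟩
  exact hbc (by rw [commutatorElement_eq_one_iff_commute.mpr (hab b (hQR hb) c (hQR hc)), map_one])

/-- If `y = x^(2^n)` acts nontrivially on `C` modulo `K`, it moves a plane, with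
`q + 1 = 2^(N+1)`, and `x^(2^(n-N))` normalizes `K`. -/
theorem plane_of_fpf (h2F : (2 : F) ≠ 0) {ρ : G →* Module.End F V} {x : G} {n : ℕ}
    (hxn : x ^ 2 ^ (n + 1) = 1) (hfpf : ∀ v, ρ x v = v → v = 0) {q : ℕ} [hq : Fact q.Prime]
    (hq2 : q ≠ 2) {C : Subgroup G} (hCp : IsPGroup q C)
    {hC : ∀ a ∈ C, ∀ b ∈ C, ∀ c ∈ C, Commute ⁅a, b⁆ c} (hxC : x ∈ Subgroup.normalizer (C : Set G))
    {U : Submodule F V} (hU : IsSimpleInv ρ C U)
    (hyc : ∀ a ∈ C, ∀ b ∈ C, Commute (x ^ 2 ^ n) ⁅a, b⁆)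
    (hQK : ¬ ⁅C, Subgroup.zpowers (x ^ 2 ^ n)⁆ ≤ centralMod ρ C hC U) :
    ∃ k N, n = k + N ∧ 1 ≤ N ∧ q + 1 = 2 ^ (N + 1) ∧
      x ^ 2 ^ k ∈ Subgroup.normalizer (centralMod ρ C hC U : Set G) ∧
      (centralMod ρ C hC U).relIndex ⁅C, Subgroup.zpowers (x ^ 2 ^ n)⁆ = q ^ 2 ∧
      ∃ u ∈ ⁅C, Subgroup.zpowers (x ^ 2 ^ n)⁆, ∃ v ∈ ⁅C, Subgroup.zpowers (x ^ 2 ^ n)⁆,
        ∃ w ∈ U, ρ ⁅u, v⁆ w ≠ w := by
  classical
  have : Fact (Nat.Prime 2) := ⟨Nat.prime_two⟩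
  set y := x ^ 2 ^ n with hyd
  have hy2 : y ^ 2 ^ 1 = 1 := by rw [hyd, ← pow_mul, ← pow_add, hxn]
  set A := Subgroup.zpowers y with hA
  set K := centralMod ρ C hC U with hKdef
  set Q := ⁅C, A⁆ with hQdef
  set C₀ := C ⊓ Subgroup.centralizer (A : Set G) with hC₀
  have hAC : A ≤ Subgroup.normalizer (C : Set G) := Subgroup.zpowers_le.mpr (pow_mem hxC _)
  have hQC : Q ≤ C := Coprime.commutator_le_left' hAC
  have hcop : (Nat.card A).Coprime (Nat.card C) := card_zpowers_coprime hy2 fun h => by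
    obtain ⟨m, hm⟩ := IsPGroup.iff_card.mp hCp
    exact hq2 ((Nat.prime_dvd_prime_iff_eq Nat.prime_two hq.out).mp
      (Nat.prime_two.dvd_of_dvd_pow (hm ▸ h))).symm
  have hQA : ⁅Q, A⁆ = Q := Coprime.commutator_commutator_eq hAC hcop (Or.inl inferInstance)
  have hCQ : C ≤ Subgroup.normalizer (Q : Set G) := Subgroup.normalizer_commutator_ge_left C A
  have hsup : Q ⊔ C₀ = C := Coprime.commutator_sup_centralizer hAC hcop (Or.inl inferInstance)
  have hC₀C : C₀ ≤ C := inf_le_left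
  have hD : ⁅Q, Q⁆ ≤ Subgroup.centralizer ({y} : Set G) := by
    rw [Subgroup.commutator_le]
    exact fun a ha b hb => Subgroup.mem_centralizer_singleton_iff.mpr
      (hyc a (hQC ha) b (hQC hb)).symm.eq
  have hQC₀ : ∀ a ∈ Q, ∀ c ∈ C₀, Commute a c := by
    have h1 : ⁅⁅A, C₀⁆, C⁆ = ⊥ := by
      rw [show ⁅A, C₀⁆ = ⊥ from by
        rw [Subgroup.commutator_eq_bot_iff_le_centralizer]
        exact Subgroup.le_centralizer_iff.mp inf_le_right, Subgroup.commutator_bot_left]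
    have h2 : ⁅⁅C₀, C⁆, A⁆ = ⊥ := by
      refine commutator_zpowers_eq_bot ?_
      rw [Subgroup.commutator_le]
      exact fun a ha b hb => Subgroup.mem_centralizer_singleton_iff.mpr (hyc a ha.1 b hb).symm.eq
    have h3 := Subgroup.commutator_commutator_eq_bot_of_rotate h1 h2
    exact fun a ha c hc => commutatorElement_eq_one_iff_commute.mp
      ((Subgroup.eq_bot_iff_forall _).mp h3 _ (Subgroup.commutator_mem_commutator ha hc))
  have hQpair : ∃ u ∈ Q, ∃ v ∈ Q, ∃ w ∈ U, ρ ⁅u, v⁆ w ≠ w := by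
    obtain ⟨u, hu, huK⟩ := SetLike.not_le_iff_exists.mp hQK
    by_contra hcon
    push Not at hcon
    refine huK ⟨hQC hu, fun d hd w hw => ?_⟩
    have hd' : d ∈ Q ⊔ C₀ := by rwa [hsup]
    obtain ⟨a, ha, c, hc, rfl⟩ := (Coprime.mem_sup_iff (hC₀C.trans hCQ)).mp hd'
    rw [commutatorElement_mul_right_eq_mul_conj,
      commutatorElement_eq_one_iff_commute.mpr (hQC₀ u hu c hc), mul_one, mul_inv_cancel_right]
    exact hcon u hu a ha w hw
  -- the period of `U`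
  obtain ⟨k, hk, U', hU', hiso, hz, hzfix⟩ := exists_period_fpf ρ hxC hxn hU hfpf
  obtain ⟨N, hN⟩ : ∃ N, n = k + N := ⟨n - k, by omega⟩
  have hKeq : centralMod ρ C hC U' = K :=
    le_antisymm (centralMod_mono_qiso hU.2.1 hiso)
      (centralMod_mono_qiso hU'.2.1 (QIso.symm hU.2.1 hiso))
  set G₀ := stabSub ρ U' with hG₀
  have hCG₀ : C ≤ G₀ := fun a ha => hU'.2.1 a ha
  let z : G₀ := ⟨x ^ 2 ^ k, hz⟩
  set ρ' := restrictHom ρ U' with hρ'
  have : Nontrivial U' := Submodule.nontrivial_iff_ne_bot.mpr hU'.1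
  have hzN : z ^ 2 ^ (N + 1) = 1 := Subtype.ext (by
    rw [SubgroupClass.coe_pow, ← pow_mul, ← pow_add, show k + (N + 1) = n + 1 by omega, hxn]
    rfl)
  have hzy : ((z ^ 2 ^ N : G₀) : G) = y := by
    rw [SubgroupClass.coe_pow, ← pow_mul, ← pow_add, ← hN]
  set Q' := Q.subgroupOf G₀ with hQ'
  set C' := C.subgroupOf G₀ with hC'
  set C₀' := C₀.subgroupOf G₀ with hC₀'
  have hQG₀ : Q ≤ G₀ := hQC.trans hCG₀
  have hsup' : C' ≤ Q' ⊔ C₀' := by
    rw [hQ', hC₀', ← Subgroup.subgroupOf_sup hQG₀ (hC₀C.trans hCG₀), hsup]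
  have hirrC : IsIrred ρ' C' := by
    intro U₁ hU₁
    have hinv : IsInv ρ C (U₁.map U'.subtype) := by
      rintro a ha _ ⟨u, hu, rfl⟩
      exact ⟨ρ' ⟨a, hCG₀ ha⟩ u, hU₁ ⟨a, hCG₀ ha⟩ ha u hu, rfl⟩
    rcases hU'.2.2 _ (Submodule.map_subtype_le _ _) hinv with h | h
    · exact Or.inl (Submodule.map_injective_of_injective U'.subtype_injective
        (by rw [h, Submodule.map_bot]))
    · refine Or.inr (Submodule.map_injective_of_injective U'.subtype_injective ?_)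
      rw [h, Submodule.map_top, Submodule.range_subtype]
  have hxQ : x ∈ Subgroup.normalizer (Q : Set G) := by
    have hxA : x ∈ Subgroup.normalizer (A : Set G) := by
      refine Coprime.mem_normalizer_of_forall fun a ha => ?_
      obtain ⟨i, rfl⟩ := Subgroup.mem_zpowers_iff.mp ha
      rw [((Commute.self_pow x (2 ^ n)).zpow_right i).eq, mul_inv_cancel_right]
      exact zpow_mem (Subgroup.mem_zpowers _) i
    rw [Subgroup.mem_normalizer_iff_map_conj_eq] at hxC hxA ⊢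
    rw [hQdef, Subgroup.map_commutator, hxC, hxA]
  have hzQ : z ∈ Subgroup.normalizer (Q' : Set G₀) := by
    rw [Subgroup.mem_normalizer_iff]
    exact fun a => Subgroup.mem_normalizer_iff.mp (pow_mem hxQ _) (a : G)
  -- `Q` is nontrivial on every nonzero subspace
  have hnontriv : ∀ W : Submodule F U', W ≠ ⊥ → ∃ a ∈ Q', ∃ w ∈ W, ρ' a w ≠ w := by
    intro W hW
    by_contra hcon
    push Not at hcon
    let S : Submodule F U' :=
      { carrier := {u | ∀ a ∈ Q', ρ' a u = u}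
        add_mem' := fun {u v} hu hv a ha => by rw [map_add, hu a ha, hv a ha]
        zero_mem' := fun a _ => map_zero _
        smul_mem' := fun c u hu a ha => by rw [map_smul, hu a ha] }
    have hS : S = ⊤ := (hirrC S fun a ha u hu b hb => by
      have h1 := hu (a⁻¹ * b * a) (by
        show (a : G)⁻¹ * (b : G) * a ∈ Q
        exact conj_mem_of_normalizer (hCQ ha) hb)
      conv_rhs => rw [← h1]
      rw [← rho_mul_apply, ← rho_mul_apply]
      congr 2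
      group).resolve_left fun h0 => hW ((Submodule.eq_bot_iff _).mpr fun w hw => by
        have h1 : w ∈ S := fun a ha => hcon a ha w hw
        rwa [h0, Submodule.mem_bot] at h1)
    refine hQK fun a ha => hKeq ▸ ⟨hQC ha, fun d hd u hu => ?_⟩
    have hqd : ⁅a, d⁆ ∈ Q := by
      rw [commutatorElement_def, mul_assoc, mul_assoc]
      refine Q.mul_mem ha ?_
      rw [← mul_assoc]
      exact (Subgroup.mem_normalizer_iff.mp (hCQ hd) _).mp (Q.inv_mem ha)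
    have h1 : (⟨u, hu⟩ : U') ∈ S := hS ▸ Submodule.mem_top
    exact congrArg Subtype.val (h1 ⟨⁅a, d⁆, hQG₀ hqd⟩ hqd)
  obtain ⟨W₁, -, hW₁⟩ := exists_simple_le (ρ := ρ') (Q := Q') (U := (⊤ : Submodule F U')) top_ne_bot
    fun _ _ _ _ => Submodule.mem_top
  obtain ⟨W, hW, -, hzW⟩ := exists_invariant_translate hW₁ hzQ
    (qIso_translate_of_homogeneous hsup' (fun a ha c hc => Subtype.ext (hQC₀ _ ha _ hc).eq) hirrC
      hzQ hW₁)
  -- on `W`
  set G₁ := stabSub ρ' W with hG₁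
  have hQG₁ : Q' ≤ G₁ := fun a ha => hW.2.1 a ha
  let z₁ : G₁ := ⟨z, hzW⟩
  set ρ'' := restrictHom ρ' W with hρ''
  have : Nontrivial W := Submodule.nontrivial_iff_ne_bot.mpr hW.1
  have hz₁c : ((z₁ ^ 2 ^ N : G₁) : G₀) = z ^ 2 ^ N := SubgroupClass.coe_pow z₁ _
  obtain ⟨a1, a2, a3⟩ := critical_hyps_subgroupOf (H := G₀) hQG₀ (y := z ^ 2 ^ N)
    (by rw [hzy]; exact Subgroup.zpowers_le.mpr (pow_mem hxQ _))
    (by rw [hzy]; exact hQA) (by rw [hzy]; exact hD)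
  obtain ⟨b1, -, b3⟩ := critical_hyps_subgroupOf (H := G₁) hQG₁ (y := z₁ ^ 2 ^ N)
    (by rw [hz₁c]; exact a2) (by rw [hz₁c]; exact a1) (by rw [hz₁c]; exact a3)
  have hzQ₁ : z₁ ∈ Subgroup.normalizer ((Q'.subgroupOf G₁ : Subgroup G₁) : Set G₁) := by
    rw [Subgroup.mem_normalizer_iff]
    exact fun a => Subgroup.mem_normalizer_iff.mp hzQ (a : G₀)
  have hirrW : IsIrred ρ'' (Q'.subgroupOf G₁) := by
    intro U₁ hU₁
    have hinv : IsInv ρ' Q' (U₁.map W.subtype) := by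
      rintro a ha _ ⟨u, hu, rfl⟩
      exact ⟨ρ'' ⟨a, hQG₁ ha⟩ u, hU₁ ⟨a, hQG₁ ha⟩ ha u hu, rfl⟩
    rcases hW.2.2 _ (Submodule.map_subtype_le _ _) hinv with h | h
    · exact Or.inl (Submodule.map_injective_of_injective W.subtype_injective
        (by rw [h, Submodule.map_bot]))
    · refine Or.inr (Submodule.map_injective_of_injective W.subtype_injective ?_)
      rw [h, Submodule.map_top, Submodule.range_subtype]
  obtain ⟨m, hm, hqm, -, K₀, hK₀Q, hK₀i, hK₀⟩ := irred_fpf_dim ρ'' hirrW hzQ₁ (p := 2) (N := N)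
    (by exact_mod_cast h2F) (Subtype.ext hzN) hq2 ((hCp.to_le hQC).comap_subtype.comap_subtype) b1 b3
    (by
      obtain ⟨a, ha, w, hw, hne⟩ := hnontriv W hW.1
      exact ⟨⟨a, hQG₁ ha⟩, ha, fun h => hne (congrArg Subtype.val
        (show ρ'' ⟨a, hQG₁ ha⟩ ⟨w, hw⟩ = ⟨w, hw⟩ by rw [h]; rfl))⟩)
    (fun w hw => Subtype.ext (Subtype.ext (hzfix _ (w : U').2
      (congrArg (fun u : W => ((u : U') : V)) hw))))
  obtain ⟨rfl, hN2, -⟩ := mersenne_prime_pow (n := N + 1) hq.out hm (by omega)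
  rw [pow_one] at hqm hK₀i
  refine ⟨k, N, hN, by omega, hqm,
    hKeq ▸ mem_normalizer_centralMod (pow_mem hxC _) (Or.inr hz), ?_, hQpair⟩
  have hmapQ : ((Q'.subgroupOf G₁).map G₁.subtype).map G₀.subtype = Q := by
    rw [Subgroup.map_subgroupOf_eq_of_le hQG₁, Subgroup.map_subgroupOf_eq_of_le hQG₀]
  have hK₀K : (K₀.map G₁.subtype).map G₀.subtype = K ⊓ Q := by
    refine le_antisymm ?_ fun g hg => ?_
    · rintro _ ⟨_, ⟨k₀, hk₀, rfl⟩, rfl⟩
      have hk₀Q : ((k₀ : G₀) : G) ∈ Q := hK₀Q hk₀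
      refine Subgroup.mem_inf.mpr ⟨?_, hk₀Q⟩
      rw [← hKeq]
      refine ⟨hQC hk₀Q, fun d hd u hu => ?_⟩
      have hd' : d ∈ Q ⊔ C₀ := by rwa [hsup]
      obtain ⟨a, ha, c, hc, rfl⟩ := (Coprime.mem_sup_iff (hC₀C.trans hCQ)).mp hd'
      have haC : a ∈ C := hQC ha
      have hsplit : ⁅((k₀ : G₀) : G), a * c⁆ = ⁅((k₀ : G₀) : G), a⁆ := by
        rw [commutatorElement_mul_right_eq_mul_conj,
          commutatorElement_eq_one_iff_commute.mpr (hQC₀ _ hk₀Q c hc), mul_one, mul_inv_cancel_right]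
      show ρ ⁅((k₀ : G₀) : G), a * c⁆ u = u
      rw [hsplit]
      set ε := ⁅((k₀ : G₀) : G), a⁆ with hε
      let S : Submodule F V := U' ⊓ LinearMap.ker (ρ ε - 1)
      have hSm : ∀ {v : V}, v ∈ S ↔ v ∈ U' ∧ ρ ε v = v := fun {v} => by
        simp only [S, Submodule.mem_inf, LinearMap.mem_ker, LinearMap.sub_apply,
          Module.End.one_apply, sub_eq_zero]
      have hSinv : IsInv ρ C S := fun b hb v hv => by
        rw [hSm] at hv ⊢
        refine ⟨hU'.2.1 b hb v hv.1, ?_⟩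
        rw [← rho_mul_apply, (hC _ (hQC hk₀Q) a haC b hb).eq, rho_mul_apply, hv.2]
      have hSne : S ≠ ⊥ := by
        obtain ⟨w, hwW, hw0⟩ := Submodule.exists_mem_ne_zero_of_ne_bot hW.1
        refine Submodule.ne_bot_iff _ |>.mpr
          ⟨(w : V), hSm.mpr ⟨w.2, ?_⟩, fun h => hw0 (Subtype.ext h)⟩
        let a₁ : G₁ := ⟨⟨a, hQG₀ ha⟩, hQG₁ ha⟩
        obtain ⟨-, s, hs⟩ := (hK₀ k₀).mp hk₀
        have hs0 : s ≠ 0 := scalar_ne_zero hs
        have hε1 : ρ'' ⁅k₀, a₁⁆ = 1 := by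
          have hinv : ρ'' k₀⁻¹ = s⁻¹ • 1 := by
            have h1 := rho_inv_mul (ρ := ρ'') k₀
            rw [hs, mul_smul_comm, mul_one] at h1
            rw [← h1, smul_smul, inv_mul_cancel₀ hs0, one_smul]
          rw [commutatorElement_def, map_mul, map_mul, map_mul, hs, hinv]
          simp [smul_smul, inv_mul_cancel₀ hs0, mul_inv_cancel₀ hs0, rho_mul_inv]
        have h4 := congrArg (fun f : Module.End F W => ((f ⟨w, hwW⟩ : W) : U')) hε1
        exact congrArg Subtype.val h4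
      have hu' : u ∈ S := (hU'.2.2 S inf_le_left hSinv).resolve_left hSne ▸ hu
      exact (hSm.mp hu').2
    · obtain ⟨hgK, hgQ⟩ := Subgroup.mem_inf.mp hg
      rw [← hKeq] at hgK
      let g₁ : G₁ := ⟨⟨g, hQG₀ hgQ⟩, hQG₁ hgQ⟩
      refine ⟨g₁, ⟨g₁, (hK₀ g₁).mpr ⟨hgQ, mem_scalar_of_commute hirrW _ fun a ha => ?_⟩, rfl⟩, rfl⟩
      have h1 : ρ'' ⁅g₁, a⁆ = 1 := LinearMap.ext fun w => Subtype.ext (Subtype.ext
        (hgK.2 ((a : G₀) : G) (hQC ha) _ (w : U').2))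
      rw [commute_iff_eq, ← map_mul, ← map_mul, show g₁ * a = ⁅g₁, a⁆ * (a * g₁) by
        rw [commutatorElement_def]; group, map_mul, h1, one_mul]
  rw [← Subgroup.inf_relIndex_right, ← hK₀K, sq]
  conv_lhs => rw [← hmapQ]
  rw [Subgroup.relIndex_map_map_of_injective _ _ G₀.subtype_injective,
    Subgroup.relIndex_map_map_of_injective _ _ G₁.subtype_injective, hK₀i]

omit F V G in
/-- A central element of a group generated by commutators with `Y` is trivial if it fixes what `Y`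
moves. -/
theorem eq_one_of_moved_fixed {A : Type*} [CommGroup A] {q : ℕ} [Fact q.Prime] (hA : IsPGroup q A)
    {Y : MulAut A} {R : Subgroup (MulAut A)}
    (hR : R ≤ Subgroup.closure ((fun g => ⁅g, Y⁆) '' (R : Set (MulAut A)))) {c : MulAut A}
    (hcR : c ∈ R) (hcY : Commute c Y) (hcc : ∀ g ∈ R, Commute c g)
    (hfix : ∀ a, c (Y a * a⁻¹) = Y a * a⁻¹) (hco : Nat.Coprime (orderOf c) q) : c = 1 := by
  have he : ∀ (g : MulAut A), Commute c g → ∀ a, g (a⁻¹ * c a) = (g a)⁻¹ * c (g a) := fun g hg a => by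
    rw [map_mul, map_inv, ← MulAut.mul_apply, ← hg.eq, MulAut.mul_apply]
  have hYe : ∀ a, Y (a⁻¹ * c a) = a⁻¹ * c a := fun a => by
    rw [he Y hcY]
    obtain ⟨p, hp, hpa⟩ : ∃ p, c p = p ∧ Y a = p * a :=
      ⟨_, hfix a, (inv_mul_cancel_right _ _).symm⟩
    rw [hpa, map_mul, hp, mul_inv_rev, mul_assoc, inv_mul_cancel_left]
  let T : Subgroup (MulAut A) :=
    { carrier := {g | ∀ a, g (a⁻¹ * c a) = a⁻¹ * c a}
      one_mem' := fun a => rfl
      mul_mem' := fun {g h} hg hh a => by rw [MulAut.mul_apply, hh a, hg a]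
      inv_mem' := fun {g} hg a => by
        conv_lhs => rw [← hg a]
        rw [MulAut.inv_apply_self] }
  have hRT : R ≤ T := hR.trans ((Subgroup.closure_le _).mpr (by
    rintro _ ⟨g, hg, rfl⟩ a
    have hgi : Commute c g⁻¹ := (hcc g hg).inv_right
    show ⁅g, Y⁆ (a⁻¹ * c a) = a⁻¹ * c a
    rw [commutatorElement_def, MulAut.mul_apply, MulAut.mul_apply, MulAut.mul_apply]
    have h1 : Y⁻¹ (a⁻¹ * c a) = a⁻¹ * c a := by
      conv_lhs => rw [← hYe a]
      rw [MulAut.inv_apply_self]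
    rw [h1, he g⁻¹ hgi, hYe, ← he g⁻¹ hgi, MulAut.apply_inv_self]))
  exact MulEquiv.ext fun a => PGroup.fixed_of_displacement_fixed hA hco (hRT hcR a)

end Cfsg.Agent.Gross
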