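/-
p-length at most twice the exponent, p odd (helper3).

Main results (namespace `Cfsg.Agent.HallHigman`):
* pExpDvd_double, pLengthLE_double
-/
import Cfsg.Agent.Lib.HallHigman.DeficientCommute

set_option autoImplicit false

namespace Cfsg.Agent.HallHigman

universe u

theorem pExpDvd_double {A : Type u} [Group A] [Finite A] {p e : ℕ} [hp : Fact p.Prime]
    [(Cfsg.pCore p A).Normal]
    [(Cfsg.pCore p ((A ⧸ Cfsg.pCore p A) ⧸ Cfsg.pPrimeCore p (A ⧸ Cfsg.pCore p A))).Normal]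
    (hp2 : p ≠ 2) (hsep : Solvable.IsPiSeparable {p} A) (hO : Cfsg.pPrimeCore p A = ⊥)
    (hexp : PExpDvd p (e + 1) A) :
    PExpDvd p e (((A ⧸ Cfsg.pCore p A) ⧸ Cfsg.pPrimeCore p (A ⧸ Cfsg.pCore p A)) ⧸
      Cfsg.pCore p ((A ⧸ Cfsg.pCore p A) ⧸ Cfsg.pPrimeCore p (A ⧸ Cfsg.pCore p A))) := by
  classical
  have hfA := QuotientGroup.mk'_surjective (Cfsg.pCore p A)
  set fA := QuotientGroup.mk' (Cfsg.pCore p A)
  set G₁ := A ⧸ Cfsg.pCore p A
  set M := Cfsg.pPrimeCore p G₁ with hM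
  set fM := QuotientGroup.mk' M
  have hfM : Function.Surjective fM := QuotientGroup.mk'_surjective M
  set B := G₁ ⧸ M
  set fB := QuotientGroup.mk' (Cfsg.pCore p B)
  have hfB : Function.Surjective fB := QuotientGroup.mk'_surjective _
  obtain ⟨D⟩ := exists_frattiniData (Solvable.centralizer_pCore_le hsep hO)
  have := D.finiteDimensional
  obtain ⟨K, _, _, _, dK, σ, hσ, hσr, -⟩ := exists_algClosed_rep (p := p) D.ρ
  have hσi : Function.Injective σ := (injective_iff_map_eq_one σ).mpr fun g hg =>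
    D.injective ((hσ g hg).trans (map_one D.ρ).symm)
  have hexp1 : PExpDvd p (e + 1) G₁ := hexp.of_surjective fA hfA
  have hdef : ∀ g : G₁, (∃ k : ℕ, g ^ p ^ k = 1) → Deficient σ p e g := fun g hg => by
    obtain ⟨a, rfl, ha⟩ := exists_pElement_preimage fA hfA hg
    exact ⟨hexp1 _ hg, hσr _ _ (D.sub_one_pow_eq_zero hexp ha)⟩
  have hsepB : Solvable.IsPiSeparable {p} B := (hsep.quotient _).quotient _
  have hOB : Cfsg.pPrimeCore p B = ⊥ := Cores.pPrimeCore_quotient_self p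
  have hexpB : PExpDvd p (e + 1) B := hexp1.of_surjective fM hfM
  obtain ⟨D₂⟩ := exists_frattiniData (Solvable.centralizer_pCore_le hsepB hOB)
  have := D₂.finiteDimensional
  intro x hx
  have h1 := hexpB.of_surjective fB hfB x hx
  obtain ⟨j, hj, hjx⟩ := (Nat.dvd_prime_pow hp.out).mp (orderOf_dvd_of_pow_eq_one h1)
  rcases hj.eq_or_lt with rfl | hlt
  swap
  · exact orderOf_dvd_iff_pow_eq_one.mp (hjx ▸ pow_dvd_pow p (Nat.le_of_lt_succ hlt))
  exfalso
  obtain ⟨g, hgx, hg⟩ := exists_pElement_preimage (fB.comp fM) (hfB.comp hfM) hx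
  have hpg : IsPGroup p (Subgroup.zpowers g) := by
    obtain ⟨k, hk⟩ := hg
    rintro ⟨y, hy⟩
    obtain ⟨i, rfl⟩ := Subgroup.mem_zpowers_iff.mp hy
    exact ⟨k, Subtype.ext (show (g ^ i) ^ p ^ k = 1 by
      rw [← zpow_natCast, ← zpow_mul, mul_comm, zpow_mul, zpow_natCast, hk, one_zpow])⟩
  obtain ⟨P₁, hP₁⟩ := hpg.exists_le_sylow
  have hgP : g ∈ (P₁ : Subgroup G₁) := hP₁ (Subgroup.mem_zpowers g)
  -- the key vanishing
  set t := p ^ e with ht
  have htpos : 0 < t := pow_pos hp.out.pos e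
  have hzero : (D₂.ρ x - 1) ^ (t + (t - 1)) = 0 := by
    refine LinearMap.ext fun w => ?_
    obtain ⟨v, rfl⟩ := D₂.pi_surjective w
    obtain ⟨u, hu, huv⟩ : ∃ u ∈ (P₁ : Subgroup G₁), fM u = (v : B) := by
      have h2 := Cores.pCore_le_sylow (P₁.mapSurjective hfM) v.2
      rwa [Sylow.coe_mapSurjective, Subgroup.mem_map] at h2
    have hugP : u * g ∈ (P₁ : Subgroup G₁) := mul_mem hu hgP
    have hpel : ∀ a ∈ (P₁ : Subgroup G₁), ∃ k : ℕ, a ^ p ^ k = 1 := fun a ha => by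
      obtain ⟨k, hk⟩ := P₁.2 ⟨a, ha⟩
      exact ⟨k, congrArg Subtype.val hk⟩
    have hCM : Subgroup.centralizer (M : Set G₁) ≤ M := by
      rw [hM, Cores.pPrimeCore_eq_piCore_ne]
      refine Solvable.centralizer_piCore_le (hsep.quotient _).compl ?_
      rw [show {q : ℕ | q ≠ p} = ({p}ᶜ : Set ℕ) from rfl, compl_compl, ← Cores.pCore_eq_piCore]
      exact Cores.pCore_quotient_self p A
    have hMp : ∀ q : ℕ, q.Prime → q ∣ Nat.card M → q ≠ p := fun q _ hd he => by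
      rw [he] at hd
      exact Cores.not_dvd_card_pPrimeCore (G := G₁) (p := p) hd
    have hcomm : Commute (g ^ t) ((u * g) ^ t) :=
      commute_of_deficient hσi hp2 hMp hCM P₁.2 hgP hugP (hdef g hg) (hdef _ (hpel _ hugP))
    obtain ⟨hmem, hpi⟩ := D₂.pi_geom (fM g) v t
    set W := ((v : B) * fM g) ^ t * (fM g ^ t)⁻¹ with hW
    have hWg : W = fM ((u * g) ^ t * (g ^ t)⁻¹) := by
      rw [hW, map_mul, map_inv, map_pow, map_pow, map_mul, huv]
    have hfix : fM g ^ t * W * (fM g ^ t)⁻¹ = W := by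
      rw [hWg, ← map_pow, ← map_inv, ← map_mul, ← map_mul]
      refine congrArg fM ?_
      have h3 : Commute (g ^ t) ((u * g) ^ t * (g ^ t)⁻¹) :=
        hcomm.mul_right (Commute.refl (g ^ t)).inv_right
      rw [h3.eq, mul_inv_cancel_right]
    have hrho : D₂.ρ ((fM g ^ t : B) : B ⧸ Cfsg.pCore p B) (D₂.pi ⟨W, hmem⟩) = D₂.pi ⟨W, hmem⟩ := by
      rw [D₂.pi_conj]
      exact D₂.pi_eq_of_eq hfix
    rw [LinearMap.zero_apply, ← hgx]
    show ((D₂.ρ ((fM g : B) : B ⧸ Cfsg.pCore p B) - 1) ^ (t + (t - 1))) (D₂.pi v) = 0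
    rw [pow_add, Module.End.mul_apply, ht, sub_one_pow_eq_geom, sub_one_pow_prime_pow, ← ht, ← hpi,
      LinearMap.sub_apply, Module.End.one_apply, sub_eq_zero, ← map_pow, ← QuotientGroup.mk_pow]
    exact hrho
  rcases theorem_b D₂.ρ D₂.injective (hsepB.quotient _) (Cores.pCore_quotient_self p B) x hjx hzero
    with h | ⟨n₀, q, m, a1, a2, -, -, -, -, a5, -⟩
  · have h3 : 3 ≤ p := by have := hp.out.two_le; omega
    have h4 : p ^ (e + 1) = p * t := by rw [ht, pow_succ']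
    rw [h4] at h
    have := Nat.mul_le_mul_right t h3
    omega
  · have h3 : 3 ≤ p := by have := hp.out.two_le; omega
    rw [Nat.mul_sub, mul_one, ← pow_add, show e + 1 - n₀ + n₀ = e + 1 by omega] at a5
    have h5 : p ^ (e + 1 - n₀) ≤ t := Nat.pow_le_pow_right hp.out.pos (by omega)
    have h4 : p ^ (e + 1) = p * t := by rw [ht, pow_succ']
    rw [h4] at a5
    have := Nat.mul_le_mul_right t h3
    omega

theorem pLengthLE_double {p : ℕ} [hp : Fact p.Prime] (hp2 : p ≠ 2) : ∀ (e : ℕ) (G : Type u)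
    [Group G] [Finite G], Solvable.IsPiSeparable {p} G → PExpDvd p e G →
    Cfsg.PLengthLE p (2 * e) G := by
  intro e
  induction e with
  | zero => intro G _ _ _ h; exact pLengthLE_zero h
  | succ e ih =>
    intro G _ _ hsep hexp
    have hN : (Cfsg.pCore p (G ⧸ Cfsg.pPrimeCore p G)).Normal := Cores.pCore_normal p _
    set A := G ⧸ Cfsg.pPrimeCore p G
    have hN₁ : (Cfsg.pCore p ((A ⧸ Cfsg.pCore p A) ⧸ Cfsg.pPrimeCore p (A ⧸ Cfsg.pCore p A))).Normal :=
      Cores.pCore_normal p _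
    rw [show 2 * (e + 1) = 2 * e + 1 + 1 by ring]
    refine pLengthLE_step G (pLengthLE_step (A ⧸ Cfsg.pCore p A)
      (ih _ ((((hsep.quotient _).quotient _).quotient _).quotient _) ?_))
    exact pExpDvd_double hp2 (hsep.quotient _) (Cores.pPrimeCore_quotient_self p)
      (hexp.of_surjective _ (QuotientGroup.mk'_surjective _))

end Cfsg.Agent.HallHigman
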