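/-
Automorphisms of order 4 moving little, in a 2-group acting on an abelian q-group (helper3).

Main results (namespace `Cfsg.Agent.HallHigman`):
* SmallTwo, commute_sq_of_smallTwo
* exists_fourGroup_of_square
-/
import Cfsg.Agent.Lib.HallHigman.SmallMoved

set_option autoImplicit false

namespace Cfsg.Agent.HallHigman

open Subgroup
open scoped commutatorElement

universe u

/-- A 2-group with a unique central involution `c` and a noncentral involution that is a square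
has a normal four group. -/
theorem exists_fourGroup_of_square {G : Type*} [Group G] [Finite G] (hG : IsPGroup 2 G) {c : G}
    (hcZ : c ∈ center G) (hc2 : c ^ 2 = 1) (hc1 : c ≠ 1)
    (huniq : ∀ z ∈ center G, z ^ 2 = 1 → z = 1 ∨ z = c) {h : G}
    (hy2 : (h ^ 2) ^ 2 = 1) (hy : h ^ 2 ∉ center G) :
    ∃ b : G, b ^ 2 = 1 ∧ b ∉ center G ∧ ∀ r : G, r * b * r⁻¹ = b ∨ r * b * r⁻¹ = b * c := by
  classical
  have : Fact (Nat.Prime 2) := ⟨Nat.prime_two⟩
  obtain ⟨D, -, hmax⟩ := Finite.exists_le_maximal (α := Subgroup G)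
    (p := fun D => D.Normal ∧ ∀ x ∈ D, ∀ y ∈ D, x * y = y * x) (a := ⊥)
    ⟨inferInstance, fun x hx y hy => by rw [mem_bot.mp hx, mem_bot.mp hy]⟩
  have hDn := hmax.prop.1
  have hDab := hmax.prop.2
  have hCD : centralizer (D : Set G) = D :=
    PGroup.centralizer_eq_of_maximal_normal_abelian hG hDab
      fun B hB hBab hle => le_antisymm (hmax.le_of_ge ⟨hB, hBab⟩ hle) hle
  have hcD : c ∈ D := hCD ▸ mem_centralizer_iff.mpr fun d _ => (mem_center_iff.mp hcZ d)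
  by_cases hex : ∃ w ∈ D, w ^ 2 = 1 ∧ w ∉ center G
  · obtain ⟨w, hwD, hw2, hwZ⟩ := hex
    let N : Subgroup G :=
      { carrier := {d | d ∈ D ∧ d ^ 2 = 1}
        one_mem' := ⟨one_mem _, one_pow _⟩
        mul_mem' := fun {a b} ha hb => ⟨mul_mem ha.1 hb.1, by
          rw [(show Commute a b from hDab a ha.1 b hb.1).mul_pow, ha.2, hb.2, one_mul]⟩
        inv_mem' := fun {a} ha => ⟨inv_mem ha.1, by rw [inv_pow, ha.2, inv_one]⟩ }
    have hN : ∀ {d}, d ∈ N ↔ d ∈ D ∧ d ^ 2 = 1 := fun {d} => Iff.rfl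
    have hNn : N.Normal := ⟨fun d hd r => hN.mpr ⟨hDn.conj_mem d hd.1 r, by
      rw [conj_pow, hd.2, mul_one, mul_inv_cancel]⟩⟩
    have hZn : (zpowers c).Normal := PGroup.zpowers_normal_of_mem_center hcZ
    have hlt : zpowers c < N := by
      refine lt_of_le_of_ne (zpowers_le.mpr ⟨hcD, hc2⟩) fun h => hwZ ?_
      have : w ∈ zpowers c := h ▸ hN.mpr ⟨hwD, hw2⟩
      exact zpowers_le.mpr hcZ this
    obtain ⟨K, -, hZK, hKN, hK, hKc⟩ := PGroup.exists_normal_between hG hlt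
    have hlt' : zpowers c < K := lt_of_le_of_ne hZK fun h => by
      rw [← h] at hK
      have : 0 < Nat.card (zpowers c) := Nat.card_pos
      omega
    obtain ⟨b, hbK, hbc⟩ := SetLike.exists_of_lt hlt'
    have hz : ∀ z ∈ zpowers c, z = 1 ∨ z = c := fun z hz => by
      refine huniq z (zpowers_le.mpr hcZ hz) ?_
      obtain ⟨i, rfl⟩ := mem_zpowers_iff.mp hz
      rw [← zpow_natCast, ← zpow_mul, mul_comm, zpow_mul, zpow_natCast, hc2, one_zpow]
    refine ⟨b, (hKN hbK).2, fun hb => hbc ?_, fun r => ?_⟩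
    · rcases huniq b hb (hKN hbK).2 with h | h <;> rw [h]
      exacts [one_mem _, mem_zpowers c]
    · rcases hz _ (hKc (commutator_mem_commutator hbK (mem_top r))) with h | h
      · exact Or.inl (by rw [(commutatorElement_eq_one_iff_commute.mp h).symm.eq, mul_inv_cancel_right])
      · refine Or.inr ?_
        have h1 : r * b * r⁻¹ = ⁅b, r⁆⁻¹ * b := by rw [commutatorElement_def]; group
        have hci : c⁻¹ = c := inv_eq_of_mul_eq_one_right (by rw [← sq, hc2])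
        rw [h1, h, hci, mem_center_iff.mp hcZ b]
  push Not at hex
  obtain ⟨δ, hδD, hδ⟩ := PGroup.isCyclic_of_abelian_unique hG hDab fun x hx y hy hxo hy2' => by
    have hx2 : x ^ 2 = 1 := orderOf_dvd_iff_pow_eq_one.mp hxo.dvd
    have hxc : x = c := (huniq x (hex x hx hx2) hx2).resolve_left fun h => by
      rw [h, orderOf_one] at hxo; omega
    rcases huniq y (hex y hy hy2') hy2' with h | h <;> rw [h]
    exacts [one_mem _, hxc ▸ mem_zpowers x]
  obtain ⟨a, ha⟩ := IsPGroup.iff_orderOf.mp hG δ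
  have hDpow : ∀ d ∈ D, ∃ i : ℕ, δ ^ i = d := fun d hd =>
    (isOfFinOrder_of_finite δ).mem_powers_iff_mem_zpowers.mpr (hδ ▸ hd)
  obtain ⟨a, rfl⟩ : ∃ b, a = b + 1 := by
    refine ⟨a - 1, (Nat.succ_pred_eq_of_ne_zero ?_).symm⟩
    rintro rfl
    rw [pow_zero, orderOf_eq_one_iff] at ha
    obtain ⟨i, hi⟩ := hDpow c hcD
    exact hc1 (by rw [← hi, ha, one_pow])
  have hpar : ∀ (r : G) (j : ℕ), r * δ * r⁻¹ = δ ^ j → Odd j := fun r j hj => by
    by_contra hcon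
    obtain ⟨k, rfl⟩ := Nat.not_odd_iff_even.mp hcon
    have h1 : (r * δ * r⁻¹) ^ 2 ^ a = 1 := by
      rw [hj, ← pow_mul, show (k + k) * 2 ^ a = 2 ^ (a + 1) * k by rw [pow_succ]; ring, ← ha,
        pow_mul, pow_orderOf_eq_one, one_pow]
    rw [conj_pow, mul_inv_eq_one, mul_eq_left] at h1
    have h2 := Nat.le_of_dvd (pow_pos two_pos _) (ha ▸ orderOf_dvd_of_pow_eq_one h1)
    rw [pow_succ] at h2
    have : 0 < 2 ^ a := pow_pos two_pos _
    omega
  have hgen : ∀ j : ℕ, Odd j → ∃ m : ℕ, (δ ^ j) ^ m = δ := fun j hj =>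
    exists_pow_eq_self_of_coprime (by rw [ha]; exact (Nat.coprime_two_right.mpr hj).pow_right _)
  obtain ⟨s, hs⟩ := hDpow _ (hDn.conj_mem δ hδD h)
  have hsodd : Odd s := hpar h s hs.symm
  set y := h ^ 2 with hyd
  have hyδ : y * δ * y⁻¹ = δ ^ (s * s) := by
    rw [show y * δ * y⁻¹ = h * (h * δ * h⁻¹) * h⁻¹ by rw [hyd, sq]; group, ← hs, ← conj_pow, ← hs,
      ← pow_mul]
  obtain ⟨l, hl⟩ : ∃ l, s * s = 8 * l + 1 := by
    obtain ⟨k, rfl⟩ := hsodd
    obtain ⟨m, hm⟩ := Nat.even_mul_succ_self k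
    exact ⟨m, by linarith [show (2 * k + 1) * (2 * k + 1) = 4 * (k * (k + 1)) + 1 by ring]⟩
  have hεd : ∀ i : ℕ, y * δ ^ i * y⁻¹ = δ ^ i * (δ ^ i) ^ (8 * l) := fun i => by
    rw [← conj_pow, hyδ, hl, ← pow_mul, ← pow_mul, ← pow_add]
    congr 1
    ring
  have hε2 : (δ ^ (8 * l)) ^ 2 = 1 := by
    have h4 : y * (y * δ * y⁻¹) * y⁻¹ = δ := by
      rw [show y * (y * δ * y⁻¹) * y⁻¹ = y ^ 2 * δ * (y ^ 2)⁻¹ by rw [sq]; group, hy2]
      simp
    rw [hyδ, ← conj_pow, hyδ, ← pow_mul, hl] at h4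
    have h5 : δ ^ (16 * l * (4 * l + 1)) = 1 := by
      have e : (8 * l + 1) * (8 * l + 1) = 16 * l * (4 * l + 1) + 1 := by ring
      rw [e, pow_succ, mul_eq_right] at h4
      exact h4
    rw [← pow_mul, show 8 * l * 2 = 16 * l by ring]
    refine orderOf_dvd_iff_pow_eq_one.mp ?_
    have hcop : Nat.Coprime (orderOf δ) (4 * l + 1) := by
      rw [ha]
      exact (Nat.coprime_two_left.mpr ⟨2 * l, by ring⟩).pow_left _
    exact hcop.dvd_of_dvd_mul_right (orderOf_dvd_of_pow_eq_one h5)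
  have hεc : δ ^ (8 * l) = c := by
    rcases huniq _ (hex _ (pow_mem hδD _) hε2) hε2 with h1 | h1
    · exfalso
      have hcomm : Commute y δ := by
        have h2 := hεd 1
        rw [pow_one, h1, mul_one, mul_inv_eq_iff_eq_mul] at h2
        exact h2
      have hyD : y ∈ D := hCD ▸ mem_centralizer_iff.mpr fun d hd => by
        obtain ⟨i, rfl⟩ := hDpow d hd
        exact (hcomm.pow_right i).symm.eq
      exact hy (hex y hyD hy2)
    · exact h1
  refine ⟨y, hy2, hy, fun r => ?_⟩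
  obtain ⟨j, hj⟩ := hDpow _ (hDn.conj_mem δ hδD r)
  have hjodd : Odd j := hpar r j hj.symm
  have hcj : c ^ j = c := by
    obtain ⟨k, rfl⟩ := hjodd
    rw [pow_succ, pow_mul, hc2, one_pow, one_mul]
  -- `y` and its conjugate act in the same way on `D`
  have hw : Commute (y⁻¹ * (r * y * r⁻¹)) (δ ^ j) := by
    have h1 : y * δ ^ j * y⁻¹ = δ ^ j * c := by
      rw [hεd, ← pow_mul, mul_comm j, pow_mul, hεc, hcj]
    have h2 : r * y * r⁻¹ * δ ^ j * (r * y * r⁻¹)⁻¹ = δ ^ j * c := by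
      calc r * y * r⁻¹ * δ ^ j * (r * y * r⁻¹)⁻¹ = r * (y * δ ^ 1 * y⁻¹) * r⁻¹ := by
            rw [hj]; group
        _ = r * (δ * c) * r⁻¹ := by rw [hεd, pow_one, hεc]
        _ = r * δ * r⁻¹ * c := by
            rw [mul_assoc r, mul_assoc δ, ← mem_center_iff.mp hcZ r⁻¹]; group
        _ = _ := by rw [hj]
    rw [← h1, mul_inv_eq_iff_eq_mul] at h2
    show y⁻¹ * (r * y * r⁻¹) * δ ^ j = δ ^ j * (y⁻¹ * (r * y * r⁻¹))
    rw [mul_assoc, h2]
    group
  obtain ⟨m, hm⟩ := hgen j hjodd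
  have hwδ : Commute (y⁻¹ * (r * y * r⁻¹)) δ := hm ▸ hw.pow_right m
  set d := y⁻¹ * (r * y * r⁻¹) with hd
  have hdD : d ∈ D := hCD ▸ mem_centralizer_iff.mpr fun e he => by
    obtain ⟨i, rfl⟩ := hDpow e he
    exact (hwδ.pow_right i).symm.eq
  have hr : r * y * r⁻¹ = y * d := (mul_inv_cancel_left y _).symm
  obtain ⟨i, hi⟩ := hDpow d hdD
  -- `y` inverts and nearly fixes `d`
  have hyi : y⁻¹ = y := inv_eq_of_mul_eq_one_right (by rw [← sq, hy2])
  have hinv : y * d * y⁻¹ = d⁻¹ := by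
    refine eq_inv_of_mul_eq_one_left ?_
    rw [hyi, mul_assoc, ← sq, ← hr, conj_pow, hy2, mul_one, mul_inv_cancel]
  have hd8 : d * d ^ (8 * l) = d⁻¹ := by rw [← hinv, ← hi, hεd]
  have hε : d ^ (8 * l) = 1 ∨ d ^ (8 * l) = c := by
    rw [← hi, ← pow_mul, mul_comm, pow_mul, hεc]
    rcases Nat.even_or_odd i with ⟨k, rfl⟩ | ⟨k, rfl⟩
    · exact Or.inl (by rw [← two_mul, pow_mul, hc2, one_pow])
    · exact Or.inr (by rw [pow_succ, pow_mul, hc2, one_pow, one_mul])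
  have hd2 : d ^ 2 = 1 := by
    have h1 : d ^ 2 * d ^ (8 * l) = 1 := by
      rw [sq, mul_assoc, hd8, mul_inv_cancel]
    rcases hε with h2 | h2
    · rwa [h2, mul_one] at h1
    · exfalso
      have h3 : d ^ 2 = c := by
        rw [h2] at h1
        rw [eq_inv_of_mul_eq_one_left h1]
        exact inv_eq_of_mul_eq_one_right (by rw [← sq, hc2])
      rw [show 8 * l = 2 * (2 * (2 * l)) by ring, pow_mul, h3, pow_mul, hc2, one_pow] at h2
      exact hc1 h2.symm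
  rcases huniq d (hex d hdD hd2) hd2 with h1 | h1
  · exact Or.inl (by rw [hr, h1, mul_one])
  · exact Or.inr (by rw [hr, h1])

variable {A : Type*} [CommGroup A] {q : ℕ}

/-- `h` moves at most `q^2` elements and `h²` inverts what `h` moves. -/
def SmallTwo (q : ℕ) (R : Subgroup (MulAut A)) (h : MulAut A) : Prop :=
  h ∈ R ∧ movedCard h ≤ q ^ 2 ∧ ∀ a, h (h (h a * a⁻¹)) = (h a * a⁻¹)⁻¹

theorem smallTwo_resHom [Finite A] {R : Subgroup (MulAut A)} {B : Subgroup A}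
    (hB : ∀ r ∈ R, ∀ b ∈ B, r b ∈ B) {h : R} (hR' : ∃ R₀, SmallTwo q R₀ (h : MulAut A)) :
    SmallTwo q (resHom R B hB).range (resHom R B hB h) := by
  obtain ⟨R₀, -, h1, h2⟩ := hR'
  exact ⟨⟨_, rfl⟩, (movedCard_resHom hB _).trans h1, fun b => Subtype.ext (h2 b)⟩

theorem smallTwo_quotHom [Finite A] {R : Subgroup (MulAut A)} {B : Subgroup A}
    (hB : ∀ r ∈ R, ∀ b ∈ B, r b ∈ B) {h : R} (hR' : ∃ R₀, SmallTwo q R₀ (h : MulAut A)) :
    SmallTwo q (quotHom R B hB).range (quotHom R B hB h) := by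
  obtain ⟨R₀, -, h1, h2⟩ := hR'
  refine ⟨⟨_, rfl⟩, (movedCard_quotHom hB _).trans h1, fun x => ?_⟩
  induction x using QuotientGroup.induction_on with
  | _ a => exact congrArg (fun t : A => (t : A ⧸ B)) (h2 a)

theorem eq_one_of_sq [Finite A] [Fact q.Prime] (hA : IsPGroup q A) (hq2 : q ≠ 2) {a : A}
    (h : a = a⁻¹) : a = 1 :=
  PGroup.eq_one_of_pow_eq_one_coprime hA
    ((Nat.coprime_primes Nat.prime_two (Fact.out : q.Prime)).mpr (Ne.symm hq2))
    (by rw [sq]; conv_lhs => arg 2; rw [h]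
        exact mul_inv_cancel a)

theorem SmallTwo.fixed [Finite A] [Fact q.Prime] (hA : IsPGroup q A) (hq2 : q ≠ 2)
    {R : Subgroup (MulAut A)} {h : MulAut A} (hh : SmallTwo q R h) {a : A} (ha : h (h a) = a) :
    h a = a := by
  set r := h a * a⁻¹ with hr
  have h1 : h r = r⁻¹ := by rw [hr, map_mul, map_inv, ha, mul_inv, inv_inv, mul_comm]
  have h2 := hh.2.2 a
  rw [← hr, h1, map_inv, h1, inv_inv] at h2
  exact mul_inv_eq_one.mp (eq_one_of_sq hA hq2 h2)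

theorem SmallTwo.pow_four [Finite A] {R : Subgroup (MulAut A)} {h : MulAut A}
    (hh : SmallTwo q R h) : (h ^ 2) ^ 2 = 1 := by
  refine MulEquiv.ext fun a => ?_
  have h2 := hh.2.2 a
  have h3 := hh.2.2 (h a)
  rw [map_mul, map_inv, map_mul, map_inv] at h2 h3
  show h (h (h (h a))) = a
  rw [mul_inv_eq_iff_eq_mul] at h3
  have h4 : h (h (h a)) = (h a * a⁻¹)⁻¹ * h (h a) := mul_inv_eq_iff_eq_mul.mp h2
  rw [h3, h4, mul_inv_rev, inv_inv, mul_inv_rev, inv_inv]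
  calc h a * (h (h a))⁻¹ * (a * (h a)⁻¹ * h (h a))
      = a * ((h a * (h a)⁻¹) * (h (h a) * (h (h a))⁻¹)) := by
        simp only [mul_comm, mul_left_comm, mul_assoc]
    _ = a := by simp

/-- A small element with fixed-point-free moving acts as a square root of inversion. -/
theorem SmallTwo.sq_eq_inv {R : Subgroup (MulAut A)} {h : MulAut A}
    (hh : SmallTwo q R h) (htop : (movedHom h).range = ⊤) (a : A) : (h ^ 2) a = a⁻¹ := by
  obtain ⟨b, hb⟩ : a ∈ (movedHom h).range := htop ▸ Subgroup.mem_top a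
  rw [← hb]
  exact hh.2.2 b

theorem SmallTwo.commute_of_top {R : Subgroup (MulAut A)} {h g : MulAut A}
    (hh : SmallTwo q R h) (htop : (movedHom h).range = ⊤) : Commute g (h ^ 2) := by
  refine MulEquiv.ext fun a => ?_
  rw [MulAut.mul_apply, MulAut.mul_apply, hh.sq_eq_inv htop, hh.sq_eq_inv htop, map_inv]

theorem SmallTwo.range_cases [Finite A] [hq : Fact q.Prime] (hA : IsPGroup q A)
    (hneg : ∀ s : ℕ, ¬ q ∣ s * s + 1) {R : Subgroup (MulAut A)} {h : MulAut A}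
    (hh : SmallTwo q R h) : (movedHom h).range = ⊥ ∨ q ^ 2 ≤ movedCard h := by
  obtain ⟨k, hk⟩ := IsPGroup.iff_card.mp (hA.to_subgroup (movedHom h).range)
  rcases k with _ | _ | k
  · exact Or.inl (Subgroup.eq_bot_of_card_eq _ (by rw [hk, pow_zero]))
  · exfalso
    rw [zero_add, pow_one] at hk
    obtain ⟨⟨r, hr⟩, hr1⟩ := exists_prime_orderOf_dvd_card' (G := (movedHom h).range) q (by rw [hk])
    rw [← Subgroup.orderOf_coe] at hr1
    have hgen : Subgroup.zpowers r = (movedHom h).range :=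
      Subgroup.eq_of_le_of_card_ge (Subgroup.zpowers_le.mpr hr) (by rw [hk, Nat.card_zpowers, hr1])
    have hhr : h r ∈ (movedHom h).range := by
      obtain ⟨a, rfl⟩ := hr
      exact ⟨h a, by show h (h a) * (h a)⁻¹ = h (h a * a⁻¹); rw [map_mul, map_inv]⟩
    obtain ⟨s, hs⟩ := (isOfFinOrder_of_finite r).mem_powers_iff_mem_zpowers.mpr (hgen ▸ hhr)
    have hs' : r ^ s = h r := hs
    obtain ⟨a, ha⟩ := hr
    have h2 : h (h r) = r⁻¹ := by rw [← ha]; exact hh.2.2 a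
    rw [← hs', map_pow, ← hs', ← pow_mul, eq_inv_iff_mul_eq_one, ← pow_succ] at h2
    exact hneg s (hr1 ▸ orderOf_dvd_of_pow_eq_one h2)
  · refine Or.inr ?_
    show q ^ 2 ≤ Nat.card (movedHom h).range
    rw [hk]
    exact Nat.pow_le_pow_right hq.out.pos (by omega)

theorem commute_sq_of_smallTwo_aux {q : ℕ} [hq : Fact q.Prime] (hq2 : q ≠ 2)
    (hneg : ∀ s : ℕ, ¬ q ∣ s * s + 1) : ∀ (n : ℕ),
    ∀ (A : Type u) [CommGroup A] [Finite A], Nat.card A = n → IsPGroup q A →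
    ∀ (R : Subgroup (MulAut A)), IsPGroup 2 R → ∀ h₁ h₂ : MulAut A,
    SmallTwo q R h₁ → SmallTwo q R h₂ → Commute h₁ (h₂ ^ 2) := by
  intro n
  induction n using Nat.strong_induction_on with | _ n ih => ?_
  intro A _ _ hn hA R hR h₁ h₂ hh₁ hh₂
  classical
  by_contra hne
  set y := h₂ ^ 2 with hy
  have hgne : ⁅h₁, y⁆ ≠ 1 := fun h => hne (commutatorElement_eq_one_iff_commute.mp h)
  have hgR : ⁅h₁, y⁆ ∈ R :=
    R.mul_mem (R.mul_mem (R.mul_mem hh₁.1 (pow_mem hh₂.1 2)) (R.inv_mem hh₁.1))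
      (R.inv_mem (pow_mem hh₂.1 2))
  have hsub : ∀ (B : Subgroup A), B ≠ ⊤ → ∀ (R₀ : Subgroup (MulAut A)), IsPGroup 2 R₀ →
      ∀ (hB : ∀ r ∈ R₀, ∀ b ∈ B, r b ∈ B), h₁ ∈ R₀ → h₂ ∈ R₀ →
      ∀ b ∈ B, ⁅h₁, y⁆ b = b := by
    intro B hBt R₀ hR₀ hB m₁ m₂ b hb
    have hlt : Nat.card B < n := by
      refine hn ▸ lt_of_le_of_ne (Nat.le_of_dvd Nat.card_pos B.card_subgroup_dvd_card) fun h => hBt ?_
      exact Subgroup.eq_top_of_card_eq B h
    have hc := ih _ hlt B rfl (hA.to_subgroup B) _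
      (hR₀.of_surjective _ (resHom R₀ B hB).rangeRestrict_surjective) _ _
      (smallTwo_resHom hB (h := ⟨h₁, m₁⟩) ⟨R, hh₁⟩) (smallTwo_resHom hB (h := ⟨h₂, m₂⟩) ⟨R, hh₂⟩)
    have hone : resHom R₀ B hB ⁅(⟨h₁, m₁⟩ : R₀), ⟨h₂, m₂⟩ ^ 2⁆ = 1 := by
      rw [map_commutatorElement, commutatorElement_eq_one_iff_commute, map_pow]
      exact hc
    have h5 := resHom_apply hB ⁅(⟨h₁, m₁⟩ : R₀), ⟨h₂, m₂⟩ ^ 2⁆ ⟨b, hb⟩
    rw [hone] at h5
    exact h5.symm
  -- irreducibility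
  have hco : ∀ g ∈ R, Nat.Coprime (orderOf g) q := fun g hg => by
    obtain ⟨k, hk⟩ := hR ⟨g, hg⟩
    exact (((Nat.coprime_primes Nat.prime_two hq.out).mpr (Ne.symm hq2)).pow_left k).coprime_dvd_left
      (orderOf_dvd_of_pow_eq_one (congrArg Subtype.val hk))
  have hirr : ∀ B : Subgroup A, (∀ r ∈ R, ∀ b ∈ B, r b ∈ B) → B ≠ ⊥ → B = ⊤ := by
    intro B hB hbot
    by_contra htop
    have hlt : Nat.card (A ⧸ B) < n := by
      have h1 := Subgroup.card_eq_card_quotient_mul_card_subgroup B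
      have h2 : 1 < Nat.card B := Subgroup.one_lt_card_iff_ne_bot B |>.mpr hbot
      have h3 : 0 < Nat.card (A ⧸ B) := Nat.card_pos
      rw [← hn, h1]
      exact lt_mul_of_one_lt_right h3 h2
    have hc := ih _ hlt (A ⧸ B) rfl (hA.to_quotient B) _
      (hR.of_surjective _ (quotHom R B hB).rangeRestrict_surjective) _ _
      (smallTwo_quotHom hB (h := ⟨h₁, hh₁.1⟩) ⟨R, hh₁⟩)
      (smallTwo_quotHom hB (h := ⟨h₂, hh₂.1⟩) ⟨R, hh₂⟩)
    refine hgne (MulEquiv.ext fun a => PGroup.fixed_of_displacement_fixed hA (hco _ hgR)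
      (hsub B htop R hR hB hh₁.1 hh₂.1 _ ?_))
    have hone : quotHom R B hB ⁅(⟨h₁, hh₁.1⟩ : R), ⟨h₂, hh₂.1⟩ ^ 2⁆ = 1 := by
      rw [map_commutatorElement, commutatorElement_eq_one_iff_commute, map_pow]
      exact hc
    have h5 := quotHom_apply hB ⁅(⟨h₁, hh₁.1⟩ : R), ⟨h₂, hh₂.1⟩ ^ 2⁆ a
    rw [hone, MulAut.one_apply] at h5
    rw [← QuotientGroup.eq_one_iff, QuotientGroup.mk_mul, QuotientGroup.mk_inv]
    exact inv_mul_eq_one.mpr h5
  -- both move a proper nontrivial subgroup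
  have hbot : ∀ h : MulAut A, (movedHom h).range = ⊥ → h = 1 := fun h h0 => MulEquiv.ext fun a =>
    mul_inv_eq_one.mp ((Subgroup.eq_bot_iff_forall _).mp h0 _ ⟨a, rfl⟩)
  have hne₁ : (movedHom h₁).range ≠ ⊥ := fun h => hne (by rw [hbot _ h]; exact Commute.one_left _)
  have hne₂ : (movedHom h₂).range ≠ ⊥ := fun h => hne (by
    rw [hy, hbot _ h, one_pow]; exact Commute.one_right _)
  have ht₂ : (movedHom h₂).range ≠ ⊤ := fun h => hne (hh₂.commute_of_top h)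
  have ht₁ : (movedHom h₁).range ≠ ⊤ := fun h => ht₂ (by
    refine Subgroup.eq_top_of_card_eq _ (le_antisymm (Subgroup.card_le_card_group _) ?_)
    have h1 : Nat.card A ≤ q ^ 2 := by
      have := hh₁.2.1
      rwa [movedCard, h, Subgroup.card_top] at this
    exact h1.trans ((hh₂.range_cases hA hneg).resolve_left hne₂))
  have hker : ∀ h : MulAut A, (movedHom h).range ≠ ⊤ → ∃ a, h a = a ∧ a ≠ 1 := fun h ht => by
    by_contra hcon
    push Not at hcon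
    refine ht (MonoidHom.range_eq_top.mpr (Finite.injective_iff_surjective.mp ?_))
    exact (injective_iff_map_eq_one _).mpr fun a ha => hcon a (mem_ker_movedHom.mp ha)
  have hfpf : ∀ c ∈ R, (∀ r ∈ R, Commute c r) → c ≠ 1 → ∀ a, c a = a → a = 1 := by
    intro c _ hcc hc1 a ha
    by_contra ha1
    refine hc1 (MulEquiv.ext fun x => ?_)
    have htop := hirr (movedHom c).ker (fun r hr b hb => by
      rw [mem_ker_movedHom] at hb ⊢
      rw [← MulAut.mul_apply, (hcc r hr).eq, MulAut.mul_apply, hb])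
      (fun h => ha1 (Subgroup.mem_bot.mp (h ▸ mem_ker_movedHom.mpr ha)))
    exact mem_ker_movedHom.mp (htop ▸ Subgroup.mem_top x)
  have hyR : y ∈ R := pow_mem hh₂.1 2
  obtain ⟨a₀, ha₀, ha₀1⟩ := hker h₂ ht₂
  have hy1 : y ≠ 1 := fun h => hne₂ ((Subgroup.eq_bot_iff_forall _).mpr fun _ ⟨a, ha⟩ => by
    rw [← ha]
    exact mul_inv_eq_one.mpr (hh₂.fixed hA hq2 (show y a = a by rw [h]; rfl)))
  have hyZ : (⟨y, hyR⟩ : R) ∉ center R := fun h => ha₀1 <| hfpf y hyR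
    (fun r hr => (congrArg Subtype.val (Subgroup.mem_center_iff.mp h ⟨r, hr⟩)).symm) hy1 a₀
    (show h₂ (h₂ a₀) = a₀ by rw [ha₀, ha₀])
  -- the central involution is inversion
  have : Fact (Nat.Prime 2) := ⟨Nat.prime_two⟩
  have hRne : (⊤ : Subgroup R) ≠ ⊥ := fun h => by
    have h3 : (⟨y, hyR⟩ : R) ∈ (⊥ : Subgroup R) := h ▸ Subgroup.mem_top (⟨y, hyR⟩ : R)
    exact hy1 (congrArg Subtype.val (Subgroup.mem_bot.mp h3))
  obtain ⟨c, -, hcZ, hco2⟩ := PGroup.exists_central_order_p hR hRne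
  have hc2 : c ^ 2 = 1 := orderOf_dvd_iff_pow_eq_one.mp hco2.dvd
  have hc1 : c ≠ 1 := fun h => by rw [h, orderOf_one] at hco2; omega
  have hinv : ∀ z : R, z ∈ center R → z ^ 2 = 1 → z ≠ 1 → ∀ a, (z : MulAut A) a = a⁻¹ := by
    intro z hz hz2 hz1 a
    refine eq_inv_of_mul_eq_one_left (hfpf z z.2
      (fun r hr => (congrArg Subtype.val (Subgroup.mem_center_iff.mp hz ⟨r, hr⟩)).symm)
      (fun h => hz1 (Subtype.ext h)) _ ?_)
    rw [map_mul, ← MulAut.mul_apply, ← sq, show (z : MulAut A) ^ 2 = 1 from congrArg Subtype.val hz2,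
      MulAut.one_apply, mul_comm]
  have huniq : ∀ z ∈ center R, z ^ 2 = 1 → z = 1 ∨ z = c := fun z hz hz2 =>
    or_iff_not_imp_left.mpr fun hz1 => Subtype.ext (MulEquiv.ext fun a => by
      rw [hinv z hz hz2 hz1, hinv c hcZ hc2 hc1])
  obtain ⟨b, hb2, hbZ, hbc⟩ := exists_fourGroup_of_square hR hcZ hc2 hc1 huniq
    (h := ⟨h₂, hh₂.1⟩) (Subtype.ext hh₂.pow_four) hyZ
  -- the two blocks
  set X := (movedHom (b : MulAut A)).ker
  set Y := (movedHom ((b * c : R) : MulAut A)).ker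
  have hX : ∀ {a}, a ∈ X ↔ (b : MulAut A) a = a := fun {a} => mem_ker_movedHom
  have hY : ∀ {a}, a ∈ Y ↔ (b : MulAut A) a = a⁻¹ := fun {a} => by
    rw [mem_ker_movedHom, Subgroup.coe_mul, MulAut.mul_apply, hinv c hcZ hc2 hc1, map_inv,
      inv_eq_iff_eq_inv]
  have hXY : ∀ a, a ∈ X → a ∈ Y → a = 1 := fun a h1 h2 =>
    eq_one_of_sq hA hq2 ((hX.mp h1).symm.trans (hY.mp h2))
  have hXY' : ∀ {h : MulAut A}, h ∈ R → (∀ a ∈ X, h a ∈ X) ∧ (∀ a ∈ Y, h a ∈ Y) ∨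
      (∀ a ∈ X, h a ∈ Y) ∧ (∀ a ∈ Y, h a ∈ X) := by
    intro h hh
    rcases hbc ⟨h, hh⟩ with e | e
    · have e1 : h * (b : MulAut A) = (b : MulAut A) * h :=
        mul_inv_eq_iff_eq_mul.mp (congrArg Subtype.val e)
      have e2 : ∀ a, (b : MulAut A) (h a) = h ((b : MulAut A) a) := fun a => by
        rw [← MulAut.mul_apply, ← e1, MulAut.mul_apply]
      exact Or.inl ⟨fun a ha => hX.mpr (by rw [e2, hX.mp ha]),
        fun a ha => hY.mpr (by rw [e2, hY.mp ha, map_inv])⟩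
    · have e1 : h * (b : MulAut A) = (b : MulAut A) * c * h :=
        mul_inv_eq_iff_eq_mul.mp (congrArg Subtype.val e)
      have e2 : ∀ a, (b : MulAut A) (h a) = h (((b : MulAut A) a)⁻¹) := fun a => by
        have e3 : h ((b : MulAut A) a) = (b : MulAut A) ((c : MulAut A) (h a)) :=
          congrArg (fun m : MulAut A => m a) e1
        rw [map_inv, e3, hinv c hcZ hc2 hc1, map_inv, inv_inv]
      exact Or.inr ⟨fun a ha => hY.mpr (by rw [e2, hX.mp ha, map_inv]),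
        fun a ha => hX.mpr (by rw [e2, hY.mp ha, inv_inv])⟩
  have hsup : X ⊔ Y = ⊤ := by
    refine hirr _ (fun r hr a ha => ?_) fun h0 => ?_
    · obtain ⟨x, hx, w, hw, rfl⟩ := Subgroup.mem_sup.mp ha
      rw [map_mul]
      rcases hXY' hr with ⟨e1, e2⟩ | ⟨e1, e2⟩
      · exact mul_mem (Subgroup.mem_sup_left (e1 x hx)) (Subgroup.mem_sup_right (e2 w hw))
      · exact mul_mem (Subgroup.mem_sup_right (e1 x hx)) (Subgroup.mem_sup_left (e2 w hw))
    · refine hbZ ?_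
      have hbc' : b = c := Subtype.ext (MulEquiv.ext fun a => by
        rw [hinv c hcZ hc2 hc1]
        refine eq_inv_of_mul_eq_one_left (Subgroup.mem_bot.mp (h0 ▸ Subgroup.mem_sup_left (hX.mpr ?_)))
        rw [map_mul, ← MulAut.mul_apply, ← sq,
          show (b : MulAut A) ^ 2 = 1 from congrArg Subtype.val hb2, MulAut.one_apply, mul_comm])
      exact hbc' ▸ hcZ
  have hpres : ∀ {h : MulAut A}, SmallTwo q R h → (movedHom h).range ≠ ⊤ →
      (∀ a ∈ X, h a ∈ X) ∧ (∀ a ∈ Y, h a ∈ Y) := by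
    intro h hh ht
    refine (hXY' hh.1).resolve_right ?_
    rintro ⟨e1, e2⟩
    obtain ⟨a, ha, ha1⟩ := hker h ht
    obtain ⟨x, hx, w, hw, rfl⟩ := Subgroup.mem_sup.mp (hsup ▸ Subgroup.mem_top a)
    -- `h²` fixes `x` and `w`
    have hfix : h (h (x * w)) = x * w := by rw [ha, ha]
    have hxx : h (h x) * x⁻¹ = (h (h w))⁻¹ * w := by
      rw [map_mul, map_mul] at hfix
      rw [mul_inv_eq_iff_eq_mul, mul_assoc, eq_inv_mul_iff_mul_eq, mul_comm w, ← hfix, mul_comm]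
    have h1 : h (h x) * x⁻¹ = 1 := hXY _ (mul_mem (e2 _ (e1 x hx)) (inv_mem hx))
      (hxx ▸ mul_mem (inv_mem (e1 _ (e2 w hw))) hw)
    have h2 : h (h w) = w := by
      rw [hxx] at h1
      exact inv_mul_eq_one.mp h1
    rw [mul_inv_eq_one] at h1
    have hx1 : x = 1 := hXY x hx (hh.fixed hA hq2 h1 ▸ e1 x hx)
    have hw1 : w = 1 := hXY w (hh.fixed hA hq2 h2 ▸ e2 w hw) hw
    exact ha1 (by rw [hx1, hw1, one_mul])
  set R₀ := R ⊓ Subgroup.centralizer ({(b : MulAut A)} : Set (MulAut A))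
  have hR₀p : IsPGroup 2 R₀ := hR.to_le inf_le_left
  have hinvX : ∀ r ∈ R₀, ∀ a ∈ X, r a ∈ X := fun r hr a ha => hX.mpr (by
    rw [← MulAut.mul_apply, ← Subgroup.mem_centralizer_singleton_iff.mp hr.2, MulAut.mul_apply,
      hX.mp ha])
  have hinvY : ∀ r ∈ R₀, ∀ a ∈ Y, r a ∈ Y := fun r hr a ha => hY.mpr (by
    rw [← MulAut.mul_apply, ← Subgroup.mem_centralizer_singleton_iff.mp hr.2, MulAut.mul_apply,
      hY.mp ha, map_inv])
  have hmem0 : ∀ {h : MulAut A}, SmallTwo q R h → (movedHom h).range ≠ ⊤ → h ∈ R₀ := by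
    intro h hh ht
    obtain ⟨e1, e2⟩ := hpres hh ht
    refine ⟨hh.1, Subgroup.mem_centralizer_singleton_iff.mpr (MulEquiv.ext fun a => ?_)⟩
    obtain ⟨x, hx, w, hw, rfl⟩ := Subgroup.mem_sup.mp (hsup ▸ Subgroup.mem_top a)
    rw [MulAut.mul_apply, MulAut.mul_apply, map_mul, map_mul, map_mul, map_mul, hX.mp hx, hY.mp hw,
      hX.mp (e1 x hx), hY.mp (e2 w hw), map_inv]
  have hXt : X ≠ ⊤ := fun h => hbZ (by
    rw [show b = 1 from Subtype.ext (MulEquiv.ext fun a => hX.mp (h ▸ Subgroup.mem_top a))]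
    exact one_mem _)
  have hYt : Y ≠ ⊤ := fun h => hbZ (by
    rw [show b = c from Subtype.ext (MulEquiv.ext fun a => by
      rw [hY.mp (h ▸ Subgroup.mem_top a), hinv c hcZ hc2 hc1])]
    exact hcZ)
  have hm₁ := hmem0 hh₁ ht₁
  have hm₂ := hmem0 hh₂ ht₂
  refine hgne (MulEquiv.ext fun a => ?_)
  have hle : X ⊔ Y ≤ (movedHom ⁅h₁, y⁆).ker := sup_le
    (fun a ha => mem_ker_movedHom.mpr (hsub X hXt R₀ hR₀p hinvX hm₁ hm₂ a ha))
    (fun a ha => mem_ker_movedHom.mpr (hsub Y hYt R₀ hR₀p hinvY hm₁ hm₂ a ha))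
  rw [hsup] at hle
  exact mem_ker_movedHom.mp (hle (Subgroup.mem_top a))

theorem commute_sq_of_smallTwo [Finite A] [Fact q.Prime] (hq2 : q ≠ 2)
    (hneg : ∀ s : ℕ, ¬ q ∣ s * s + 1) (hA : IsPGroup q A) {R : Subgroup (MulAut A)}
    (hR : IsPGroup 2 R) {h₁ h₂ : MulAut A} (hh₁ : SmallTwo q R h₁) (hh₂ : SmallTwo q R h₂) :
    Commute h₁ (h₂ ^ 2) :=
  commute_sq_of_smallTwo_aux hq2 hneg _ A rfl hA R hR h₁ h₂ hh₁ hh₂

end Cfsg.Agent.HallHigman
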