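/-
How little `h = g^(2^(e-1))` moves modulo `centralMod`, for a deficient 2-element `g` (helper3).

Main results (namespace `Cfsg.Agent.HallHigman`):
* commute_commutator_of_deficient_any, exists_smallTwo_of_deficient
-/
import Cfsg.Agent.Lib.HallHigman.DeficientTwo

set_option autoImplicit false
set_option maxHeartbeats 400000

namespace Cfsg.Agent.HallHigman

open Module
open scoped commutatorElement

variable {F : Type*} [Field F] [IsAlgClosed F] {V : Type*} [AddCommGroup V] [Module F V]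
  [FiniteDimensional F V] {G : Type*} [Group G] [Finite G]

/-- The `p^n`-th power of a deficient element centralises the centre of each q-group it normalizes. -/
theorem commute_center_of_deficient {p : ℕ} [hp : Fact p.Prime] [CharP F p]
    {ρ : G →* Module.End F V} (hρ : Function.Injective ρ) {x : G} {n : ℕ}
    (hx : Deficient ρ p n x) {q : ℕ} [hq : Fact q.Prime] (hqp : q ≠ p) {C : Subgroup G}
    (hCp : IsPGroup q C) (hxC : x ∈ Subgroup.normalizer (C : Set G)) {z : G} (hz : z ∈ C)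
    (hzc : ∀ c ∈ C, Commute z c) : Commute (x ^ p ^ n) z := by
  set Z := C ⊓ Subgroup.centralizer (C : Set G) with hZ
  have hxZ : x ∈ Subgroup.normalizer (Z : Set G) := Coprime.mem_normalizer_of_forall fun z hz =>
    ⟨(Subgroup.mem_normalizer_iff.mp hxC z).mp hz.1, Subgroup.mem_centralizer_iff.mpr fun c hc => by
      have h1 := Subgroup.mem_centralizer_iff.mp hz.2 (x⁻¹ * c * x) (conj_mem_of_normalizer hxC hc)
      calc c * (x * z * x⁻¹) = x * (x⁻¹ * c * x * z) * x⁻¹ := by group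
        _ = x * (z * (x⁻¹ * c * x)) * x⁻¹ := by rw [h1]
        _ = _ := by group⟩
  refine commutatorElement_eq_one_iff_commute.mp (hρ ?_)
  rw [map_one]
  exact commutator_trivial_of_deficient ρ hx.2 hqp (hCp.to_le inf_le_left) hxZ
    (Or.inl fun a ha b hb => (Subgroup.mem_centralizer_iff.mp hb.2 a ha.1)) z
    ⟨hz, Subgroup.mem_centralizer_iff.mpr fun c hc => (hzc c hc).symm.eq⟩

theorem commute_commutator_of_deficient_any {p : ℕ} [hp : Fact p.Prime] [CharP F p]
    {ρ : G →* Module.End F V} (hρ : Function.Injective ρ) {x : G} {n : ℕ}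
    (hx : Deficient ρ p n x) {q : ℕ} [hq : Fact q.Prime] (hqp : q ≠ p) {C : Subgroup G}
    (hCp : IsPGroup q C) (hC : ∀ a ∈ C, ∀ b ∈ C, ∀ c ∈ C, Commute ⁅a, b⁆ c)
    (hxC : x ∈ Subgroup.normalizer (C : Set G)) {a : G} (ha : a ∈ C) {b : G} (hb : b ∈ C) :
    Commute (x ^ p ^ n) ⁅a, b⁆ :=
  commute_center_of_deficient hρ hx hqp hCp hxC
    (C.mul_mem (C.mul_mem (C.mul_mem ha hb) (C.inv_mem ha)) (C.inv_mem hb)) (hC a ha b hb)

variable [CharP F 2]

/-- Either `y = g^(2^(e+1))` is trivial modulo `K`, or `h = g^(2^e)` normalizes `K`, moves at most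
`q²` cosets and its square inverts them. -/
theorem exists_smallTwo_of_deficient {ρ : G →* Module.End F V} (hρ : Function.Injective ρ) {g : G}
    {e : ℕ} (hd : Deficient ρ 2 (e + 1) g) {q : ℕ} [hq : Fact q.Prime] (hq2 : q ≠ 2)
    {C : Subgroup G} (hCp : IsPGroup q C) {hC : ∀ a ∈ C, ∀ b ∈ C, ∀ c ∈ C, Commute ⁅a, b⁆ c}
    (hgC : g ∈ Subgroup.normalizer (C : Set G)) {U : Submodule F V} (hU : IsSimpleInv ρ C U)
    (hy : ∃ c ∈ C, g ^ 2 ^ (e + 1) * c * (g ^ 2 ^ (e + 1))⁻¹ * c⁻¹ ∉ centralMod ρ C hC U) :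
    g ^ 2 ^ e ∈ Subgroup.normalizer (centralMod ρ C hC U : Set G) ∧ q % 4 = 3 ∧
      ∃ Q : Subgroup G, Q ≤ C ∧ (centralMod ρ C hC U).relIndex Q ≤ q ^ 2 ∧
        (∀ c ∈ C, ∃ a ∈ Q, a⁻¹ * (g ^ 2 ^ e * c * (g ^ 2 ^ e)⁻¹ * c⁻¹) ∈ centralMod ρ C hC U) ∧
        ∀ a ∈ Q, g ^ 2 ^ (e + 1) * a * (g ^ 2 ^ (e + 1))⁻¹ * a ∈ centralMod ρ C hC U := by
  classical
  have : Fact (Nat.Prime 2) := ⟨Nat.prime_two⟩
  set y := g ^ 2 ^ (e + 1) with hyd
  set h := g ^ 2 ^ e with hhd
  have hy2 : y ^ 2 = 1 := by rw [hyd, ← pow_mul, ← pow_succ, hd.1]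
  have hyi : y⁻¹ = y := inv_eq_of_mul_eq_one_right (by rw [← sq, hy2])
  set A := Subgroup.zpowers y with hA
  set K := centralMod ρ C hC U with hKdef
  set Q := ⁅C, A⁆ with hQdef
  set C₀ := C ⊓ Subgroup.centralizer (A : Set G) with hC₀
  have hyc : ∀ a ∈ C, ∀ b ∈ C, Commute y ⁅a, b⁆ := fun a ha b hb =>
    commute_commutator_of_deficient_any hρ hd hq2 hCp hC hgC ha hb
  have hAC : A ≤ Subgroup.normalizer (C : Set G) := Subgroup.zpowers_le.mpr (pow_mem hgC _)
  have hQC : Q ≤ C := Coprime.commutator_le_left' hAC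
  have hcop : (Nat.card A).Coprime (Nat.card C) := by
    obtain ⟨m, hm⟩ := IsPGroup.iff_card.mp hCp
    rw [Nat.card_zpowers, hm]
    exact (((Nat.coprime_primes Nat.prime_two hq.out).mpr (Ne.symm hq2)).coprime_dvd_left
      (orderOf_dvd_of_pow_eq_one hy2)).pow_right m
  have hQA : ⁅Q, A⁆ = Q := Coprime.commutator_commutator_eq hAC hcop (Or.inl inferInstance)
  have hCQ : C ≤ Subgroup.normalizer (Q : Set G) := Subgroup.normalizer_commutator_ge_left C A
  have hsup : Q ⊔ C₀ = C := Coprime.commutator_sup_centralizer hAC hcop (Or.inl inferInstance)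
  have hD : ⁅Q, Q⁆ ≤ Subgroup.centralizer ({y} : Set G) := by
    rw [Subgroup.commutator_le]
    exact fun a ha b hb => Subgroup.mem_centralizer_singleton_iff.mpr
      (hyc a (hQC ha) b (hQC hb)).symm.eq
  have hQC₀ : ∀ a ∈ Q, ∀ c ∈ C₀, Commute a c := by
    have h1 : ⁅⁅A, C₀⁆, C⁆ = ⊥ := by
      rw [show ⁅A, C₀⁆ = ⊥ from by
        rw [Subgroup.commutator_eq_bot_iff_le_centralizer]
        exact Subgroup.le_centralizer_iff.mp inf_le_right, Subgroup.commutator_bot_left]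
    have h2 : ⁅⁅C₀, C⁆, A⁆ = ⊥ := by
      refine commutator_zpowers_eq_bot ?_
      rw [Subgroup.commutator_le]
      exact fun a ha b hb => Subgroup.mem_centralizer_singleton_iff.mpr (hyc a ha.1 b hb).symm.eq
    have h3 := Subgroup.commutator_commutator_eq_bot_of_rotate h1 h2
    exact fun a ha c hc => commutatorElement_eq_one_iff_commute.mp
      ((Subgroup.eq_bot_iff_forall _).mp h3 _ (Subgroup.commutator_mem_commutator ha hc))
  have hC₀y : ∀ c ∈ C₀, Commute c y := fun c hc =>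
    (Subgroup.mem_centralizer_iff.mp hc.2 y (Subgroup.mem_zpowers y)).symm
  have hQK : ¬ Q ≤ K := fun hQK => by
    obtain ⟨c, hc, hcy⟩ := hy
    refine hcy (hQK ?_)
    rw [hQdef, Subgroup.commutator_comm, ← commutatorElement_def]
    exact Subgroup.commutator_mem_commutator (Subgroup.mem_zpowers y) hc
  -- the period of `U`
  obtain ⟨k, -, U', hU', hiso, hz, hlow, htr⟩ := exists_period ρ hgC hd.1 hU hd.2
  have hkn : k ≤ e + 1 := by
    by_contra hcon
    have h1 : 2 ^ (e + 1 + 1) ≤ 2 ^ k := Nat.pow_le_pow_right two_pos (by omega)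
    have := pow_pos (two_pos (α := ℕ)) (e + 1 + 1)
    omega
  obtain ⟨N, hN⟩ : ∃ N, e + 1 = k + N := ⟨e + 1 - k, by omega⟩
  have hKeq : centralMod ρ C hC U' = K :=
    le_antisymm (centralMod_mono_qiso hU.2.1 hiso)
      (centralMod_mono_qiso hU'.2.1 (QIso.symm hU.2.1 hiso))
  set G₀ := stabSub ρ U' with hG₀
  have hCG₀ : C ≤ G₀ := fun a ha => hU'.2.1 a ha
  let z : G₀ := ⟨g ^ 2 ^ k, hz⟩
  set ρ' := restrictHom ρ U' with hρ'
  have hrho : ∀ (a : G₀) (w : U'), ((ρ' a w : U') : V) = ρ (a : G) w := fun a w => rfl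
  have : Nontrivial U' := Submodule.nontrivial_iff_ne_bot.mpr hU'.1
  have hpowU : ∀ (i : ℕ) (w : U'), ((((ρ' z - 1) ^ i) w : U') : V) =
      ((ρ (g ^ 2 ^ k) - 1) ^ i) w := by
    intro i
    induction i with
    | zero => intro w; rfl
    | succ i ih =>
      intro w
      rw [pow_succ', pow_succ', Module.End.mul_apply, Module.End.mul_apply, ← ih]
      simp only [LinearMap.sub_apply, Module.End.one_apply, Submodule.coe_sub]
      rfl
  have hrz : (ρ' z - 1) ^ (2 ^ (N + 1) - 1) = 0 := by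
    refine LinearMap.ext fun w => ?_
    by_contra hne
    have h1 := hlow (2 ^ (N + 1) - 1) ⟨w, w.2, fun h => hne (Subtype.ext (by rw [hpowU]; exact h))⟩
    rw [Nat.sub_add_cancel (Nat.one_le_pow _ _ two_pos), ← pow_add,
      show k + (N + 1) = e + 1 + 1 by omega] at h1
    have := pow_pos (two_pos (α := ℕ)) (e + 1 + 1)
    omega
  have hzN : z ^ 2 ^ (N + 1) = 1 := Subtype.ext (by
    rw [SubgroupClass.coe_pow, ← pow_mul, ← pow_add, show k + (N + 1) = e + 1 + 1 by omega, hd.1]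
    rfl)
  have hzy : ((z ^ 2 ^ N : G₀) : G) = y := by
    rw [SubgroupClass.coe_pow, ← pow_mul, ← pow_add, ← hN]
  set Q' := Q.subgroupOf G₀ with hQ'
  set C' := C.subgroupOf G₀ with hC'
  set C₀' := C₀.subgroupOf G₀ with hC₀'
  have hQG₀ : Q ≤ G₀ := hQC.trans hCG₀
  have hC₀C : C₀ ≤ C := inf_le_left
  have hsup' : C' ≤ Q' ⊔ C₀' := by
    rw [hQ', hC₀', ← Subgroup.subgroupOf_sup hQG₀ (hC₀C.trans hCG₀), hsup]
  have hirrC : IsIrred ρ' C' := by
    intro U₁ hU₁
    have hinv : IsInv ρ C (U₁.map U'.subtype) := by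
      rintro a ha _ ⟨u, hu, rfl⟩
      exact ⟨ρ' ⟨a, hCG₀ ha⟩ u, hU₁ ⟨a, hCG₀ ha⟩ ha u hu, rfl⟩
    rcases hU'.2.2 _ (Submodule.map_subtype_le _ _) hinv with h | h
    · exact Or.inl (Submodule.map_injective_of_injective U'.subtype_injective
        (by rw [h, Submodule.map_bot]))
    · refine Or.inr (Submodule.map_injective_of_injective U'.subtype_injective ?_)
      rw [h, Submodule.map_top, Submodule.range_subtype]
  have hgQ : g ∈ Subgroup.normalizer (Q : Set G) := by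
    have hgA : g ∈ Subgroup.normalizer (A : Set G) := by
      refine Coprime.mem_normalizer_of_forall fun a ha => ?_
      obtain ⟨i, rfl⟩ := Subgroup.mem_zpowers_iff.mp ha
      rw [((Commute.self_pow g (2 ^ (e + 1))).zpow_right i).eq, mul_inv_cancel_right]
      exact zpow_mem (Subgroup.mem_zpowers _) i
    rw [Subgroup.mem_normalizer_iff_map_conj_eq] at hgC hgA ⊢
    rw [hQdef, Subgroup.map_commutator, hgC, hgA]
  have hzQ : z ∈ Subgroup.normalizer (Q' : Set G₀) := by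
    rw [Subgroup.mem_normalizer_iff]
    exact fun a => Subgroup.mem_normalizer_iff.mp (pow_mem hgQ _) (a : G)
  -- `Q` is nontrivial on every simple `Q`-submodule
  have hnontriv : ∀ W : Submodule F U', W ≠ ⊥ → ∃ a ∈ Q', ∃ w ∈ W, ρ' a w ≠ w := by
    intro W hW
    by_contra hcon
    push Not at hcon
    let S : Submodule F U' :=
      { carrier := {u | ∀ a ∈ Q', ρ' a u = u}
        add_mem' := fun {u v} hu hv a ha => by rw [map_add, hu a ha, hv a ha]
        zero_mem' := fun a _ => map_zero _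
        smul_mem' := fun c u hu a ha => by rw [map_smul, hu a ha] }
    have hS : S = ⊤ := (hirrC S fun a ha u hu b hb => by
      have h1 := hu (a⁻¹ * b * a) (by
        show (a : G)⁻¹ * (b : G) * a ∈ Q
        exact conj_mem_of_normalizer (hCQ ha) hb)
      conv_rhs => rw [← h1]
      rw [← rho_mul_apply, ← rho_mul_apply]
      congr 2
      group).resolve_left fun h0 => hW ((Submodule.eq_bot_iff _).mpr fun w hw => by
        have h1 : w ∈ S := fun a ha => hcon a ha w hw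
        rwa [h0, Submodule.mem_bot] at h1)
    refine hQK fun a ha => hKeq ▸ ⟨hQC ha, fun d hd u hu => ?_⟩
    have hqd : ⁅a, d⁆ ∈ Q := by
      rw [commutatorElement_def, mul_assoc, mul_assoc]
      refine Q.mul_mem ha ?_
      rw [← mul_assoc]
      exact (Subgroup.mem_normalizer_iff.mp (hCQ hd) _).mp (Q.inv_mem ha)
    have h1 : (⟨u, hu⟩ : U') ∈ S := hS ▸ Submodule.mem_top
    exact congrArg Subtype.val (h1 ⟨⁅a, d⁆, hQG₀ hqd⟩ hqd)
  obtain ⟨W₁, -, hW₁⟩ := exists_simple_le (ρ := ρ') (Q := Q') (U := (⊤ : Submodule F U')) top_ne_bot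
    fun _ _ _ _ => Submodule.mem_top
  obtain ⟨W, hW, -, hzW⟩ := exists_invariant_translate hW₁ hzQ
    (qIso_translate_of_homogeneous hsup' (fun a ha c hc => Subtype.ext (hQC₀ _ ha _ hc).eq) hirrC
      hzQ hW₁)
  -- on `W`
  set G₁ := stabSub ρ' W with hG₁
  have hQG₁ : Q' ≤ G₁ := fun a ha => hW.2.1 a ha
  let z₁ : G₁ := ⟨z, hzW⟩
  set ρ'' := restrictHom ρ' W with hρ''
  have : Nontrivial W := Submodule.nontrivial_iff_ne_bot.mpr hW.1
  have hzy₁ : (((z₁ ^ 2 ^ N : G₁) : G₀) : G) = y := by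
    rw [SubgroupClass.coe_pow]; exact hzy
  obtain ⟨a1, a2, a3⟩ := critical_hyps_subgroupOf (H := G₀) hQG₀ (y := z ^ 2 ^ N)
    (by rw [hzy]; exact Subgroup.zpowers_le.mpr (pow_mem hgQ _))
    (by rw [hzy]; exact hQA) (by rw [hzy]; exact hD)
  have hz₁c : ((z₁ ^ 2 ^ N : G₁) : G₀) = z ^ 2 ^ N := SubgroupClass.coe_pow z₁ _
  obtain ⟨b1, b2, b3⟩ := critical_hyps_subgroupOf (H := G₁) hQG₁ (y := z₁ ^ 2 ^ N)
    (by rw [hz₁c]; exact a2) (by rw [hz₁c]; exact a1) (by rw [hz₁c]; exact a3)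
  have hzQ₁ : z₁ ∈ Subgroup.normalizer ((Q'.subgroupOf G₁ : Subgroup G₁) : Set G₁) := by
    rw [Subgroup.mem_normalizer_iff]
    exact fun a => Subgroup.mem_normalizer_iff.mp hzQ (a : G₀)
  have hirrW : IsIrred ρ'' (Q'.subgroupOf G₁) := by
    intro U₁ hU₁
    have hinv : IsInv ρ' Q' (U₁.map W.subtype) := by
      rintro a ha _ ⟨u, hu, rfl⟩
      exact ⟨ρ'' ⟨a, hQG₁ ha⟩ u, hU₁ ⟨a, hQG₁ ha⟩ ha u hu, rfl⟩
    rcases hW.2.2 _ (Submodule.map_subtype_le _ _) hinv with h | h
    · exact Or.inl (Submodule.map_injective_of_injective W.subtype_injective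
        (by rw [h, Submodule.map_bot]))
    · refine Or.inr (Submodule.map_injective_of_injective W.subtype_injective ?_)
      rw [h, Submodule.map_top, Submodule.range_subtype]
  have hpowW : ∀ (i : ℕ) (w : W), ((((ρ'' z₁ - 1) ^ i) w : W) : U') = ((ρ' z - 1) ^ i) w := by
    intro i
    induction i with
    | zero => intro w; rfl
    | succ i ih =>
      intro w
      rw [pow_succ', pow_succ', Module.End.mul_apply, Module.End.mul_apply, ← ih]
      simp only [LinearMap.sub_apply, Module.End.one_apply, Submodule.coe_sub]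
      rfl
  obtain ⟨hN1, hNq, hq4, K₀, hK₀Q, hK₀i, hK₀s⟩ := mersenne_of_irred ρ'' hirrW hzQ₁ (N := N)
    (Subtype.ext hzN) hq2 ((hCp.to_le hQC).comap_subtype.comap_subtype) b1 b3
    (by
      obtain ⟨a, ha, w, hw, hne⟩ := hnontriv W hW.1
      exact ⟨⟨a, hQG₁ ha⟩, ha, fun h => hne (congrArg Subtype.val
        (show ρ'' ⟨a, hQG₁ ha⟩ ⟨w, hw⟩ = ⟨w, hw⟩ by rw [h]; rfl))⟩)
    (LinearMap.ext fun w => Subtype.ext (by rw [hpowW, hrz]; rfl))
  set L := 2 ^ (N - 1) with hL
  have hL2 : 2 ^ N = 2 * L := by rw [hL, ← pow_succ']; congr 1; omega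
  have hzh : ((z ^ L : G₀) : G) = h := by
    rw [SubgroupClass.coe_pow, ← pow_mul, hL, ← pow_add, show k + (N - 1) = e by omega]
  have hhG₀ : h ∈ G₀ := hzh ▸ (z ^ L : G₀).2
  have hhN : h ∈ Subgroup.normalizer (K : Set G) :=
    hKeq ▸ mem_normalizer_centralMod (pow_mem hgC _) (Or.inr hhG₀)
  refine ⟨hhN, hq4, Q, hQC, ?_, ?_, ?_⟩
  · -- index
    have hmapQ : ((Q'.subgroupOf G₁).map G₁.subtype).map G₀.subtype = Q := by
      rw [Subgroup.map_subgroupOf_eq_of_le hQG₁, Subgroup.map_subgroupOf_eq_of_le hQG₀]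
    have hK₀K : (K₀.map G₁.subtype).map G₀.subtype ≤ K := by
      rintro _ ⟨_, ⟨k₀, hk₀, rfl⟩, rfl⟩
      have hk₀Q : ((k₀ : G₀) : G) ∈ Q := hK₀Q hk₀
      rw [← hKeq]
      refine ⟨hQC hk₀Q, fun d hd u hu => ?_⟩
      have hd' : d ∈ Q ⊔ C₀ := by rwa [hsup]
      obtain ⟨a, ha, c, hc, rfl⟩ := (Coprime.mem_sup_iff (hC₀C.trans hCQ)).mp hd'
      have haC : a ∈ C := hQC ha
      have hsplit : ⁅((k₀ : G₀) : G), a * c⁆ = ⁅((k₀ : G₀) : G), a⁆ := by
        rw [commutatorElement_mul_right_eq_mul_conj,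
          commutatorElement_eq_one_iff_commute.mpr (hQC₀ _ hk₀Q c hc), mul_one, mul_inv_cancel_right]
      show ρ ⁅((k₀ : G₀) : G), a * c⁆ u = u
      rw [hsplit]
      set ε := ⁅((k₀ : G₀) : G), a⁆ with hε
      let S : Submodule F V := U' ⊓ LinearMap.ker (ρ ε - 1)
      have hSm : ∀ {v : V}, v ∈ S ↔ v ∈ U' ∧ ρ ε v = v := fun {v} => by
        simp only [S, Submodule.mem_inf, LinearMap.mem_ker, LinearMap.sub_apply,
          Module.End.one_apply, sub_eq_zero]
      have hSinv : IsInv ρ C S := fun b hb v hv => by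
        rw [hSm] at hv ⊢
        refine ⟨hU'.2.1 b hb v hv.1, ?_⟩
        rw [← rho_mul_apply, (hC _ (hQC hk₀Q) a haC b hb).eq, rho_mul_apply, hv.2]
      have hSne : S ≠ ⊥ := by
        obtain ⟨w, hwW, hw0⟩ := Submodule.exists_mem_ne_zero_of_ne_bot hW.1
        refine Submodule.ne_bot_iff _ |>.mpr
          ⟨(w : V), hSm.mpr ⟨w.2, ?_⟩, fun h => hw0 (Subtype.ext h)⟩
        let a₁ : G₁ := ⟨⟨a, hQG₀ ha⟩, hQG₁ ha⟩
        obtain ⟨s, hs⟩ := hK₀s k₀ hk₀
        have hs0 : s ≠ 0 := scalar_ne_zero hs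
        have hε1 : ρ'' ⁅k₀, a₁⁆ = 1 := by
          have hinv : ρ'' k₀⁻¹ = s⁻¹ • 1 := by
            have h1 := rho_inv_mul (ρ := ρ'') k₀
            rw [hs, mul_smul_comm, mul_one] at h1
            rw [← h1, smul_smul, inv_mul_cancel₀ hs0, one_smul]
          rw [commutatorElement_def, map_mul, map_mul, map_mul, hs, hinv]
          simp [smul_smul, inv_mul_cancel₀ hs0, mul_inv_cancel₀ hs0, rho_mul_inv]
        have h4 := congrArg (fun f : Module.End F W => ((f ⟨w, hwW⟩ : W) : U')) hε1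
        exact congrArg Subtype.val h4
      have hu' : u ∈ S := (hU'.2.2 S inf_le_left hSinv).resolve_left hSne ▸ hu
      exact (hSm.mp hu').2
    have h1 : ((K₀.map G₁.subtype).map G₀.subtype).relIndex Q = q ^ 2 := by
      rw [← hmapQ, Subgroup.relIndex_map_map_of_injective _ _ G₀.subtype_injective,
        Subgroup.relIndex_map_map_of_injective _ _ G₁.subtype_injective, hK₀i]
    rw [← h1]
    exact Nat.le_of_dvd (by rw [h1]; exact pow_pos hq.out.pos 2)
      (Subgroup.relIndex_dvd_of_le_left Q hK₀K)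
  · -- `h` is trivial on `C₀` modulo `K`
    have hfixC₀ : ∀ c ∈ C₀, ⁅h, c⁆ ∈ K := by
      -- the subspace `I = (ρ y - 1) U'`
      set I : Submodule F U' := LinearMap.range (ρ' (z ^ 2 ^ N) - 1) with hI
      have hyI : ∀ a : G₀, Commute (a : G) y → ∀ u ∈ I, ρ' a u ∈ I := by
        rintro a ha _ ⟨u, rfl⟩
        refine ⟨ρ' a u, ?_⟩
        simp only [LinearMap.sub_apply, Module.End.one_apply, map_sub]
        rw [← rho_mul_apply, ← rho_mul_apply,
          show a * z ^ 2 ^ N = z ^ 2 ^ N * a from Subtype.ext (by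
            rw [Subgroup.coe_mul, Subgroup.coe_mul, hzy]; exact ha.eq)]
      have hzI : z ∈ stabSub ρ' I := hyI z (by
        show Commute (g ^ 2 ^ k) (g ^ 2 ^ (e + 1))
        exact Commute.pow_pow_self g _ _)
      set G₂ := stabSub ρ' I with hG₂
      let z₂ : G₂ := ⟨z, hzI⟩
      have hpowI : ∀ (i : ℕ) (w : I), ((((restrictHom ρ' I z₂ - 1) ^ i) w : I) : U') =
          ((ρ' z - 1) ^ i) w := by
        intro i
        induction i with
        | zero => intro w; rfl
        | succ i ih =>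
          intro w
          rw [pow_succ', pow_succ', Module.End.mul_apply, Module.End.mul_apply, ← ih]
          simp only [LinearMap.sub_apply, Module.End.one_apply, Submodule.coe_sub]
          rfl
      have hrI : (restrictHom ρ' I z₂ - 1) ^ (2 ^ (N - 1 + 1) - 1) = 0 := by
        refine LinearMap.ext fun ⟨w, hw⟩ => Subtype.ext ?_
        rw [hpowI]
        obtain ⟨u, rfl⟩ := hw
        show (((ρ' z - 1) ^ (2 ^ (N - 1 + 1) - 1) : Module.End F U') : U' →ₗ[F] U') ((ρ' (z ^ 2 ^ N) - 1) u) = 0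
        rw [map_pow, ← sub_one_pow_prime_pow, ← Module.End.mul_apply, ← pow_add,
          show 2 ^ (N - 1 + 1) - 1 + 2 ^ N = 2 ^ (N + 1) - 1 by
            rw [show N - 1 + 1 = N by omega, pow_succ]
            have := pow_pos (two_pos (α := ℕ)) N
            omega, hrz]
        rfl
      have hhC₀ : h ∈ Subgroup.normalizer (C₀ : Set G) := by
        refine Coprime.mem_normalizer_of_forall fun c hc => ⟨(Subgroup.mem_normalizer_iff.mp
          (pow_mem hgC _ : h ∈ Subgroup.normalizer (C : Set G)) c).mp hc.1,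
          Subgroup.mem_centralizer_iff.mpr fun a ha => ?_⟩
        obtain ⟨i, rfl⟩ := Subgroup.mem_zpowers_iff.mp ha
        have h1 : Commute (y ^ i) h := (Commute.pow_pow_self g _ _).zpow_left i
        exact ((h1.mul_right ((hC₀y c hc).symm.zpow_left i)).mul_right h1.inv_right).eq
      have hgC₀ : g ^ 2 ^ k ∈ Subgroup.normalizer (C₀ : Set G) := by
        refine Coprime.mem_normalizer_of_forall fun c hc => ⟨(Subgroup.mem_normalizer_iff.mp
          (pow_mem hgC _ : g ^ 2 ^ k ∈ Subgroup.normalizer (C : Set G)) c).mp hc.1,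
          Subgroup.mem_centralizer_iff.mpr fun a ha => ?_⟩
        obtain ⟨i, rfl⟩ := Subgroup.mem_zpowers_iff.mp ha
        have h1 : Commute (y ^ i) (g ^ 2 ^ k) := (Commute.pow_pow_self g _ _).zpow_left i
        exact ((h1.mul_right ((hC₀y c hc).symm.zpow_left i)).mul_right h1.inv_right).eq
      have hC₀G₂ : C₀' ≤ G₂ := fun c hc => hyI c (hC₀y _ hc)
      have hcase : ∀ n₀ m, n₀ ≤ N - 1 + 1 → 1 ≤ m → 2 ^ n₀ - 1 ≠ q ^ m := by
        intro n₀ m hn₀ hm heq
        obtain ⟨rfl, -, -⟩ := mersenne_prime_pow hq.out hm heq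
        rw [pow_one] at heq
        have h2 : 2 ^ n₀ ≤ 2 ^ N := Nat.pow_le_pow_right two_pos (by omega)
        rw [pow_succ] at hNq
        have := pow_pos (two_pos (α := ℕ)) N
        omega
      have htriv := commutator_trivial_of_deficient (p := 2) (restrictHom ρ' I) (x := z₂)
        (n := N - 1) hrI hq2 (R := C₀'.subgroupOf G₂)
        (((hCp.to_le hC₀C).comap_subtype).comap_subtype)
        (by
          rw [Subgroup.mem_normalizer_iff]
          exact fun a => Subgroup.mem_normalizer_iff.mp hgC₀ ((a : G₀) : G))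
        (Or.inr hcase)
      intro c hc
      set κ := ⁅h, c⁆ with hκ
      have hκC₀ : κ ∈ C₀ := by
        rw [hκ, commutatorElement_def]
        exact mul_mem ((Subgroup.mem_normalizer_iff.mp hhC₀ c).mp hc) (inv_mem hc)
      rw [← hKeq]
      refine ⟨hC₀C hκC₀, fun d hd u hu => ?_⟩
      have hd' : d ∈ Q ⊔ C₀ := by rwa [hsup]
      obtain ⟨a, ha, c', hc', rfl⟩ := (Coprime.mem_sup_iff (hC₀C.trans hCQ)).mp hd'
      have hc'C : c' ∈ C := hC₀C hc'
      have hsplit : ⁅κ, a * c'⁆ = ⁅κ, c'⁆ := by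
        rw [commutatorElement_mul_right_eq_mul_conj,
          commutatorElement_eq_one_iff_commute.mpr (hQC₀ a ha κ hκC₀).symm, one_mul,
          ← (hC κ (hC₀C hκC₀) c' hc'C a (hQC ha)).eq, mul_inv_cancel_right]
      show ρ ⁅κ, a * c'⁆ u = u
      rw [hsplit]
      set ε := ⁅κ, c'⁆ with hε
      let S : Submodule F V := U' ⊓ LinearMap.ker (ρ ε - 1)
      have hSm : ∀ {v : V}, v ∈ S ↔ v ∈ U' ∧ ρ ε v = v := fun {v} => by
        simp only [S, Submodule.mem_inf, LinearMap.mem_ker, LinearMap.sub_apply,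
          Module.End.one_apply, sub_eq_zero]
      have hSinv : IsInv ρ C S := fun b hb v hv => by
        rw [hSm] at hv ⊢
        refine ⟨hU'.2.1 b hb v hv.1, ?_⟩
        rw [← rho_mul_apply, (hC _ (hC₀C hκC₀) c' hc'C b hb).eq, rho_mul_apply, hv.2]
      let h₂ : G₂ := z₂ ^ L
      let c₂ : G₂ := ⟨⟨c, hCG₀ (hC₀C hc)⟩, hC₀G₂ hc⟩
      let c₂' : G₂ := ⟨⟨c', hCG₀ hc'C⟩, hC₀G₂ hc'⟩
      have hκ1 : restrictHom ρ' I ⁅h₂, c₂⁆ = 1 := by
        have h5 := htriv c₂ hc
        rwa [← hL] at h5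
      have hε1 : restrictHom ρ' I ⁅⁅h₂, c₂⁆, c₂'⁆ = 1 := by
        rw [commutatorElement_def ⁅h₂, c₂⁆, map_mul, map_mul, map_mul, hκ1]
        have hi : restrictHom ρ' I ⁅h₂, c₂⁆⁻¹ = 1 := by
          have h1 := rho_inv_mul (ρ := restrictHom ρ' I) ⁅h₂, c₂⁆
          rwa [hκ1, mul_one] at h1
        rw [hi, one_mul, mul_one, rho_mul_inv]
      have hεeq : (((⁅⁅h₂, c₂⁆, c₂'⁆ : G₂) : G₀) : G) = ε := by
        have e1 : ((h₂ : G₀) : G) = h := by
          show (((z₂ ^ L : G₂) : G₀) : G) = h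
          rw [SubgroupClass.coe_pow]; exact hzh
        simp only [hε, hκ, commutatorElement_def, Subgroup.coe_mul, Subgroup.coe_inv, e1]
        rfl
      have hSne : S ≠ ⊥ := by
        have hI0 : I ≠ ⊥ := by
          intro h0
          obtain ⟨a₀, ha₀, w, hw, hne⟩ := hnontriv ⊤ top_ne_bot
          have hy1 : ρ' (z ^ 2 ^ N) = 1 := sub_eq_zero.mp (LinearMap.range_eq_bot.mp h0)
          have hy1' : ρ' (z ^ 2 ^ N)⁻¹ = 1 := by
            have h1 := rho_inv_mul (ρ := ρ') (z ^ 2 ^ N); rwa [hy1, mul_one] at h1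
          refine hne ?_
          have hle : Q' ≤ ρ'.ker := by
            refine a1.symm.trans_le ?_
            rw [Subgroup.commutator_le]
            intro a _ b hb
            obtain ⟨i, rfl⟩ := (isOfFinOrder_of_finite (z ^ 2 ^ N)).mem_powers_iff_mem_zpowers.mpr hb
            show ρ' ⁅a, (z ^ 2 ^ N) ^ i⁆ = 1
            rw [commutatorElement_def, map_mul, map_mul, map_mul, map_pow, hy1, one_pow, ← inv_pow,
              map_pow, hy1', one_pow, mul_one, mul_one, rho_mul_inv]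
          rw [MonoidHom.mem_ker.mp (hle ha₀)]
          rfl
        obtain ⟨w, hwI, hw0⟩ := Submodule.exists_mem_ne_zero_of_ne_bot hI0
        refine Submodule.ne_bot_iff _ |>.mpr
          ⟨(w : V), hSm.mpr ⟨w.2, ?_⟩, fun h => hw0 (Subtype.ext h)⟩
        have h4 := congrArg (fun f : Module.End F I => ((f ⟨w, hwI⟩ : I) : U')) hε1
        have h5 := congrArg Subtype.val h4
        rw [← hεeq]
        exact h5
      have hu' : u ∈ S := (hU'.2.2 S inf_le_left hSinv).resolve_left hSne ▸ hu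
      exact (hSm.mp hu').2
    intro c hc
    rw [← hsup] at hc
    obtain ⟨a, ha, c₀, hc₀, rfl⟩ := (Coprime.mem_sup_iff (hC₀C.trans hCQ)).mp hc
    have haC : a ∈ C := hQC ha
    have hhQ : h ∈ Subgroup.normalizer (Q : Set G) := pow_mem hgQ _
    have hha : h * a * h⁻¹ ∈ Q := (Subgroup.mem_normalizer_iff.mp hhQ a).mp ha
    refine ⟨h * a * h⁻¹ * a⁻¹, mul_mem hha (inv_mem ha), ?_⟩
    have hκ := hfixC₀ c₀ hc₀
    have hm : a * ⁅h, c₀⁆ * a⁻¹ ∈ K := by
      have hKn : ∀ b ∈ C, ∀ x ∈ K, b * x * b⁻¹ ∈ K := fun b hb x hx => by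
        have h1 := K.mul_mem (show ⁅b, x⁆ ∈ K from
          ⟨C.mul_mem (C.mul_mem (C.mul_mem hb hx.1) (C.inv_mem hb)) (C.inv_mem hx.1),
            fun d hd u _ => by
              rw [commutatorElement_eq_one_iff_commute.mpr (hC b hb x hx.1 d hd)]; simp⟩) hx
        simpa [commutatorElement_def, mul_assoc] using h1
      exact hKn a haC _ hκ
    convert hm using 1
    rw [commutatorElement_def]
    group
  · -- `y` inverts `Q` modulo `K`
    intro a ha
    set b := y * a * y⁻¹ * a with hb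
    have hyQ : y ∈ Subgroup.normalizer (Q : Set G) := pow_mem hgQ _
    have hya : y * a * y⁻¹ ∈ Q := (Subgroup.mem_normalizer_iff.mp hyQ a).mp ha
    have hbQ : b ∈ Q := mul_mem hya ha
    -- `b` is fixed modulo `K`
    have hyN : y ∈ Subgroup.normalizer (K : Set G) :=
      mem_normalizer_centralMod (pow_mem hgC _) (Or.inl fun u hu v hv => hyc u hu v hv)
    have hfixmod : b⁻¹ * (y * b * y⁻¹) ∈ K := by
      have h1 : y * b * y⁻¹ = a * (y * a * y⁻¹) := by
        rw [hb]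
        calc y * (y * a * y⁻¹ * a) * y⁻¹ = (y * y) * a * y⁻¹ * a * y⁻¹ := by group
          _ = a * (y * a * y⁻¹) := by rw [← sq, hy2, hyi]; group
      have h2 : b⁻¹ * (y * b * y⁻¹) = ⁅a⁻¹, (y * a * y⁻¹)⁻¹⁆ := by
        rw [h1, hb, commutatorElement_def]; group
      rw [h2]
      exact ⟨C.mul_mem (C.mul_mem (C.mul_mem (C.inv_mem (hQC ha)) (C.inv_mem (hQC hya)))
        (C.inv_mem (C.inv_mem (hQC ha)))) (C.inv_mem (C.inv_mem (hQC hya))),
        fun d hd u _ => by
          rw [commutatorElement_eq_one_iff_commute.mpr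
            (hC _ (C.inv_mem (hQC ha)) _ (C.inv_mem (hQC hya)) d hd)]; simp⟩
    have hAK : A ≤ Subgroup.normalizer ((Q ⊓ K : Subgroup G) : Set G) := by
      refine Subgroup.zpowers_le.mpr (Coprime.mem_normalizer_of_forall fun x hx => ⟨?_, ?_⟩)
      · exact (Subgroup.mem_normalizer_iff.mp hyQ x).mp hx.1
      · exact (Subgroup.mem_normalizer_iff.mp hyN x).mp hx.2
    have hcopQ : (Nat.card A).Coprime (Nat.card Q) :=
      hcop.coprime_dvd_right (Subgroup.card_dvd_of_le hQC)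
    obtain ⟨f, hf, hfK⟩ := Coprime.exists_mem_centralizer_of_coset'
      (Subgroup.zpowers_le.mpr hyQ) hcopQ (Or.inl inferInstance) (N := Q ⊓ K) inf_le_left hAK
      (k := b) hbQ (by
        let L : Subgroup G :=
          { carrier := {x | x ∈ Subgroup.normalizer ((Q ⊓ K : Subgroup G) : Set G) ∧
              b⁻¹ * x * b * x⁻¹ ∈ Q ⊓ K}
            one_mem' := ⟨one_mem _, by simp⟩
            mul_mem' := fun {x x'} hx hx' => ⟨mul_mem hx.1 hx'.1, by
              have h1 := (Q ⊓ K).mul_mem hx.2 ((Subgroup.mem_normalizer_iff.mp hx.1 _).mp hx'.2)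
              simpa [mul_assoc] using h1⟩
            inv_mem' := fun {x} hx => ⟨inv_mem hx.1, by
              have h1 := (Subgroup.mem_normalizer_iff.mp (inv_mem hx.1) _).mp ((Q ⊓ K).inv_mem hx.2)
              simpa [mul_assoc] using h1⟩ }
        have h2 : A ≤ L := Subgroup.zpowers_le.mpr (show y ∈ L from
          ⟨hAK (Subgroup.mem_zpowers _), Subgroup.mem_inf.mpr ⟨by
            rw [mul_assoc (b⁻¹), mul_assoc (b⁻¹)]
            exact mul_mem (inv_mem hbQ) ((Subgroup.mem_normalizer_iff.mp hyQ b).mp hbQ),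
            by rw [mul_assoc (b⁻¹), mul_assoc (b⁻¹)]; exact hfixmod⟩⟩)
        exact fun x hx => (h2 hx).2)
    have hfC₀ : f ∈ C₀ := ⟨hQC hf.1, hf.2⟩
    have hfK' : f ∈ K := by
      refine ⟨hQC hf.1, fun d hd u _ => ?_⟩
      have hd' : d ∈ Q ⊔ C₀ := by rwa [hsup]
      obtain ⟨a', ha', c', hc', rfl⟩ := (Coprime.mem_sup_iff (hC₀C.trans hCQ)).mp hd'
      rw [commutatorElement_eq_one_iff_commute.mpr
        ((hQC₀ a' ha' f hfC₀).symm.mul_right (hQC₀ f hf.1 c' hc'))]
      simp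
    have h5 := K.mul_mem hfK' (K.inv_mem (Subgroup.mem_inf.mp hfK).2)
    simpa using h5

end Cfsg.Agent.HallHigman
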