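/-
2-length at most `2e - 1` when Sylow 2-subgroups have exponent dividing `2^e` (helper3).

Main results (namespace `Cfsg.Agent.HallHigman`):
* modNormalizer, actKer, commute_sq_pow_of_deficient
* pExpDvd_double_two, pLengthLE_double_two
-/
import Cfsg.Agent.Lib.HallHigman.SmallTwo
import Cfsg.Agent.Lib.HallHigman.SmallTwoBound
import Cfsg.Agent.Lib.HallHigman.PLengthDouble
import Cfsg.Agent.Lib.Solvable.Fitting
import Cfsg.Agent.Lib.Cores.Fitting

set_option autoImplicit false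
set_option maxHeartbeats 1600000

namespace Cfsg.Agent.HallHigman

open scoped commutatorElement

universe u

section

variable {F : Type*} [Field F] {V : Type*} [AddCommGroup V] [Module F V] {G : Type*} [Group G]

theorem centralMod_conj [Finite G] {ρ : G →* Module.End F V} {C : Subgroup G}
    {hC : ∀ a ∈ C, ∀ b ∈ C, ∀ c ∈ C, Commute ⁅a, b⁆ c} {U : Submodule F V} {r c : G}
    (hr : r ∈ Subgroup.normalizer (C : Set G)) (hc : c ∈ centralMod ρ C hC U) :
    r * c * r⁻¹ ∈ centralMod ρ C hC (U.map (ρ r)) := by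
  refine ⟨(Subgroup.mem_normalizer_iff.mp hr c).mp hc.1, ?_⟩
  rintro d hd _ ⟨u, hu, rfl⟩
  have e : ⁅r * c * r⁻¹, d⁆ = r * ⁅c, r⁻¹ * d * r⁆ * r⁻¹ := by
    simp only [commutatorElement_def]
    group
  rw [e, rho_mul_apply, rho_mul_apply, rho_inv_apply, hc.2 _ (conj_mem_of_normalizer hr hd) u hu]

/-- The intersection of the normalizers of all `centralMod`s of normal class two odd subgroups. -/
def modNormalizer (ρ : G →* Module.End F V) : Subgroup G :=
  ⨅ (q : ℕ) (_ : q.Prime ∧ q ≠ 2) (C : Subgroup G) (_ : C.Normal ∧ IsPGroup q C)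
    (hC : ∀ a ∈ C, ∀ b ∈ C, ∀ c ∈ C, Commute ⁅a, b⁆ c) (U : Submodule F V)
    (_ : IsSimpleInv ρ C U), Subgroup.normalizer (centralMod ρ C hC U : Set G)

theorem mem_modNormalizer {ρ : G →* Module.End F V} {a : G} :
    a ∈ modNormalizer ρ ↔ ∀ (q : ℕ), q.Prime ∧ q ≠ 2 → ∀ (C : Subgroup G), C.Normal ∧ IsPGroup q C →
      ∀ (hC : ∀ a ∈ C, ∀ b ∈ C, ∀ c ∈ C, Commute ⁅a, b⁆ c) (U : Submodule F V),
      IsSimpleInv ρ C U → a ∈ Subgroup.normalizer (centralMod ρ C hC U : Set G) := by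
  simp [modNormalizer, Subgroup.mem_iInf]

theorem modNormalizer_normal [Finite G] (ρ : G →* Module.End F V) : (modNormalizer ρ).Normal := by
  refine ⟨fun a ha r => mem_modNormalizer.mpr fun q hq C hC' hC U hU => ?_⟩
  have hCn := hC'.1
  have hN : ∀ s : G, s ∈ Subgroup.normalizer (C : Set G) := fun s => by
    rw [Subgroup.normalizer_eq_top_iff.mpr hCn]; exact Subgroup.mem_top s
  have h1 := mem_modNormalizer.mp ha q hq C hC' hC _ (hU.map (hN r⁻¹))
  refine Coprime.mem_normalizer_of_forall fun c hc => ?_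
  have h2 := (Subgroup.mem_normalizer_iff.mp h1 _).mp (centralMod_conj (hN r⁻¹) hc)
  have h3 := centralMod_conj (hN r) h2
  rw [map_map_rho, mul_inv_cancel, map_one, Module.End.one_eq_id, Submodule.map_id] at h3
  convert h3 using 1
  group

/-- The elements acting trivially on `C` modulo `K`. -/
def actKer (C K : Subgroup G) : Subgroup G where
  carrier := {a | (a ∈ Subgroup.normalizer (C : Set G) ∧ a ∈ Subgroup.normalizer (K : Set G)) ∧
    ∀ c ∈ C, a * c * a⁻¹ * c⁻¹ ∈ K}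
  one_mem' := ⟨⟨one_mem _, one_mem _⟩, fun c _ => by simp⟩
  mul_mem' := fun {a b} ha hb => ⟨⟨mul_mem ha.1.1 hb.1.1, mul_mem ha.1.2 hb.1.2⟩, fun c hc => by
    have h1 := K.mul_mem ((Subgroup.mem_normalizer_iff.mp ha.1.2 _).mp (hb.2 c hc)) (ha.2 c hc)
    convert h1 using 1
    group⟩
  inv_mem' := fun {a} ha => ⟨⟨inv_mem ha.1.1, inv_mem ha.1.2⟩, fun c hc => by
    have h1 := K.inv_mem (ha.2 _ (conj_mem_of_normalizer ha.1.1 hc))
    convert h1 using 1
    group⟩

theorem conj_mem_actKer {C K : Subgroup G} {a d : G} (ha : a ∈ actKer C K)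
    (hdC : d ∈ Subgroup.normalizer (C : Set G)) (hdK : d ∈ Subgroup.normalizer (K : Set G)) :
    d * a * d⁻¹ ∈ actKer C K := by
  refine ⟨⟨mul_mem (mul_mem hdC ha.1.1) (inv_mem hdC), mul_mem (mul_mem hdK ha.1.2) (inv_mem hdK)⟩,
    fun c hc => ?_⟩
  have h1 := (Subgroup.mem_normalizer_iff.mp hdK _).mp (ha.2 _ (conj_mem_of_normalizer hdC hc))
  convert h1 using 1
  group

variable [IsAlgClosed F] [FiniteDimensional F V] [CharP F 2] [Finite G]

theorem pow_mem_modNormalizer {ρ : G →* Module.End F V} (hρ : Function.Injective ρ) {g : G}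
    {n : ℕ} (hg : Deficient ρ 2 n g) : g ^ 2 ^ n ∈ modNormalizer ρ := by
  have : Fact (Nat.Prime 2) := ⟨Nat.prime_two⟩
  refine mem_modNormalizer.mpr fun q hq C hC' hC U _ => ?_
  have : Fact q.Prime := ⟨hq.1⟩
  have hCn := hC'.1
  have hgC : g ∈ Subgroup.normalizer (C : Set G) := by
    rw [Subgroup.normalizer_eq_top_iff.mpr hCn]; exact Subgroup.mem_top g
  exact mem_normalizer_centralMod (pow_mem hgC _) (Or.inl fun a ha b hb =>
    commute_commutator_of_deficient_any hρ hg hq.2 hC'.2 hC hgC ha hb)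

/-- For deficient `g`, `b` of a 2-subgroup with `b g⁻¹` in `[D, g^(2^(e+1))]`:
`g^(2^e)` commutes with `b^(2^(e+1))`. -/
theorem commute_sq_pow_of_deficient {ρ : G →* Module.End F V} (hρ : Function.Injective ρ)
    (hsolv : Group.IsSolvable G) (hO : Cfsg.pCore 2 G = ⊥) {P : Subgroup G} (hP : IsPGroup 2 P)
    {g b : G} (hgP : g ∈ P) (hbP : b ∈ P) {e : ℕ} (hg : Deficient ρ 2 (e + 1) g)
    (hb : Deficient ρ 2 (e + 1) b)
    (hu : b * g⁻¹ ∈ ⁅modNormalizer ρ, Subgroup.zpowers (g ^ 2 ^ (e + 1))⁆) :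
    Commute (g ^ 2 ^ e) (b ^ 2 ^ (e + 1)) := by
  classical
  have : Fact (Nat.Prime 2) := ⟨Nat.prime_two⟩
  have := modNormalizer_normal ρ
  set D := modNormalizer ρ
  set y := g ^ 2 ^ (e + 1) with hy
  set N := ⁅D, Subgroup.zpowers y⁆ with hN
  have hND : N ≤ D := Subgroup.commutator_le_left D _
  have hyD : y ∈ D := pow_mem_modNormalizer hρ hg
  have hgN : g ∈ Subgroup.normalizer (N : Set G) := by
    have h1 : g ∈ Subgroup.normalizer (D : Set G) := by
      rw [Subgroup.normalizer_eq_top_iff.mpr inferInstance]; exact Subgroup.mem_top g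
    have h2 : g ∈ Subgroup.normalizer (Subgroup.zpowers y : Set G) := by
      refine Coprime.mem_normalizer_of_forall fun a ha => ?_
      obtain ⟨i, rfl⟩ := Subgroup.mem_zpowers_iff.mp ha
      rw [((Commute.self_pow g (2 ^ (e + 1))).zpow_right i).eq, mul_inv_cancel_right]
      exact zpow_mem (Subgroup.mem_zpowers _) i
    rw [Subgroup.mem_normalizer_iff_map_conj_eq] at h1 h2 ⊢
    rw [hN, Subgroup.map_commutator, h1, h2]
  have hpow : ∀ i : ℕ, b ^ i * (g ^ i)⁻¹ ∈ N := by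
    intro i
    induction i with
    | zero => simp
    | succ i ih =>
      have e1 : b ^ (i + 1) * (g ^ (i + 1))⁻¹ =
          b * g⁻¹ * (g * (b ^ i * (g ^ i)⁻¹) * g⁻¹) := by
        rw [pow_succ', pow_succ' g]; group
      rw [e1]
      exact N.mul_mem hu ((Subgroup.mem_normalizer_iff.mp hgN _).mp ih)
  set h := g ^ 2 ^ e with hh
  set h' := b ^ 2 ^ e with hh'
  set y' := b ^ 2 ^ (e + 1) with hy'
  have hh2 : h' ^ 2 = y' := by rw [hh', hy', ← pow_mul, ← pow_succ]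
  have hhD : h * h'⁻¹ ∈ D := by
    have h1 := D.inv_mem (hND (hpow (2 ^ e)))
    rwa [mul_inv_rev, inv_inv] at h1
  have hy'D : y' ∈ D := pow_mem_modNormalizer hρ hb
  rw [← commutatorElement_eq_one_iff_commute]
  set ξ := ⁅h, y'⁆ with hξ
  have hξP : ξ ∈ P := P.mul_mem (P.mul_mem (P.mul_mem (pow_mem hgP _) (pow_mem hbP _))
    (P.inv_mem (pow_mem hgP _))) (P.inv_mem (pow_mem hbP _))
  obtain ⟨j, hj⟩ := hP ⟨ξ, hξP⟩
  have hξj : ξ ^ 2 ^ j = 1 := congrArg Subtype.val hj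
  -- `ξ` centralises every odd `O_q`
  have hcent : ∀ q : Nat.Primes, Cfsg.pCore (q : ℕ) G ≤ Subgroup.centralizer ({ξ} : Set G) := by
    intro q
    by_cases hq2 : (q : ℕ) = 2
    · rw [hq2, hO]; exact bot_le
    have : Fact (q : ℕ).Prime := ⟨q.2⟩
    set S := Cfsg.pCore (q : ℕ) G with hS
    have hSn : S.Normal := Cores.pCore_normal _ _
    have hSq : IsPGroup (q : ℕ) S := Cores.isPGroup_pCore _ _
    obtain ⟨H, hH⟩ := PGroup.exists_critical hSq
    have := hH.char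
    set C := H.map S.subtype with hCdef
    have hCn : C.Normal := Cores.map_subtype_normal_of_characteristic S H
    have hCq : IsPGroup (q : ℕ) C := hSq.to_le (Subgroup.map_subtype_le _)
    have hclass : ∀ a ∈ C, ∀ b ∈ C, ∀ c ∈ C, Commute ⁅a, b⁆ c := by
      rintro _ ⟨a, ha, rfl⟩ _ ⟨a', -, rfl⟩ _ ⟨c, hc, rfl⟩
      have h1 := Subgroup.mem_centralizer_iff.mp (hH.comm_mem a ha a').2 c hc
      rw [← map_commutatorElement]
      exact (show Commute ⁅a, a'⁆ c from h1.symm).map S.subtype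
    have hNC : ∀ s : G, s ∈ Subgroup.normalizer (C : Set G) := fun s => by
      rw [Subgroup.normalizer_eq_top_iff.mpr hCn]; exact Subgroup.mem_top s
    have hfixC : ∀ c ∈ C, ξ * c * ξ⁻¹ = c := by
      intro c hc
      set d := ξ * c * ξ⁻¹ * c⁻¹ with hdd
      have hdC : d ∈ C := C.mul_mem (hCn.conj_mem c hc ξ) (C.inv_mem hc)
      have hmod : ∀ U, IsSimpleInv ρ C U → d ∈ centralMod ρ C hclass U := by
        intro U hU
        set K := centralMod ρ C hclass U with hK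
        have hDK : ∀ a ∈ D, a ∈ Subgroup.normalizer (K : Set G) := fun a ha =>
          mem_modNormalizer.mp ha q ⟨q.2, hq2⟩ C ⟨hCn, hCq⟩ hclass U hU
        suffices hmain : ξ ∈ actKer C K from hmain.2 c hc
        by_cases hy'K : y' ∈ actKer C K
        · -- `y'` is trivial on `C/K`
          have e1 : ξ = (h * h'⁻¹) * y' * (h * h'⁻¹)⁻¹ * y'⁻¹ := by
            have hc' : Commute h' y' := by rw [← hh2]; exact Commute.self_pow h' 2
            calc ξ = h * y' * h⁻¹ * y'⁻¹ := commutatorElement_def _ _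
              _ = h * h'⁻¹ * (h' * y') * h⁻¹ * y'⁻¹ := by group
              _ = h * h'⁻¹ * (y' * h') * h⁻¹ * y'⁻¹ := by rw [hc'.eq]
              _ = _ := by group
          rw [e1]
          exact mul_mem (conj_mem_actKer hy'K (hNC _) (hDK _ hhD)) (inv_mem hy'K)
        -- both `y` and `y'` are nontrivial on `C/K`
        have hyK : y ∉ actKer C K := fun hyK => hy'K <| by
          have hNK : N ≤ actKer C K := by
            rw [hN, Subgroup.commutator_le]
            intro a ha z hz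
            have hzK : z ∈ actKer C K := Subgroup.zpowers_le.mpr hyK hz
            rw [commutatorElement_def]
            exact mul_mem (conj_mem_actKer hzK (hNC a) (hDK a ha)) (inv_mem hzK)
          have h1 := mul_mem (hNK (hpow (2 ^ (e + 1)))) hyK
          rwa [hy, inv_mul_cancel_right] at h1
        have hex : ∀ x : G, x ∈ D → x ∉ actKer C K → ∃ c ∈ C, x * c * x⁻¹ * c⁻¹ ∉ K := by
          intro x hxD hx
          by_contra hcon
          push Not at hcon
          exact hx ⟨⟨hNC x, hDK x hxD⟩, hcon⟩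
        obtain ⟨hhK, hq4, Q₁, hQ₁C, hQ₁i, hQ₁m, hQ₁y⟩ :=
          exists_smallTwo_of_deficient hρ hg hq2 hCq (hNC g) hU (hex y hyD hyK)
        obtain ⟨hh'K, -, Q₂, hQ₂C, hQ₂i, hQ₂m, hQ₂y⟩ :=
          exists_smallTwo_of_deficient hρ hb hq2 hCq (hNC b) hU (hex y' hy'D hy'K)
        set K' := K.subgroupOf C with hK'
        have hcommK : ∀ a ∈ C, ∀ a' ∈ C, ⁅a, a'⁆ ∈ K := fun a ha a' ha' =>
          ⟨C.mul_mem (C.mul_mem (C.mul_mem ha ha') (C.inv_mem ha)) (C.inv_mem ha'), fun d hd u _ => by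
            rw [commutatorElement_eq_one_iff_commute.mpr (hclass a ha a' ha' d hd)]; simp⟩
        have hK'n : K'.Normal := ⟨fun a ha a' => by
          have h1 := K.mul_mem (hcommK a' a'.2 a a.2) ha
          show (a' : G) * a * (a' : G)⁻¹ ∈ K
          simpa [commutatorElement_def, mul_assoc] using h1⟩
        letI : CommGroup (C ⧸ K') :=
          { (inferInstance : Group (C ⧸ K')) with
            mul_comm := fun a a' => by
              induction a using QuotientGroup.induction_on with | _ a => ?_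
              induction a' using QuotientGroup.induction_on with | _ a' => ?_
              rw [← QuotientGroup.mk_mul, ← QuotientGroup.mk_mul, QuotientGroup.eq]
              show ((a * a' : C) : G)⁻¹ * ((a' * a : C) : G) ∈ K
              have h1 := hcommK (a' : G)⁻¹ (C.inv_mem a'.2) (a : G)⁻¹ (C.inv_mem a.2)
              simpa [commutatorElement_def, mul_assoc] using h1 }
        set R₀ := P ⊓ Subgroup.normalizer (K : Set G) with hR₀
        let f : R₀ →* MulAut C :=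
          C.normalizerMonoidHom.comp (Subgroup.inclusion fun r _ => hNC r)
        have hf : ∀ (r : R₀) (a : C), ((f r a : C) : G) = (r : G) * a * (r : G)⁻¹ := fun r a => rfl
        have hfK : ∀ r : R₀, K'.map (f r).toMonoidHom = K' := fun r => by
          refine le_antisymm ?_ fun a ha => ⟨f r⁻¹ a, ?_, ?_⟩
          · rintro _ ⟨a, ha, rfl⟩
            exact (Subgroup.mem_normalizer_iff.mp r.2.2 (a : G)).mp ha
          · exact (Subgroup.mem_normalizer_iff.mp (r⁻¹).2.2 (a : G)).mp ha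
          · show f r (f r⁻¹ a) = a
            rw [← MulAut.mul_apply, ← map_mul, mul_inv_cancel, map_one, MulAut.one_apply]
        let φ : R₀ →* MulAut (C ⧸ K') :=
          { toFun := fun r => QuotientGroup.congr _ _ (f r) (hfK r)
            map_one' := MulEquiv.ext fun a => by
              induction a using QuotientGroup.induction_on with | _ a => ?_
              show ((f 1 a : C) : C ⧸ K') = (a : C ⧸ K')
              rw [map_one, MulAut.one_apply]
            map_mul' := fun r s => MulEquiv.ext fun a => by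
              induction a using QuotientGroup.induction_on with | _ a => ?_
              show ((f (r * s) a : C) : C ⧸ K') = ((f r (f s a) : C) : C ⧸ K')
              rw [map_mul, MulAut.mul_apply] }
        have hsmall : ∀ (w : G) (hw : w ∈ R₀) (Q : Subgroup G) (hQC : Q ≤ C),
            K.relIndex Q ≤ (q : ℕ) ^ 2 →
            (∀ c ∈ C, ∃ a ∈ Q, a⁻¹ * (w * c * w⁻¹ * c⁻¹) ∈ K) →
            (∀ a ∈ Q, w ^ 2 * a * (w ^ 2)⁻¹ * a ∈ K) →
            SmallTwo (q : ℕ) φ.range (φ ⟨w, hw⟩) := by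
          intro w hw Q hQC hQi hQm hQy
          have hmod' : ∀ a : C, ∃ a' : C, (a' : G) ∈ Q ∧
              movedHom (φ ⟨w, hw⟩) (a : C ⧸ K') = (a' : C ⧸ K') := fun a => by
            obtain ⟨a', ha', h1⟩ := hQm a a.2
            refine ⟨⟨a', hQC ha'⟩, ha', ?_⟩
            show ((f ⟨w, hw⟩ a * a⁻¹ : C) : C ⧸ K') = _
            rw [eq_comm, QuotientGroup.eq]
            exact h1
          refine ⟨⟨_, rfl⟩, ?_, fun x => ?_⟩
          · have h1 : K.relIndex Q = Nat.card ((Q.subgroupOf C).map (QuotientGroup.mk' K')) := by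
              rw [← Subgroup.relIndex_ker, QuotientGroup.ker_mk']
              exact (Subgroup.relIndex_subgroupOf hQC).symm
            refine le_trans ?_ (h1 ▸ hQi)
            refine Nat.le_of_dvd Nat.card_pos (Subgroup.card_dvd_of_le ?_)
            rintro _ ⟨a, rfl⟩
            induction a using QuotientGroup.induction_on with | _ a => ?_
            obtain ⟨a', ha', h2⟩ := hmod' a
            exact ⟨a', ha', h2.symm⟩
          · induction x using QuotientGroup.induction_on with | _ a => ?_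
            obtain ⟨a', ha', h2⟩ := hmod' a
            show φ ⟨w, hw⟩ (φ ⟨w, hw⟩ (movedHom (φ ⟨w, hw⟩) (a : C ⧸ K'))) =
              (movedHom (φ ⟨w, hw⟩) (a : C ⧸ K'))⁻¹
            rw [h2]
            show ((f ⟨w, hw⟩ (f ⟨w, hw⟩ a') : C) : C ⧸ K') = ((a'⁻¹ : C) : C ⧸ K')
            rw [eq_comm, QuotientGroup.eq, inv_inv]
            show (a' : G) * ((f ⟨w, hw⟩ (f ⟨w, hw⟩ a') : C) : G) ∈ K
            rw [hf, hf]
            have h3 := hQy a' ha'
            have h4 := (hK'n.mem_comm (a := (⟨_, hCn.conj_mem a' a'.2 (w ^ 2)⟩ : C)) (b := a'))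
              (show (⟨_, hCn.conj_mem a' a'.2 (w ^ 2)⟩ : C) * a' ∈ K' from h3)
            have h5 : (a' : G) * (w ^ 2 * a' * (w ^ 2)⁻¹) ∈ K := h4
            convert h5 using 1
            rw [sq]; group
        have hR₀h : h ∈ R₀ := ⟨pow_mem hgP _, hhK⟩
        have hR₀h' : h' ∈ R₀ := ⟨pow_mem hbP _, hh'K⟩
        have hwy : h ^ 2 = y := by rw [hh, hy, ← pow_mul, ← pow_succ]
        have hcomm := commute_sq_of_smallTwo (q := (q : ℕ)) hq2 (not_dvd_sq_add_one hq4)
          (hCq.to_quotient K')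
          ((hP.to_le (inf_le_left : R₀ ≤ P)).of_surjective _ φ.rangeRestrict_surjective)
          (hsmall h hR₀h Q₁ hQ₁C hQ₁i hQ₁m (by rw [hwy]; exact hQ₁y))
          (hsmall h' hR₀h' Q₂ hQ₂C hQ₂i hQ₂m (by rw [hh2]; exact hQ₂y))
        have hone : φ ⁅(⟨h, hR₀h⟩ : R₀), ⟨h', hR₀h'⟩ ^ 2⁆ = 1 := by
          rw [map_commutatorElement, map_pow, commutatorElement_eq_one_iff_commute]
          exact hcomm
        have e : ((⁅(⟨h, hR₀h⟩ : R₀), ⟨h', hR₀h'⟩ ^ 2⁆ : R₀) : G) = ξ := by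
          rw [hξ, ← hh2, commutatorElement_def, commutatorElement_def]
          simp
        refine ⟨⟨hNC ξ, e ▸ (⁅(⟨h, hR₀h⟩ : R₀), ⟨h', hR₀h'⟩ ^ 2⁆ : R₀).2.2⟩, fun c hc => ?_⟩
        have h2 : f ⁅(⟨h, hR₀h⟩ : R₀), ⟨h', hR₀h'⟩ ^ 2⁆ ⟨c, hc⟩ * (⟨c, hc⟩ : C)⁻¹ ∈ K' := by
          have h1 := congrArg (fun m : MulAut (C ⧸ K') => m ((⟨c, hc⟩ : C) : C ⧸ K')) hone
          simp only [MulAut.one_apply] at h1
          rw [← QuotientGroup.eq_one_iff, QuotientGroup.mk_mul, QuotientGroup.mk_inv]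
          exact mul_inv_eq_one.mpr h1
        have h3 : ((f ⁅(⟨h, hR₀h⟩ : R₀), ⟨h', hR₀h'⟩ ^ 2⁆ ⟨c, hc⟩ * (⟨c, hc⟩ : C)⁻¹ : C) : G) ∈ K := h2
        rwa [Subgroup.coe_mul, Subgroup.coe_inv, hf, e] at h3
      -- so `d` is central in `C`
      have hdZ : ∀ a ∈ C, Commute d a := by
        intro a ha
        rw [← commutatorElement_eq_one_iff_commute]
        have htC : ⁅d, a⁆ ∈ C :=
          C.mul_mem (C.mul_mem (C.mul_mem hdC ha) (C.inv_mem hdC)) (C.inv_mem ha)
        obtain ⟨i, hi⟩ := hCq ⟨_, htC⟩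
        refine eq_one_of_fix_simple hρ (fun z hz => hclass d hdC a ha z hz)
          (congrArg Subtype.val hi) ?_ fun U hU u hu => (hmod U hU).2 a ha u hu
        rw [Nat.cast_pow]
        refine pow_ne_zero _ fun h0 => hq2 ?_
        exact ((Nat.prime_dvd_prime_iff_eq Nat.prime_two q.2).mp
          ((CharP.cast_eq_zero_iff F 2 (q : ℕ)).mp h0)).symm
      -- `ξ` fixes `d`
      have hb' : ∀ z ∈ C, (∀ a ∈ C, Commute z a) → Commute y' z := fun z hz hzc =>
        commute_center_of_deficient hρ hb hq2 hCq (hNC b) hz hzc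
      have hgd : Commute ξ d := by
        have h1 := hb' d hdC hdZ
        have h2 := hb' (h⁻¹ * d * h) (conj_mem_of_normalizer (hNC h) hdC) fun a ha => by
          have h3 := hdZ (h * a * h⁻¹) (hCn.conj_mem a ha h)
          show h⁻¹ * d * h * a = a * (h⁻¹ * d * h)
          calc h⁻¹ * d * h * a = h⁻¹ * (d * (h * a * h⁻¹)) * h := by group
            _ = h⁻¹ * ((h * a * h⁻¹) * d) * h := by rw [h3.eq]
            _ = _ := by group
        have h4 : Commute (h * y' * h⁻¹) d := by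
          show h * y' * h⁻¹ * d = d * (h * y' * h⁻¹)
          calc h * y' * h⁻¹ * d = h * (y' * (h⁻¹ * d * h)) * h⁻¹ := by group
            _ = h * ((h⁻¹ * d * h) * y') * h⁻¹ := by rw [h2.eq]
            _ = _ := by group
        rw [hξ, commutatorElement_def]
        exact h4.mul_left h1.inv_left
      have hpowd : ∀ i : ℕ, ξ ^ i * c * (ξ ^ i)⁻¹ = d ^ i * c := by
        intro i
        induction i with
        | zero => simp
        | succ i ih =>
          calc ξ ^ (i + 1) * c * (ξ ^ (i + 1))⁻¹ = ξ * (ξ ^ i * c * (ξ ^ i)⁻¹) * ξ⁻¹ := by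
                rw [pow_succ']; group
            _ = ξ * (d ^ i * c) * ξ⁻¹ := by rw [ih]
            _ = d ^ i * (ξ * c * ξ⁻¹) := by
                rw [← mul_assoc ξ, (hgd.pow_right i).eq]; group
            _ = d ^ i * (d * c) := by
                rw [show d * c = ξ * c * ξ⁻¹ by rw [hdd]; group]
            _ = _ := by rw [pow_succ]; exact (mul_assoc (d ^ i) d c).symm
      have h1 := hpowd (2 ^ j)
      rw [hξj, one_mul, inv_one, mul_one, eq_comm, mul_eq_right] at h1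
      have hd1 : (⟨d, hdC⟩ : C) = 1 := PGroup.eq_one_of_pow_eq_one_coprime hCq
        (((Nat.coprime_primes Nat.prime_two q.2).mpr (Ne.symm hq2)).pow_left j) (Subtype.ext h1)
      have hd0 : d = 1 := congrArg Subtype.val hd1
      rwa [hdd, mul_inv_eq_one] at hd0
    let a : MulAut S := MulAut.conjNormal ξ
    have ha : Nat.Coprime (orderOf a) (q : ℕ) := by
      refine (((Nat.coprime_primes Nat.prime_two q.2).mpr (Ne.symm hq2)).pow_left j).coprime_dvd_left
        (orderOf_dvd_of_pow_eq_one ?_)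
      rw [← map_pow, hξj, map_one]
    have ha1 := PGroup.aut_eq_one_of_fix_selfCentralizing hSq hH.self_centralizing ha
      (fun z hz => Subtype.ext ((MulAut.conjNormal_apply ξ z).trans (hfixC _ ⟨z, hz, rfl⟩)))
    intro s hs
    rw [Subgroup.mem_centralizer_singleton_iff]
    have h1 := congrArg (fun a : MulAut S => ((a ⟨s, hs⟩ : S) : G)) ha1
    have h2 : ξ * s * ξ⁻¹ = s := by
      have := MulAut.conjNormal_apply ξ (⟨s, hs⟩ : S)
      rw [← this]
      exact h1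
    exact (mul_inv_eq_iff_eq_mul.mp h2).symm
  have := hsolv
  have hξc : ξ ∈ Subgroup.centralizer (Cfsg.fittingSubgroup G : Set G) := by
    refine Subgroup.mem_centralizer_iff.mpr fun z hz => ?_
    have hle : Cfsg.fittingSubgroup G ≤ Subgroup.centralizer ({ξ} : Set G) := by
      rw [Cores.fittingSubgroup_eq_iSup_pCore]
      exact iSup_le hcent
    exact Subgroup.mem_centralizer_singleton_iff.mp (hle hz)
  have hξF : ξ ∈ Cfsg.fittingSubgroup G := Solvable.centralizer_fitting_le G hξc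
  have hn : (Subgroup.zpowers (⟨ξ, hξF⟩ : Cfsg.fittingSubgroup G)).Normal :=
    PGroup.zpowers_normal_of_mem_center (Subgroup.mem_center_iff.mpr fun z =>
      Subtype.ext (Subgroup.mem_centralizer_iff.mp hξc z z.2))
  have hle2 : Subgroup.zpowers (⟨ξ, hξF⟩ : Cfsg.fittingSubgroup G) ≤
      Cfsg.pCore 2 (Cfsg.fittingSubgroup G) := Cores.le_pCore hn (by
    rintro ⟨z, hz⟩
    obtain ⟨i, rfl⟩ := Subgroup.mem_zpowers_iff.mp hz
    refine ⟨j, Subtype.ext (Subtype.ext ?_)⟩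
    show (ξ ^ i) ^ 2 ^ j = 1
    rw [← zpow_natCast, ← zpow_mul, mul_comm, zpow_mul, zpow_natCast, hξj, one_zpow])
  have : (Cfsg.fittingSubgroup G).Normal := Subgroup.sSup_normal _ fun _ h => h.1
  have h6 := Subgroup.mem_map_of_mem (Cfsg.fittingSubgroup G).subtype
    (hle2 (Subgroup.mem_zpowers _))
  rw [Cores.pCore_map_subtype, hO, bot_inf_eq, Subgroup.mem_bot] at h6
  exact h6

end

theorem pExpDvd_double_two {A : Type u} [Group A] [Finite A] {e : ℕ}
    [(Cfsg.pCore 2 A).Normal]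
    [(Cfsg.pCore 2 ((A ⧸ Cfsg.pCore 2 A) ⧸ Cfsg.pPrimeCore 2 (A ⧸ Cfsg.pCore 2 A))).Normal]
    (hsolv : Group.IsSolvable A) (hO : Cfsg.pPrimeCore 2 A = ⊥)
    (hexp : PExpDvd 2 (e + 2) A) :
    PExpDvd 2 (e + 1) (((A ⧸ Cfsg.pCore 2 A) ⧸ Cfsg.pPrimeCore 2 (A ⧸ Cfsg.pCore 2 A)) ⧸
      Cfsg.pCore 2 ((A ⧸ Cfsg.pCore 2 A) ⧸ Cfsg.pPrimeCore 2 (A ⧸ Cfsg.pCore 2 A))) := by
  classical
  have : Fact (Nat.Prime 2) := ⟨Nat.prime_two⟩
  have hsep : Solvable.IsPiSeparable {2} A := Solvable.isPiSeparable_of_isSolvable _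
  have hsolv₁ : Group.IsSolvable (A ⧸ Cfsg.pCore 2 A) :=
    solvable_of_surjective (QuotientGroup.mk'_surjective (Cfsg.pCore 2 A))
  have hO₁ : Cfsg.pCore 2 (A ⧸ Cfsg.pCore 2 A) = ⊥ := Cores.pCore_quotient_self 2 A
  have hfA := QuotientGroup.mk'_surjective (Cfsg.pCore 2 A)
  set fA := QuotientGroup.mk' (Cfsg.pCore 2 A)
  set G₁ := A ⧸ Cfsg.pCore 2 A
  set M := Cfsg.pPrimeCore 2 G₁ with hM
  set fM := QuotientGroup.mk' M
  have hfM : Function.Surjective fM := QuotientGroup.mk'_surjective M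
  set B := G₁ ⧸ M
  set fB := QuotientGroup.mk' (Cfsg.pCore 2 B)
  have hfB : Function.Surjective fB := QuotientGroup.mk'_surjective _
  obtain ⟨D⟩ := exists_frattiniData (Solvable.centralizer_pCore_le hsep hO)
  have := D.finiteDimensional
  obtain ⟨K, _, _, _, dK, σ, hσ, hσr, -⟩ := exists_algClosed_rep (p := 2) D.ρ
  have hσi : Function.Injective σ := (injective_iff_map_eq_one σ).mpr fun g hg =>
    D.injective ((hσ g hg).trans (map_one D.ρ).symm)
  have hexp1 : PExpDvd 2 (e + 2) G₁ := hexp.of_surjective fA hfA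
  have hdef : ∀ g : G₁, (∃ k : ℕ, g ^ 2 ^ k = 1) → Deficient σ 2 (e + 1) g := fun g hg => by
    obtain ⟨a, rfl, ha⟩ := exists_pElement_preimage fA hfA hg
    exact ⟨hexp1 _ hg, hσr _ _ (D.sub_one_pow_eq_zero hexp ha)⟩
  have hsepB : Solvable.IsPiSeparable {2} B := (hsep.quotient _).quotient _
  have hOB : Cfsg.pPrimeCore 2 B = ⊥ := Cores.pPrimeCore_quotient_self 2
  have hexpB : PExpDvd 2 (e + 2) B := hexp1.of_surjective fM hfM
  obtain ⟨D₂⟩ := exists_frattiniData (Solvable.centralizer_pCore_le hsepB hOB)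
  have := D₂.finiteDimensional
  intro x hx
  have h1 := hexpB.of_surjective fB hfB x hx
  obtain ⟨j, hj, hjx⟩ := (Nat.dvd_prime_pow Nat.prime_two).mp (orderOf_dvd_of_pow_eq_one h1)
  rcases hj.eq_or_lt with rfl | hlt
  swap
  · exact orderOf_dvd_iff_pow_eq_one.mp (hjx ▸ pow_dvd_pow 2 (Nat.le_of_lt_succ hlt))
  exfalso
  obtain ⟨g, hgx, hg⟩ := exists_pElement_preimage (fB.comp fM) (hfB.comp hfM) hx
  set f₂ := fB.comp fM with hf₂
  have hf₂s : Function.Surjective f₂ := hfB.comp hfM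
  -- the distinguished subgroups
  set E := modNormalizer σ with hE
  have hEn : E.Normal := modNormalizer_normal σ
  set y := g ^ 2 ^ (e + 1) with hy
  set N := ⁅E, Subgroup.zpowers y⁆ with hN
  have hyE : y ∈ E := pow_mem_modNormalizer hσi (hdef g hg)
  have hEN : E ≤ Subgroup.normalizer (N : Set G₁) := Subgroup.normalizer_commutator_ge_left E _
  have hgN : g ∈ Subgroup.normalizer (N : Set G₁) := by
    have h1 : g ∈ Subgroup.normalizer (E : Set G₁) := by
      rw [Subgroup.normalizer_eq_top_iff.mpr hEn]; exact Subgroup.mem_top g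
    have h2 : g ∈ Subgroup.normalizer (Subgroup.zpowers y : Set G₁) := by
      refine Coprime.mem_normalizer_of_forall fun a ha => ?_
      obtain ⟨i, rfl⟩ := Subgroup.mem_zpowers_iff.mp ha
      rw [((Commute.self_pow g (2 ^ (e + 1))).zpow_right i).eq, mul_inv_cancel_right]
      exact zpow_mem (Subgroup.mem_zpowers _) i
    rw [Subgroup.mem_normalizer_iff_map_conj_eq] at h1 h2 ⊢
    rw [hN, Subgroup.map_commutator, h1, h2]
  -- the critical subgroup lies in the image of `N`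
  obtain ⟨q, Q, hq, hqp, hQ, hxQ, c1, c2, c3, hQne⟩ :=
    exists_critical_subgroup (hsepB.quotient _) (Cores.pCore_quotient_self 2 B) x hjx
  have : Fact q.Prime := ⟨hq⟩
  have hxy : x ^ 2 ^ (e + 1) = f₂ y := by rw [hy, map_pow, hgx]
  have hQE : Q ≤ E.map f₂ := by
    have hn : (E.map f₂).Normal := hEn.map f₂ hf₂s
    refine c3.trans ((Subgroup.closure_le _).mpr ?_)
    rintro _ ⟨a, -, rfl⟩
    have hy' : x ^ 2 ^ (e + 1) ∈ E.map f₂ := hxy ▸ Subgroup.mem_map_of_mem f₂ hyE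
    show ⁅a, x ^ 2 ^ (e + 1)⁆ ∈ E.map f₂
    rw [commutatorElement_def]
    exact mul_mem (hn.conj_mem _ hy' a) (inv_mem hy')
  have hQN : Q ≤ N.map f₂ := by
    refine c3.trans ((Subgroup.closure_le _).mpr ?_)
    rintro _ ⟨a, ha, rfl⟩
    obtain ⟨d, hd, rfl⟩ := hQE ha
    refine ⟨⁅d, y⁆, Subgroup.commutator_mem_commutator hd (Subgroup.mem_zpowers y), ?_⟩
    rw [map_commutatorElement, hxy]
  -- the invariant subspace
  let V₀ : AddSubgroup D₂.V :=
    { carrier := {w | ∃ v : Cfsg.pCore 2 B, (v : B) ∈ N.map fM ∧ D₂.pi v = w}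
      zero_mem' := ⟨1, one_mem _, D₂.pi_one⟩
      add_mem' := fun {a b} ⟨v, hv, hva⟩ ⟨w, hw, hwb⟩ =>
        ⟨v * w, mul_mem hv hw, by rw [D₂.pi_mul, hva, hwb]⟩
      neg_mem' := fun {a} ⟨v, hv, hva⟩ => ⟨v⁻¹, inv_mem hv, eq_neg_of_add_eq_zero_left (by
        rw [← hva, ← D₂.pi_mul, inv_mul_cancel, D₂.pi_one])⟩ }
  let V₃ : Submodule (ZMod 2) D₂.V := AddSubgroup.toZModSubmodule 2 V₀
  have hV₃ : ∀ {w}, w ∈ V₃ ↔ ∃ v : Cfsg.pCore 2 B, (v : B) ∈ N.map fM ∧ D₂.pi v = w := Iff.rfl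
  have hstab : ∀ a : G₁, a ∈ Subgroup.normalizer (N : Set G₁) → f₂ a ∈ stabSub D₂.ρ V₃ := by
    rintro a ha w hw
    obtain ⟨v, ⟨n, hn, hnv⟩, rfl⟩ := hV₃.mp hw
    refine hV₃.mpr ⟨⟨fM a * v * (fM a)⁻¹, D₂.normalInst.conj_mem v v.2 _⟩,
      ⟨a * n * a⁻¹, (Subgroup.mem_normalizer_iff.mp ha n).mp hn, ?_⟩, (D₂.pi_conj (fM a) v).symm⟩
    rw [map_mul, map_mul, map_inv, hnv]
  have hxS : x ∈ stabSub D₂.ρ V₃ := hgx ▸ hstab g hgN
  have hQS : Q ≤ stabSub D₂.ρ V₃ := fun a ha => by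
    obtain ⟨n, hn, rfl⟩ := hQN ha
    exact hstab n (Subgroup.le_normalizer hn)
  -- `Q` acts nontrivially on it
  have hne : ∃ a : stabSub D₂.ρ V₃, (a : B ⧸ Cfsg.pCore 2 B) ∈ Q ∧ restrictHom D₂.ρ V₃ a ≠ 1 := by
    obtain ⟨a, ha, ha1⟩ : ∃ a ∈ Q, a ≠ 1 := by
      by_contra hc
      push Not at hc
      exact hQne ((Subgroup.eq_bot_iff_forall Q).mpr hc)
    refine ⟨⟨a, hQS ha⟩, ha, fun h3 => ha1 ?_⟩
    obtain ⟨n, hn, hna⟩ := hQN ha
    have hsub : ∀ v : Cfsg.pCore 2 B, ∃ v' : Cfsg.pCore 2 B,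
        (v' : B) = fM n * v * (fM n)⁻¹ * (v : B)⁻¹ ∧ (D₂.ρ a - 1) (D₂.pi v) = D₂.pi v' := by
      intro v
      have hc := D₂.normalInst.conj_mem v v.2 (fM n)
      refine ⟨⟨fM n * v * (fM n)⁻¹, hc⟩ * v⁻¹, rfl, ?_⟩
      have h2 := D₂.pi_mul (⟨fM n * v * (fM n)⁻¹, hc⟩ * v⁻¹) v
      rw [inv_mul_cancel_right] at h2
      rw [LinearMap.sub_apply, Module.End.one_apply, ← hna]
      show D₂.ρ ((fM n : B) : B ⧸ Cfsg.pCore 2 B) (D₂.pi v) - D₂.pi v = _
      rw [D₂.pi_conj, h2, add_sub_cancel_right]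
    have h2 : ∀ v : Cfsg.pCore 2 B, (D₂.ρ a - 1) ((D₂.ρ a - 1) (D₂.pi v)) ∈ V₃ := by
      intro v
      obtain ⟨v₁, hv₁, e1⟩ := hsub v
      obtain ⟨v₂, hv₂, e2⟩ := hsub v₁
      rw [e1, e2]
      obtain ⟨u, hu⟩ := hfM (v : B)
      refine hV₃.mpr ⟨v₂, ⟨n * ⁅n, u⁆ * n⁻¹ * ⁅n, u⁆⁻¹, ?_, ?_⟩, rfl⟩
      · have hd : ⁅n, u⁆ ∈ E := by
          have hnE : n ∈ E := Subgroup.commutator_le_left E _ hn
          rw [commutatorElement_def, mul_assoc, mul_assoc]
          refine mul_mem hnE ?_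
          rw [← mul_assoc]
          exact hEn.conj_mem _ (inv_mem hnE) u
        rw [mul_assoc, mul_assoc, ← mul_assoc ⁅n, u⁆]
        exact mul_mem hn ((Subgroup.mem_normalizer_iff.mp (hEN hd) _).mp (inv_mem hn))
      · rw [hv₂, hv₁, ← hu]
        simp only [commutatorElement_def, map_mul, map_inv]
    have h3' : ∀ w ∈ V₃, D₂.ρ a w = w := fun w hw => by
      have h5 := congrArg (fun f : Module.End (ZMod 2) V₃ => ((f ⟨w, hw⟩ : V₃) : D₂.V)) h3
      exact h5
    have h4 : (D₂.ρ a - 1) ^ 2 ^ 2 = 0 := by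
      refine LinearMap.ext fun w => ?_
      obtain ⟨v, rfl⟩ := D₂.pi_surjective w
      rw [show (2 : ℕ) ^ 2 = 1 + (1 + (1 + 1)) from rfl]
      simp only [pow_add, pow_one, Module.End.mul_apply, LinearMap.zero_apply]
      rw [LinearMap.sub_apply (D₂.ρ a) 1 ((D₂.ρ a - 1) ((D₂.ρ a - 1) (D₂.pi v))),
        Module.End.one_apply, h3' _ (h2 v), sub_self, map_zero]
    rw [sub_one_pow_prime_pow, sub_eq_zero, ← map_pow] at h4
    have h5 : a ^ 2 ^ 2 = 1 := D₂.injective (h4.trans (map_one D₂.ρ).symm)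
    exact congrArg Subtype.val (PGroup.eq_one_of_pow_eq_one_coprime hQ (x := (⟨a, ha⟩ : Q))
      (((Nat.coprime_primes Nat.prime_two hq).mpr (Ne.symm hqp)).pow_left 2) (Subtype.ext h5))
  -- the key vanishing
  have hzero : ∀ w ∈ V₃, (((D₂.ρ x - 1) ^ (2 ^ e + (2 ^ (e + 1) - 1)) : Module.End (ZMod 2) D₂.V)) w = 0 := by
    intro w hw
    obtain ⟨v, ⟨n, hn, hnv⟩, rfl⟩ := hV₃.mp hw
    -- a lift in a common 2-subgroup
    set H := Subgroup.normalizer (N : Set G₁) with hH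
    have hgH : g ∈ H := hgN
    have hpg : IsPGroup 2 (Subgroup.zpowers (⟨g, hgH⟩ : H)) := by
      obtain ⟨k, hk⟩ := hg
      rintro ⟨z, hz⟩
      obtain ⟨i, rfl⟩ := Subgroup.mem_zpowers_iff.mp hz
      refine ⟨k, Subtype.ext (Subtype.ext ?_)⟩
      show ((g ^ i) ^ 2 ^ k : G₁) = 1
      rw [← zpow_natCast, ← zpow_mul, mul_comm, zpow_mul, zpow_natCast, hk, one_zpow]
    obtain ⟨P, hP⟩ := hpg.exists_le_sylow
    set N₁ := (N ⊓ M).subgroupOf H with hN₁
    have hN₁n : N₁.Normal := ⟨fun a ha r =>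
      ⟨(Subgroup.mem_normalizer_iff.mp r.2 (a : G₁)).mp ha.1,
        (inferInstance : M.Normal).conj_mem (a : G₁) ha.2 r⟩⟩
    have hN₀n : ((N ⊓ (Cfsg.pCore 2 B).comap fM).subgroupOf H).Normal := ⟨fun a ha r =>
      ⟨(Subgroup.mem_normalizer_iff.mp r.2 (a : G₁)).mp ha.1, by
        show fM ((r : G₁) * a * (r : G₁)⁻¹) ∈ Cfsg.pCore 2 B
        rw [map_mul, map_mul, map_inv]
        exact D₂.normalInst.conj_mem _ ha.2 _⟩⟩
    set N₀ := (N ⊓ (Cfsg.pCore 2 B).comap fM).subgroupOf H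
    set f' := QuotientGroup.mk' N₁
    have hf' : Function.Surjective f' := QuotientGroup.mk'_surjective N₁
    have himg : IsPGroup 2 (N₀.map f') := by
      rintro ⟨_, a, ha, rfl⟩
      obtain ⟨k, hk⟩ := Cores.isPGroup_pCore 2 B ⟨_, ha.2⟩
      refine ⟨k, Subtype.ext ?_⟩
      show f' a ^ 2 ^ k = 1
      rw [← map_pow]
      refine (QuotientGroup.eq_one_iff _).mpr ?_
      show ((a ^ 2 ^ k : H) : G₁) ∈ N ⊓ M
      rw [SubgroupClass.coe_pow]
      refine ⟨pow_mem ha.1 _, ?_⟩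
      show (a : G₁) ^ 2 ^ k ∈ M
      rw [← QuotientGroup.eq_one_iff, QuotientGroup.mk_pow]
      exact congrArg Subtype.val hk
    have hle : N₀.map f' ≤ (P.mapSurjective hf' : Subgroup _) :=
      (Cores.le_pCore (hN₀n.map f' hf') himg).trans (Cores.pCore_le_sylow _)
    obtain ⟨u, huP, hu⟩ : f' ⟨n, Subgroup.le_normalizer hn⟩ ∈ (P : Subgroup H).map f' := by
      have := hle (Subgroup.mem_map_of_mem f'
        (show (⟨n, Subgroup.le_normalizer hn⟩ : H) ∈ N₀ from ⟨hn, by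
          show fM n ∈ Cfsg.pCore 2 B
          rw [hnv]; exact v.2⟩))
      rwa [Sylow.coe_mapSurjective] at this
    obtain ⟨hu1, hu2⟩ : (u : G₁)⁻¹ * n ∈ N ⊓ M := (QuotientGroup.eq (s := N₁)).mp hu
    have huN : (u : G₁) ∈ N := by
      have h5 := N.mul_mem hn (N.inv_mem hu1)
      rwa [mul_inv_rev, inv_inv, mul_inv_cancel_left] at h5
    have huv : fM (u : G₁) = (v : B) := by
      rw [← hnv]
      exact QuotientGroup.eq.mpr hu2
    set P₁ := (P : Subgroup H).map H.subtype with hP₁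
    have hgP : g ∈ P₁ := ⟨_, hP (Subgroup.mem_zpowers _), rfl⟩
    have hugP : (u : G₁) * g ∈ P₁ := mul_mem ⟨u, huP, rfl⟩ hgP
    have hP₁2 : IsPGroup 2 P₁ := P.2.map _
    have hpel : ∃ k : ℕ, ((u : G₁) * g) ^ 2 ^ k = 1 := by
      obtain ⟨k, hk⟩ := hP₁2 ⟨_, hugP⟩
      exact ⟨k, congrArg Subtype.val hk⟩
    have hcomm : Commute (g ^ 2 ^ e) (((u : G₁) * g) ^ 2 ^ (e + 1)) :=
      commute_sq_pow_of_deficient hσi hsolv₁ hO₁ hP₁2 hgP hugP (hdef g hg) (hdef _ hpel)
        (by rw [mul_inv_cancel_right]; exact huN)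
    obtain ⟨hmem, hpi⟩ := D₂.pi_geom (fM g) v (2 ^ (e + 1))
    set W := ((v : B) * fM g) ^ 2 ^ (e + 1) * (fM g ^ 2 ^ (e + 1))⁻¹ with hW
    have hWg : W = fM (((u : G₁) * g) ^ 2 ^ (e + 1) * (g ^ 2 ^ (e + 1))⁻¹) := by
      rw [hW, map_mul, map_inv, map_pow, map_pow, map_mul, huv]
    have hfix : fM g ^ 2 ^ e * W * (fM g ^ 2 ^ e)⁻¹ = W := by
      rw [hWg, ← map_pow, ← map_inv, ← map_mul, ← map_mul]
      refine congrArg fM ?_
      have h3 : Commute (g ^ 2 ^ e) (((u : G₁) * g) ^ 2 ^ (e + 1) * (g ^ 2 ^ (e + 1))⁻¹) :=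
        hcomm.mul_right (Commute.pow_pow_self g _ _).inv_right
      rw [h3.eq, mul_inv_cancel_right]
    have hrho : D₂.ρ ((fM g ^ 2 ^ e : B) : B ⧸ Cfsg.pCore 2 B) (D₂.pi ⟨W, hmem⟩) =
        D₂.pi ⟨W, hmem⟩ := by
      rw [D₂.pi_conj]
      exact D₂.pi_eq_of_eq hfix
    rw [← hgx]
    show ((((D₂.ρ ((fM g : B) : B ⧸ Cfsg.pCore 2 B) - 1) ^ (2 ^ e + (2 ^ (e + 1) - 1)) :
      Module.End (ZMod 2) D₂.V))) (D₂.pi v) = 0
    rw [pow_add, Module.End.mul_apply, sub_one_pow_eq_geom, sub_one_pow_prime_pow, ← hpi,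
      LinearMap.sub_apply, Module.End.one_apply, sub_eq_zero, ← map_pow, ← QuotientGroup.mk_pow]
    exact hrho
  -- the bound on the invariant subspace
  set S := stabSub D₂.ρ V₃
  set ρ₃ := restrictHom D₂.ρ V₃
  obtain ⟨K₃, _, _, _, d₃, τ, hτ, hτr, -⟩ := exists_algClosed_rep (p := 2) ρ₃
  let z : S := ⟨x, hxS⟩
  set Q₃ := Q.subgroupOf S with hQ₃
  have hzQ : z ∈ Subgroup.normalizer (Q₃ : Set S) := by
    rw [Subgroup.mem_normalizer_iff]
    exact fun a => Subgroup.mem_normalizer_iff.mp hxQ (a : B ⧸ Cfsg.pCore 2 B)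
  have hzy : ((z ^ 2 ^ (e + 1) : S) : B ⧸ Cfsg.pCore 2 B) = x ^ 2 ^ (e + 1) :=
    SubgroupClass.coe_pow z _
  have hpowS : ∀ (i : ℕ) (w : V₃), ((((ρ₃ z - 1) ^ i) w : V₃) : D₂.V) = ((D₂.ρ x - 1) ^ i) w := by
    intro i
    induction i with
    | zero => intro w; rfl
    | succ i ih =>
      intro w
      rw [pow_succ', pow_succ', Module.End.mul_apply, Module.End.mul_apply, ← ih]
      simp only [LinearMap.sub_apply, Module.End.one_apply, Submodule.coe_sub]
      rfl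
  obtain ⟨a₀, ha₀, ha₀1⟩ := hne
  rcases bound_algClosed τ Q₃ z hzQ (n := e + 1)
      (Subtype.ext (by rw [SubgroupClass.coe_pow]; exact orderOf_dvd_iff_pow_eq_one.mp hjx.dvd))
      hq hqp hQ.comap_subtype
      (fun a ha b hb => Subtype.ext (by
        have h5 := (c1 (a : B ⧸ Cfsg.pCore 2 B) ha (b : B ⧸ Cfsg.pCore 2 B) hb).eq
        simp only [Subgroup.coe_mul, hzy, commutatorElement_def, Subgroup.coe_inv]
        rwa [commutatorElement_def] at h5))
      (fun c hc hcy a ha => Subtype.ext (c2 (c : B ⧸ Cfsg.pCore 2 B) hc (by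
        have h5 := congrArg Subtype.val hcy.eq
        simp only [Subgroup.coe_mul, hzy] at h5
        exact h5) (a : B ⧸ Cfsg.pCore 2 B) ha).eq)
      (by
        intro a ha
        have h5 : (a : B ⧸ Cfsg.pCore 2 B) ∈ (Subgroup.closure
            ((fun g => ⁅g, z ^ 2 ^ (e + 1)⁆) '' (Q₃ : Set S))).map S.subtype := by
          rw [MonoidHom.map_closure, Set.image_image]
          refine Subgroup.closure_mono ?_ (c3 ha)
          rintro _ ⟨b, hb, rfl⟩
          refine ⟨⟨b, hQS hb⟩, hb, ?_⟩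
          show S.subtype ⁅(⟨b, hQS hb⟩ : S), z ^ 2 ^ (e + 1)⁆ = ⁅b, x ^ 2 ^ (e + 1)⁆
          rw [Subgroup.coe_subtype, commutatorElement_def, commutatorElement_def]
          simp [hzy]
        obtain ⟨b, hb, hba⟩ := h5
        rwa [← Subtype.ext hba])
      ⟨a₀, ha₀, fun h => ha₀1 (hτ a₀ h)⟩ (r := 2 ^ e + (2 ^ (e + 1) - 1))
      (hτr z _ (LinearMap.ext fun w => Subtype.ext (by rw [hpowS, hzero w w.2]; rfl)))
    with h | ⟨n₀, m, -, a2, a3, a4, a5, -, -⟩
  · have h4 : 2 ^ (e + 1 + 1) = 4 * 2 ^ e := by ring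
    have h5 : 2 ^ (e + 1) = 2 * 2 ^ e := by ring
    have := pow_pos (two_pos (α := ℕ)) e
    omega
  · obtain ⟨-, hn₀, -⟩ := mersenne_prime_pow hq a3 a4
    rw [Nat.mul_sub, mul_one, ← pow_add, show e + 1 + 1 - n₀ + n₀ = e + 1 + 1 by omega] at a5
    have h6 : 2 ^ (e + 1 + 1 - n₀) ≤ 2 ^ e := Nat.pow_le_pow_right two_pos (by omega)
    have h4 : 2 ^ (e + 1 + 1) = 4 * 2 ^ e := by ring
    have h5 : 2 ^ (e + 1) = 2 * 2 ^ e := by ring
    have := pow_pos (two_pos (α := ℕ)) e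
    omega

theorem pLengthLE_double_two : ∀ (e : ℕ) (G : Type u) [Group G] [Finite G],
    Group.IsSolvable G → PExpDvd 2 (e + 1) G → Cfsg.PLengthLE 2 (2 * e + 1) G := by
  have : Fact (Nat.Prime 2) := ⟨Nat.prime_two⟩
  intro e
  induction e with
  | zero =>
    intro G _ _ hsolv hexp
    have hN : (Cfsg.pCore 2 (G ⧸ Cfsg.pPrimeCore 2 G)).Normal := Cores.pCore_normal 2 _
    refine pLengthLE_step G (pLengthLE_zero ?_)
    set A := G ⧸ Cfsg.pPrimeCore 2 G
    have : Group.IsSolvable A := solvable_of_surjective (QuotientGroup.mk'_surjective _)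
    have hA : PExpDvd 2 1 A := hexp.of_surjective _ (QuotientGroup.mk'_surjective _)
    intro x hx
    obtain ⟨a, rfl, k, hk⟩ := exists_pElement_preimage _ (QuotientGroup.mk'_surjective _) hx
    rw [pow_zero, pow_one]
    refine (QuotientGroup.eq_one_iff a).mpr (Solvable.centralizer_pCore_le
      (Solvable.isPiSeparable_of_isSolvable _) (Cores.pPrimeCore_quotient_self 2)
      (Subgroup.mem_centralizer_iff.mpr fun b hb => ?_))
    have hpg : IsPGroup 2 (Subgroup.zpowers a) := by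
      rintro ⟨z, hz⟩
      obtain ⟨i, rfl⟩ := Subgroup.mem_zpowers_iff.mp hz
      exact ⟨k, Subtype.ext (show (a ^ i) ^ 2 ^ k = 1 by
        rw [← zpow_natCast, ← zpow_mul, mul_comm, zpow_mul, zpow_natCast, hk, one_zpow])⟩
    obtain ⟨P, hP⟩ := hpg.exists_le_sylow
    have hel : ∀ z ∈ (P : Subgroup A), z * z = 1 := fun z hz => by
      obtain ⟨i, hi⟩ := P.2 ⟨z, hz⟩
      rw [← sq]
      exact hA z ⟨i, congrArg Subtype.val hi⟩
    have hbP : b ∈ (P : Subgroup A) := Cores.pCore_le_sylow P hb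
    have haP : a ∈ (P : Subgroup A) := hP (Subgroup.mem_zpowers a)
    have h1 := hel _ (mul_mem hbP haP)
    calc b * a = (b * a)⁻¹ := eq_inv_of_mul_eq_one_left h1
      _ = a⁻¹ * b⁻¹ := mul_inv_rev b a
      _ = a * b := by
        rw [inv_eq_of_mul_eq_one_right (hel a haP), inv_eq_of_mul_eq_one_right (hel b hbP)]
  | succ e ih =>
    intro G _ _ hsolv hexp
    have hN : (Cfsg.pCore 2 (G ⧸ Cfsg.pPrimeCore 2 G)).Normal := Cores.pCore_normal 2 _
    set A := G ⧸ Cfsg.pPrimeCore 2 G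
    have hN₁ : (Cfsg.pCore 2 ((A ⧸ Cfsg.pCore 2 A) ⧸ Cfsg.pPrimeCore 2 (A ⧸ Cfsg.pCore 2 A))).Normal :=
      Cores.pCore_normal 2 _
    have : Group.IsSolvable A := solvable_of_surjective (QuotientGroup.mk'_surjective _)
    rw [show 2 * (e + 1) + 1 = 2 * e + 1 + 1 + 1 by ring]
    refine pLengthLE_step G (pLengthLE_step (A ⧸ Cfsg.pCore 2 A) (ih _ ?_ ?_))
    · have h1 : Group.IsSolvable (A ⧸ Cfsg.pCore 2 A) :=
        solvable_of_surjective (QuotientGroup.mk'_surjective _)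
      have h2 : Group.IsSolvable ((A ⧸ Cfsg.pCore 2 A) ⧸ Cfsg.pPrimeCore 2 (A ⧸ Cfsg.pCore 2 A)) :=
        solvable_of_surjective (QuotientGroup.mk'_surjective _)
      exact solvable_of_surjective (QuotientGroup.mk'_surjective _)
    · exact pExpDvd_double_two inferInstance (Cores.pPrimeCore_quotient_self 2)
        (hexp.of_surjective _ (QuotientGroup.mk'_surjective _))

end Cfsg.Agent.HallHigman
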