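/-
Odd groups of form-preserving automorphisms of a plane of prime characteristic `q`, normalised by
an element whose `2^N`-th power is inversion, `q + 1 = 2^(N+1)` (helper3).

Main results (namespace `Cfsg.Agent.Gross`):
* eq_bot_on_plane
-/
import Cfsg.Agent.Lib.Kulakoff.Elementary
import Cfsg.Agent.Lib.HallHigman.DeficientTwo

set_option autoImplicit false

namespace Cfsg.Agent.Gross

open HallHigman

variable {P : Type*} [CommGroup P] [Finite P] {q : ℕ} [hq : Fact q.Prime]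

/-- The lines of the plane. -/
abbrev Line (P : Type*) [Group P] (q : ℕ) : Type _ := {L : Subgroup P // Nat.card L = q}

theorem exists_gen_line (hexp : ∀ u : P, u ^ q = 1) (L : Line P q) :
    ∃ u : P, u ≠ 1 ∧ Subgroup.zpowers u = L.1 ∧ ∀ x ∈ L.1, ∀ y ∈ L.1, y ≠ 1 → ∃ k : ℕ, y ^ k = x := by
  have hgen : ∀ y ∈ L.1, y ≠ 1 → Subgroup.zpowers y = L.1 := fun y hy hy1 =>
    Subgroup.eq_of_le_of_card_ge (Subgroup.zpowers_le.mpr hy)
      (by rw [L.2, Nat.card_zpowers, orderOf_eq_prime (hexp y) hy1])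
  obtain ⟨u, hu, hu1⟩ : ∃ u ∈ L.1, u ≠ 1 := by
    by_contra h
    push Not at h
    have h1 := L.2
    rw [(Subgroup.eq_bot_iff_forall _).mpr h, Subgroup.card_bot] at h1
    exact hq.out.one_lt.ne h1
  exact ⟨u, hu1, hgen u hu hu1, fun x hx y hy hy1 =>
    (isOfFinOrder_of_finite y).mem_powers_iff_mem_zpowers.mpr ((hgen y hy hy1).symm ▸ hx)⟩

theorem line_map_le (hexp : ∀ u : P, u ^ q = 1) {L L' : Line P q} (h : L.1 ≤ L'.1) : L = L' :=
  Subtype.ext (Subgroup.eq_of_le_of_card_ge h (by rw [L.2, L'.2]))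

/-- An automorphism fixing three lines is a scalar. -/
theorem exists_scalar_of_three (hcard : Nat.card P = q ^ 2) (hexp : ∀ u : P, u ^ q = 1)
    (r : MulAut P) {L₁ L₂ L₃ : Line P q} (h12 : L₁ ≠ L₂) (h13 : L₁ ≠ L₃) (h23 : L₂ ≠ L₃)
    (h₁ : ∀ x ∈ L₁.1, r x ∈ L₁.1) (h₂ : ∀ x ∈ L₂.1, r x ∈ L₂.1) (h₃ : ∀ x ∈ L₃.1, r x ∈ L₃.1) :
    ∃ c : ℕ, ∀ u, r u = u ^ c := by
  classical
  have hd : ∀ x, x ∈ L₁.1 → x ∈ L₂.1 → x = 1 := by
    intro x hx1 hx2
    by_contra hx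
    refine h12 (line_map_le hexp fun y hy => ?_)
    obtain ⟨-, -, -, hpow⟩ := exists_gen_line hexp L₁
    obtain ⟨k, rfl⟩ := hpow y hy x hx1 hx
    exact pow_mem hx2 k
  let f : L₁.1 × L₂.1 → P := fun z => (z.1 : P) * z.2
  have hinj : Function.Injective f := by
    rintro ⟨⟨a, ha⟩, ⟨b, hb⟩⟩ ⟨⟨a', ha'⟩, ⟨b', hb'⟩⟩ h
    have h' : a * b = a' * b' := h
    have e : a'⁻¹ * a = b' * b⁻¹ := by
      rw [eq_mul_inv_iff_mul_eq, mul_assoc, h', inv_mul_cancel_left]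
    have h1 := hd (a'⁻¹ * a) (mul_mem (inv_mem ha') ha) (e ▸ mul_mem hb' (inv_mem hb))
    have h2 : a = a' := (inv_mul_eq_one.mp h1).symm
    subst h2
    exact Prod.ext rfl (Subtype.ext (mul_left_cancel h'))
  have hsurj : Function.Surjective f := (hinj.bijective_of_nat_card_le (by
    rw [Nat.card_prod, L₁.2, L₂.2, hcard, sq])).2
  obtain ⟨w, hw, hwgen, -⟩ := exists_gen_line hexp L₃
  obtain ⟨⟨⟨x₁, hx₁⟩, ⟨x₂, hx₂⟩⟩, hx⟩ := hsurj w
  have hx' : x₁ * x₂ = w := hx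
  have hwL : w ∈ L₃.1 := hwgen ▸ Subgroup.mem_zpowers w
  have hgen3 : ∀ {L : Line P q}, w ∈ L.1 → L₃ = L := fun {L} h =>
    line_map_le hexp (hwgen ▸ Subgroup.zpowers_le.mpr h)
  have hx₁1 : x₁ ≠ 1 := fun h => h23 (hgen3 (by rw [← hx', h, one_mul]; exact hx₂)).symm
  have hx₂1 : x₂ ≠ 1 := fun h => h13 (hgen3 (by rw [← hx', h, mul_one]; exact hx₁)).symm
  obtain ⟨-, -, -, hp1⟩ := exists_gen_line hexp L₁
  obtain ⟨-, -, -, hp2⟩ := exists_gen_line hexp L₂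
  obtain ⟨-, -, -, hp3⟩ := exists_gen_line hexp L₃
  obtain ⟨c, hc⟩ := hp3 _ (h₃ w hwL) w hwL hw
  obtain ⟨a, ha⟩ := hp1 _ (h₁ x₁ hx₁) x₁ hx₁ hx₁1
  obtain ⟨b, hb⟩ := hp2 _ (h₂ x₂ hx₂) x₂ hx₂ hx₂1
  have h := hinj (a₁ := (⟨_, pow_mem hx₁ a⟩, ⟨_, pow_mem hx₂ b⟩))
    (a₂ := (⟨_, pow_mem hx₁ c⟩, ⟨_, pow_mem hx₂ c⟩)) (by
      show x₁ ^ a * x₂ ^ b = x₁ ^ c * x₂ ^ c
      rw [← mul_pow, hx', hc, ha, hb, ← map_mul, hx'])
  obtain ⟨h1, h2⟩ := Prod.ext_iff.mp h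
  have hr1 : r x₁ = x₁ ^ c := ha.symm.trans (congrArg Subtype.val h1)
  have hr2 : r x₂ = x₂ ^ c := hb.symm.trans (congrArg Subtype.val h2)
  refine ⟨c, fun u => ?_⟩
  obtain ⟨⟨⟨y₁, hy₁⟩, ⟨y₂, hy₂⟩⟩, rfl⟩ := hsurj u
  show r (y₁ * y₂) = (y₁ * y₂) ^ c
  obtain ⟨i, rfl⟩ := hp1 y₁ hy₁ x₁ hx₁ hx₁1
  obtain ⟨j, rfl⟩ := hp2 y₂ hy₂ x₂ hx₂ hx₂1
  rw [map_mul, map_pow, map_pow, hr1, hr2, mul_pow, ← pow_mul, ← pow_mul, ← pow_mul, ← pow_mul,
    mul_comm c i, mul_comm c j]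

/-- The odd group is trivial. -/
theorem eq_bot_on_plane (hcard : Nat.card P = q ^ 2) (hexp : ∀ u : P, u ^ q = 1) {N : ℕ}
    (hN : 1 ≤ N) (hqN : q + 1 = 2 ^ (N + 1)) {s : ℕ} [hs : Fact s.Prime] (hs2 : s ≠ 2) (hsq : s ≠ q)
    {R : Subgroup (MulAut P)} (hR : IsPGroup s R) {Z : MulAut P}
    (hZR : Z ∈ Subgroup.normalizer (R : Set (MulAut P))) (hZ : ∀ u, (Z ^ 2 ^ N) u = u⁻¹)
    (hscal : ∀ r ∈ R, ∀ i : ℕ, (∀ u, r u = u ^ i) → i * i % q = 1) : ∀ r ∈ R, r = 1 := by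
  classical
  have hq4 : q % 4 = 3 := by
    obtain ⟨M, rfl⟩ : ∃ M, N = M + 1 := ⟨N - 1, by omega⟩
    rw [pow_succ, pow_succ] at hqN
    omega
  have hΛ : Nat.card (Line P q) = q + 1 := by
    have h := Kulakoff.card_order_prime_mul hq.out hexp
    rw [hcard] at h
    have h2 := hq.out.two_le
    obtain ⟨k, hk⟩ : ∃ k, q = k + 2 := ⟨q - 2, by omega⟩
    rw [show q ^ 2 = (q - 1) * (q + 1) + 1 by subst hk; rw [show k + 2 - 1 = k + 1 by omega]; ring,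
      Nat.add_right_cancel_iff] at h
    exact Nat.eq_of_mul_eq_mul_left (by omega) h
  have hmap : ∀ (r : MulAut P) (L : Line P q), Nat.card (L.1.map r.toMonoidHom) = q := fun r L => by
    rw [Subgroup.card_map_of_injective r.injective]; exact L.2
  let act : MulAction R (Line P q) :=
    { smul := fun r L => ⟨L.1.map (r : MulAut P).toMonoidHom, hmap r L⟩
      one_smul := fun L => Subtype.ext (Subgroup.map_id L.1)
      mul_smul := fun r r' L => Subtype.ext (by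
        show L.1.map ((r * r' : R) : MulAut P).toMonoidHom =
          (L.1.map (r' : MulAut P).toMonoidHom).map (r : MulAut P).toMonoidHom
        rw [Subgroup.map_map]
        rfl) }
  set Φ := MulAction.fixedPoints R (Line P q) with hΦdef
  have hΦ : ∀ {L : Line P q}, L ∈ Φ ↔ ∀ r ∈ R, ∀ x ∈ L.1, r x ∈ L.1 := by
    intro L
    constructor
    · intro h r hr x hx
      have h1 := congrArg Subtype.val (h ⟨r, hr⟩)
      exact h1 ▸ ⟨x, hx, rfl⟩
    · intro h r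
      refine line_map_le hexp ?_
      rintro _ ⟨x, hx, rfl⟩
      exact h r r.2 x hx
  have hthree : (∃ L₁ ∈ Φ, ∃ L₂ ∈ Φ, ∃ L₃ ∈ Φ, L₁ ≠ L₂ ∧ L₁ ≠ L₃ ∧ L₂ ≠ L₃) := by
    have hmod := hR.card_modEq_card_fixedPoints (Line P q)
    rw [hΛ, ← hΦdef] at hmod
    by_contra hcon
    rcases hN.eq_or_lt with h1 | h1
    · -- `q = 3`
      subst h1
      have hs5 : 5 ≤ s := by
        have h2 := hs.out.two_le
        by_contra h5
        interval_cases s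
        · exact hs2 rfl
        · exact hsq (by norm_num at hqN ⊢; omega)
        · exact absurd hs.out (by norm_num)
      have h4 : q + 1 = 4 := by simpa using hqN
      have hle : Nat.card Φ ≤ 4 := h4 ▸ hΛ ▸ Finite.card_subtype_le _
      rw [h4] at hmod
      have h5 : Nat.card Φ = 4 := by
        have := hmod.symm.eq_of_lt_of_lt (show Nat.card Φ < s by omega) (show 4 < s by omega)
        exact this
      have h6 : 2 < Φ.toFinite.toFinset.card := by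
        rw [← Nat.card_eq_card_finite_toFinset, h5]; norm_num
      obtain ⟨a, b, c, ha, hb, hc, h⟩ := Finset.two_lt_card_iff.mp h6
      exact hcon ⟨a, Φ.toFinite.mem_toFinset.mp ha, b, Φ.toFinite.mem_toFinset.mp hb, c,
        Φ.toFinite.mem_toFinset.mp hc, h⟩
    -- `Z^2` fixes a line of `Φ`
    have hne : Φ.Nonempty := by
      by_contra h
      rw [Set.not_nonempty_iff_eq_empty] at h
      rw [h, Nat.card_eq_zero.mpr (Or.inl inferInstance), hqN] at hmod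
      exact hs2 ((Nat.prime_dvd_prime_iff_eq hs.out Nat.prime_two).mp
        (hs.out.dvd_of_dvd_pow (Nat.modEq_zero_iff_dvd.mp hmod)))
    obtain ⟨L, hL⟩ := hne
    let T : Line P q → Line P q := fun L => ⟨L.1.map Z.toMonoidHom, hmap Z L⟩
    have hT : ∀ {L}, L ∈ Φ → T L ∈ Φ := fun {L} hL => hΦ.mpr fun r hr x hx => by
      obtain ⟨y, hy, rfl⟩ := hx
      refine ⟨(Z⁻¹ * r * Z) y, hΦ.mp hL _ (conj_mem_of_normalizer hZR hr) y hy, ?_⟩
      show Z ((Z⁻¹ * r * Z) y) = r (Z y)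
      rw [MulAut.mul_apply, MulAut.mul_apply, MulAut.apply_inv_self]
    have hTinj : Function.Injective T := fun A B h =>
      Subtype.ext (Subgroup.map_injective Z.injective (congrArg Subtype.val h))
    have hT2 : T (T L) = L := by
      by_contra h
      refine hcon ⟨L, hL, T L, hT hL, T (T L), hT (hT hL), fun e => h ?_, Ne.symm h, fun e => h ?_⟩
      · rw [← e]; exact e.symm
      · have := hTinj e
        rw [← this]; exact this.symm
    obtain ⟨u, hu, hug, hpow⟩ := exists_gen_line hexp L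
    have huL : u ∈ L.1 := hug ▸ Subgroup.mem_zpowers u
    have hZ2 : (Z ^ 2) u ∈ L.1 := by
      have h2 : (Z ^ 2) u ∈ (T (T L)).1 := ⟨Z u, ⟨u, huL, rfl⟩, by rw [sq]; rfl⟩
      rwa [hT2] at h2
    obtain ⟨j, hj⟩ := hpow _ hZ2 u huL hu
    have hiter : ∀ m : ℕ, ((Z ^ 2) ^ m) u = u ^ j ^ m := by
      intro m
      induction m with
      | zero => simp
      | succ m ih => rw [pow_succ', MulAut.mul_apply, ih, map_pow, ← hj, ← pow_mul, pow_succ']
    obtain ⟨M, rfl⟩ : ∃ M, N = M + 2 := ⟨N - 2, by omega⟩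
    have h2 := hZ u
    rw [show 2 ^ (M + 2) = 2 * 2 ^ (M + 1) by ring, pow_mul, hiter, eq_inv_iff_mul_eq_one,
      ← pow_succ] at h2
    have h3 := orderOf_dvd_of_pow_eq_one h2
    rw [orderOf_eq_prime (hexp u) hu, show j ^ 2 ^ (M + 1) = j ^ 2 ^ M * j ^ 2 ^ M by
      rw [← pow_add]; congr 1; rw [pow_succ]; ring] at h3
    exact not_dvd_sq_add_one hq4 _ h3
  obtain ⟨L₁, h₁, L₂, h₂, L₃, h₃, h12, h13, h23⟩ := hthree
  intro r hr
  obtain ⟨c, hc⟩ := exists_scalar_of_three hcard hexp r h12 h13 h23 (hΦ.mp h₁ r hr) (hΦ.mp h₂ r hr)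
    (hΦ.mp h₃ r hr)
  have hcc := hscal r hr c hc
  have hr2 : r ^ 2 = 1 := MulEquiv.ext fun u => by
    rw [sq, MulAut.mul_apply, hc u, map_pow, hc u, ← pow_mul, MulAut.one_apply,
      ← Nat.mod_add_div (c * c) q, hcc, pow_add, pow_one, pow_mul, hexp u, one_pow, mul_one]
  obtain ⟨k, hk⟩ := hR ⟨r, hr⟩
  exact orderOf_eq_one_iff.mp (Nat.eq_one_of_dvd_coprimes
    (((Nat.coprime_primes hs.out Nat.prime_two).mpr hs2).pow_left k)
    (orderOf_dvd_of_pow_eq_one (congrArg Subtype.val hk)) (orderOf_dvd_of_pow_eq_one hr2))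

end Cfsg.Agent.Gross
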