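/-
A fixed-point-free element of 2-power order: the key step of Gross's theorem (helper3).

Main results (namespace `Cfsg.Agent.Gross`):
* false_of_noncentral
-/
import Cfsg.Agent.Lib.HallHigman.GrossTwoModule
import Cfsg.Agent.Lib.HallHigman.PlaneTrivial
import Cfsg.Agent.Lib.HallHigman.DeficientCommute
import Cfsg.Agent.Lib.HallHigman.PLengthTwo
import Cfsg.Agent.Lib.HallHigman.FrattiniModule

set_option autoImplicit false
set_option maxHeartbeats 1600000

namespace Cfsg.Agent.Gross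

open Module HallHigman
open scoped commutatorElement

section

variable {G : Type*} [Group G]

theorem comm_pow_left {a b : G} (h : Commute ⁅a, b⁆ a) : ∀ i : ℕ, ⁅a ^ i, b⁆ = ⁅a, b⁆ ^ i := by
  intro i
  induction i with
  | zero => simp
  | succ i ih =>
    rw [pow_succ, commutatorElement_mul_left_eq_conj_mul, (h.pow_right i).symm.eq,
      mul_inv_cancel_right, ih, pow_succ']

theorem comm_pow_right {a b : G} (h : Commute ⁅a, b⁆ b) : ∀ i : ℕ, ⁅a, b ^ i⁆ = ⁅a, b⁆ ^ i := by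
  intro i
  induction i with
  | zero => simp
  | succ i ih =>
    rw [pow_succ, commutatorElement_mul_right_eq_mul_conj, ih, mul_assoc _ (b ^ i),
      (h.pow_right i).symm.eq, ← mul_assoc, mul_inv_cancel_right, pow_succ]

end

variable {F : Type*} [Field F] [IsAlgClosed F] {V : Type*} [AddCommGroup V] [Module F V]
  [FiniteDimensional F V] {G : Type*} [Group G] [Finite G]

/-- `[S, y]` centralises `C`. -/
theorem false_of_noncentral (h2F : (2 : F) ≠ 0) {ρ : G →* Module.End F V}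
    (hρ : Function.Injective ρ) {x : G} {n : ℕ} (hxn : x ^ 2 ^ (n + 1) = 1)
    (hfpf : ∀ v, ρ x v = v → v = 0) {q s : ℕ} [hq : Fact q.Prime] [hs : Fact s.Prime]
    (hqF : (q : F) ≠ 0) (hq2 : q ≠ 2) (hs2 : s ≠ 2) (hsq : s ≠ q) {C : Subgroup G} [hCn : C.Normal]
    (hCq : IsPGroup q C) (hC : ∀ a ∈ C, ∀ b ∈ C, ∀ c ∈ C, Commute ⁅a, b⁆ c)
    (hCpow : ∀ c ∈ C, ∀ d ∈ C, Commute (c ^ q) d) (hfixC : ∀ c ∈ C, x * c * x⁻¹ = c → c = 1)
    {S : Subgroup G} (hS : IsPGroup s S) (hxS : x ∈ Subgroup.normalizer (S : Set G)) :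
    ∀ b ∈ ⁅S, Subgroup.zpowers (x ^ 2 ^ n)⁆, ∀ c ∈ C, Commute b c := by
  classical
  intro b₀ hb₀ c₀ hc₀
  by_contra hbc
  have : Fact (Nat.Prime 2) := ⟨Nat.prime_two⟩
  have hNC : ∀ g : G, g ∈ Subgroup.normalizer (C : Set G) := fun g => by
    rw [Subgroup.normalizer_eq_top_iff.mpr hCn]; exact Subgroup.mem_top g
  set y := x ^ 2 ^ n with hy
  have hy2 : y ^ 2 ^ 1 = 1 := by rw [hy, ← pow_mul, ← pow_add, hxn]
  set A := Subgroup.zpowers y with hA
  -- the centre
  set Zc := C ⊓ Subgroup.centralizer (C : Set G) with hZc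
  have hZn : Zc.Normal := inferInstance
  have hyZ : ∀ z ∈ Zc, Commute y z :=
    commute_abelian_of_fpf (p := 2) (by exact_mod_cast h2F) hρ hxn hfpf hqF hq2 (hCq.to_le inf_le_left)
      (fun a ha b hb => (Subgroup.mem_centralizer_iff.mp hb.2 a ha.1))
      (by rw [Subgroup.normalizer_eq_top_iff.mpr hZn]; exact Subgroup.mem_top x)
  have hcommZ : ∀ a ∈ C, ∀ b ∈ C, ⁅a, b⁆ ∈ Zc := fun a ha b hb => Subgroup.mem_inf.mpr
    ⟨C.mul_mem (C.mul_mem (C.mul_mem ha hb) (C.inv_mem ha)) (C.inv_mem hb),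
      Subgroup.mem_centralizer_iff.mpr fun c hc => (hC a ha b hb c hc).symm.eq⟩
  have hyc : ∀ a ∈ C, ∀ b ∈ C, Commute y ⁅a, b⁆ := fun a ha b hb => hyZ _ (hcommZ a ha b hb)
  have hZK : ∀ U, Zc ≤ centralMod ρ C hC U := fun U z hz => ⟨hz.1, fun d hd u _ => by
    rw [commutatorElement_eq_one_iff_commute.mpr
      (show Commute z d from (Subgroup.mem_centralizer_iff.mp hz.2 d hd).symm)]
    simp⟩
  -- the normal subgroup `D`
  let Nm : Subgroup G := ⨅ U : {U : Submodule F V // IsSimpleInv ρ C U},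
    Subgroup.normalizer (centralMod ρ C hC U.1 : Set G)
  have hNm : Nm.Normal := by
    refine ⟨fun a ha t => Subgroup.mem_iInf.mpr fun U => Coprime.mem_normalizer_of_forall fun c hc => ?_⟩
    have h1 := Subgroup.mem_iInf.mp ha ⟨_, U.2.map (hNC t⁻¹)⟩
    have hc' := centralMod_conj (hNC t⁻¹) hc
    have h2 := (Subgroup.mem_normalizer_iff.mp h1 _).mp hc'
    have h3 := centralMod_conj (hNC t) h2
    rw [map_map_rho, mul_inv_cancel, map_one, Module.End.one_eq_id, Submodule.map_id] at h3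
    convert h3 using 1
    group
  set D := Subgroup.centralizer (Zc : Set G) ⊓ Nm with hD
  have hDn : D.Normal := inferInstance
  have hyD : y ∈ D := Subgroup.mem_inf.mpr ⟨Subgroup.mem_centralizer_iff.mpr fun z hz =>
    (hyZ z hz).symm.eq, Subgroup.mem_iInf.mpr fun U =>
      mem_normalizer_centralMod (pow_mem (hNC x) _) (Or.inl hyc)⟩
  -- the module `C / Z(C)`
  set Z' := Zc.subgroupOf C with hZ'
  have hZ'n : Z'.Normal := inferInstance
  have hcomm : ∀ a b : C ⧸ Z', a * b = b * a := by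
    intro a b
    induction a using QuotientGroup.induction_on with | _ a => ?_
    induction b using QuotientGroup.induction_on with | _ b => ?_
    rw [← QuotientGroup.mk_mul, ← QuotientGroup.mk_mul, QuotientGroup.eq]
    show ((a * b : C) : G)⁻¹ * ((b * a : C) : G) ∈ Zc
    have h1 := hcommZ (b : G)⁻¹ (C.inv_mem b.2) (a : G)⁻¹ (C.inv_mem a.2)
    simpa [commutatorElement_def, mul_assoc] using h1
  letI : CommGroup (C ⧸ Z') :=
    { (inferInstance : Group (C ⧸ Z')) with mul_comm := hcomm }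
  have hexpQ : ∀ a : C ⧸ Z', a ^ q = 1 := fun a => by
    induction a using QuotientGroup.induction_on with | _ a => ?_
    rw [← QuotientGroup.mk_pow, QuotientGroup.eq_one_iff]
    refine Subgroup.mem_inf.mpr ⟨(a ^ q).2, Subgroup.mem_centralizer_iff.mpr fun d hd => ?_⟩
    show d * ((a ^ q : C) : G) = ((a ^ q : C) : G) * d
    rw [SubgroupClass.coe_pow]
    exact (hCpow a a.2 d hd).symm.eq
  have hZ'map : ∀ g : G, Z'.map (MulAut.conjNormal g : MulAut C).toMonoidHom = Z' := fun g => by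
    refine le_antisymm ?_ fun a ha => ⟨MulAut.conjNormal g⁻¹ a, ?_, ?_⟩
    · rintro _ ⟨a, ha, rfl⟩
      show ((MulAut.conjNormal g a : C) : G) ∈ Zc
      rw [MulAut.conjNormal_apply]
      exact hZn.conj_mem _ ha g
    · show ((MulAut.conjNormal g⁻¹ a : C) : G) ∈ Zc
      rw [MulAut.conjNormal_apply]
      exact hZn.conj_mem _ ha g⁻¹
    · show MulAut.conjNormal g (MulAut.conjNormal g⁻¹ a) = a
      rw [← MulAut.mul_apply, ← map_mul, mul_inv_cancel, map_one, MulAut.one_apply]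
  let act : G →* MulAut (C ⧸ Z') :=
    { toFun := fun g => QuotientGroup.congr _ _ (MulAut.conjNormal g) (hZ'map g)
      map_one' := MulEquiv.ext fun a => by
        induction a using QuotientGroup.induction_on with | _ a => ?_
        show ((MulAut.conjNormal (1 : G) a : C) : C ⧸ Z') = (a : C ⧸ Z')
        rw [map_one, MulAut.one_apply]
      map_mul' := fun g h => MulEquiv.ext fun a => by
        induction a using QuotientGroup.induction_on with | _ a => ?_
        show ((MulAut.conjNormal (g * h) a : C) : C ⧸ Z') =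
          ((MulAut.conjNormal g (MulAut.conjNormal h a) : C) : C ⧸ Z')
        rw [map_mul, MulAut.mul_apply] }
  obtain ⟨instM, σ, hσ⟩ := exists_linear_rep hexpQ act
  have : Module.Finite (ZMod q) (Additive (C ⧸ Z')) := Module.Finite.of_finite
  have hσker : ∀ g : G, σ g = 1 → ∀ d ∈ C, g * d * g⁻¹ * d⁻¹ ∈ Zc := by
    intro g hg d hd
    have h1 := hσ g ((⟨d, hd⟩ : C) : C ⧸ Z')
    rw [hg, Module.End.one_apply] at h1
    have h2 : (MulAut.conjNormal g (⟨d, hd⟩ : C)) * (⟨d, hd⟩ : C)⁻¹ ∈ Z' := by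
      rw [← QuotientGroup.eq_one_iff, QuotientGroup.mk_mul, QuotientGroup.mk_inv]
      exact mul_inv_eq_one.mpr (Additive.ofMul.injective h1).symm
    have h3 : ((MulAut.conjNormal g (⟨d, hd⟩ : C) * (⟨d, hd⟩ : C)⁻¹ : C) : G) ∈ Zc := h2
    rwa [Subgroup.coe_mul, Subgroup.coe_inv, MulAut.conjNormal_apply] at h3
  have hσone : ∀ g : G, (∀ d ∈ C, g * d * g⁻¹ * d⁻¹ ∈ Zc) → σ g = 1 := by
    intro g hg
    refine LinearMap.ext fun v => ?_
    induction v using Additive.rec with | _ v => ?_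
    induction v using QuotientGroup.induction_on with | _ d => ?_
    rw [hσ, Module.End.one_apply]
    refine congrArg Additive.ofMul ?_
    show ((MulAut.conjNormal g d : C) : C ⧸ Z') = (d : C ⧸ Z')
    rw [← mul_inv_eq_one, ← QuotientGroup.mk_inv, ← QuotientGroup.mk_mul, QuotientGroup.eq_one_iff]
    show ((MulAut.conjNormal g d * d⁻¹ : C) : G) ∈ Zc
    rw [Subgroup.coe_mul, Subgroup.coe_inv, MulAut.conjNormal_apply]
    exact hg d d.2
  have hσfix : ∀ v, σ x v = v → v = 0 := by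
    intro v hv
    induction v using Additive.rec with | _ v => ?_
    induction v using QuotientGroup.induction_on with | _ d => ?_
    rw [hσ] at hv
    refine congrArg Additive.ofMul ((QuotientGroup.eq_one_iff d).mpr
      (mem_of_fixed_mod hxn (K := C) (N := Zc) inf_le_left (hNC x)
        (by rw [Subgroup.normalizer_eq_top_iff.mpr hZn]; exact Subgroup.mem_top x)
        (fun h => ?_) hfixC d.2 ?_))
    · obtain ⟨e, he⟩ := IsPGroup.iff_card.mp hCq
      exact hq2 ((Nat.prime_dvd_prime_iff_eq Nat.prime_two hq.out).mp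
        (Nat.prime_two.dvd_of_dvd_pow (he ▸ h))).symm
    · have h2 : d⁻¹ * MulAut.conjNormal x d ∈ Z' := by
        rw [← QuotientGroup.eq_one_iff, QuotientGroup.mk_mul, QuotientGroup.mk_inv]
        exact inv_mul_eq_one.mpr (Additive.ofMul.injective hv).symm
      have h3 : ((d⁻¹ * MulAut.conjNormal x d : C) : G) ∈ Zc := h2
      rw [Subgroup.coe_mul, Subgroup.coe_inv, MulAut.conjNormal_apply] at h3
      simpa [mul_assoc] using h3
  -- the faithful quotient
  set π := QuotientGroup.mk' σ.ker with hπ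
  let σ' : G ⧸ σ.ker →* Module.End (ZMod q) (Additive (C ⧸ Z')) :=
    QuotientGroup.lift σ.ker σ le_rfl
  obtain ⟨K', _, _, _, d', τ, hτ, -, hτfix⟩ := exists_algClosed_rep (p := q) σ'
  have hπone : ∀ g : G, π g = 1 ↔ σ g = 1 := fun g => QuotientGroup.eq_one_iff g
  have hτinj : Function.Injective τ := (injective_iff_map_eq_one τ).mpr fun g hg => by
    have h1 := hτ g hg
    induction g using QuotientGroup.induction_on with | _ g => ?_
    exact (hπone g).mpr h1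
  have hτfpf : ∀ v, τ (π x) v = v → v = 0 := hτfix _ hσfix
  -- `S ⊓ D`
  have hxD : x ∈ Subgroup.normalizer (D : Set G) := by
    rw [Subgroup.normalizer_eq_top_iff.mpr hDn]; exact Subgroup.mem_top x
  set S₂ := S ⊓ D with hS₂
  have hxS₂ : x ∈ Subgroup.normalizer (S₂ : Set G) := Coprime.mem_normalizer_of_forall fun g hg =>
    Subgroup.mem_inf.mpr ⟨(Subgroup.mem_normalizer_iff.mp hxS g).mp hg.1,
      (Subgroup.mem_normalizer_iff.mp hxD g).mp hg.2⟩
  have hπxn : π x ^ 2 ^ (n + 1) = 1 := by rw [← map_pow, hxn, map_one]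
  have hP : IsPGroup s (S₂.map π) := (hS.to_le inf_le_left).map π
  have hxP : π x ∈ Subgroup.normalizer ((S₂.map π : Subgroup _) : Set (G ⧸ σ.ker)) :=
    Subgroup.le_normalizer_map π (Subgroup.mem_map_of_mem π hxS₂)
  have hAS : A ≤ Subgroup.normalizer (S : Set G) := Subgroup.zpowers_le.mpr (pow_mem hxS _)
  have hcopS : (Nat.card A).Coprime (Nat.card S) := card_zpowers_coprime hy2 fun h => by
    obtain ⟨e, he⟩ := IsPGroup.iff_card.mp hS
    exact hs2 ((Nat.prime_dvd_prime_iff_eq Nat.prime_two hs.out).mp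
      (Nat.prime_two.dvd_of_dvd_pow (he ▸ h))).symm
  have hnP : ¬ S₂.map π ≤ Subgroup.centralizer ({π x ^ 2 ^ n} : Set (G ⧸ σ.ker)) := by
    intro h
    have hle : ⁅S₂, A⁆ ≤ σ.ker := by
      rw [Subgroup.commutator_le]
      intro g hg a ha
      obtain ⟨i, rfl⟩ := Subgroup.mem_zpowers_iff.mp ha
      refine (hπone _).mp ?_
      rw [map_commutatorElement, commutatorElement_eq_one_iff_commute, map_zpow, hy, map_pow]
      exact (show Commute (π g) (π x ^ 2 ^ n) from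
        Subgroup.mem_centralizer_singleton_iff.mp (h (Subgroup.mem_map_of_mem π hg))).zpow_right i
    have hS₁ : ⁅S, A⁆ ≤ S₂ := le_inf (Coprime.commutator_le_left' hAS)
      ((Subgroup.commutator_mono le_rfl (Subgroup.zpowers_le.mpr hyD)).trans
        (Subgroup.commutator_le_right S D))
    have hb₁ : b₀ ∈ σ.ker := by
      refine hle ?_
      rw [← Coprime.commutator_commutator_eq hAS hcopS (Or.inl inferInstance)] at hb₀
      exact Subgroup.commutator_mono hS₁ le_rfl hb₀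
    refine hbc ?_
    have hbD : b₀ ∈ D := (hS₁ hb₀).2
    set e := b₀ * c₀ * b₀⁻¹ * c₀⁻¹ with he
    have heZ : e ∈ Zc := hσker _ hb₁ c₀ hc₀
    have hbe : Commute b₀ e := (Subgroup.mem_centralizer_iff.mp hbD.1 e heZ).symm
    have hpow : ∀ i : ℕ, b₀ ^ i * c₀ * (b₀ ^ i)⁻¹ = e ^ i * c₀ := by
      intro i
      induction i with
      | zero => simp
      | succ i ih =>
        calc b₀ ^ (i + 1) * c₀ * (b₀ ^ (i + 1))⁻¹ = b₀ * (b₀ ^ i * c₀ * (b₀ ^ i)⁻¹) * b₀⁻¹ := by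
              rw [pow_succ']; group
          _ = b₀ * e ^ i * b₀⁻¹ * (b₀ * c₀ * b₀⁻¹) := by rw [ih]; group
          _ = e ^ i * (e * c₀) := by
              rw [(hbe.pow_right i).eq, mul_inv_cancel_right, he, inv_mul_cancel_right]
          _ = _ := by rw [pow_succ, mul_assoc (e ^ i)]
    obtain ⟨j, hj⟩ := hS ⟨b₀, Coprime.commutator_le_left' hAS hb₀⟩
    have hbj : b₀ ^ s ^ j = 1 := congrArg Subtype.val hj
    have h1 := hpow (s ^ j)
    rw [hbj, one_mul, inv_one, mul_one, right_eq_mul] at h1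
    have he1 : (⟨e, heZ.1⟩ : C) = 1 := PGroup.eq_one_of_pow_eq_one_coprime hCq
      (((Nat.coprime_primes hs.out hq.out).mpr hsq).pow_left j) (Subtype.ext h1)
    have : e = 1 := congrArg Subtype.val he1
    rw [he, mul_inv_eq_one, mul_inv_eq_iff_eq_mul] at this
    exact this
  obtain ⟨Q, hQP, hxQ, c1, c2, c3, hQne⟩ := exists_critical_le (π x) hπxn hs2 hP hxP hnP
  obtain ⟨g₀, hg₀, hg₀'⟩ : ∃ g ∈ Q, g ≠ 1 := by
    by_contra hc
    push Not at hc
    exact hQne ((Subgroup.eq_bot_iff_forall Q).mpr hc)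
  obtain ⟨a', ha', b', hb', hab⟩ := exists_noncommuting_of_fpf (p := 2)
    (fun h => hq2 ((Nat.prime_dvd_prime_iff_eq hq.out Nat.prime_two).mp
      ((CharP.cast_eq_zero_iff K' q 2).mp h)))
    hπxn hτfpf
    (fun h => hsq ((Nat.prime_dvd_prime_iff_eq hq.out hs.out).mp
      ((CharP.cast_eq_zero_iff K' q s).mp h)).symm)
    hs2 (hP.to_le hQP) hxQ c1 c3 ⟨g₀, hg₀, fun h => hg₀' (hτinj (h.trans (map_one τ).symm))⟩
  obtain ⟨a, ha, rfl⟩ := hQP ha'
  obtain ⟨b, hb, rfl⟩ := hQP hb'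
  refine hab ?_
  set S₃ := S₂ ⊓ Q.comap π with hS₃
  have haS : a ∈ S₃ := Subgroup.mem_inf.mpr ⟨ha, ha'⟩
  have hbS : b ∈ S₃ := Subgroup.mem_inf.mpr ⟨hb, hb'⟩
  have hmapS₃ : ∀ g' ∈ Q, ∃ g ∈ S₃, π g = g' := fun g' hg' => by
    obtain ⟨g, hg, rfl⟩ := hQP hg'
    exact ⟨g, Subgroup.mem_inf.mpr ⟨hg, hg'⟩, rfl⟩
  set c := ⁅a, b⁆ with hcd
  have hcS₃ : c ∈ S₃ := S₃.mul_mem (S₃.mul_mem (S₃.mul_mem haS hbS) (S₃.inv_mem haS)) (S₃.inv_mem hbS)
  rw [← map_commutatorElement, ← hcd]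
  suffices hmain : ∀ U, IsSimpleInv ρ C U → ∀ d ∈ C, c * d * c⁻¹ * d⁻¹ ∈ centralMod ρ C hC U by
    have hc1 : σ c = 1 := hσone c fun d hd => by
      have hdC : c * d * c⁻¹ * d⁻¹ ∈ C := C.mul_mem (hCn.conj_mem d hd c) (C.inv_mem hd)
      refine Subgroup.mem_inf.mpr ⟨hdC, Subgroup.mem_centralizer_iff.mpr fun d' hd' => ?_⟩
      have htC : ⁅c * d * c⁻¹ * d⁻¹, d'⁆ ∈ C :=
        C.mul_mem (C.mul_mem (C.mul_mem hdC hd') (C.inv_mem hdC)) (C.inv_mem hd')
      obtain ⟨j, hj⟩ := hCq ⟨_, htC⟩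
      exact (commutatorElement_eq_one_iff_commute.mp (eq_one_of_fix_simple hρ
        (fun e he => hC _ hdC d' hd' e he) (congrArg Subtype.val hj)
        (by rw [Nat.cast_pow]; exact pow_ne_zero _ hqF)
        fun U hU u hu => (hmain U hU d hd).2 d' hd' u hu)).symm.eq
    rw [(hπone c).mpr hc1, map_one]
  intro U hU
  set K := centralMod ρ C hC U with hKdef
  set K₁ := K.subgroupOf C with hK₁
  have hcommK : ∀ a ∈ C, ∀ a' ∈ C, ⁅a, a'⁆ ∈ K := fun a ha a' ha' => hZK U (hcommZ a ha a' ha')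
  have hK₁n : K₁.Normal := ⟨fun a ha a' => by
    have h1 := K.mul_mem (hcommK a' a'.2 a a.2) ha
    show (a' : G) * a * (a' : G)⁻¹ ∈ K
    simpa [commutatorElement_def, mul_assoc] using h1⟩
  letI : CommGroup (C ⧸ K₁) :=
    { (inferInstance : Group (C ⧸ K₁)) with
      mul_comm := fun a a' => by
        induction a using QuotientGroup.induction_on with | _ a => ?_
        induction a' using QuotientGroup.induction_on with | _ a' => ?_
        rw [← QuotientGroup.mk_mul, ← QuotientGroup.mk_mul, QuotientGroup.eq]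
        show ((a * a' : C) : G)⁻¹ * ((a' * a : C) : G) ∈ K
        have h1 := hcommK (a' : G)⁻¹ (C.inv_mem a'.2) (a : G)⁻¹ (C.inv_mem a.2)
        simpa [commutatorElement_def, mul_assoc] using h1 }
  set R₀ := Subgroup.normalizer (K : Set G) with hR₀
  let f : R₀ →* MulAut C := (MulAut.conjNormal : G →* MulAut C).comp R₀.subtype
  have hf : ∀ (r : R₀) (a : C), ((f r a : C) : G) = (r : G) * a * (r : G)⁻¹ :=
    fun r a => MulAut.conjNormal_apply _ _
  have hfK : ∀ r : R₀, K₁.map (f r).toMonoidHom = K₁ := fun r => by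
    refine le_antisymm ?_ fun a ha => ⟨f r⁻¹ a, ?_, ?_⟩
    · rintro _ ⟨a, ha, rfl⟩
      show ((f r a : C) : G) ∈ K
      rw [hf]
      exact (Subgroup.mem_normalizer_iff.mp r.2 (a : G)).mp ha
    · show ((f r⁻¹ a : C) : G) ∈ K
      rw [hf]
      exact (Subgroup.mem_normalizer_iff.mp (r⁻¹).2 (a : G)).mp ha
    · show f r (f r⁻¹ a) = a
      rw [← MulAut.mul_apply, ← map_mul, mul_inv_cancel, map_one, MulAut.one_apply]
  let φ : R₀ →* MulAut (C ⧸ K₁) :=
    { toFun := fun r => QuotientGroup.congr _ _ (f r) (hfK r)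
      map_one' := MulEquiv.ext fun a => by
        induction a using QuotientGroup.induction_on with | _ a => ?_
        show ((f 1 a : C) : C ⧸ K₁) = (a : C ⧸ K₁)
        rw [map_one, MulAut.one_apply]
      map_mul' := fun r s => MulEquiv.ext fun a => by
        induction a using QuotientGroup.induction_on with | _ a => ?_
        show ((f (r * s) a : C) : C ⧸ K₁) = ((f r (f s a) : C) : C ⧸ K₁)
        rw [map_mul, MulAut.mul_apply] }
  have hφ : ∀ (r : R₀) (a : C), φ r (a : C ⧸ K₁) = ((f r a : C) : C ⧸ K₁) := fun r a => rfl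
  have hφone : ∀ r : R₀, σ (r : G) = 1 → φ r = 1 := fun r hr => MulEquiv.ext fun a => by
    induction a using QuotientGroup.induction_on with | _ a => ?_
    rw [hφ, MulAut.one_apply, ← mul_inv_eq_one, ← QuotientGroup.mk_inv, ← QuotientGroup.mk_mul,
      QuotientGroup.eq_one_iff]
    show ((f r a * a⁻¹ : C) : G) ∈ K
    rw [Subgroup.coe_mul, Subgroup.coe_inv, hf]
    exact hZK U (hσker _ hr a a.2)
  have hDR : D ≤ R₀ := fun g hg => Subgroup.mem_iInf.mp hg.2 ⟨U, hU⟩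
  have hS₃D : ∀ g ∈ S₃, g ∈ D := fun g hg => hg.1.2
  have hS₃R : S₃ ≤ R₀ := fun g hg => hDR (hS₃D g hg)
  let yR : R₀ := ⟨y, hDR hyD⟩
  set Y := φ yR with hY
  let ψ : S₃ →* MulAut (C ⧸ K₁) := φ.comp (Subgroup.inclusion hS₃R)
  set R := ψ.range with hR
  have hRs : IsPGroup s R :=
    ((hS.to_le (inf_le_left.trans inf_le_left : S₃ ≤ S)).of_surjective _ ψ.rangeRestrict_surjective)
  have hyS₃ : y ∈ Subgroup.normalizer (S₃ : Set G) := Coprime.mem_normalizer_of_forall fun g hg => by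
    obtain ⟨h1, h2⟩ := Subgroup.mem_inf.mp hg
    refine Subgroup.mem_inf.mpr ⟨(Subgroup.mem_normalizer_iff.mp (pow_mem hxS₂ _) g).mp h1, ?_⟩
    show π (y * g * y⁻¹) ∈ Q
    rw [map_mul, map_mul, map_inv, hy, map_pow]
    exact (Subgroup.mem_normalizer_iff.mp (pow_mem hxQ _) (π g)).mp h2
  have hψcomm : ∀ g : S₃, ∀ h : S₃, (h : G) = ⁅(g : G), y⁆ → ψ h = ⁅ψ g, Y⁆ := fun g h e => by
    show φ (Subgroup.inclusion hS₃R h) = ⁅φ (Subgroup.inclusion hS₃R g), φ yR⁆
    rw [← map_commutatorElement]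
    exact congrArg φ (Subtype.ext (by
      rw [show ((⁅Subgroup.inclusion hS₃R g, yR⁆ : R₀) : G) = ⁅(g : G), y⁆ from
        map_commutatorElement R₀.subtype _ _]
      exact e))
  have hR3 : R ≤ Subgroup.closure ((fun g => ⁅g, Y⁆) '' (R : Set (MulAut (C ⧸ K₁)))) := by
    rintro _ ⟨g, rfl⟩
    set T : Set S₃ := {h | ∃ g : S₃, (h : G) = ⁅(g : G), y⁆} with hT
    have hcl : Q ≤ (Subgroup.closure T).map (π.comp S₃.subtype) := by
      rw [MonoidHom.map_closure]
      refine c3.trans (Subgroup.closure_mono ?_)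
      rintro _ ⟨g', hg', rfl⟩
      obtain ⟨g, hg, rfl⟩ := hmapS₃ g' hg'
      refine ⟨⟨⁅g, y⁆, ?_⟩, ⟨⟨g, hg⟩, rfl⟩, ?_⟩
      · rw [commutatorElement_def, mul_assoc, mul_assoc]
        refine S₃.mul_mem hg ?_
        rw [← mul_assoc]
        exact (Subgroup.mem_normalizer_iff.mp hyS₃ _).mp (S₃.inv_mem hg)
      · show π ⁅g, y⁆ = ⁅π g, π x ^ 2 ^ n⁆
        rw [map_commutatorElement, hy, map_pow]
    obtain ⟨m, hm, hmg⟩ := hcl (Subgroup.mem_inf.mp g.2).2
    have hk : ψ (m⁻¹ * g) = 1 := hφone _ ((hπone _).mp (by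
      show π ((m⁻¹ * g : S₃) : G) = 1
      rw [Subgroup.coe_mul, Subgroup.coe_inv, map_mul, map_inv]
      exact inv_mul_eq_one.mpr hmg))
    rw [map_mul, map_inv, inv_mul_eq_one] at hk
    rw [← hk]
    have h1 : ψ m ∈ (Subgroup.closure T).map ψ := Subgroup.mem_map_of_mem ψ hm
    rw [MonoidHom.map_closure] at h1
    refine Subgroup.closure_mono ?_ h1
    rintro _ ⟨h, ⟨g', hg'⟩, rfl⟩
    exact ⟨ψ g', ⟨g', rfl⟩, (hψcomm g' h hg').symm⟩
  set cA := ψ ⟨c, hcS₃⟩ with hcA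
  have hπc : Commute (π x ^ 2 ^ n) (π c) := by
    rw [hcd, map_commutatorElement]; exact c1 _ ha' _ hb'
  have hcY : Commute cA Y := by
    rw [← commutatorElement_eq_one_iff_commute, hcA, hY]
    show ⁅φ (Subgroup.inclusion hS₃R ⟨c, hcS₃⟩), φ yR⁆ = 1
    rw [← map_commutatorElement]
    refine hφone _ ((hπone _).mp ?_)
    rw [show ((⁅Subgroup.inclusion hS₃R ⟨c, hcS₃⟩, yR⁆ : R₀) : G) = ⁅c, y⁆ from
      map_commutatorElement R₀.subtype _ _, map_commutatorElement, hy, map_pow,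
      commutatorElement_eq_one_iff_commute]
    exact hπc.symm
  have hcc : ∀ g ∈ R, Commute cA g := by
    rintro _ ⟨g, rfl⟩
    rw [← commutatorElement_eq_one_iff_commute, hcA]
    show ⁅φ (Subgroup.inclusion hS₃R ⟨c, hcS₃⟩), φ (Subgroup.inclusion hS₃R g)⁆ = 1
    rw [← map_commutatorElement]
    refine hφone _ ((hπone _).mp ?_)
    rw [show ((⁅Subgroup.inclusion hS₃R ⟨c, hcS₃⟩, Subgroup.inclusion hS₃R g⁆ : R₀) : G) = ⁅c, (g : G)⁆
        from map_commutatorElement R₀.subtype _ _, map_commutatorElement,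
      commutatorElement_eq_one_iff_commute]
    exact c2 _ (Subgroup.mem_inf.mp hcS₃).2 hπc _ (Subgroup.mem_inf.mp g.2).2
  have hcco : Nat.Coprime (orderOf cA) q := by
    obtain ⟨j, hj⟩ := hRs ⟨cA, ⟨_, rfl⟩⟩
    exact (((Nat.coprime_primes hs.out hq.out).mpr hsq).pow_left j).coprime_dvd_left
      (orderOf_dvd_of_pow_eq_one (congrArg Subtype.val hj))
  -- `c` fixes what `y` moves
  set Q₁ := ⁅C, A⁆ with hQ₁
  have hQ₁C : Q₁ ≤ C := Coprime.commutator_le_left' (Subgroup.zpowers_le.mpr (hNC y))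
  set P₀ := (movedHom Y).range with hP₀
  have hP₀le : P₀ ≤ (Q₁.subgroupOf C).map (QuotientGroup.mk' K₁) := by
    rintro _ ⟨a, rfl⟩
    induction a using QuotientGroup.induction_on with | _ a => ?_
    refine ⟨f yR a * a⁻¹, ?_, rfl⟩
    show ((f yR a * a⁻¹ : C) : G) ∈ Q₁
    rw [Subgroup.coe_mul, Subgroup.coe_inv, hf, hQ₁, Subgroup.commutator_comm]
    exact Subgroup.commutator_mem_commutator (Subgroup.mem_zpowers y) a.2
  have hPge : (Q₁.subgroupOf C).map (QuotientGroup.mk' K₁) ≤ P₀ := by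
    have hy1 : y ^ 2 = 1 := by rwa [pow_one] at hy2
    have hle : Q₁ ≤ (P₀.comap (QuotientGroup.mk' K₁)).map C.subtype := by
      rw [hQ₁, Subgroup.commutator_le]
      intro d hd a ha
      obtain ⟨i, rfl⟩ := (isOfFinOrder_of_finite y).mem_powers_iff_mem_zpowers.mpr ha
      show ⁅d, y ^ i⁆ ∈ _
      obtain ⟨l, hl | hl⟩ := i.even_or_odd'
      · rw [hl, pow_mul, hy1, one_pow, commutatorElement_one_right]
        exact one_mem _
      rw [hl, pow_succ, pow_mul, hy1, one_pow, one_mul]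
      refine ⟨(f yR ⟨d, hd⟩ * (⟨d, hd⟩ : C)⁻¹)⁻¹, P₀.inv_mem ⟨(⟨d, hd⟩ : C), rfl⟩, ?_⟩
      rw [Subgroup.coe_subtype, Subgroup.coe_inv, Subgroup.coe_mul, Subgroup.coe_inv, hf,
        commutatorElement_def]
      show (y * d * y⁻¹ * d⁻¹)⁻¹ = _
      group
    rintro _ ⟨a, ha, rfl⟩
    obtain ⟨b, hb, hba⟩ := hle ha
    exact Subtype.ext hba ▸ hb
  -- the plane
  have hfix : ∀ a, cA (Y a * a⁻¹) = Y a * a⁻¹ := by
    by_cases hQK : Q₁ ≤ K
    · intro a
      obtain ⟨b, hb, hba⟩ := hP₀le ⟨a, rfl⟩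
      have h1 : (QuotientGroup.mk' K₁) b = 1 := (QuotientGroup.eq_one_iff b).mpr (hQK hb)
      rw [show Y a * a⁻¹ = 1 from hba.symm.trans h1, map_one]
    obtain ⟨k, N, hn, hN, hqN, hzK, hQi, u, hu, v, hv, w, hw, hεw⟩ :=
      plane_of_fpf h2F hxn hfpf hq2 hCq (hC := hC) (hNC x) hU hyc hQK
    let zR : R₀ := ⟨x ^ 2 ^ k, hzK⟩
    set Cy := Subgroup.centralizer ({Y} : Set (MulAut (C ⧸ K₁))) with hCy
    have hB : ∀ r ∈ Cy, ∀ p ∈ P₀, r p ∈ P₀ := by
      rintro r hr _ ⟨a, rfl⟩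
      refine ⟨r a, ?_⟩
      show Y (r a) * (r a)⁻¹ = r (Y a * a⁻¹)
      rw [map_mul, map_inv, ← MulAut.mul_apply, ← MulAut.mul_apply,
        Subgroup.mem_centralizer_singleton_iff.mp hr]
    have hzY : Commute (φ zR) Y := by
      rw [hY]
      refine Commute.map (show Commute zR yR from Subtype.ext ?_) φ
      exact (Commute.pow_pow_self x _ _).eq
    have hzCy : φ zR ∈ Cy := Subgroup.mem_centralizer_singleton_iff.mpr hzY.eq
    set res := resHom Cy P₀ hB with hres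
    set R' := ((R ⊓ Cy).subgroupOf Cy).map res with hR'
    have hR's : IsPGroup s R' := ((hRs.to_le inf_le_left).comap_subtype).map res
    have hzS₃ : ∀ g ∈ S₃, x ^ 2 ^ k * g * (x ^ 2 ^ k)⁻¹ ∈ S₃ := fun g hg => by
      obtain ⟨h1, h2⟩ := Subgroup.mem_inf.mp hg
      refine Subgroup.mem_inf.mpr ⟨(Subgroup.mem_normalizer_iff.mp (pow_mem hxS₂ _) g).mp h1, ?_⟩
      show π (x ^ 2 ^ k * g * (x ^ 2 ^ k)⁻¹) ∈ Q
      rw [map_mul, map_mul, map_inv, map_pow]
      exact (Subgroup.mem_normalizer_iff.mp (pow_mem hxQ _) (π g)).mp h2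
    have hzR' : res ⟨φ zR, hzCy⟩ ∈ Subgroup.normalizer (R' : Set (MulAut P₀)) := by
      refine Coprime.mem_normalizer_of_forall ?_
      rintro _ ⟨r, hr, rfl⟩
      obtain ⟨⟨g, hg⟩, hrC⟩ := Subgroup.mem_inf.mp (show (r : MulAut (C ⧸ K₁)) ∈ R ⊓ Cy from hr)
      refine ⟨⟨φ zR, hzCy⟩ * r * ⟨φ zR, hzCy⟩⁻¹, Subgroup.mem_inf.mpr ⟨?_, ?_⟩, ?_⟩
      · refine ⟨⟨_, hzS₃ g g.2⟩, ?_⟩
        show φ (Subgroup.inclusion hS₃R ⟨_, hzS₃ g g.2⟩) = φ zR * (r : MulAut (C ⧸ K₁)) * (φ zR)⁻¹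
        rw [← hg]
        show _ = φ zR * φ (Subgroup.inclusion hS₃R g) * (φ zR)⁻¹
        rw [← map_inv, ← map_mul, ← map_mul]
        exact congrArg φ (Subtype.ext rfl)
      · exact mul_mem (mul_mem hzCy hrC) (inv_mem hzCy)
      · rw [map_mul, map_mul, map_inv]
    have hcard : Nat.card P₀ = q ^ 2 := by
      rw [le_antisymm hP₀le hPge, ← Subgroup.relIndex_ker, QuotientGroup.ker_mk',
        Subgroup.relIndex_subgroupOf hQ₁C]
      exact hQi
    have hexp : ∀ a : C ⧸ K₁, a ^ q = 1 := fun a => by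
      induction a using QuotientGroup.induction_on with | _ a => ?_
      rw [← QuotientGroup.mk_pow, QuotientGroup.eq_one_iff]
      show ((a ^ q : C) : G) ∈ K
      rw [SubgroupClass.coe_pow]
      exact hZK U (Subgroup.mem_inf.mpr ⟨pow_mem a.2 q, Subgroup.mem_centralizer_iff.mpr fun d hd =>
        (hCpow a a.2 d hd).symm.eq⟩)
    have hY2 : Y * Y = 1 := by
      rw [hY, ← map_mul, ← sq, show yR ^ 2 = 1 from Subtype.ext (by
        rw [SubgroupClass.coe_pow]; show y ^ 2 = 1; rwa [pow_one] at hy2), map_one]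
    have hzN : φ zR ^ 2 ^ N = Y := by
      rw [hY, ← map_pow]
      refine congrArg φ (Subtype.ext ?_)
      rw [SubgroupClass.coe_pow]
      show (x ^ 2 ^ k) ^ 2 ^ N = x ^ 2 ^ n
      rw [← pow_mul, ← pow_add, hn]
    have hone := eq_bot_on_plane (P := P₀) hcard (fun p => Subtype.ext (by
        rw [SubgroupClass.coe_pow]; exact hexp _)) hN hqN (s := s) hs2 hsq hR's hzR'
      (fun p => by
        apply Subtype.ext
        rw [← map_pow, hres, resHom_apply, SubgroupClass.coe_pow]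
        show (φ zR ^ 2 ^ N) (p : C ⧸ K₁) = _
        rw [hzN, Subgroup.coe_inv]
        obtain ⟨a, ha⟩ := p.2
        rw [← ha]
        show Y (Y a * a⁻¹) = (Y a * a⁻¹)⁻¹
        rw [map_mul, map_inv, ← MulAut.mul_apply, hY2, MulAut.one_apply, mul_inv_rev, inv_inv])
      (by
        rintro _ ⟨r, hr, rfl⟩ i hi
        obtain ⟨⟨g, hg⟩, -⟩ := Subgroup.mem_inf.mp (show (r : MulAut (C ⧸ K₁)) ∈ R ⊓ Cy from hr)
        have huC : u ∈ C := hQ₁C hu
        have hvC : v ∈ C := hQ₁C hv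
        have hgu : ∀ e (heC : e ∈ C), e ∈ Q₁ → (e ^ i)⁻¹ * ((g : G) * e * (g : G)⁻¹) ∈ K := by
          intro e heC he
          have hp : ((⟨e, heC⟩ : C) : C ⧸ K₁) ∈ P₀ := hPge ⟨_, he, rfl⟩
          have h1 := congrArg Subtype.val (hi ⟨_, hp⟩)
          rw [hres, resHom_apply, SubgroupClass.coe_pow, ← hg] at h1
          have h2 : ((f (Subgroup.inclusion hS₃R g) ⟨e, heC⟩ : C) : C ⧸ K₁) =
              (((⟨e, heC⟩ : C) ^ i : C) : C ⧸ K₁) := h1
          have h3 := QuotientGroup.eq.mp h2.symm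
          have h4 : (((⟨e, heC⟩ : C) ^ i)⁻¹ * f (Subgroup.inclusion hS₃R g) ⟨e, heC⟩ : C).1 ∈ K := h3
          rwa [Subgroup.coe_mul, Subgroup.coe_inv, hf, SubgroupClass.coe_pow] at h4
        obtain ⟨e₁, he₁, hgu₁⟩ : ∃ e₁ ∈ K, (g : G) * u * (g : G)⁻¹ = u ^ i * e₁ :=
          ⟨_, hgu u huC hu, (mul_inv_cancel_left _ _).symm⟩
        obtain ⟨e₂, he₂, hgv₁⟩ : ∃ e₂ ∈ K, (g : G) * v * (g : G)⁻¹ = v ^ i * e₂ :=
          ⟨_, hgu v hvC hv, (mul_inv_cancel_left _ _).symm⟩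
        set ε := ⁅u, v⁆ with hε
        have hεZ : ε ∈ Zc := hcommZ u huC v hvC
        have hconj : ⁅(g : G) * u * (g : G)⁻¹, (g : G) * v * (g : G)⁻¹⁆ = ε := by
          have h1 : (g : G) * ε * (g : G)⁻¹ = ε := by
            rw [(Subgroup.mem_centralizer_iff.mp (hS₃D g g.2).1 ε hεZ).symm, mul_inv_cancel_right]
          conv_rhs => rw [← h1, hε]
          simp only [commutatorElement_def]; group
        have hui : u ^ i ∈ C := pow_mem huC i
        have hvi : v ^ i ∈ C := pow_mem hvC i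
        have he₁C : e₁ ∈ C := he₁.1
        have he₂C : e₂ ∈ C := he₂.1
        have hεi : ⁅u ^ i, v ^ i⁆ = ε ^ (i * i) := by
          rw [comm_pow_right (hC _ hui v hvC v hvC) i, comm_pow_left (hC u huC v hvC u huC) i,
            ← pow_mul]
        -- `ε^(i*i)` and `ε` agree on `U`
        have hagree : ∀ w ∈ U, ρ (ε ^ (i * i)) w = ρ ε w := by
          intro w hw
          have hX : ∀ a ∈ C, ∀ b ∈ C, ∀ c ∈ C, c * ⁅a, b⁆ * c⁻¹ = ⁅a, b⁆ := fun a ha b hb c hc => by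
            rw [← (hC a ha b hb c hc).eq, mul_inv_cancel_right]
          have hsplit : ⁅u ^ i * e₁, v ^ i * e₂⁆ =
              ⁅e₁, v ^ i * e₂⁆ * (⁅e₂, u ^ i⁆⁻¹ * ⁅u ^ i, v ^ i⁆) := by
            rw [commutatorElement_mul_left_eq_conj_mul, hX e₁ he₁C _ (C.mul_mem hvi he₂C) (u ^ i) hui]
            congr 1
            rw [commutatorElement_inv]
            have h5 : ⁅u ^ i, v ^ i * e₂⁆ =
                ⁅u ^ i, v ^ i⁆ * (v ^ i * ⁅u ^ i, e₂⁆ * (v ^ i)⁻¹) := by
              rw [commutatorElement_mul_right_eq_mul_conj]; simp only [mul_assoc]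
            rw [h5, hX (u ^ i) hui e₂ he₂C (v ^ i) hvi]
            exact (hC (u ^ i) hui (v ^ i) hvi ⁅u ^ i, e₂⁆ (C.mul_mem (C.mul_mem (C.mul_mem hui he₂C)
              (C.inv_mem hui)) (C.inv_mem he₂C))).eq
          rw [← hεi]
          conv_rhs => rw [← hconj, hgu₁, hgv₁, hsplit]
          rw [rho_mul_apply, rho_mul_apply]
          have hUv : ρ ⁅u ^ i, v ^ i⁆ w ∈ U := hU.2.1 _
            (C.mul_mem (C.mul_mem (C.mul_mem hui hvi) (C.inv_mem hui)) (C.inv_mem hvi)) w hw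
          have h6 : ρ ⁅e₂, u ^ i⁆⁻¹ (ρ ⁅u ^ i, v ^ i⁆ w) = ρ ⁅u ^ i, v ^ i⁆ w := by
            conv_lhs => rw [← he₂.2 _ hui _ hUv, rho_inv_apply]
          rw [h6, he₁.2 _ (C.mul_mem hvi he₂C) _ hUv]
        have hεq : ε ^ q = 1 := by
          rw [hε, ← comm_pow_left (hC u huC v hvC u huC) q, commutatorElement_eq_one_iff_commute]
          exact hCpow u huC v hvC
        by_contra hne
        refine hεw ?_
        -- the exponent `i*i - 1` is prime to `q`
        have hcop : IsCoprime ((i * i : ℕ) - 1 : ℤ) (q : ℤ) := by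
          refine ((Nat.prime_iff_prime_int.mp hq.out).coprime_iff_not_dvd.mpr fun h => hne ?_).symm
          have h1 : ((i * i : ℕ) : ZMod q) = ((1 : ℕ) : ZMod q) := by
            rw [← sub_eq_zero]
            have h2 := (ZMod.intCast_zmod_eq_zero_iff_dvd _ q).mpr h
            simpa using h2
          rw [ZMod.natCast_eq_natCast_iff', Nat.one_mod_eq_one.mpr hq.out.ne_one] at h1
          exact h1
        obtain ⟨α, β, hαβ⟩ := hcop
        let Fw : Subgroup G :=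
          { carrier := {h | ρ h w = w}
            one_mem' := by simp
            mul_mem' := fun {a b} ha hb => by
              show ρ (a * b) w = w
              rw [rho_mul_apply, hb, ha]
            inv_mem' := fun {a} ha => by
              show ρ a⁻¹ w = w
              conv_lhs => rw [← show ρ a w = w from ha, rho_inv_apply] }
        have h1 : ε ^ (((i * i : ℕ) : ℤ) - 1) ∈ Fw := by
          show ρ (ε ^ (((i * i : ℕ) : ℤ) - 1)) w = w
          rw [zpow_sub, zpow_natCast, zpow_one, ((Commute.refl ε).pow_left (i * i)).inv_right.eq,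
            rho_mul_apply, hagree w hw, rho_inv_apply]
        have h2 : ε ^ ((q : ℕ) : ℤ) ∈ Fw := by rw [zpow_natCast, hεq]; exact Fw.one_mem
        have h3 : ε ∈ Fw := by
          rw [← zpow_one ε, ← hαβ, zpow_add, zpow_mul', zpow_mul' ε β]
          exact Fw.mul_mem (Fw.zpow_mem h1 α) (Fw.zpow_mem h2 β)
        exact h3)
    intro a
    have hcCy : cA ∈ Cy := Subgroup.mem_centralizer_singleton_iff.mpr hcY.eq
    have h1 := hone (res ⟨cA, hcCy⟩) ⟨⟨cA, hcCy⟩, Subgroup.mem_inf.mpr ⟨⟨_, rfl⟩, hcCy⟩, rfl⟩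
    have h2 := resHom_apply hB ⟨cA, hcCy⟩ ⟨Y a * a⁻¹, ⟨a, rfl⟩⟩
    rw [← hres, h1, MulAut.one_apply] at h2
    exact h2.symm
  have hc1 : cA = 1 :=
    eq_one_of_moved_fixed (hCq.to_quotient K₁) hR3 ⟨_, rfl⟩ hcY hcc hfix hcco
  intro d hd
  have h1 := congrArg (fun m : MulAut (C ⧸ K₁) => m ((⟨d, hd⟩ : C) : C ⧸ K₁)) hc1
  simp only [MulAut.one_apply] at h1
  rw [hcA] at h1
  have h2 : f (Subgroup.inclusion hS₃R ⟨c, hcS₃⟩) ⟨d, hd⟩ * (⟨d, hd⟩ : C)⁻¹ ∈ K₁ := by
    rw [← QuotientGroup.eq_one_iff, QuotientGroup.mk_mul, QuotientGroup.mk_inv]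
    exact mul_inv_eq_one.mpr h1
  have h3 : ((f (Subgroup.inclusion hS₃R ⟨c, hcS₃⟩) ⟨d, hd⟩ * (⟨d, hd⟩ : C)⁻¹ : C) : G) ∈ K := h2
  rwa [Subgroup.coe_mul, Subgroup.coe_inv, hf] at h3

end Cfsg.Agent.Gross
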