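/-
Gross's theorem: fixed-point-free automorphisms of 2-power order (helper3).

Main results (namespace `Cfsg.Agent.Gross`):
* commutator_mem_fitting_of_fpf, mem_fitting_two, gross_two
-/
import Cfsg.Agent.Lib.HallHigman.GrossTwoKey
import Cfsg.Agent.Lib.HallHigman.GrossReduce

set_option autoImplicit false
set_option maxHeartbeats 800000

namespace Cfsg.Agent.Gross

open HallHigman
open scoped commutatorElement

universe u

theorem mem_pCore_fitting {H : Type*} [Group H] [Finite H] {l : ℕ} [Fact l.Prime]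
    {e : Cfsg.fittingSubgroup H} {k : ℕ} (he : e ^ l ^ k = 1) : (e : H) ∈ Cfsg.pCore l H := by
  have hnil : Group.IsNilpotent (Cfsg.fittingSubgroup H) := Cores.fittingSubgroup_isNilpotent
  have hpg : IsPGroup l (Subgroup.zpowers e) := by
    rintro ⟨z, hz⟩
    obtain ⟨i, rfl⟩ := Subgroup.mem_zpowers_iff.mp hz
    exact ⟨k, Subtype.ext (show (e ^ i) ^ l ^ k = 1 by
      rw [← zpow_natCast, ← zpow_mul, mul_comm, zpow_mul, zpow_natCast, he, one_zpow])⟩
  obtain ⟨P, hP⟩ := hpg.exists_le_sylow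
  have hPn : (P : Subgroup (Cfsg.fittingSubgroup H)).Normal :=
    P.normal_of_normalizerCondition Group.normalizerCondition_of_isNilpotent
  rw [← Cores.pCore_fittingSubgroup (G := H) l]
  exact ⟨e, Cores.le_pCore hPn P.2 (hP (Subgroup.mem_zpowers e)), rfl⟩

variable {Γ : Type*} [Group Γ] [Finite Γ]

/-- `y = x^(2^n)` centralises `H/F(H)`. -/
theorem commutator_mem_fitting_of_fpf {F : Type*} [Field F] [IsAlgClosed F] {V : Type*}
    [AddCommGroup V] [Module F V] [FiniteDimensional F V] {r : ℕ} [hr : Fact r.Prime] [CharP F r]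
    (hr2 : r ≠ 2) {H : Subgroup Γ} [hHn : H.Normal] (hHs : Group.IsSolvable H)
    (hH2 : ¬ 2 ∣ Nat.card H) {x : Γ} {n : ℕ} (hxn : x ^ 2 ^ (n + 1) = 1)
    (hfixH : ∀ a ∈ H, x * a * x⁻¹ = a → a = 1) (hOr : Cfsg.pCore r H = ⊥)
    {ρ : Γ →* Module.End F V} (hρ : Function.Injective ρ) (hfpf : ∀ v, ρ x v = v → v = 0) :
    ∀ h ∈ H, ⁅x ^ 2 ^ n, h⁆ ∈ (Cfsg.fittingSubgroup H).map H.subtype := by
  classical
  have : Fact (Nat.Prime 2) := ⟨Nat.prime_two⟩
  set F₁ := (Cfsg.fittingSubgroup H).map H.subtype with hF₁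
  have hF₁n : F₁.Normal := by
    have : (Cfsg.fittingSubgroup H).Characteristic := Cores.fittingSubgroup_characteristic _
    exact Cores.map_subtype_normal_of_characteristic H _
  have hF₁H : F₁ ≤ H := Subgroup.map_subtype_le _
  set π₁ := QuotientGroup.mk' F₁ with hπ₁
  have hπs : Function.Surjective π₁ := QuotientGroup.mk'_surjective F₁
  set y := x ^ 2 ^ n with hy
  have hy2 : y ^ 2 ^ 1 = 1 := by rw [hy, ← pow_mul, ← pow_add, hxn]
  have hHbn : (H.map π₁).Normal := hHn.map π₁ hπs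
  have hHbs : Group.IsSolvable (H.map π₁) := by
    have := hHs
    exact solvable_of_surjective (π₁.subgroupMap_surjective H)
  have hc := commute_of_fitting (p := 2) (H := H.map π₁) hHbs (y := π₁ y)
    (by rw [← map_pow, hy2, map_one]) (fun h => hH2 (h.trans (Subgroup.card_map_dvd _ _)))
    (fun s hs a ha => ?_)
  · intro h hh
    rw [← QuotientGroup.eq_one_iff, ← QuotientGroup.mk'_apply, map_commutatorElement,
      commutatorElement_eq_one_iff_commute]
    exact hc _ (Subgroup.mem_map_of_mem π₁ hh)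
  have : Fact s.Prime := ⟨hs⟩
  by_contra hna
  set E₀ := (Cfsg.pCore s (H.map π₁)).map (H.map π₁).subtype with hE₀
  have hE₀n : E₀.Normal := by
    have : (Cfsg.pCore s (H.map π₁)).Characteristic := Cores.pCore_characteristic _ _
    exact Cores.map_subtype_normal_of_characteristic _ _
  have hE₀s : IsPGroup s E₀ := (Cores.isPGroup_pCore _ _).map _
  have hs2 : s ≠ 2 := by
    rintro rfl
    rcases hE₀s.card_eq_or_dvd with h | h
    · have ha1 : a = 1 := Subgroup.mem_bot.mp (Subgroup.eq_bot_of_card_eq _ h ▸ ha)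
      exact hna (ha1 ▸ Commute.one_right _)
    · exact hH2 ((h.trans (Subgroup.card_dvd_of_le (Subgroup.map_subtype_le _))).trans
        (Subgroup.card_map_dvd _ _))
  set E := E₀.comap π₁ with hE
  have hEn : E.Normal := hE₀n.comap π₁
  have hEH : E ≤ H := fun e he => by
    obtain ⟨h, hh, heh⟩ := Subgroup.map_subtype_le (H := H.map π₁) _ (show π₁ e ∈ E₀ from he)
    rw [hπ₁, QuotientGroup.mk'_apply, QuotientGroup.mk'_apply, QuotientGroup.eq] at heh
    simpa using H.mul_mem hh (hF₁H heh)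
  have hAE : Subgroup.zpowers x ≤ Subgroup.normalizer (E : Set Γ) := by
    rw [Subgroup.normalizer_eq_top_iff.mpr hEn]; exact le_top
  have hcopE : (Nat.card (Subgroup.zpowers x)).Coprime (Nat.card E) :=
    card_zpowers_coprime hxn fun h => hH2 (h.trans (Subgroup.card_dvd_of_le hEH))
  obtain ⟨S₀, hS₀⟩ := Coprime.exists_invariant_sylow hAE hcopE (Or.inl inferInstance) s
  set S := (S₀ : Subgroup E).map E.subtype with hS
  have hSs : IsPGroup s S := S₀.2.map _
  have hxS : x ∈ Subgroup.normalizer (S : Set Γ) := hS₀ (Subgroup.mem_zpowers x)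
  have hSE : S ≤ E := Subgroup.map_subtype_le _
  -- `S` covers `E₀`
  obtain ⟨a', ha'S, ha'⟩ : ∃ a' ∈ S, π₁ a' = a := by
    let f : E →* E₀ := (π₁.comp E.subtype).codRestrict E₀ fun e => e.2
    have hf : Function.Surjective f := fun ⟨b, hb⟩ => by
      obtain ⟨g, rfl⟩ := hπs b
      exact ⟨⟨g, hb⟩, rfl⟩
    have htop : (S₀.mapSurjective hf : Subgroup E₀) = ⊤ :=
      ((S₀.mapSurjective hf).is_maximal' (hE₀s.to_subgroup ⊤) le_top).symm
    rw [Sylow.coe_mapSurjective] at htop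
    obtain ⟨e, he, hea⟩ : (⟨a, ha⟩ : E₀) ∈ (S₀ : Subgroup E).map f := htop ▸ Subgroup.mem_top _
    exact ⟨(e : Γ), ⟨e, he, rfl⟩, congrArg Subtype.val hea⟩
  have hS₁E : ⁅S, Subgroup.zpowers y⁆ ≤ S :=
    Coprime.commutator_le_left' (Subgroup.zpowers_le.mpr (pow_mem hxS _))
  suffices hS₁F : ⁅S, Subgroup.zpowers y⁆ ≤ F₁ by
    refine hna (commutatorElement_eq_one_iff_commute.mp ?_).symm
    rw [← ha', ← map_commutatorElement, hπ₁, QuotientGroup.mk'_apply, QuotientGroup.eq_one_iff]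
    exact hS₁F (Subgroup.commutator_mem_commutator ha'S (Subgroup.mem_zpowers y))
  -- `[S, y]` centralises the other `O_q`
  have hcent : ∀ b ∈ ⁅S, Subgroup.zpowers y⁆, ∀ q : ℕ, q.Prime → q ≠ s →
      ∀ o ∈ (Cfsg.pCore q H).map H.subtype, Commute b o := by
    intro b hb q hq hqs o ho
    have : Fact q.Prime := ⟨hq⟩
    set O := (Cfsg.pCore q H).map H.subtype with hO
    by_cases hOb : O = ⊥
    · rw [hOb, Subgroup.mem_bot] at ho
      exact ho ▸ Commute.one_right _
    have hOH : O ≤ H := Subgroup.map_subtype_le _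
    have hOq : IsPGroup q O := (Cores.isPGroup_pCore _ _).map _
    have hq2 : q ≠ 2 := by
      rintro rfl
      rcases hOq.card_eq_or_dvd with h | h
      · exact hOb (Subgroup.eq_bot_of_card_eq _ h)
      · exact hH2 (h.trans (Subgroup.card_dvd_of_le hOH))
    have hqr : q ≠ r := by
      rintro rfl
      exact hOb (by rw [hO, hOr, Subgroup.map_bot])
    have hqF : (q : F) ≠ 0 := fun h => hqr
      ((Nat.prime_dvd_prime_iff_eq hr.out hq).mp ((CharP.cast_eq_zero_iff F r _).mp h)).symm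
    have h2F : (2 : F) ≠ 0 := fun h => hr2 ((Nat.prime_dvd_prime_iff_eq hr.out Nat.prime_two).mp
      ((CharP.cast_eq_zero_iff F r 2).mp (by exact_mod_cast h)))
    have hOn : O.Normal := by
      have : (Cfsg.pCore q H).Characteristic := Cores.pCore_characteristic _ _
      exact Cores.map_subtype_normal_of_characteristic _ _
    obtain ⟨C₀, hC₀⟩ := PGroup.exists_critical hOq
    have := hC₀.char
    set C := C₀.map O.subtype with hCdef
    have hCn : C.Normal := Cores.map_subtype_normal_of_characteristic O C₀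
    have hCO : C ≤ O := Subgroup.map_subtype_le _
    have hclass : ∀ a ∈ C, ∀ b ∈ C, ∀ c ∈ C, Commute ⁅a, b⁆ c := by
      rintro _ ⟨a, ha, rfl⟩ _ ⟨a', -, rfl⟩ _ ⟨c, hc, rfl⟩
      have h1 := Subgroup.mem_centralizer_iff.mp (hC₀.comm_mem a ha a').2 c hc
      rw [← map_commutatorElement]
      exact (show Commute ⁅a, a'⁆ c from h1.symm).map O.subtype
    have hCpow : ∀ c ∈ C, ∀ d ∈ C, Commute (c ^ q) d := by
      rintro _ ⟨c, hc, rfl⟩ _ ⟨d, hd, rfl⟩
      rw [← map_pow]
      exact (show Commute (c ^ q) d from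
        (Subgroup.mem_centralizer_iff.mp (hC₀.pow_mem c hc) d hd).symm).map O.subtype
    have hbC := false_of_noncentral h2F hρ hxn hfpf hqF hq2 hs2 (Ne.symm hqs) (hOq.to_le hCO)
      hclass hCpow (fun c hc => hfixH c (hOH (hCO hc))) hSs hxS b hb
    have hco : Nat.Coprime (orderOf (MulAut.conjNormal b : MulAut O)) q := by
      obtain ⟨j, hj⟩ := hSs ⟨b, hS₁E hb⟩
      refine (((Nat.coprime_primes hs hq).mpr (Ne.symm hqs)).pow_left j).coprime_dvd_left
        (orderOf_dvd_of_pow_eq_one ?_)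
      rw [← map_pow, show b ^ s ^ j = 1 from congrArg Subtype.val hj, map_one]
    have h1 := PGroup.aut_eq_one_of_fix_selfCentralizing hOq hC₀.self_centralizing hco
      (fun c hc => Subtype.ext (by
        rw [MulAut.conjNormal_apply, (hbC _ ⟨c, hc, rfl⟩ : Commute b (c : Γ)).eq, mul_inv_cancel_right]))
    have h2 := congrArg (fun m : MulAut O => ((m ⟨o, ho⟩ : O) : Γ)) h1
    simp only [MulAut.conjNormal_apply, MulAut.one_apply] at h2
    exact mul_inv_eq_iff_eq_mul.mp h2
  let E₁ : Subgroup Γ := E ⊓ ⨅ q : {q : ℕ // q.Prime ∧ q ≠ s},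
    Subgroup.centralizer (((Cfsg.pCore q.1 H).map H.subtype : Subgroup Γ) : Set Γ)
  have hS₁ : ⁅S, Subgroup.zpowers y⁆ ≤ E₁ := fun b hb => Subgroup.mem_inf.mpr ⟨hSE (hS₁E hb),
    Subgroup.mem_iInf.mpr fun q => Subgroup.mem_centralizer_iff.mpr fun o ho =>
      (hcent b hb q.1 q.2.1 q.2.2 o ho).symm.eq⟩
  refine hS₁.trans ?_
  have hE₁n : E₁.Normal := by
    have hin : ∀ q : {q : ℕ // q.Prime ∧ q ≠ s},
        (Subgroup.centralizer (((Cfsg.pCore q.1 H).map H.subtype : Subgroup Γ) : Set Γ)).Normal :=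
      fun q => by
        have : (Cfsg.pCore q.1 H).Characteristic := Cores.pCore_characteristic _ _
        have := Cores.map_subtype_normal_of_characteristic H (Cfsg.pCore q.1 H)
        infer_instance
    have := Subgroup.normal_iInf_normal hin
    exact inferInstanceAs (E ⊓ _).Normal
  have hE₁H : E₁ ≤ H := inf_le_left.trans hEH
  -- `E₁` is nilpotent
  have hnil : Group.IsNilpotent E₁ := by
    have hquot : IsPGroup s (E₁ ⧸ Subgroup.center E₁) := by
      refine IsPGroup.of_card (n := (Nat.card (E₁ ⧸ Subgroup.center E₁)).primeFactorsList.length)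
        (Nat.eq_prime_pow_of_unique_prime_dvd Nat.card_pos.ne' fun {l} hl hdvd => ?_)
      by_contra hls
      have : Fact l.Prime := ⟨hl⟩
      obtain ⟨g', hg'⟩ := exists_prime_orderOf_dvd_card' l hdvd
      obtain ⟨e, he, k, hek⟩ := exists_pElement_preimage (QuotientGroup.mk' (Subgroup.center E₁))
        (QuotientGroup.mk'_surjective _) (x := g') (p := l) ⟨1, by
          rw [pow_one]; exact hg' ▸ pow_orderOf_eq_one g'⟩
      have heE₀ : π₁ (e : Γ) ∈ E₀ := (Subgroup.mem_inf.mp e.2).1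
      obtain ⟨j, hj⟩ := hE₀s ⟨_, heE₀⟩
      have hπe : π₁ (e : Γ) = 1 := orderOf_eq_one_iff.mp (Nat.eq_one_of_dvd_coprimes
        (((Nat.coprime_primes hl hs).mpr hls).pow k j)
        (orderOf_dvd_of_pow_eq_one (by
          rw [← map_pow, ← SubgroupClass.coe_pow, hek]; exact map_one π₁))
        (orderOf_dvd_of_pow_eq_one (congrArg Subtype.val hj)))
      obtain ⟨e₀, he₀, he₀e⟩ : (e : Γ) ∈ F₁ := (QuotientGroup.eq_one_iff _).mp hπe
      have heO : (e : Γ) ∈ (Cfsg.pCore l H).map H.subtype := by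
        refine ⟨e₀, mem_pCore_fitting (e := ⟨e₀, he₀⟩) (k := k) ?_, he₀e⟩
        refine Subtype.ext (Subtype.ext ?_)
        rw [SubgroupClass.coe_pow, SubgroupClass.coe_pow]
        show (H.subtype e₀) ^ l ^ k = 1
        rw [he₀e, ← SubgroupClass.coe_pow, hek]
        rfl
      have hez : e ∈ Subgroup.center E₁ := Subgroup.mem_center_iff.mpr fun b => Subtype.ext
        (Subgroup.mem_centralizer_iff.mp (Subgroup.mem_iInf.mp (Subgroup.mem_inf.mp b.2).2
          ⟨l, hl, hls⟩) (e : Γ) heO).symm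
      have hg1 : g' = 1 := he ▸ (QuotientGroup.eq_one_iff e).mpr hez
      rw [hg1, orderOf_one] at hg'
      exact hl.one_lt.ne hg'
    have := hquot.isNilpotent
    exact Subgroup.isNilpotent_of_ker_le_center (QuotientGroup.mk' (Subgroup.center E₁))
      (QuotientGroup.ker_mk' _).le
  intro e he
  have hle : E₁.subgroupOf H ≤ Cfsg.fittingSubgroup H :=
    Cores.le_fittingSubgroup (hE₁n.subgroupOf H)
      (Group.nilpotent_of_mulEquiv (_h := hnil) (Subgroup.subgroupOfEquivOfLe hE₁H).symm)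
  exact ⟨⟨e, hE₁H he⟩, hle he, rfl⟩

theorem exists_nilMod_two {G : Type u} [Group G] [Finite G]
    (hG : Group.IsSolvable G) {r : ℕ} [hr : Fact r.Prime] (hr2 : r ≠ 2)
    (hO : Cfsg.pPrimeCore r G = ⊥) (σ : MulAut G) {n : ℕ} (hσ : σ ^ 2 ^ (n + 1) = 1)
    (hfix : ∀ g, σ g = g → g = 1) :
    ∃ M : Subgroup G, M.Normal ∧ NilMod M (Cfsg.pCore r G) ∧
      ∀ g, g⁻¹ * (σ ^ 2 ^ n) g ∈ M := by
  have : Fact (Nat.Prime 2) := ⟨Nat.prime_two⟩
  obtain ⟨Γ, _, _, f, x, F, _, _, _, d, ρ, hHn, hHs, hxn, hconj, hker, hpH, hfixH, hOr, hρ, hfpf⟩ :=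
    exists_setting (p := 2) hG hO hr2 σ hσ hfix
  set F₁ := (Cfsg.fittingSubgroup f.range).map f.range.subtype with hF₁
  have hF₁n : F₁.Normal := by
    have : (Cfsg.fittingSubgroup f.range).Characteristic := Cores.fittingSubgroup_characteristic _
    exact Cores.map_subtype_normal_of_characteristic _ _
  refine ⟨F₁.comap f, hF₁n.comap f, ?_, fun g => ?_⟩
  · obtain ⟨k, hk⟩ := (Subgroup.isNilpotent_iff_lowerCentralSeries F₁).mp
      (Cores.isNilpotent_map _ Cores.fittingSubgroup_isNilpotent)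
    refine ⟨k, (map_lcs_le f (N := ⊥) ?_).trans fun a ha => hker a ha⟩
    exact (lcs_mono (Subgroup.map_comap_le _ _) k).trans hk.le
  · rw [Subgroup.mem_comap, mem_of_conj f _ (hconj (2 ^ n))]
    have h1 := commutator_mem_fitting_of_fpf hr2 hHs hpH hxn hfixH hOr hρ hfpf (f g) ⟨g, rfl⟩
    have h2 := hF₁n.conj_mem _ h1 (f g)⁻¹
    rw [commutatorElement_def] at h2
    convert h2 using 1
    group

/-- `g⁻¹ σ^(2^n) g` lies in the second Fitting subgroup. -/
theorem mem_fitting_two {G : Type u} [Group G] [Finite G]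
    (hG : Group.IsSolvable G) (σ : MulAut G) {n : ℕ} (hσ : σ ^ 2 ^ (n + 1) = 1)
    (hfix : ∀ g, σ g = g → g = 1) [(Cfsg.fittingSubgroup G).Normal] (g : G) :
    QuotientGroup.mk' (Cfsg.fittingSubgroup G) (g⁻¹ * (σ ^ 2 ^ n) g) ∈
      Cfsg.fittingSubgroup (G ⧸ Cfsg.fittingSubgroup G) := by
  classical
  have : Fact (Nat.Prime 2) := ⟨Nat.prime_two⟩
  have h2G := not_dvd_card_of_fpf σ hσ hfix
  obtain ⟨P, hPF, -, hP⟩ := nilpotent_pre (G := G)
  have hM : ∀ r : (Nat.card G).primeFactors, ∃ M : Subgroup G, M.Normal ∧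
      NilMod M ((Cfsg.pCore (r : ℕ) (G ⧸ Cfsg.pPrimeCore r G)).comap
        (QuotientGroup.mk' (Cfsg.pPrimeCore (r : ℕ) G))) ∧ ∀ g, g⁻¹ * (σ ^ 2 ^ n) g ∈ M := by
    intro r
    have : Fact (r : ℕ).Prime := ⟨Nat.prime_of_mem_primeFactors r.2⟩
    have hr2 : (r : ℕ) ≠ 2 := fun h => h2G (h ▸ Nat.dvd_of_mem_primeFactors r.2)
    have := hG
    obtain ⟨τ, hτ, hτn, hτfix⟩ := exists_quot_aut (Cfsg.pPrimeCore (r : ℕ) G) σ
      (Cores.pPrimeCore_map_mulEquiv σ (r : ℕ)) hfix
    obtain ⟨M, hMn, ⟨k, hk⟩, hMg⟩ := exists_nilMod_two (G := G ⧸ Cfsg.pPrimeCore (r : ℕ) G)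
      inferInstance hr2 (Cores.pPrimeCore_quotient_self (r : ℕ)) τ (hτn _ hσ) hτfix
    refine ⟨M.comap (QuotientGroup.mk' _), hMn.comap _, ⟨k, ?_⟩, fun g => ?_⟩
    · refine map_lcs_le _ ?_
      rw [Subgroup.map_comap_eq_self_of_surjective (QuotientGroup.mk'_surjective _)]
      exact hk
    · have h1 := hMg (g : G ⧸ Cfsg.pPrimeCore (r : ℕ) G)
      rw [hτ, ← QuotientGroup.mk_inv, ← QuotientGroup.mk_mul] at h1
      exact h1
  choose M hMn hMk hMg using hM
  set K := ⨅ r, M r with hK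
  have hKn : K.Normal := Subgroup.normal_iInf_normal hMn
  obtain ⟨k, hk⟩ := exists_lcs_le_iInf (M := K) _ fun r => (show NilMod K _ from
    (hMk r).imp fun k hk => (lcs_mono (iInf_le M r) k).trans hk)
  have hkF : K.lowerCentralSeries k ≤ Cfsg.fittingSubgroup G := fun a ha =>
    hPF (hP a fun r hr => Subgroup.mem_comap.mp (Subgroup.mem_iInf.mp (hk ha) ⟨r, hr⟩))
  refine Cores.le_fittingSubgroup (hKn.map _ (QuotientGroup.mk'_surjective _))
    ((Subgroup.isNilpotent_iff_lowerCentralSeries _).mpr ⟨k, ?_⟩)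
    (Subgroup.mem_map_of_mem _ (Subgroup.mem_iInf.mpr fun r => hMg r g))
  rw [← Subgroup.map_lowerCentralSeries, Subgroup.map_eq_bot_iff, QuotientGroup.ker_mk']
  exact hkF

theorem gross_two : ∀ (m : ℕ) (G : Type u) [Group G] [Finite G], Group.IsSolvable G →
    ∀ σ : MulAut G, σ ^ 2 ^ (m + 2) = 1 → (∀ g, σ g = g → g = 1) → HeightLE G (2 * m + 2) := by
  intro m
  induction m with
  | zero =>
    intro G _ _ hG σ hσ hfix
    have hnil : Group.IsNilpotent (commutator G) := Cfsg.Agent.S3794.main (Nat.card G) G le_rfl hG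
      σ.toMonoidHom (fun g => by
        have := congrArg (fun f : MulAut G => f g) hσ
        simpa [pow_succ, MulAut.mul_apply] using this) hfix
    refine heightLE_succ (nilMod_of_isNilpotent hnil _) ?_
    refine heightLE_succ (N := ⊤) ⟨1, fun a ha => ?_⟩
      (heightLE_zero fun g => by
        induction g using QuotientGroup.induction_on with | _ g => ?_
        exact (QuotientGroup.eq_one_iff g).mpr (Subgroup.mem_top g))
    have h1 : (⊤ : Subgroup (G ⧸ commutator G)).lowerCentralSeries 1 = ⁅(⊤ : Subgroup (G ⧸ commutator G)), ⊤⁆ :=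
      rfl
    rw [h1] at ha
    rw [← Subgroup.map_top_of_surjective _ (QuotientGroup.mk'_surjective (commutator G)),
      ← Subgroup.map_commutator] at ha
    obtain ⟨b, hb, rfl⟩ := ha
    exact Subgroup.mem_bot.mpr ((QuotientGroup.eq_one_iff b).mpr hb)
  | succ m ih =>
    intro G _ _ hG σ hσ hfix
    have := hG
    have hFn : (Cfsg.fittingSubgroup G).Normal := Subgroup.sSup_normal _ fun _ h => h.1
    have : (Cfsg.fittingSubgroup G).Characteristic := Cores.fittingSubgroup_characteristic _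
    obtain ⟨τ, hτ, hτn, hτfix⟩ := exists_quot_aut (Cfsg.fittingSubgroup G) σ
      (Subgroup.characteristic_iff_map_eq.mp inferInstance σ) hfix
    set G₁ := G ⧸ Cfsg.fittingSubgroup G
    have hFn₁ : (Cfsg.fittingSubgroup G₁).Normal := Subgroup.sSup_normal _ fun _ h => h.1
    have : (Cfsg.fittingSubgroup G₁).Characteristic := Cores.fittingSubgroup_characteristic _
    obtain ⟨τ₂, hτ₂, -, hτ₂fix⟩ := exists_quot_aut (Cfsg.fittingSubgroup G₁) τ
      (Subgroup.characteristic_iff_map_eq.mp inferInstance τ) hτfix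
    rw [show 2 * (m + 1) + 2 = 2 * m + 2 + 1 + 1 by ring]
    refine heightLE_succ (nilMod_of_isNilpotent Cores.fittingSubgroup_isNilpotent _)
      (heightLE_succ (nilMod_of_isNilpotent Cores.fittingSubgroup_isNilpotent _)
        (ih (G₁ ⧸ Cfsg.fittingSubgroup G₁) inferInstance τ₂ ?_ hτ₂fix))
    refine MulEquiv.ext fun q => ?_
    induction q using QuotientGroup.induction_on with | _ q => ?_
    rw [hτ₂, MulAut.one_apply, eq_comm, QuotientGroup.eq]
    induction q using QuotientGroup.induction_on with | _ g => ?_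
    rw [hτ, ← QuotientGroup.mk_inv, ← QuotientGroup.mk_mul]
    exact mem_fitting_two hG σ hσ hfix g

end Cfsg.Agent.Gross
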