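/-
Invariant alternating forms for an elementary group rotated by an element of order `p`, in
characteristic `p` (helper3).

Main result (namespace `Cfsg.Agent.HallHigman`):
* invariant_alternating_eq_zero: with at most a line of fixed points there is no such form
-/
import Mathlib
import Cfsg.Agent.EqLemmas

set_option autoImplicit false

namespace Cfsg.Agent.HallHigman

variable {p : ℕ} [hp : Fact p.Prime] {H : Type*} [Group H] [Finite H]
  {W : Type*} [AddCommGroup W] [Module (ZMod p) W] [Finite W]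
  {Z : Type*} [AddCommGroup Z] [Module (ZMod p) Z]
  (ρ : H →* Module.End (ZMod p) W) (β : W →ₗ[ZMod p] W →ₗ[ZMod p] Z)

omit [Finite H] [Finite W] in
theorem rep_mul (g h : H) (w : W) : ρ (g * h) w = ρ g (ρ h w) := by
  rw [map_mul, Module.End.mul_apply]

omit [Finite H] in
/-- An element of order `p` with at most `p` fixed points lives in dimension at most `p`. -/
theorem card_le_pow_of_fixed_le (b : H) (hb : b ^ p = 1)
    (hline : Nat.card {w : W // ρ b w = w} ≤ p) : Nat.card W ≤ p ^ p := by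
  rcases subsingleton_or_nontrivial W with hW | hW
  · rw [Nat.card_of_subsingleton (0 : W)]
    exact Nat.one_le_pow _ _ hp.out.pos
  have : CharP (Module.End (ZMod p) W) p :=
    charP_of_injective_algebraMap (algebraMap (ZMod p) (Module.End (ZMod p) W)).injective p
  set N : Module.End (ZMod p) W := ρ b - 1 with hN
  have hNp : N ^ p = 0 := by
    rw [hN, sub_pow_char_of_commute (p := p) (Commute.one_right (ρ b)), one_pow, ← map_pow, hb, map_one, sub_self]
  have hker : Nat.card (LinearMap.ker N) ≤ p := by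
    refine le_trans (le_of_eq (Nat.card_congr (Equiv.subtypeEquivRight fun w => ?_))) hline
    show w ∈ LinearMap.ker N ↔ _
    rw [LinearMap.mem_ker, hN, LinearMap.sub_apply, Module.End.one_apply, sub_eq_zero]
  have key : ∀ k : ℕ, Nat.card (LinearMap.ker (N ^ k)) ≤ p ^ k := by
    intro k
    induction k with
    | zero =>
      rw [pow_zero, pow_zero, show LinearMap.ker (1 : Module.End (ZMod p) W) = ⊥ from LinearMap.ker_id]
      simp
    | succ k ih =>
      let f : LinearMap.ker (N ^ (k + 1)) →+ LinearMap.ker (N ^ k) :=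
        AddMonoidHom.mk' (fun w => ⟨N w, by
          rw [LinearMap.mem_ker, ← Module.End.mul_apply, ← pow_succ]; exact w.2⟩)
          (fun v w => Subtype.ext (map_add N (v : W) w))
      rw [AddSubgroup.card_eq_card_quotient_mul_card_addSubgroup f.ker,
        Nat.card_congr (QuotientAddGroup.quotientKerEquivRange f).toEquiv]
      refine le_trans (Nat.mul_le_mul ((Nat.card_le_card_of_injective _ f.range.subtype_injective).trans ih) (le_trans ?_ hker))
        (pow_succ p k).ge
      refine Nat.card_le_card_of_injective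
        (fun w => (⟨(w.1 : W), LinearMap.mem_ker.2 (congrArg Subtype.val (w.2 : f w.1 = 0))⟩ :
          LinearMap.ker N)) fun v w h => ?_
      exact Subtype.ext (Subtype.ext (congrArg (fun z : LinearMap.ker N => (z : W)) h))
  refine le_trans (le_of_eq ?_) (key p)
  rw [hNp, show LinearMap.ker (0 : Module.End (ZMod p) W) = ⊤ from LinearMap.ker_zero]
  exact (Nat.card_congr (Equiv.subtypeUnivEquiv fun w => Submodule.mem_top)).symm

variable (Q : Subgroup H) {q : ℕ} (b : H)

/-- Elements of an elementary group of rank two or more cannot all be semiregular. -/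
theorem exists_fixed_of_noncyclic {r : ℕ} (hr : r.Prime) (hrp : r ≠ p)
    (hQe : ∀ x ∈ Q, x ^ r = 1) (hQc : ∀ x ∈ Q, ∀ y ∈ Q, Commute x y) (a c : H) (ha : a ∈ Q) (hc : c ∈ Q)
    (ha1 : a ≠ 1) (hca : c ∉ Subgroup.zpowers a) (v : W) (hv : v ≠ 0) :
    ∃ x ∈ Q, x ≠ 1 ∧ ∃ w, w ≠ 0 ∧ ρ x w = w := by
  by_contra hcon
  push Not at hcon
  have hnorm : ∀ x ∈ Q, x ≠ 1 → ∀ u, ∑ j ∈ Finset.range r, ρ (x ^ j) u = 0 := by
    intro x hx hx1 u
    by_contra h0
    refine hcon x hx hx1 _ h0 ?_
    rw [map_sum]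
    have e1 := Finset.sum_range_succ' (fun j => ρ (x ^ j) u) r
    have e2 := Finset.sum_range_succ (fun j => ρ (x ^ j) u) r
    rw [e1, pow_zero, hQe x hx, map_one, Module.End.one_apply] at e2
    refine Eq.trans ?_ (add_right_cancel e2)
    exact Finset.sum_congr rfl fun j _ => by rw [← rep_mul, ← pow_succ']
  have hne : ∀ i : ℕ, a * c ^ i ≠ 1 := by
    intro i h
    by_cases hi : r ∣ i
    · obtain ⟨d, rfl⟩ := hi
      rw [pow_mul, hQe c hc, one_pow, mul_one] at h
      exact ha1 h
    · obtain ⟨l, -, hl⟩ := Nat.exists_mul_mod_eq_one_of_coprime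
        ((hr.coprime_iff_not_dvd.2 hi).symm) hr.one_lt
      refine hca ?_
      have h1 : c ^ i = a⁻¹ := eq_inv_of_mul_eq_one_right h
      have h2 : (c ^ i) ^ l = c := by
        rw [← pow_mul, ← Nat.div_add_mod (i * l) r, pow_add, pow_mul, hQe c hc, one_pow, one_mul, hl,
          pow_one]
      rw [← h2, h1]
      exact pow_mem (inv_mem (Subgroup.mem_zpowers a)) l
  have h0 : ∑ j ∈ Finset.range r, ∑ i ∈ Finset.range r, ρ ((a * c ^ i) ^ j) v = 0 := by
    rw [Finset.sum_comm]
    exact Finset.sum_eq_zero fun i _ => hnorm _ (Q.mul_mem ha (pow_mem hc i)) (hne i) v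
  rw [Finset.sum_eq_single 0 (fun j hj hj0 => ?_) (fun h => absurd (Finset.mem_range.2 hr.pos) h)] at h0
  · simp only [pow_zero, map_one, Module.End.one_apply, Finset.sum_const, Finset.card_range] at h0
    rw [← Nat.cast_smul_eq_nsmul (ZMod p), smul_eq_zero] at h0
    refine h0.elim (fun h => ?_) hv
    rw [ZMod.natCast_eq_zero_iff] at h
    exact hrp ((Nat.prime_dvd_prime_iff_eq hp.out hr).1 h).symm
  · have h1 : ∀ i : ℕ, ρ ((a * c ^ i) ^ j) v = ρ (a ^ j) (ρ ((c ^ j) ^ i) v) := fun i => by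
      rw [((hQc a ha c hc).pow_right i).mul_pow, rep_mul, ← pow_mul, ← pow_mul, mul_comm i j]
    simp only [h1, ← map_sum]
    rw [hnorm _ (pow_mem hc j) (fun h => hca ?_) v, map_zero]
    obtain ⟨l, -, hl⟩ := Nat.exists_mul_mod_eq_one_of_coprime
      ((hr.coprime_iff_not_dvd.2 (Nat.not_dvd_of_pos_of_lt (Nat.pos_of_ne_zero hj0)
        (Finset.mem_range.1 hj))).symm) hr.one_lt
    have h2 : (c ^ j) ^ l = c := by
      rw [← pow_mul, ← Nat.div_add_mod (j * l) r, pow_add, pow_mul, hQe c hc, one_pow, one_mul, hl,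
        pow_one]
    rw [← h2, h, one_pow]
    exact one_mem _

variable (hQe : ∀ x ∈ Q, x ^ q = 1) (hQc : ∀ x ∈ Q, ∀ y ∈ Q, Commute x y)
  (hb : b ^ p = 1) (hbQ : ∀ x ∈ Q, b * x * b⁻¹ ∈ Q) (hbfix : ∀ x ∈ Q, Commute b x → x = 1)
  (hinv : ∀ x ∈ Q, ∀ v w, β (ρ x v) (ρ x w) = β v w) (halt : ∀ v, β v v = 0)
  (hfixQ : ∀ w, (∀ x ∈ Q, ρ x w = w) → w = 0)
  (hline : Nat.card {w : W // ρ b w = w} ≤ p)

include hQc hinv halt hfixQ hline hQe hb hbQ hbfix

/-- The cyclic case. -/
theorem invariant_alternating_eq_zero_cyclic (hp2 : p ≠ 2) (hq : q.Prime)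
    (x : H) (hx : x ∈ Q) (hgen : Q ≤ Subgroup.zpowers x) (hx1 : x ≠ 1) : β = 0 := by
  classical
  have : Fact q.Prime := ⟨hq⟩
  rcases subsingleton_or_nontrivial W with hW | hW
  · exact LinearMap.ext fun v => by rw [Subsingleton.elim v 0, map_zero, map_zero]
  have hxo : orderOf x = q := orderOf_eq_prime (hQe x hx) hx1
  obtain ⟨r, hr⟩ : ∃ r : ℕ, b * x * b⁻¹ = x ^ r := by
    obtain ⟨r, hr⟩ := (isOfFinOrder_of_finite x).mem_powers_iff_mem_zpowers.2 (hgen (hbQ x hx))
    exact ⟨r, hr.symm⟩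
  have hconjpow : ∀ i : ℕ, b ^ i * x * (b ^ i)⁻¹ = x ^ r ^ i := by
    intro i
    induction i with
    | zero => simp
    | succ i ih =>
      calc b ^ (i + 1) * x * (b ^ (i + 1))⁻¹ = b * (b ^ i * x * (b ^ i)⁻¹) * b⁻¹ := by
            rw [pow_succ']; group
        _ = (b * x * b⁻¹) ^ r ^ i := by rw [ih, conj_pow]
        _ = x ^ r ^ (i + 1) := by rw [hr, ← pow_mul, ← pow_succ']
  have hxmod : ∀ m l : ℕ, x ^ m = x ^ l → (m : ZMod q) = l := fun m l h => by
    rw [ZMod.natCast_eq_natCast_iff]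
    exact hxo ▸ pow_eq_pow_iff_modEq.1 h
  have hro : orderOf (r : ZMod q) = p := by
    refine orderOf_eq_prime ?_ ?_
    · rw [← Nat.cast_pow, ← Nat.cast_one]
      refine hxmod _ _ ?_
      rw [← hconjpow, hb, inv_one, one_mul, mul_one, pow_one]
    · intro h
      rw [← Nat.cast_one, ZMod.natCast_eq_natCast_iff] at h
      refine hx1 (hbfix x hx ?_)
      have h1 : b * x * b⁻¹ = x := by
        rw [hr]
        conv_rhs => rw [← pow_one x]
        exact pow_eq_pow_iff_modEq.2 (hxo.symm ▸ h)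
      exact mul_inv_eq_iff_eq_mul.1 h1
  have hq2 : q ≠ 2 := by
    rintro rfl
    have h1 : (r : ZMod 2) = 0 ∨ (r : ZMod 2) = 1 :=
      (show ∀ c : Fin 2, c = 0 ∨ c = 1 by decide) _
    rcases h1 with h1 | h1
    · have := pow_orderOf_eq_one (r : ZMod 2)
      rw [hro, h1, zero_pow hp.out.ne_zero] at this
      exact zero_ne_one this
    · rw [h1, orderOf_one] at hro
      exact hp.out.one_lt.ne hro
  set T := ρ x with hT
  have hTq : T ^ q = 1 := by rw [hT, ← map_pow, hQe x hx, map_one]
  set μ := minpoly (ZMod p) T with hμ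
  have hTint : IsIntegral (ZMod p) T := Algebra.IsIntegral.isIntegral T
  have hμ0 : μ ≠ 0 := minpoly.ne_zero hTint
  have hμq : μ ∣ Polynomial.X ^ q - 1 := minpoly.dvd _ _ (by simp [hTq])
  have hμ1 : μ.eval 1 ≠ 0 := by
    intro h
    obtain ⟨g, hg⟩ := (Polynomial.dvd_iff_isRoot (a := (1 : ZMod p))).2 h
    have hg0 : g ≠ 0 := fun h0 => hμ0 (by rw [hg, h0, mul_zero])
    have h1 : Polynomial.aeval T g = 0 := by
      refine LinearMap.ext fun w => ?_
      refine hfixQ _ fun y hy => ?_
      have h2 : T (Polynomial.aeval T g w) = Polynomial.aeval T g w := by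
        have h3 : Polynomial.aeval T μ = 0 := minpoly.aeval _ _
        rw [hg, map_mul] at h3
        have h4 := LinearMap.congr_fun h3 w
        rw [Module.End.mul_apply, map_sub, Polynomial.aeval_X, map_one, map_one, LinearMap.sub_apply,
          Module.End.one_apply, LinearMap.zero_apply, sub_eq_zero] at h4
        exact h4
      obtain ⟨k, rfl⟩ := (isOfFinOrder_of_finite x).mem_powers_iff_mem_zpowers.2 (hgen hy)
      show ρ (x ^ k) _ = _
      induction k with
      | zero => simp
      | succ k ih => rw [pow_succ, rep_mul]; exact (congrArg (ρ (x ^ k)) h2).trans (ih (pow_mem hx k))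
    have h2 := Polynomial.natDegree_le_of_dvd (minpoly.dvd _ _ h1) hg0
    rw [← hμ, hg, Polynomial.natDegree_mul (Polynomial.X_sub_C_ne_zero 1) hg0,
      Polynomial.natDegree_X_sub_C] at h2
    omega
  have hμr : μ ∣ μ.comp (Polynomial.X ^ r) := by
    refine minpoly.dvd _ _ ?_
    rw [Polynomial.aeval_comp, map_pow, Polynomial.aeval_X]
    have hconj : ∀ g : Polynomial (ZMod p), Polynomial.aeval (T ^ r) g =
        ρ b * Polynomial.aeval T g * ρ b⁻¹ := by
      intro g
      induction g using Polynomial.induction_on' with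
      | add f g hf hg => rw [map_add, map_add, hf, hg, mul_add, add_mul]
      | monomial n a =>
        rw [Polynomial.aeval_monomial, Polynomial.aeval_monomial, hT, ← map_pow, ← map_pow, ← map_pow,
          ← hr, conj_pow, map_mul, map_mul]
        simp only [Algebra.algebraMap_eq_smul_one, smul_mul_assoc, one_mul, mul_smul_comm, mul_assoc]
    rw [hconj, minpoly.aeval, mul_zero, zero_mul]
  have hdeg : μ.natDegree ≤ p := by
    have h1 : μ ∣ T.charpoly := minpoly.dvd _ _ (LinearMap.aeval_self_charpoly T)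
    have h2 := Polynomial.natDegree_le_of_dvd h1 (T.charpoly_monic.ne_zero)
    rw [LinearMap.charpoly_natDegree] at h2
    refine h2.trans ?_
    have h3 := card_le_pow_of_fixed_le ρ b hb hline
    rw [Module.natCard_eq_pow_finrank (K := ZMod p) (V := W), Nat.card_zmod] at h3
    exact (Nat.pow_le_pow_iff_right hp.out.one_lt).1 h3
  -- the roots of `μ` and of its mirror image are disjoint
  let K := AlgebraicClosure (ZMod p)
  set ν := μ.comp (Polynomial.X ^ (q - 1)) with hν
  have hcop : IsCoprime μ ν := by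
    rw [Polynomial.isCoprime_iff_aeval_ne_zero_of_isAlgClosed (ZMod p) K]
    intro l
    by_contra hl
    push Not at hl
    obtain ⟨hl1, hl2⟩ := hl
    rw [hν, Polynomial.aeval_comp, map_pow, Polynomial.aeval_X] at hl2
    have hlq : l ^ q = 1 := by
      obtain ⟨g, hg⟩ := hμq
      have h5 := congrArg (Polynomial.aeval l) hg
      rw [map_mul, hl1, zero_mul, map_sub, map_pow, Polynomial.aeval_X, map_one, sub_eq_zero] at h5
      exact h5
    have hl0 : l ≠ 1 := by
      rintro rfl
      refine hμ1 ((algebraMap (ZMod p) K).injective ?_)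
      rw [map_zero, ← Polynomial.aeval_algebraMap_apply_eq_algebraMap_eval, map_one, hl1]
    have hlo : orderOf l = q := orderOf_eq_prime hlq hl0
    have hroots : ∀ i : ℕ, Polynomial.aeval (l ^ r ^ i) μ = 0 := by
      intro i
      induction i with
      | zero => rwa [pow_zero, pow_one]
      | succ i ih =>
        obtain ⟨g, hg⟩ := hμr
        have h5 := congrArg (Polynomial.aeval (l ^ r ^ i)) hg
        rw [Polynomial.aeval_comp, map_mul, ih, zero_mul, map_pow, Polynomial.aeval_X, ← pow_mul,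
          ← pow_succ] at h5
        exact h5
    have hlinj : ∀ m k : ℕ, l ^ m = l ^ k → (m : ZMod q) = k := by
      intro m k h
      rw [ZMod.natCast_eq_natCast_iff']
      rw [← hlo]
      refine pow_injOn_Iio_orderOf (Nat.mod_lt _ (hlo ▸ hq.pos)) (Nat.mod_lt _ (hlo ▸ hq.pos)) ?_
      show l ^ _ = l ^ _
      rwa [pow_mod_orderOf, pow_mod_orderOf]
    have hinjr : Set.InjOn (fun i : ℕ => l ^ r ^ i) ↑(Finset.range p) := by
      intro i hi j hj h
      have h5 := hlinj _ _ h
      rw [Nat.cast_pow, Nat.cast_pow] at h5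
      refine pow_injOn_Iio_orderOf ?_ ?_ h5
      · rw [hro]; exact Finset.mem_range.1 hi
      · rw [hro]; exact Finset.mem_range.1 hj
    have hsub : (Finset.range p).image (fun i : ℕ => l ^ r ^ i) ⊆
        (μ.map (algebraMap (ZMod p) K)).roots.toFinset := by
      intro c hc
      obtain ⟨i, -, rfl⟩ := Finset.mem_image.1 hc
      rw [Multiset.mem_toFinset, Polynomial.mem_roots', Polynomial.IsRoot.def, Polynomial.eval_map,
        ← Polynomial.aeval_def]
      exact ⟨(Polynomial.map_ne_zero_iff (algebraMap (ZMod p) K).injective).2 hμ0, hroots i⟩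
    have heq := Finset.eq_of_subset_of_card_le hsub (by
      rw [Finset.card_image_of_injOn hinjr, Finset.card_range]
      refine le_trans (Multiset.toFinset_card_le _) ((Polynomial.card_roots' _).trans ?_)
      rw [Polynomial.natDegree_map]
      exact hdeg)
    have hmem : l ^ (q - 1) ∈ (μ.map (algebraMap (ZMod p) K)).roots.toFinset := by
      rw [Multiset.mem_toFinset, Polynomial.mem_roots', Polynomial.IsRoot.def, Polynomial.eval_map,
        ← Polynomial.aeval_def]
      exact ⟨(Polynomial.map_ne_zero_iff (algebraMap (ZMod p) K).injective).2 hμ0, hl2⟩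
    rw [← heq, Finset.mem_image] at hmem
    obtain ⟨k, hk, hk'⟩ := hmem
    have h5 := hlinj _ _ hk'
    rw [Nat.cast_pow, Nat.cast_sub hq.one_le, ZMod.natCast_self, Nat.cast_one, zero_sub] at h5
    have h6 : (r : ZMod q) ^ (2 * k) = 1 := by rw [pow_mul', h5, neg_one_sq]
    have h7 : p ∣ k := by
      have h8 := orderOf_dvd_of_pow_eq_one h6
      rw [hro] at h8
      exact ((Nat.coprime_primes hp.out Nat.prime_two).2 hp2).dvd_of_dvd_mul_left h8
    have hk0 : k = 0 := Nat.eq_zero_of_dvd_of_lt h7 (Finset.mem_range.1 hk)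
    rw [hk0, pow_zero] at h5
    have h9 : ((2 : ℕ) : ZMod q) = 0 := by
      push_cast
      linear_combination h5
    rw [ZMod.natCast_eq_zero_iff] at h9
    exact hq2 ((Nat.prime_dvd_prime_iff_eq hq Nat.prime_two).1 h9)
  -- the adjoint of `g T` is `g T⁻¹`
  have hadj : ∀ (g : Polynomial (ZMod p)) v w,
      β (Polynomial.aeval T g v) w = β v (Polynomial.aeval (T ^ (q - 1)) g w) := by
    intro g
    induction g using Polynomial.induction_on' with
    | add f g hf hg =>
      intro v w
      rw [map_add, map_add, LinearMap.add_apply, LinearMap.add_apply, map_add, LinearMap.add_apply, hf,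
        hg, map_add]
    | monomial n a =>
      intro v w
      have h1 : (T ^ n) * (T ^ (q - 1)) ^ n = 1 := by
        rw [← pow_mul, ← pow_add, add_comm, mul_comm, ← Nat.mul_succ, Nat.succ_eq_add_one,
          Nat.sub_add_cancel hq.one_le, mul_comm, pow_mul, hTq, one_pow]
      rw [Polynomial.aeval_monomial, Polynomial.aeval_monomial, Module.End.mul_apply,
        Module.End.mul_apply, Module.algebraMap_end_apply, Module.algebraMap_end_apply, map_smul,
        LinearMap.smul_apply, map_smul]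
      congr 1
      conv_lhs => rw [show w = (T ^ n) (((T ^ (q - 1)) ^ n) w) by
        rw [← Module.End.mul_apply, h1, Module.End.one_apply]]
      rw [hT, ← map_pow, hinv _ (pow_mem hx n)]
  refine LinearMap.ext fun v => LinearMap.ext fun w => ?_
  obtain ⟨A, B, hAB⟩ := hcop
  have h1 : Polynomial.aeval T ν (Polynomial.aeval T B w) = w := by
    have h2 := congrArg (fun g => Polynomial.aeval T g w) hAB
    simp only [map_add, map_mul, minpoly.aeval, mul_zero, zero_add, map_one, Module.End.one_apply,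
      hμ] at h2
    rw [← Module.End.mul_apply, ← map_mul, mul_comm, map_mul]
    exact h2
  rw [← h1, hν, Polynomial.aeval_comp, map_pow, Polynomial.aeval_X, ← hadj, minpoly.aeval]
  simp

/-- No non-zero invariant alternating form. -/
theorem invariant_alternating_eq_zero (hp2 : p ≠ 2) (hq : q.Prime) (hqp : q ≠ p) (hQ : Q ≠ ⊥)
    (hmin : ∀ S : Subgroup H, S ≤ Q → (∀ x ∈ S, b * x * b⁻¹ ∈ S) → S = ⊥ ∨ S = Q)
    (hirr : ∀ S : AddSubgroup W, (∀ x ∈ Q, ∀ v ∈ S, ρ x v ∈ S) → (∀ v ∈ S, ρ b v ∈ S) →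
      S = ⊥ ∨ S = ⊤) : β = 0 := by
  classical
  obtain ⟨x, hx, hx1⟩ := Q.bot_or_exists_ne_one.resolve_left hQ
  by_cases hgen : Q ≤ Subgroup.zpowers x
  · exact invariant_alternating_eq_zero_cyclic ρ β Q b hQe hQc hb hbQ hbfix hinv halt hfixQ hline hp2
      hq x hx hgen hx1
  rcases subsingleton_or_nontrivial W with hW | hW
  · exact LinearMap.ext fun v => by rw [Subsingleton.elim v 0, map_zero, map_zero]
  obtain ⟨c, hc, hcx⟩ := SetLike.not_le_iff_exists.1 hgen
  obtain ⟨v₀, hv₀⟩ := exists_ne (0 : W)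
  obtain ⟨a, ha, ha1, w₀, hw₀, haw⟩ :=
    exists_fixed_of_noncyclic ρ Q hq hqp hQe hQc x c hx hc hx1 hcx v₀ hv₀
  let st : W → Subgroup H := fun w =>
    { carrier := {g | g ∈ Q ∧ ρ g w = w}
      one_mem' := ⟨one_mem Q, by simp⟩
      mul_mem' := fun {g h} hg hh => ⟨mul_mem hg.1 hh.1, by rw [rep_mul, hh.2, hg.2]⟩
      inv_mem' := fun {g} hg => ⟨inv_mem hg.1, by
        conv_lhs => rw [← hg.2]
        rw [← rep_mul, inv_mul_cancel, map_one, Module.End.one_apply]⟩ }
  have : Finite {w : W // w ≠ 0} := inferInstance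
  have : Nonempty {w : W // w ≠ 0} := ⟨⟨w₀, hw₀⟩⟩
  obtain ⟨⟨wK, hwK⟩, hmax⟩ := Finite.exists_max (fun w : {w : W // w ≠ 0} => Nat.card (st w.1))
  set K := st wK with hK
  have hK1 : K ≠ ⊥ := by
    intro h
    have h1 : Nat.card (st w₀) ≤ Nat.card K := hmax ⟨w₀, hw₀⟩
    rw [h, Subgroup.card_bot] at h1
    refine ha1 ?_
    have : Subsingleton (st w₀) := Finite.card_le_one_iff_subsingleton.1 h1
    exact congrArg Subtype.val (Subsingleton.elim (⟨a, ha, haw⟩ : st w₀) 1)
  have hKQ : K ≤ Q := fun g hg => hg.1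
  -- translates
  let Kt : ℕ → Subgroup H := fun i => K.map (MulAut.conj (b ^ i)).toMonoidHom
  have hmemKt : ∀ {i g}, g ∈ Kt i ↔ (b ^ i)⁻¹ * g * b ^ i ∈ K := by
    intro i g
    rw [Subgroup.mem_map_equiv, MulAut.conj_symm_apply]
  have hbQi : ∀ i : ℕ, ∀ g ∈ Q, b ^ i * g * (b ^ i)⁻¹ ∈ Q := by
    intro i
    induction i with
    | zero => intro g hg; simpa using hg
    | succ i ih =>
      intro g hg
      have := hbQ _ (ih g hg)
      rw [pow_succ']
      convert this using 1
      group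
  have hKtQ : ∀ i, Kt i ≤ Q := by
    rintro i _ ⟨g, hg, rfl⟩
    exact hbQi i g (hKQ hg)
  have hKtcard : ∀ i, Nat.card (Kt i) = Nat.card K := fun i =>
    Subgroup.card_map_of_injective (MulAut.conj (b ^ i)).injective
  let Wt : ℕ → AddSubgroup W := fun i =>
    { carrier := {v | ∀ g ∈ Kt i, ρ g v = v}
      zero_mem' := fun g _ => map_zero _
      add_mem' := fun {u v} hu hv g hg => by rw [map_add, hu g hg, hv g hg]
      neg_mem' := fun {u} hu g hg => by rw [map_neg, hu g hg] }
  -- stabilisers are exact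
  have hexact : ∀ i, ∀ v ∈ Wt i, v ≠ 0 → ∀ g ∈ Q, ρ g v = v → g ∈ Kt i := by
    intro i v hv hv0 g hg hgv
    have hle : Kt i ≤ st v := fun g hg => ⟨hKtQ i hg, hv g hg⟩
    have h1 : Nat.card (st v) ≤ Nat.card (Kt i) := (hmax ⟨v, hv0⟩).trans (hKtcard i).ge
    rw [Subgroup.eq_of_le_of_card_ge hle h1]
    exact ⟨hg, hgv⟩
  have hWtQ : ∀ i, ∀ g ∈ Q, ∀ v ∈ Wt i, ρ g v ∈ Wt i := by
    intro i g hg v hv k hk
    rw [← rep_mul, (hQc k (hKtQ i hk) g hg).eq, rep_mul, hv k hk]
  have hWtb : ∀ i, ∀ v ∈ Wt i, ρ b v ∈ Wt (i + 1) := by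
    intro i v hv g hg
    rw [hmemKt, pow_succ'] at hg
    have h1 : b⁻¹ * g * b ∈ Kt i := by
      rw [hmemKt]
      convert hg using 1
      group
    have h2 := congrArg (ρ b) (hv _ h1)
    rw [← rep_mul, show b * (b⁻¹ * g * b) = g * b by group, rep_mul] at h2
    exact h2
  have hKt0 : Kt 0 = K := by
    ext g; rw [hmemKt]; simp
  -- a translate different from `K` is moved fixed-point-freely
  have hmove : ∀ i j, Kt i ≠ Kt j → ∃ k ∈ Kt j, ∀ v ∈ Wt i, ρ k v = v → v = 0 := by
    intro i j hne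
    obtain ⟨k, hk, hki⟩ := SetLike.not_le_iff_exists.1 (fun hle : Kt j ≤ Kt i =>
      hne (Subgroup.eq_of_le_of_card_ge hle (by rw [hKtcard, hKtcard])).symm)
    refine ⟨k, hk, fun v hv hfix => ?_⟩
    by_contra hv0
    exact hki (hexact i v hv hv0 k (hKtQ j hk) hfix)
  have hdistinct : ∀ i, 0 < i → i < p → Kt i ≠ Kt 0 := by
    intro i hi0 hip h
    rw [hKt0] at h
    obtain ⟨l, -, hl⟩ := Nat.exists_mul_mod_eq_one_of_coprime
      ((hp.out.coprime_iff_not_dvd.2 (Nat.not_dvd_of_pos_of_lt hi0 hip)).symm) hp.out.one_lt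
    have hstab : ∀ m, ∀ g ∈ K, (b ^ i) ^ m * g * ((b ^ i) ^ m)⁻¹ ∈ K := by
      intro m
      induction m with
      | zero => intro g hg; simpa using hg
      | succ m ih =>
        intro g hg
        have h1 : b ^ i * ((b ^ i) ^ m * g * ((b ^ i) ^ m)⁻¹) * (b ^ i)⁻¹ ∈ Kt i :=
          ⟨_, ih g hg, rfl⟩
        rw [h] at h1
        rw [pow_succ']
        convert h1 using 1
        group
    have hbl : (b ^ i) ^ l = b := by
      rw [← pow_mul, ← Nat.div_add_mod (i * l) p, pow_add, pow_mul, hb, one_pow, one_mul, hl, pow_one]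
    rcases hmin K hKQ (fun g hg => by
      have h1 := hstab l g hg
      rwa [hbl] at h1) with h1 | h1
    · exact hK1 h1
    · refine hwK (hfixQ wK fun g hg => ?_)
      have : g ∈ K := by rw [h1]; exact hg
      exact this.2
  -- the orbit sum embeds `Wt 0` in the fixed points of `b`
  have hindep : ∀ s : Finset ℕ, (∀ i ∈ s, 0 < i ∧ i < p) → ∀ v ∈ Wt 0, ∀ u : ℕ → W,
      (∀ i ∈ s, u i ∈ Wt i) → v + ∑ i ∈ s, u i = 0 → v = 0 := by
    intro s
    induction s using Finset.induction with
    | empty => intro _ v _ u _ h; simpa using h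
    | @insert j s hjs ih =>
      intro hs v hv u hu hsum
      obtain ⟨hj0, hjp⟩ := hs j (Finset.mem_insert_self j s)
      obtain ⟨k, hk, hfree⟩ := hmove 0 j (hdistinct j hj0 hjp).symm
      have hkQ := hKtQ j hk
      refine hfree v hv (sub_eq_zero.1 ?_)
      refine ih (fun i hi => hs i (Finset.mem_insert_of_mem hi)) _
        ((Wt 0).sub_mem (hWtQ 0 k hkQ v hv) hv) (fun i => ρ k (u i) - u i)
        (fun i hi => (Wt i).sub_mem (hWtQ i k hkQ _ (hu i (Finset.mem_insert_of_mem hi)))
          (hu i (Finset.mem_insert_of_mem hi))) ?_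
      have h1 := congrArg (fun z => ρ k z - z) hsum
      simp only [map_zero, sub_zero, Finset.sum_insert hjs, map_add, map_sum] at h1
      rw [hu j (Finset.mem_insert_self j s) k hk] at h1
      rw [Finset.sum_sub_distrib]
      convert h1 using 1
      abel
  have hpowW : ∀ i : ℕ, ∀ v ∈ Wt 0, ρ (b ^ i) v ∈ Wt i := by
    intro i
    induction i with
    | zero => intro v hv; simpa using hv
    | succ i ih => intro v hv; rw [pow_succ', rep_mul]; exact hWtb i _ (ih v hv)
  have hsumfix : ∀ v, ρ b (∑ i ∈ Finset.range p, ρ (b ^ i) v) = ∑ i ∈ Finset.range p, ρ (b ^ i) v := by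
    intro v
    rw [map_sum]
    have e1 := Finset.sum_range_succ' (fun i => ρ (b ^ i) v) p
    have e2 := Finset.sum_range_succ (fun i => ρ (b ^ i) v) p
    rw [e1, pow_zero, hb, map_one] at e2
    refine Eq.trans ?_ (add_right_cancel e2)
    exact Finset.sum_congr rfl fun i _ => by rw [← rep_mul, ← pow_succ']
  have hcard0 : Nat.card (Wt 0) ≤ p := by
    refine le_trans (Nat.card_le_card_of_injective
      (fun v : Wt 0 => (⟨_, hsumfix v⟩ : {w : W // ρ b w = w})) fun v v' h => ?_) hline
    have h1 : ∑ i ∈ Finset.range p, ρ (b ^ i) ((v : W) - v') = 0 := by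
      simp only [map_sub, Finset.sum_sub_distrib, sub_eq_zero]
      exact congrArg Subtype.val h
    rw [← Finset.insert_erase (Finset.mem_range.2 hp.out.pos),
      Finset.sum_insert (Finset.notMem_erase 0 _), pow_zero, map_one, Module.End.one_apply] at h1
    have hmem : (v : W) - v' ∈ Wt 0 := (Wt 0).sub_mem v.2 v'.2
    exact Subtype.ext (sub_eq_zero.1 (hindep _ (fun i hi =>
      ⟨Nat.pos_of_ne_zero (Finset.mem_erase.1 hi).1, Finset.mem_range.1 (Finset.mem_erase.1 hi).2⟩)
      _ hmem _ (fun i _ => hpowW i _ hmem) h1))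
  have hcard : ∀ i, Nat.card (Wt i) ≤ p := by
    intro i
    refine le_trans (le_of_eq (Nat.card_congr (Equiv.symm ?_))) hcard0
    refine Equiv.ofBijective (fun v : Wt 0 => (⟨_, hpowW i v v.2⟩ : Wt i)) ⟨fun v v' h => ?_, fun v => ?_⟩
    · have h1 := congrArg (fun z : Wt i => ρ (b ^ i)⁻¹ (z : W)) h
      simp only [← rep_mul, inv_mul_cancel, map_one, Module.End.one_apply] at h1
      exact Subtype.ext h1
    · refine ⟨⟨ρ (b ^ i)⁻¹ v, fun g hg => ?_⟩, Subtype.ext (by
        show ρ (b ^ i) (ρ (b ^ i)⁻¹ (v : W)) = v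
        rw [← rep_mul, mul_inv_cancel, map_one, Module.End.one_apply])⟩
      rw [hKt0] at hg
      have h1 : b ^ i * g * (b ^ i)⁻¹ ∈ Kt i := ⟨g, hg, rfl⟩
      have h2 := congrArg (ρ (b ^ i)⁻¹) (v.2 _ h1)
      rw [← rep_mul, show (b ^ i)⁻¹ * (b ^ i * g * (b ^ i)⁻¹) = g * (b ^ i)⁻¹ by group, rep_mul] at h2
      exact h2
  have hzero : ∀ i j, ∀ v ∈ Wt i, ∀ w ∈ Wt j, β v w = 0 := by
    intro i j v hv w hw
    by_cases hij : Kt i = Kt j
    · -- a space of order at most `p`
      have hw' : w ∈ Wt i := fun g hg => hw g (by rw [← hij]; exact hg)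
      by_cases hv0 : v = 0
      · simp [hv0]
      have h1 : w ∈ AddSubgroup.zmultiples v := by
        rw [AddSubgroup.eq_of_le_of_card_ge (AddSubgroup.zmultiples_le_of_mem hv) (by
          refine (hcard i).trans (le_of_eq ?_)
          rw [Nat.card_zmultiples]
          refine (addOrderOf_eq_prime ?_ hv0).symm
          rw [← Nat.cast_smul_eq_nsmul (ZMod p), ZMod.natCast_self, zero_smul])]
        exact hw'
      obtain ⟨m, rfl⟩ := AddSubgroup.mem_zmultiples_iff.1 h1
      rw [map_zsmul, halt, smul_zero]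
    · obtain ⟨k, hk, hfree⟩ := hmove i j hij
      have hkQ := hKtQ j hk
      have hinj : Function.Injective
          (fun u : Wt i => (⟨ρ k u - u, (Wt i).sub_mem (hWtQ i k hkQ u u.2) u.2⟩ : Wt i)) := by
        intro u u' h
        have h1 : ρ k (u : W) - u = ρ k u' - u' := congrArg Subtype.val h
        refine Subtype.ext (sub_eq_zero.1 (hfree _ ((Wt i).sub_mem u.2 u'.2) ?_))
        rw [map_sub, eq_comm, sub_eq_sub_iff_sub_eq_sub.1 h1]
      obtain ⟨u, hu⟩ := Finite.injective_iff_surjective.1 hinj ⟨v, hv⟩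
      have hu' : ρ k (u : W) - u = v := congrArg Subtype.val hu
      rw [← hu', map_sub, LinearMap.sub_apply]
      conv_lhs => arg 1; rw [← hw k hk]
      rw [hinv k hkQ, sub_self]
  -- the translates span
  have hspan : AddSubgroup.closure {v | ∃ i, v ∈ Wt i} = ⊤ := by
    have hmaps : ∀ g : H, (∀ i, ∀ v ∈ Wt i, ρ g v ∈ AddSubgroup.closure {v | ∃ i, v ∈ Wt i}) →
        ∀ v ∈ AddSubgroup.closure {v | ∃ i, v ∈ Wt i},
          ρ g v ∈ AddSubgroup.closure {v | ∃ i, v ∈ Wt i} := by
      intro g hg v hv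
      refine AddSubgroup.closure_induction (fun u ⟨i, hu⟩ => hg i u hu)
        (by rw [map_zero]; exact zero_mem _) (fun u u' _ _ hu hu' => by
          rw [map_add]; exact add_mem hu hu') (fun u _ hu => by rw [map_neg]; exact neg_mem hu) hv
    refine (hirr _ (fun g hg => hmaps g fun i v hv =>
      AddSubgroup.subset_closure ⟨i, hWtQ i g hg v hv⟩)
      (hmaps b fun i v hv => AddSubgroup.subset_closure ⟨i + 1, hWtb i v hv⟩)).resolve_left fun h => ?_
    refine hwK ?_
    have hmem : wK ∈ AddSubgroup.closure {v | ∃ i, v ∈ Wt i} :=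
      AddSubgroup.subset_closure ⟨0, fun g hg => by rw [hKt0] at hg; exact hg.2⟩
    rwa [h, AddSubgroup.mem_bot] at hmem
  refine LinearMap.ext fun v => LinearMap.ext fun w => ?_
  have hv : v ∈ AddSubgroup.closure {v | ∃ i, v ∈ Wt i} := by rw [hspan]; trivial
  have hw : w ∈ AddSubgroup.closure {v | ∃ i, v ∈ Wt i} := by rw [hspan]; trivial
  simp only [LinearMap.zero_apply]
  refine AddSubgroup.closure_induction (p := fun u _ => β u w = 0) (fun u hmemu => ?_)
    (by simp) (fun u u' _ _ h h' => by rw [map_add, LinearMap.add_apply, h, h', add_zero])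
    (fun u _ h => by rw [map_neg, LinearMap.neg_apply, h, neg_zero]) hv
  obtain ⟨i, hu⟩ := hmemu
  exact AddSubgroup.closure_induction (p := fun u' _ => β u u' = 0) (fun u' hu' => hu'.elim fun j hj => hzero i j u hu u' hj)
    (by simp) (fun _ _ _ _ h h' => by rw [map_add, h, h', add_zero])
    (fun _ _ h => by rw [map_neg, h, neg_zero]) hw

end Cfsg.Agent.HallHigman
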