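/-
Sign-separated commuting conjugates, and the odd image lemma, for groups with one class of
involutions (helper3).

Main results (namespace `Cfsg.Agent.HallHigman`):
* odd_card_of_one_class_image: the image of a group all of whose involutions lie in a normal 2-subgroup
* exists_sign_separated_conjugates: commuting `g`-conjugates told apart by a four-group-like `T`
-/
import Mathlib.GroupTheory.Abelianization.Defs
import Cfsg.Agent.EqLemmas
import Cfsg.Agent.Lib.Coprime.Invariant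
import Cfsg.Agent.Lib.Solvable.SchurZassenhaus
import Cfsg.Agent.Lib.Solvable.Fitting
import Cfsg.Agent.Lib.Cores.Fitting

set_option autoImplicit false
open scoped commutatorElement Pointwise

namespace Cfsg.Agent.HallHigman

/-- A solvable image of a group all of whose involutions lie in a normal 2-subgroup is odd. -/
theorem odd_card_of_one_class_image {N H : Type*} [Group N] [Finite N] [Group H] [Finite H]
    [Group.IsSolvable H] (φ : N →* H) (hφ : Function.Surjective φ) (R : Subgroup N) [R.Normal]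
    (hR : IsPGroup 2 R) (hRker : R ≤ φ.ker) (hidx : (R.relIndex φ.ker).Coprime 2)
    (hinv : ∀ x : N, x ^ 2 = 1 → x ∈ R) (hH : Cfsg.pCore 2 H = ⊥)
    (hfix : ∀ L : Subgroup H, L.Normal → ∀ r : N, r ≠ 1 → r ^ 2 = 1 →
      (∀ h ∈ L, ∃ n, φ n = h ∧ Commute n r) → L = ⊥) : Odd (Nat.card H) := by
  classical
  set O := Cfsg.pPrimeCore 2 H with hOdef
  have hOn : O.Normal := Cores.pPrimeCore_normal 2 H
  by_cases hO : O = ⊥
  · -- then `H` is trivial
    have hC := Solvable.centralizer_pCore_le_of_isSolvable (p := 2) (G := H) hO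
    rw [hH] at hC
    have : ∀ x : H, x = 1 := fun x => Subgroup.mem_bot.1 (hC (Subgroup.mem_centralizer_iff.2
      fun y hy => by rw [Subgroup.mem_bot.1 hy, one_mul, mul_one]))
    have : Subsingleton H := ⟨fun a b => (this a).trans (this b).symm⟩
    rw [Nat.card_of_subsingleton (1 : H)]
    exact odd_one
  set J := O.comap φ
  have hkerJ : φ.ker ≤ J := fun x hx => by
    show φ x ∈ O
    rw [MonoidHom.mem_ker.1 hx]; exact O.one_mem
  have hRJ : R ≤ J := hRker.trans hkerJ
  obtain ⟨k, hk⟩ := IsPGroup.iff_card.mp hR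
  have hidxJ : (R.relIndex J).Coprime 2 := by
    rw [← Subgroup.relIndex_mul_relIndex R φ.ker J hRker hkerJ]
    refine Nat.Coprime.mul_left hidx ?_
    have h1 : φ.ker.relIndex J = Nat.card O := by
      rw [← MonoidHom.comap_bot, Subgroup.relIndex_comap, Subgroup.map_comap_eq_self_of_surjective hφ,
        Subgroup.relIndex_bot_left]
    rw [h1]
    exact Cores.coprime_card_pPrimeCore 2
  have hRJn : (R.subgroupOf J).Normal := inferInstance
  obtain ⟨K', hK'⟩ := Subgroup.exists_right_complement'_of_coprime (N := R.subgroupOf J) (by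
    rw [Nat.card_congr (Subgroup.subgroupOfEquivOfLe hRJ).toEquiv, hk]
    exact (hidxJ.symm).pow_left k)
  let K := K'.map J.subtype
  have hKJ : K ≤ J := Subgroup.map_subtype_le _
  have hKodd : (Nat.card K).Coprime 2 := by
    rw [Subgroup.card_map_of_injective J.subtype_injective, ← hK'.symm.index_eq_card]
    exact hidxJ
  have hKR : (Nat.card K).Coprime (Nat.card R) := hk ▸ hKodd.pow_right k
  have hsup : K ⊔ R = J := by
    have e := congrArg (Subgroup.map J.subtype) hK'.sup_eq_top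
    rw [Subgroup.map_sup, ← MonoidHom.range_eq_map, Subgroup.range_subtype,
      Subgroup.map_subgroupOf_eq_of_le hRJ, sup_comm] at e
    exact e
  -- Frattini
  have hfrat : ∀ g : N, ∃ n ∈ R, n * g ∈ Subgroup.normalizer (K : Set N) := by
    intro g
    have hcg : Nat.card (MulAut.conj g • K : Subgroup N) = Nat.card K := Coprime.card_conj g K
    have hsup' : MulAut.conj g • K ⊔ R = J := by
      have := congrArg (MulAut.conj g • ·) hsup
      simp only [Subgroup.smul_sup] at this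
      rwa [Solvable.conj_normal g R, Solvable.conj_normal g J] at this
    obtain ⟨n, hn, hnK⟩ := Solvable.exists_conj_of_sup_eq (Or.inl (Solvable.isSolvable_of_isPGroup hR))
      (hsup'.trans hsup.symm) (by rw [hcg]; exact hKR) hKR
    refine ⟨n, hn, Subgroup.mem_normalizer_iff_map_conj_eq.2 ?_⟩
    rw [← mul_smul, ← map_mul, Subgroup.pointwise_smul_def] at hnK
    exact hnK
  -- no involution of `R` normalises `K`
  have hnoinv : ∀ r ∈ R, r ^ 2 = 1 → r ∈ Subgroup.normalizer (K : Set N) → r = 1 := by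
    intro r hr hr2 hrN
    by_contra hr1
    refine hO (hfix O hOn r hr1 hr2 fun h hh => ?_)
    obtain ⟨j, rfl⟩ := hφ h
    have hj : j ∈ K ⊔ R := hsup.symm ▸ (show j ∈ J from hh)
    rw [← SetLike.mem_coe, Subgroup.mul_normal] at hj
    obtain ⟨c, hc, r', hr', rfl⟩ := hj
    refine ⟨c, by rw [map_mul, MonoidHom.mem_ker.1 (hRker hr'), mul_one], ?_⟩
    have h1 : c * r * c⁻¹ * r⁻¹ ∈ K ⊓ R :=
      ⟨by
        have := K.mul_mem hc ((Subgroup.mem_normalizer_iff.1 hrN c⁻¹).1 (K.inv_mem hc))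
        rwa [show c * (r * c⁻¹ * r⁻¹) = c * r * c⁻¹ * r⁻¹ by group] at this,
      R.mul_mem (‹R.Normal›.conj_mem r hr c) (R.inv_mem hr)⟩
    rw [Coprime.inf_eq_bot hKR, Subgroup.mem_bot, mul_inv_eq_one, mul_inv_eq_iff_eq_mul] at h1
    exact h1
  by_contra hodd
  rw [Nat.not_odd_iff_even] at hodd
  -- the normaliser of `K` maps onto `H`
  set NK := Subgroup.normalizer (K : Set N)
  have hsurj : Function.Surjective (φ.comp NK.subtype) := by
    intro h
    obtain ⟨g, rfl⟩ := hφ h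
    obtain ⟨n, hn, hng⟩ := hfrat g
    exact ⟨⟨_, hng⟩, by
      show φ (n * g) = φ g
      rw [map_mul, MonoidHom.mem_ker.1 (hRker hn), one_mul]⟩
  obtain ⟨x, hx⟩ := exists_prime_orderOf_dvd_card' (G := NK) 2
    (hodd.two_dvd.trans (Subgroup.card_dvd_of_surjective _ hsurj))
  have hx2 : (x : N) ^ 2 = 1 := by
    rw [← Subgroup.coe_pow, ← hx, pow_orderOf_eq_one, Subgroup.coe_one]
  have hx1 : (x : N) = 1 := hnoinv _ (hinv _ hx2) hx2 x.2
  rw [show x = 1 from Subtype.ext hx1, orderOf_one] at hx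
  omega

/-- A family of commuting involutory endomorphisms moving something has a common sign vector,
inverted by a given one. -/
theorem exists_sign_vector {ι M : Type*} [CommGroup M] [Finite ι] (a : ι → M →* M)
    (hinv : ∀ i m, a i (a i m) = m) (hcomm : ∀ i j m, a i (a j m) = a j (a i m))
    (i₀ : ι) (m₀ : M) (hm : a i₀ m₀ ≠ m₀) :
    ∃ v : M, v ≠ 1 ∧ a i₀ v = v⁻¹ ∧ ∀ i, a i v = v ∨ a i v = v⁻¹ := by
  classical
  have : Fintype ι := Fintype.ofFinite ι
  suffices h : ∀ s : Finset ι, ∃ v : M, v ≠ 1 ∧ a i₀ v = v⁻¹ ∧ ∀ i ∈ s, a i v = v ∨ a i v = v⁻¹ by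
    obtain ⟨v, h1, h2, h3⟩ := h Finset.univ
    exact ⟨v, h1, h2, fun i => h3 i (Finset.mem_univ i)⟩
  intro s
  induction s using Finset.induction with
  | empty =>
    refine ⟨m₀⁻¹ * a i₀ m₀, fun h => hm (inv_mul_eq_one.1 h).symm, ?_, by simp⟩
    rw [map_mul, map_inv, hinv, mul_inv_rev, inv_inv, mul_comm]
  | @insert j s _ ih =>
    obtain ⟨v, h1, h2, h3⟩ := ih
    by_cases hj : a j v = v
    · exact ⟨v, h1, h2, fun i hi => by
        rcases Finset.mem_insert.1 hi with rfl | hi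
        · exact Or.inl hj
        · exact h3 i hi⟩
    · refine ⟨v⁻¹ * a j v, fun h => hj (inv_mul_eq_one.1 h).symm, ?_, fun i hi => ?_⟩
      · rw [map_mul, map_inv, hcomm, h2, map_inv, mul_inv, inv_inv]
      · rcases Finset.mem_insert.1 hi with rfl | hi
        · right
          rw [map_mul, map_inv, hinv, mul_inv, inv_inv, mul_comm]
        · rcases h3 i hi with h | h
          · left
            rw [map_mul, map_inv, hcomm, h]
          · right
            rw [map_mul, map_inv, hcomm, h, map_inv, mul_inv]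

/-- In a solvable group without normal 2-subgroups, an elementary 2-group `T` rotated without fixed
points by `g` inverts or fixes each of a family of commuting `g`-conjugates, telling them apart. -/
theorem exists_sign_separated_conjugates {X : Type*} [Group X] [Finite X] [Group.IsSolvable X]
    (hX : Cfsg.pCore 2 X = ⊥) (Cb : Subgroup X) [Cb.Normal] (T : Subgroup X) (hT : T ≠ ⊥)
    (hT2 : ∀ t ∈ T, t ^ 2 = 1) (hTC : T ≤ Cb) (g : X) (hgT : ∀ t ∈ T, g * t * g⁻¹ ∈ T) (n : ℕ)
    (hfpf : ∀ i : ℕ, 0 < i → i < n → ∀ t ∈ T, Commute (g ^ i) t → t = 1) :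
    ∃ (q : ℕ) (R : Subgroup X) (y : ℕ → X), q.Prime ∧ q ≠ 2 ∧ IsPGroup q R ∧ R ≤ Cb ∧ R ≠ ⊥ ∧
      (∀ t ∈ T, t ∈ Subgroup.normalizer (R : Set X)) ∧ (∀ i, y i ∈ R) ∧
      (∀ i < n, ∀ j < n, Commute (y i) (y j)) ∧
      (∀ i < n, ∀ j < n, i ≠ j → ∃ t ∈ T, (t⁻¹ * y i * t = (y i)⁻¹ ∧ t⁻¹ * y j * t = y j) ∨
        (t⁻¹ * y j * t = (y j)⁻¹ ∧ t⁻¹ * y i * t = y i)) ∧
      (∀ M : Subgroup X, M.Normal → ∀ i, y i ∈ M → R ≤ M) := by
  classical
  have htinv : ∀ t ∈ T, t⁻¹ = t := fun t ht => inv_eq_of_mul_eq_one_right (by rw [← pow_two, hT2 t ht])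
  have hTab : ∀ s ∈ T, ∀ t ∈ T, s * t = t * s := fun s hs t ht => by
    rw [← htinv _ (T.mul_mem hs ht), mul_inv_rev, htinv s hs, htinv t ht]
  have hTp : IsPGroup 2 T := fun t => ⟨1, Subtype.ext (by simpa using hT2 _ t.2)⟩
  have hTs : Group.IsSolvable T := inferInstance
  -- `T` moves some `O_q ∩ Cb`
  obtain ⟨q, hq, hq2, hTq⟩ : ∃ q : ℕ, q.Prime ∧ q ≠ 2 ∧
      ¬ Cfsg.pCore q X ⊓ Cb ≤ Subgroup.centralizer (T : Set X) := by
    by_contra hcon
    push Not at hcon
    set F := Cfsg.fittingSubgroup X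
    have hFT : F ≤ Subgroup.centralizer (T : Set X) := by
      have hle : ∀ q : ℕ, q.Prime → Cfsg.pCore q X ≤ Subgroup.centralizer (T : Set X) := by
        intro q hq
        have : Fact q.Prime := ⟨hq⟩
        by_cases hq2 : q = 2
        · subst hq2; rw [hX]; exact bot_le
        have hn : (Cfsg.pCore q X).Normal := Cores.pCore_normal q X
        have hTK : T ≤ Subgroup.normalizer (Cfsg.pCore q X : Set X) :=
          le_top.trans (Subgroup.normalizer_eq_top_iff.mpr hn).ge
        have hcop : (Nat.card T).Coprime (Nat.card (Cfsg.pCore q X)) :=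
          IsPGroup.coprime_card_of_ne 2 q (Ne.symm hq2) T _ hTp (Cores.isPGroup_pCore q X)
        have h1 : ⁅Cfsg.pCore q X, T⁆ ≤ Cfsg.pCore q X ⊓ Cb :=
          le_inf (Coprime.commutator_le_left' hTK)
            ((Subgroup.commutator_mono le_rfl hTC).trans (Subgroup.commutator_le_right _ _))
        rw [← Subgroup.commutator_eq_bot_iff_le_centralizer, ← Coprime.commutator_commutator_eq hTK hcop
          (Or.inl hTs), Subgroup.commutator_eq_bot_iff_le_centralizer]
        exact h1.trans (hcon q hq hq2)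
      rw [show F = _ from Cores.fittingSubgroup_eq_iSup_pCore]
      exact iSup_le fun r => hle r r.2
    have hTF : T ≤ F := (Subgroup.le_centralizer_iff.1 hFT).trans (Solvable.centralizer_fitting_le X)
    obtain ⟨x, hx, hx1⟩ := T.bot_or_exists_ne_one.resolve_left hT
    have hF2 : Cfsg.pCore 2 F = ⊥ := by
      have hch : (Cfsg.pCore 2 F).Characteristic := Cores.pCore_characteristic 2 F
      have hn : ((Cfsg.pCore 2 F).map F.subtype).Normal := inferInstance
      have h := Cores.le_pCore hn ((Cores.isPGroup_pCore 2 F).map _)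
      rw [hX, le_bot_iff, Subgroup.map_eq_bot_iff_of_injective _ F.subtype_injective] at h
      exact h
    have hFn : Group.IsNilpotent F := Cores.fittingSubgroup_isNilpotent
    obtain ⟨P, hP⟩ := (IsPGroup.of_card (n := 1) (by
      rw [Nat.card_zpowers, pow_one]
      exact orderOf_eq_prime (Subtype.ext (by simpa using hT2 x hx) : (⟨x, hTF hx⟩ : F) ^ 2 = 1)
        (fun h => hx1 (congrArg Subtype.val h))) :
      IsPGroup 2 (Subgroup.zpowers (⟨x, hTF hx⟩ : F))).exists_le_sylow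
    have h2 := Cores.pCore_eq_sylow (G := F) P ▸ hP (Subgroup.mem_zpowers _)
    rw [hF2, Subgroup.mem_bot] at h2
    exact hx1 (congrArg Subtype.val h2)
  have : Fact q.Prime := ⟨hq⟩
  -- a minimal invariant subgroup moved by `T`
  have hS0n : (Cfsg.pCore q X).Normal := Cores.pCore_normal q X
  obtain ⟨R, ⟨hRle, hTR, hgR, hRT⟩, hmin⟩ := wellFounded_lt.has_min
    {R : Subgroup X | R ≤ Cfsg.pCore q X ⊓ Cb ∧ (∀ t ∈ T, t ∈ Subgroup.normalizer (R : Set X)) ∧
      g ∈ Subgroup.normalizer (R : Set X) ∧ ¬ R ≤ Subgroup.centralizer (T : Set X)}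
    ⟨_, le_rfl, fun t _ => by
        rw [Subgroup.normalizer_eq_top_iff.mpr inferInstance]; trivial, by
        rw [Subgroup.normalizer_eq_top_iff.mpr inferInstance]; trivial, hTq⟩
  have hRp : IsPGroup q R := (Cores.isPGroup_pCore q X).to_le (hRle.trans inf_le_left)
  have hR0 : R ≠ ⊥ := fun h => hRT (h ▸ bot_le)
  have hTR' : T ≤ Subgroup.normalizer (R : Set X) := hTR
  have hcop : (Nat.card T).Coprime (Nat.card R) := IsPGroup.coprime_card_of_ne 2 q (Ne.symm hq2) T R hTp hRp
  have hproper : ∀ R₁ : Subgroup X, R₁ < R → (∀ t ∈ T, t ∈ Subgroup.normalizer (R₁ : Set X)) →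
      g ∈ Subgroup.normalizer (R₁ : Set X) → R₁ ≤ Subgroup.centralizer (T : Set X) :=
    fun R₁ hlt h1 h2 => by
      by_contra h3
      exact hmin R₁ ⟨hlt.le.trans hRle, h1, h2, h3⟩ hlt
  have hgTn : g ∈ Subgroup.normalizer (T : Set X) :=
    Coprime.mem_normalizer_of_forall fun t ht => hgT t ht
  have hnormT : ∀ t ∈ T, t ∈ Subgroup.normalizer (T : Set X) := fun t ht => Subgroup.le_normalizer ht
  have hnorm_comm : ∀ (A B : Subgroup X) (x : X), x ∈ Subgroup.normalizer (A : Set X) →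
      x ∈ Subgroup.normalizer (B : Set X) → x ∈ Subgroup.normalizer ((⁅A, B⁆ : Subgroup X) : Set X) := by
    intro A B x hA hB
    rw [Subgroup.mem_normalizer_iff_map_conj_eq, Subgroup.map_commutator,
      Subgroup.mem_normalizer_iff_map_conj_eq.1 hA, Subgroup.mem_normalizer_iff_map_conj_eq.1 hB]
  -- `[R, T] = R`
  have hRTle : ⁅R, T⁆ ≤ R := Coprime.commutator_le_left' hTR'
  have hRTeq : ⁅R, T⁆ = R := by
    by_contra hne
    have h := hproper _ (lt_of_le_of_ne hRTle hne) (fun t ht => hnorm_comm R T t (hTR t ht) (hnormT t ht))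
      (hnorm_comm R T g hgR hgTn)
    rw [← Subgroup.commutator_eq_bot_iff_le_centralizer,
      Coprime.commutator_commutator_eq hTR' hcop (Or.inl hTs),
      Subgroup.commutator_eq_bot_iff_le_centralizer] at h
    exact hRT h
  have hR'lt : ⁅R, R⁆ < R := Solvable.commutator_lt_of_solvable hR0
  have hR'T : ⁅⁅R, R⁆, T⁆ = ⊥ := Subgroup.commutator_eq_bot_iff_le_centralizer.2
    (hproper _ hR'lt (fun t ht => hnorm_comm R R t (hTR t ht) (hTR t ht)) (hnorm_comm R R g hgR hgR))
  have hR'R : ⁅⁅R, R⁆, R⁆ = ⊥ := by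
    rw [Subgroup.commutator_comm]
    conv_lhs => arg 1; rw [← hRTeq]
    refine Subgroup.commutator_commutator_eq_bot_of_rotate ?_ ?_
    · rw [Subgroup.commutator_comm T, hR'T, Subgroup.commutator_bot_left]
    · refine eq_bot_iff.2 ((Subgroup.commutator_mono ?_ le_rfl).trans hR'T.le)
      rw [Subgroup.commutator_comm ⁅R, R⁆ R]
      exact Subgroup.commutator_mono le_rfl hR'lt.le
  have hcR : ∀ c ∈ ⁅R, R⁆, ∀ r ∈ R, Commute c r := fun c hc r hr =>
    (Subgroup.mem_centralizer_iff.1 (Subgroup.commutator_eq_bot_iff_le_centralizer.1 hR'R hc) r hr).symm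
  have hcT : ∀ c ∈ ⁅R, R⁆, ∀ t ∈ T, t * c * t⁻¹ = c := fun c hc t ht => by
    rw [Subgroup.mem_centralizer_iff.1 (Subgroup.commutator_eq_bot_iff_le_centralizer.1 hR'T hc) t ht,
      mul_inv_cancel_right]
  -- the involutory action on `R / R'`
  let σ : T → (R →* R) := fun t =>
    ((MulAut.conj (t : X)).toMonoidHom.comp R.subtype).codRestrict R fun r =>
      (Subgroup.mem_normalizer_iff.1 (hTR t t.2) r).1 r.2
  have hσ : ∀ (t : T) (r : R), ((σ t r : R) : X) = t * r * (t : X)⁻¹ := fun t r => rfl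
  let a : T → (Abelianization R →* Abelianization R) := fun t => Abelianization.map (σ t)
  have ha : ∀ t r, a t (Abelianization.of r) = Abelianization.of (σ t r) := fun t r =>
    Abelianization.map_of _ _
  have hker : ∀ r : R, Abelianization.of r = 1 ↔ (r : X) ∈ ⁅R, R⁆ := by
    intro r
    rw [← Subgroup.map_subtype_commutator R, ← MonoidHom.mem_ker, Abelianization.ker_of]
    exact (Subgroup.mem_map_iff_mem R.subtype_injective).symm
  have hofsurj : ∀ m : Abelianization R, ∃ r : R, Abelianization.of r = m := fun m => QuotientGroup.mk_surjective m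
  obtain ⟨t₀, r₀, hr₀⟩ : ∃ (t : T) (r : R), a t (Abelianization.of r) ≠ Abelianization.of r := by
    by_contra hcon
    push Not at hcon
    refine hR'lt.not_ge ?_
    conv_lhs => rw [← hRTeq]
    rw [Subgroup.commutator_le]
    intro r hr t ht
    have h1 := hcon ⟨t, ht⟩ ⟨r, hr⟩
    rw [ha, eq_comm, ← mul_inv_eq_one, ← map_inv, ← map_mul, hker] at h1
    rw [commutatorElement_def]
    have h2 : r * t * r⁻¹ * t⁻¹ = ((⟨r, hr⟩ * (σ ⟨t, ht⟩ ⟨r, hr⟩)⁻¹ : R) : X) := by
      rw [Subgroup.coe_mul, Subgroup.coe_inv, hσ]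
      group
    rw [h2]
    exact h1
  obtain ⟨v, hv1, hv0, hvs⟩ := exists_sign_vector a (fun t m => by
      obtain ⟨r, rfl⟩ := hofsurj m
      rw [ha, ha]
      refine congrArg _ (Subtype.ext ?_)
      rw [hσ, hσ, htinv _ t.2]
      calc (t : X) * (t * r * t) * t = ((t : X) ^ 2) * r * (t : X) ^ 2 := by simp only [pow_two, mul_assoc]
        _ = r := by rw [hT2 _ t.2, one_mul, mul_one]) (fun s t m => by
      obtain ⟨r, rfl⟩ := hofsurj m
      rw [ha, ha, ha, ha]
      refine congrArg _ (Subtype.ext ?_)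
      rw [hσ, hσ, hσ, hσ]
      calc (s : X) * (t * r * (t : X)⁻¹) * (s : X)⁻¹ = ((s : X) * t) * r * ((s : X) * t)⁻¹ := by group
        _ = _ := by rw [hTab _ s.2 _ t.2]; group) t₀ (Abelianization.of r₀) hr₀
  obtain ⟨y₁, rfl⟩ := hofsurj v
  -- exact sign relations
  obtain ⟨y₀, hy₀R, hy₀1, hyinv, hysign⟩ : ∃ y₀ : X, y₀ ∈ R ∧ y₀ ∉ ⁅R, R⁆ ∧
      (t₀ : X) * y₀ * t₀ = y₀⁻¹ ∧ ∀ t ∈ T, t * y₀ * t = y₀ ∨ t * y₀ * t = y₀⁻¹ := by
    have hc₀ : (y₁ : X) * (t₀ * y₁ * t₀) ∈ ⁅R, R⁆ := by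
      have h := hv0
      rw [ha, eq_inv_iff_mul_eq_one, mul_comm, ← map_mul, hker, Subgroup.coe_mul, hσ, htinv _ t₀.2] at h
      exact h
    set c₀ := (y₁ : X) * (t₀ * y₁ * t₀) with hc₀def
    have hodd : Odd (orderOf c₀) := by
      obtain ⟨k, hk⟩ := hRp ⟨c₀, hR'lt.le hc₀⟩
      have hk' : c₀ ^ q ^ k = 1 := congrArg Subtype.val hk
      exact ((hq.odd_of_ne_two hq2).pow).of_dvd_nat (orderOf_dvd_of_pow_eq_one hk')
    obtain ⟨k, hk⟩ := hodd
    set z := (c₀⁻¹) ^ (k + 1) with hz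
    have hzR' : z ∈ ⁅R, R⁆ := pow_mem (inv_mem hc₀) _
    have hzR : z ∈ R := hR'lt.le hzR'
    have hz2 : c₀ * (z * z) = 1 := by
      have e : z * z = c₀⁻¹ := by
        rw [hz, ← pow_add, show k + 1 + (k + 1) = orderOf c₀ + 1 by omega, pow_succ, inv_pow,
          pow_orderOf_eq_one, inv_one, one_mul]
      rw [e, mul_inv_cancel]
    have hzt : ∀ t ∈ T, t * z * t = z := fun t ht => by
      have h := hcT z hzR' t ht
      rwa [htinv t ht] at h
    have hy1 : (y₁ : X) * z ∈ R := R.mul_mem y₁.2 hzR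
    have hinv : (t₀ : X) * (y₁ * z) * t₀ = (y₁ * z)⁻¹ := by
      refine eq_inv_of_mul_eq_one_left ?_
      have e1 : (t₀ : X) * (y₁ * z) * t₀ = ((t₀ : X) * y₁ * t₀) * z := by
        conv_rhs => rw [← hzt _ t₀.2]
        simp only [mul_assoc]
        rw [← mul_assoc (t₀ : X) (t₀ : X), ← pow_two, hT2 _ t₀.2, one_mul]
      have hm : (t₀ : X) * y₁ * t₀ ∈ R := by
        have := (Subgroup.mem_normalizer_iff.1 (hTR _ t₀.2) y₁).1 y₁.2
        rwa [htinv _ t₀.2] at this
      rw [e1]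
      calc (t₀ : X) * y₁ * t₀ * z * (y₁ * z) = ((t₀ : X) * y₁ * t₀ * y₁) * (z * z) := by
            rw [mul_assoc _ z, ← mul_assoc z, (hcR z hzR' _ y₁.2).eq]; group
        _ = c₀ * (z * z) := by
            congr 1
            have h := hcR c₀ hc₀ _ y₁.2
            calc (t₀ : X) * y₁ * t₀ * y₁ = (y₁ : X)⁻¹ * (c₀ * y₁) := by rw [hc₀def]; group
              _ = c₀ := by rw [h.eq, inv_mul_cancel_left]
        _ = 1 := hz2
    refine ⟨y₁ * z, hy1, fun h => hv1 ((hker y₁).2 ?_), hinv, fun t ht => ?_⟩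
    · have := (⁅R, R⁆).mul_mem h ((⁅R, R⁆).inv_mem hzR')
      rwa [mul_inv_cancel_right] at this
    set y := (y₁ : X) * z with hydef
    have hov : Abelianization.of (⟨y, hy1⟩ : R) = Abelianization.of y₁ := by
      rw [show (⟨y, hy1⟩ : R) = y₁ * ⟨z, hzR⟩ from rfl, map_mul, (hker ⟨z, hzR⟩).2 hzR', mul_one]
    -- an element of order two fixing modulo the centre fixes
    have hfix : ∀ u ∈ T, y⁻¹ * (u * y * u) ∈ ⁅R, R⁆ → u * y * u = y := by
      intro u hu hc
      set cc := y⁻¹ * (u * y * u)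
      have hu2 : u * y * u = y * cc := (mul_inv_cancel_left _ _).symm
      have h1 : y = y * cc * cc := by
        calc y = u * (u * y * u) * u := by
              simp only [mul_assoc, ← pow_two, hT2 u hu, mul_one]
              rw [← mul_assoc, ← pow_two, hT2 u hu, one_mul]
          _ = u * (y * cc) * u := by rw [hu2]
          _ = (u * y * u) * (u * cc * u) := by
              simp only [mul_assoc]
              rw [← mul_assoc u u, ← pow_two, hT2 u hu, one_mul]
          _ = y * cc * cc := by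
              have h := hcT cc hc u hu
              rw [htinv u hu] at h
              rw [h, hu2]
      obtain ⟨l, hl⟩ := hRp ⟨cc, hR'lt.le hc⟩
      have hl' : cc ^ q ^ l = 1 := congrArg Subtype.val hl
      have hcc : cc ^ 2 = 1 := by
        rw [mul_assoc] at h1
        rw [pow_two]
        exact (left_eq_mul.1 h1)
      have : cc = 1 := by
        obtain ⟨s, hs⟩ := (hq.odd_of_ne_two hq2).pow (n := l)
        rwa [hs, pow_succ, pow_mul, hcc, one_pow, one_mul] at hl'
      rw [hu2, this, mul_one]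
    rcases hvs ⟨t, ht⟩ with h | h
    · left
      refine hfix t ht ?_
      rw [← hov, ha, eq_comm, ← inv_mul_eq_one, ← map_inv, ← map_mul, hker, Subgroup.coe_mul, hσ] at h
      rwa [htinv t ht] at h
    · right
      have hu : (t₀ : X) * t ∈ T := T.mul_mem t₀.2 ht
      have hflip : (t₀ : X) * t * y * (t₀ * t) = t₀ * (t * y * t) * t₀ := by
        conv_lhs => arg 2; rw [hTab _ t₀.2 _ ht]
        simp only [mul_assoc]
      have h1 : (t₀ : X) * t * y * (t₀ * t) = y := by
        refine hfix _ hu ?_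
        have e : a t₀ (a ⟨t, ht⟩ (Abelianization.of y₁)) = Abelianization.of y₁ := by
          rw [h, map_inv, hv0, inv_inv]
        rw [← hov, ha, ha, eq_comm, ← inv_mul_eq_one, ← map_inv, ← map_mul, hker, Subgroup.coe_mul,
          hσ, hσ, htinv t ht, htinv _ t₀.2] at e
        rwa [hflip]
      calc t * y * t = (t₀ : X) * ((t₀ : X) * t * y * (t₀ * t)) * t₀ := by
            rw [hflip]
            simp only [mul_assoc]
            rw [← pow_two, hT2 _ t₀.2, mul_one, ← mul_assoc (t₀ : X) t₀, ← pow_two, hT2 _ t₀.2, one_mul]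
        _ = y⁻¹ := by rw [h1, hinv]
  let y : ℕ → X := fun i => g ^ i * y₀ * (g ^ i)⁻¹
  have hgpow : ∀ i, g ^ i ∈ Subgroup.normalizer (R : Set X) := fun i => pow_mem hgR i
  have hyR : ∀ i, y i ∈ R := fun i => (Subgroup.mem_normalizer_iff.1 (hgpow i) y₀).1 hy₀R
  -- conjugating into the position of `y₀`
  have hTc : ∀ (i : ℕ) (t : X), t ∈ T → (g ^ i)⁻¹ * t * g ^ i ∈ T := fun i t ht =>
    (Subgroup.mem_normalizer_iff''.1 (pow_mem hgTn i) t).1 ht
  have htr : ∀ (i : ℕ) (t : X), t * y i * t =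
      g ^ i * (((g ^ i)⁻¹ * t * g ^ i) * y₀ * ((g ^ i)⁻¹ * t * g ^ i)) * (g ^ i)⁻¹ := fun i t => by
    simp only [y]; group
  have hsigni : ∀ (i : ℕ) (t : X), t ∈ T → t * y i * t = y i ∨ t * y i * t = (y i)⁻¹ := fun i t ht => by
    rcases hysign _ (hTc i t ht) with h | h
    · exact Or.inl (by rw [htr, h])
    · exact Or.inr (by rw [htr, h]; simp only [y]; group)
  have hsep : ∀ i < n, ∀ j < n, i ≠ j → ∃ t ∈ T,
      ((t : X)⁻¹ * y i * t = (y i)⁻¹ ∧ t⁻¹ * y j * t = y j) ∨
        (t⁻¹ * y j * t = (y j)⁻¹ ∧ t⁻¹ * y i * t = y i) := by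
    intro i hi j hj hij
    by_contra hcon
    wlog hlt : i < j generalizing i j
    · exact this j hj i hi (Ne.symm hij) (fun ⟨t, ht, h⟩ => hcon ⟨t, ht, h.symm⟩)
        (lt_of_le_of_ne (not_lt.1 hlt) (Ne.symm hij))
    have hiff : ∀ t ∈ T, (t * y i * t = y i ↔ t * y j * t = y j) := by
      intro t ht
      constructor
      · intro h1
        rcases hsigni j t ht with h2 | h2
        · exact h2
        · exact absurd ⟨t, ht, Or.inr ⟨by rw [htinv t ht]; exact h2, by rw [htinv t ht]; exact h1⟩⟩ hcon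
      · intro h1
        rcases hsigni i t ht with h2 | h2
        · exact h2
        · exact absurd ⟨t, ht, Or.inl ⟨by rw [htinv t ht]; exact h2, by rw [htinv t ht]; exact h1⟩⟩ hcon
    obtain ⟨k, rfl⟩ := Nat.exists_eq_add_of_lt hlt
    set h := g ^ (k + 1) with hh
    have hiff' : ∀ s ∈ T, (s * y₀ * s = y₀ ↔ (h⁻¹ * s * h) * y₀ * (h⁻¹ * s * h) = y₀) := by
      intro s hs
      have hs' : g ^ i * s * (g ^ i)⁻¹ ∈ T := (Subgroup.mem_normalizer_iff.1 (pow_mem hgTn i) s).1 hs
      have key := hiff _ hs'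
      rw [htr, htr, show (g ^ i)⁻¹ * (g ^ i * s * (g ^ i)⁻¹) * g ^ i = s by group,
        show (g ^ (i + k + 1))⁻¹ * (g ^ i * s * (g ^ i)⁻¹) * g ^ (i + k + 1) = h⁻¹ * s * h by
          rw [hh, add_assoc, pow_add]; group] at key
      simpa only [y, mul_left_inj, mul_right_inj] using key
    have hT2' : ∀ t : T, (h⁻¹ * (t : X) * h) ∈ T := fun t => hTc (k + 1) t t.2
    have hinj : Function.Injective (fun t : T => (⟨(t : X) * (h⁻¹ * t * h), T.mul_mem t.2 (hT2' t)⟩ : T)) := by
      intro s r hsr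
      have h1 : (s : X) * (h⁻¹ * s * h) = r * (h⁻¹ * r * h) := congrArg Subtype.val hsr
      have h2 : ((r : X) * s) = h⁻¹ * ((r : X) * s) * h := by
        calc (r : X) * s = r * (s * (h⁻¹ * s * h)) * (h⁻¹ * s * h)⁻¹ := by group
          _ = r * (r * (h⁻¹ * r * h)) * (h⁻¹ * s * h) := by rw [h1, htinv _ (hT2' s)]
          _ = (h⁻¹ * r * h) * (h⁻¹ * s * h) := by
              rw [← mul_assoc (r : X) r, ← pow_two, hT2 _ r.2, one_mul]
          _ = _ := by group
      have h3 : Commute (g ^ (k + 1)) ((r : X) * s) := by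
        show h * ((r : X) * s) = _
        conv_lhs => rw [h2]
        rw [hh]; group
      have h4 := hfpf (k + 1) (by omega) (by omega) _ (T.mul_mem r.2 s.2) h3
      exact Subtype.ext (((mul_eq_one_iff_inv_eq).1 h4).symm.trans (htinv _ r.2))
    obtain ⟨s, hs⟩ := Finite.injective_iff_surjective.1 hinj t₀
    have hs' : (s : X) * (h⁻¹ * s * h) = t₀ := congrArg Subtype.val hs
    have hcm := hTab _ s.2 _ (hT2' s)
    have hfixt : (t₀ : X) * y₀ * t₀ = y₀ := by
      conv_lhs => rw [← hs']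
      have e : (s : X) * (h⁻¹ * s * h) * y₀ * (s * (h⁻¹ * s * h)) =
          s * ((h⁻¹ * s * h) * y₀ * (h⁻¹ * s * h)) * s := by
        conv_lhs => arg 2; rw [hcm]
        group
      rw [e]
      rcases hysign _ s.2 with h5 | h5
      · rw [(hiff' _ s.2).1 h5, h5]
      · rcases hysign _ (hT2' s) with h6 | h6
        · rw [h6, (hiff' _ s.2).2 h6]
        · rw [h6, show (s : X) * y₀⁻¹ * s = ((s : X) * y₀ * s)⁻¹ by
            rw [mul_inv_rev, mul_inv_rev, htinv _ s.2, mul_assoc], h5, inv_inv]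
    rw [hyinv] at hfixt
    refine hy₀1 ?_
    obtain ⟨l, hl⟩ := hRp ⟨y₀, hy₀R⟩
    have hl' : y₀ ^ q ^ l = 1 := congrArg Subtype.val hl
    have : y₀ ^ 2 = 1 := by rw [pow_two]; nth_rewrite 1 [← hfixt]; rw [inv_mul_cancel]
    obtain ⟨s', hs''⟩ := (hq.odd_of_ne_two hq2).pow (n := l)
    rw [hs'', pow_succ, pow_mul, this, one_pow, one_mul] at hl'
    rw [hl']; exact one_mem _
  refine ⟨q, R, y, hq, hq2, hRp, hRle.trans inf_le_right, hR0, hTR, hyR, ?_, hsep, ?_⟩
  · intro i hi j hj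
    by_cases hij : i = j
    · subst hij; exact Commute.refl _
    suffices key : ∀ i j, ∀ t ∈ T, t⁻¹ * y i * t = (y i)⁻¹ → t⁻¹ * y j * t = y j →
        Commute (y i) (y j) by
      obtain ⟨t, ht, h | h⟩ := hsep i hi j hj hij
      · exact key i j t ht h.1 h.2
      · exact (key j i t ht h.1 h.2).symm
    intro i j t ht h1 h2
    have hc : ⁅y i, y j⁆ ∈ ⁅R, R⁆ := Subgroup.commutator_mem_commutator (hyR i) (hyR j)
    set c := ⁅y i, y j⁆ with hcdef
    have h3 : ⁅(y i)⁻¹, y j⁆ = c := by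
      have e : ⁅t⁻¹ * y i * t, t⁻¹ * y j * t⁆ = t⁻¹ * c * t := by
        rw [hcdef, commutatorElement_def, commutatorElement_def]; group
      rw [h1, h2] at e
      have := hcT c hc t ht
      rw [htinv t ht] at this
      rw [e, htinv t ht, this]
    have h4 : ⁅(y i)⁻¹, y j⁆ = c⁻¹ := by
      calc ⁅(y i)⁻¹, y j⁆ = (y i)⁻¹ * (c⁻¹ * y i) := by
            rw [hcdef, commutatorElement_def, commutatorElement_def]; group
        _ = c⁻¹ := by rw [(hcR _ (inv_mem hc) _ (hyR i)).eq, inv_mul_cancel_left]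
    have h5 : c ^ 2 = 1 := by
      rw [pow_two]; nth_rewrite 1 [← h3]; rw [h4, inv_mul_cancel]
    obtain ⟨l, hl⟩ := hRp ⟨c, hR'lt.le hc⟩
    have hl' : c ^ q ^ l = 1 := congrArg Subtype.val hl
    obtain ⟨s', hs''⟩ := (hq.odd_of_ne_two hq2).pow (n := l)
    rw [hs'', pow_succ, pow_mul, h5, one_pow, one_mul] at hl'
    exact commutatorElement_eq_one_iff_commute.1 hl'
  · intro M hM i hyM
    have hy₀M : y₀ ∈ M := by
      have := hM.conj_mem _ hyM (g ^ i)⁻¹
      simp only [y] at this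
      group at this ⊢
      exact this
    by_contra hRM
    have hlt : R ⊓ M < R := lt_of_le_of_ne inf_le_left fun h => hRM (inf_eq_left.1 h)
    have hn : ∀ x ∈ Subgroup.normalizer (R : Set X),
        x ∈ Subgroup.normalizer ((R ⊓ M : Subgroup X) : Set X) := fun x hx => by
      refine Coprime.mem_normalizer_of_forall fun r hr => ?_
      exact ⟨(Subgroup.mem_normalizer_iff.1 hx r).1 hr.1, hM.conj_mem r hr.2 x⟩
    have hc := hproper _ hlt (fun t ht => hn t (hTR t ht)) (hn g hgR)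
    have h1 := Subgroup.mem_centralizer_iff.1 (hc ⟨hy₀R, hy₀M⟩) t₀ t₀.2
    have h2 : (t₀ : X) * y₀ * t₀ = y₀ := by
      rw [h1, mul_assoc, ← pow_two, hT2 _ t₀.2, mul_one]
    rw [hyinv] at h2
    refine hy₀1 ?_
    obtain ⟨l, hl⟩ := hRp ⟨y₀, hy₀R⟩
    have hl' : y₀ ^ q ^ l = 1 := congrArg Subtype.val hl
    have : y₀ ^ 2 = 1 := by rw [pow_two]; nth_rewrite 1 [← h2]; rw [inv_mul_cancel]
    obtain ⟨s', hs''⟩ := (hq.odd_of_ne_two hq2).pow (n := l)
    rw [hs'', pow_succ, pow_mul, this, one_pow, one_mul] at hl'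
    rw [hl']; exact one_mem _

end Cfsg.Agent.HallHigman
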