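/-
Solvable odd-order groups transitive on the non-identity elements of an elementary 2-group (helper3).

Main result (namespace `Cfsg.Agent.HallHigman`):
* exists_semiregular_large: some semiregular element `g` has `card E < 2 ^ orderOf g`
-/
import Mathlib.GroupTheory.SpecificGroups.ZGroup
import Cfsg.Agent.EqLemmas
import Cfsg.Agent.Lib.SuzukiTwo.HalfTransitive
import Cfsg.Agent.Lib.Solvable.Fitting
import Cfsg.Agent.Lib.Cores.Fitting

set_option autoImplicit false

namespace Cfsg.Agent.HallHigman

variable {H E : Type*} [Group H] [Finite H] [CommGroup E] [Finite E]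

/-- A normal `q`-subgroup of a transitive group is cyclic and semiregular. -/
theorem cyclic_semiregular_of_normal (φ : H →* MulAut E) (hφ : Function.Injective φ)
    (h2 : ∀ e : E, e ^ 2 = 1) [Nontrivial E]
    (htr : ∀ a b : E, a ≠ 1 → b ≠ 1 → ∃ h, φ h a = b) {q : ℕ} [hq : Fact q.Prime] (hq2 : q ≠ 2)
    (N : Subgroup H) [N.Normal] (hN : IsPGroup q N) :
    IsCyclic N ∧ ∀ z ∈ N, z ≠ 1 → ∀ e, φ z e = e → e = 1 := by
  classical
  letI : DistribMulAction N (Additive E) :=
    { smul := fun n e => Additive.ofMul (φ n e.toMul)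
      one_smul := fun e => by
        show Additive.ofMul (φ ((1 : N) : H) e.toMul) = e
        simp
      mul_smul := fun n m e => by
        show Additive.ofMul (φ ((n * m : N) : H) e.toMul) = Additive.ofMul (φ n (φ m e.toMul))
        simp
      smul_zero := fun n => by
        show Additive.ofMul (φ n 1) = 0
        simp
      smul_add := fun n a b => by
        show Additive.ofMul (φ n (a.toMul * b.toMul)) = _
        rw [map_mul]
        rfl }
  have : FaithfulSMul N (Additive E) := ⟨fun {a b} h => Subtype.ext (hφ (MulEquiv.ext fun e =>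
    Additive.ofMul.injective (h (Additive.ofMul e))))⟩
  have hreg : ∀ x : Additive E, q • x = 0 → x = 0 := by
    intro x hx
    obtain ⟨k, hk⟩ := hq.out.odd_of_ne_two hq2
    have h1 : (x.toMul) ^ q = 1 := hx
    rw [hk, pow_succ, pow_mul, h2, one_pow, one_mul] at h1
    exact h1
  have hconst : ∀ a b : Additive E, a ≠ 0 → b ≠ 0 →
      Nat.card (MulAction.stabilizer N a) = Nat.card (MulAction.stabilizer N b) := by
    suffices key : ∀ a b : Additive E, a ≠ 0 → b ≠ 0 →
        Nat.card (MulAction.stabilizer N a) ≤ Nat.card (MulAction.stabilizer N b) from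
      fun a b ha hb => le_antisymm (key a b ha hb) (key b a hb ha)
    intro a b ha hb
    obtain ⟨h, hh⟩ := htr a.toMul b.toMul (fun e => ha e) (fun e => hb e)
    refine Nat.card_le_card_of_injective
      (fun n => (⟨⟨h * n * h⁻¹, ‹N.Normal›.conj_mem _ n.1.2 h⟩, ?_⟩ : MulAction.stabilizer N b)) ?_
    · rw [MulAction.mem_stabilizer_iff]
      show Additive.ofMul (φ (h * (n.1 : H) * h⁻¹) b.toMul) = b
      have hn : φ (n.1 : H) a.toMul = a.toMul := Additive.ofMul.injective n.2
      rw [map_mul, map_mul, MulAut.mul_apply, MulAut.mul_apply, ← hh, map_inv,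
        MulAut.inv_apply_self, hn, hh]
      rfl
    · intro n m hnm
      have := congrArg (fun z => ((z.1 : N) : H)) hnm
      exact Subtype.ext (Subtype.ext (by simpa using this))
  have hcyc : IsCyclic N := HalfTrans.isCyclic_of_const (p := q) (E := Additive E) hreg hconst hq2 hN
  refine ⟨hcyc, fun z hz hz1 e he => ?_⟩
  obtain ⟨k, hk⟩ := hN ⟨z, hz⟩
  obtain ⟨j, -, hj⟩ := (Nat.dvd_prime_pow hq.out).1 (orderOf_dvd_of_pow_eq_one hk)
  obtain _ | j := j
  · exact absurd (congrArg Subtype.val (orderOf_eq_one_iff.1 (by rw [hj, pow_zero]))) hz1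
  have hc : (⟨z, hz⟩ : N) ^ q ^ j ∈ Subgroup.center N := by
    letI := hcyc.commGroup
    rw [CommGroup.center_eq_top]
    trivial
  have hfix : ((⟨z, hz⟩ : N) ^ q ^ j) • Additive.ofMul e = Additive.ofMul e :=
    HalfTrans.pow_smul_fixed (congrArg Additive.ofMul he) _
  exact HalfTrans.central_semiregular (p := q) hreg hconst hc
    (by rw [← pow_mul, ← pow_succ, ← hj, pow_orderOf_eq_one])
    (fun h => by
      have := Nat.le_of_dvd (pow_pos hq.out.pos j) (orderOf_dvd_of_pow_eq_one h)
      rw [hj, pow_succ] at this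
      nlinarith [hq.out.two_le, pow_pos hq.out.pos j])
    (Additive.ofMul e) hfix

theorem sq_lt_two_pow_add (n : ℕ) (hn : 2 ≤ n) : n * (n - 1) + 1 < 2 ^ n := by
  induction n, hn using Nat.le_induction with
  | base => norm_num
  | succ n hn ih =>
    obtain ⟨m, rfl⟩ := Nat.exists_eq_add_of_le hn
    rw [show 2 + m - 1 = m + 1 by omega] at ih
    rw [show 2 + m + 1 - 1 = m + 2 by omega, pow_succ]
    nlinarith

/-- Some semiregular element is large. -/
theorem exists_semiregular_large [Group.IsSolvable H] (φ : H →* MulAut E) (hφ : Function.Injective φ)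
    (hodd : Odd (Nat.card H)) (h2 : ∀ e : E, e ^ 2 = 1) (hcard : 4 ≤ Nat.card E)
    (htr : ∀ a b : E, a ≠ 1 → b ≠ 1 → ∃ h, φ h a = b) :
    ∃ g : H, (∀ i : ℕ, g ^ i ≠ 1 → ∀ e, φ (g ^ i) e = e → e = 1) ∧ Nat.card E < 2 ^ orderOf g := by
  classical
  have : Nontrivial E := Finite.one_lt_card_iff_nontrivial.1 (by omega)
  have hq2 : ∀ q : ℕ, q.Prime → q ∣ Nat.card H → q ≠ 2 := fun q _ hd h =>
    (Nat.not_even_iff_odd.2 hodd) (even_iff_two_dvd.2 (h ▸ hd))
  set F := Cfsg.fittingSubgroup H with hF
  have hFn : Group.IsNilpotent F := Cores.fittingSubgroup_isNilpotent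
  have hcore : ∀ q : ℕ, q.Prime → q ∣ Nat.card H →
      ∀ N : Subgroup H, N.Normal → IsPGroup q N →
        IsCyclic N ∧ ∀ z ∈ N, z ≠ 1 → ∀ e, φ z e = e → e = 1 := fun q hq hd N hN hNp =>
    have : Fact q.Prime := ⟨hq⟩
    cyclic_semiregular_of_normal φ hφ h2 htr (hq2 q hq hd) N hNp
  -- a Sylow subgroup of `F` is normal in `H`
  have hsyl : ∀ q : ℕ, q.Prime → ∀ P : Sylow q F, ((P : Subgroup F).map F.subtype).Normal := by
    intro q hq P
    have : Fact q.Prime := ⟨hq⟩
    have : (P : Subgroup F).Normal := ((Group.isNilpotent_of_finite_tfae (G := F)).out 0 3 rfl rfl).mp hFn q this P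
    have : (P : Subgroup F).Characteristic := Sylow.characteristic_of_normal P this
    infer_instance
  have : IsZGroup F := by
    refine ⟨fun q hq P => ?_⟩
    by_cases hd : q ∣ Nat.card H
    · exact ((MulEquiv.isCyclic (Subgroup.equivMapOfInjective _ F.subtype F.subtype_injective)).2
        (hcore q hq hd _ (hsyl q hq P) (P.2.map _)).1)
    · have : Fact q.Prime := ⟨hq⟩
      rcases P.2.card_eq_or_dvd with h | h
      · have : Subsingleton (P : Subgroup F) := (Nat.card_eq_one_iff_unique.1 h).1
        infer_instance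
      · exact absurd ((h.trans (Subgroup.card_subgroup_dvd_card _)).trans
          (Subgroup.card_subgroup_dvd_card F)) hd
  obtain ⟨g, hg⟩ := IsCyclic.exists_ofOrder_eq_natCard (α := F)
  refine ⟨g, fun i hi e he => ?_, ?_⟩
  · -- a power of prime order in a normal `q`-subgroup
    set z : F := g ^ i with hz
    have hz1 : z ≠ 1 := fun h => hi (by rw [← Subgroup.coe_pow, ← hz, h, Subgroup.coe_one])
    obtain ⟨q, hq, hd⟩ := Nat.exists_prime_and_dvd (fun h => hz1 (orderOf_eq_one_iff.1 h))
    have : Fact q.Prime := ⟨hq⟩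
    set w : F := z ^ (orderOf z / q) with hw
    have hwo : orderOf w = q := orderOf_pow_orderOf_div (orderOf_pos z).ne' hd
    obtain ⟨P, hP⟩ := (IsPGroup.of_card (n := 1) (by rw [Nat.card_zpowers, hwo, pow_one]) :
      IsPGroup q (Subgroup.zpowers w)).exists_le_sylow
    have hwP : (w : H) ∈ (P : Subgroup F).map F.subtype :=
      ⟨w, hP (Subgroup.mem_zpowers w), rfl⟩
    refine (hcore q hq ((hd.trans (orderOf_dvd_natCard z)).trans (Subgroup.card_subgroup_dvd_card F))
      _ (hsyl q hq P) (P.2.map _)).2 _ hwP (fun h => ?_) e ?_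
    · have h' : w = 1 := Subtype.ext h
      rw [h', orderOf_one] at hwo
      exact hq.one_lt.ne hwo
    · rw [hw, Subgroup.coe_pow]
      induction orderOf z / q with
      | zero => simp
      | succ k ih =>
        rw [pow_succ, map_mul, MulAut.mul_apply]
        rw [show φ (z : H) e = e by rw [hz, Subgroup.coe_pow]; exact he]
        exact ih
  · rw [Subgroup.orderOf_coe, hg]
    set n := Nat.card F
    have hFnormal : F.Normal := inferInstance
    let ψ : H →* MulAut F := MulAut.conjNormal
    have hker : ψ.ker ≤ F := by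
      refine le_trans (fun x hx => ?_) (Solvable.centralizer_fitting_le H)
      refine Subgroup.mem_centralizer_iff.2 fun f hf => ?_
      have h1 : ψ x ⟨f, hf⟩ = ⟨f, hf⟩ := by rw [MonoidHom.mem_ker.1 hx]; rfl
      have h2 : x * f * x⁻¹ = f := by simpa [ψ] using congrArg Subtype.val h1
      exact (mul_inv_eq_iff_eq_mul.1 h2).symm
    have hH : Nat.card H ≤ n.totient * n := by
      rw [Subgroup.card_eq_card_quotient_mul_card_subgroup ψ.ker]
      refine Nat.mul_le_mul ?_ (Subgroup.card_le_of_le hker)
      rw [Nat.card_congr (QuotientGroup.quotientKerEquivRange ψ).toEquiv, ← IsCyclic.card_mulAut F]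
      exact Subgroup.card_le_card_group _
    obtain ⟨a, ha⟩ := exists_ne (1 : E)
    have hE : Nat.card E ≤ Nat.card H + 1 := by
      rw [← Finite.card_option]
      refine Nat.card_le_card_of_surjective (fun o => o.elim 1 fun h => φ h a) fun b => ?_
      by_cases hb : b = 1
      · exact ⟨none, hb.symm⟩
      · obtain ⟨h, hh⟩ := htr a b ha hb
        exact ⟨some h, hh⟩
    rcases Nat.lt_or_ge n 2 with hn | hn
    · have : n.totient * n ≤ 1 := by
        interval_cases n <;> simp
      omega
    · have h3 : n.totient * n ≤ n * (n - 1) := by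
        rw [mul_comm n (n - 1)]
        exact Nat.mul_le_mul_right _ (Nat.le_sub_one_of_lt (Nat.totient_lt n (by omega)))
      have h4 := sq_lt_two_pow_add n hn
      omega

end Cfsg.Agent.HallHigman
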