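/-
Solvable groups with one class of involutions: odd index over the 2-core (helper3).

Main result (namespace `Cfsg.Agent.HallHigman`):
* not_two_dvd_quotient_pCore_of_one_class (Thompson)
-/
import Mathlib.GroupTheory.Abelianization.Defs
import Cfsg.Agent.EqLemmas
import Cfsg.Agent.Lib.HallHigman.Anisotropic
import Cfsg.Agent.Lib.HallHigman.OneClassSigns
import Cfsg.Agent.Lib.HallHigman.OneClassSolvable
import Cfsg.Agent.Lib.PGroup.Basic
import Cfsg.Agent.Lib.PGroup.Critical
import Cfsg.Agent.Lib.SmallFix.Basic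

set_option autoImplicit false
open scoped commutatorElement Pointwise

namespace Cfsg.Agent.HallHigman

universe u

section

variable {A : Type u} [Group A] [Finite A] [Group.IsSolvable A]
  (hO : Cfsg.pPrimeCore 2 A = ⊥) {a b : A} (ha : a ≠ 1) (ha2 : a ^ 2 = 1) (hb : b ≠ 1)
  (hb2 : b ^ 2 = 1) (hab : a ≠ b)
  (hconj : ∀ x y : A, x ≠ 1 → x ^ 2 = 1 → y ≠ 1 → y ^ 2 = 1 → IsConj x y)

include hO ha ha2 hb hb2 hab hconj

omit hb hb2 hab in
/-- All involutions are central in `O_2`. -/
theorem involution_mem_central_pCore {x : A} (hx : x ^ 2 = 1) :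
    x ∈ Cfsg.pCore 2 A ∧ x ∈ Subgroup.centralizer (Cfsg.pCore 2 A : Set A) := by
  by_cases hx1 : x = 1
  · rw [hx1]; exact ⟨one_mem _, one_mem _⟩
  have hQn : (Cfsg.pCore 2 A).Normal := Cores.pCore_normal 2 A
  set Q := Cfsg.pCore 2 A
  have hC := Solvable.centralizer_pCore_le_of_isSolvable (p := 2) hO
  have hQp : IsPGroup 2 Q := Cores.isPGroup_pCore 2 A
  have htop : (⊤ : Subgroup Q) ≠ ⊥ := by
    intro h
    refine ha (Subgroup.mem_bot.1 ?_)
    have hQ1 : ∀ q ∈ Q, q = 1 := fun q hq => by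
      have h1 : (⟨q, hq⟩ : Q) ∈ (⊥ : Subgroup Q) := h ▸ Subgroup.mem_top _
      exact congrArg Subtype.val (Subgroup.mem_bot.1 h1)
    exact Subgroup.mem_bot.2 (hQ1 a (hC (Subgroup.mem_centralizer_iff.2 fun y hy => by
      rw [hQ1 y hy, one_mul, mul_one])))
  obtain ⟨z, -, hzc, hzo⟩ := PGroup.exists_central_order_p (p := 2) hQp htop
  have hz1 : (z : A) ≠ 1 := fun h => by
    have h' : z = 1 := Subtype.ext h
    rw [h', orderOf_one] at hzo; omega
  have hz2 : (z : A) ^ 2 = 1 := by rw [← Subgroup.coe_pow, ← hzo, pow_orderOf_eq_one, Subgroup.coe_one]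
  obtain ⟨c, hc⟩ := isConj_iff.1 (hconj _ _ hz1 hz2 hx1 hx)
  rw [← hc]
  refine ⟨hQn.conj_mem _ z.2 c, Subgroup.mem_centralizer_iff.2 fun q hq => ?_⟩
  have h1 := congrArg Subtype.val (Subgroup.mem_center_iff.1 hzc
    ⟨c⁻¹ * q * c, by simpa using hQn.conj_mem q hq c⁻¹⟩)
  have h2 : c⁻¹ * q * c * (z : A) = (z : A) * (c⁻¹ * q * c) := h1
  calc q * (c * z * c⁻¹) = c * (c⁻¹ * q * c * z) * c⁻¹ := by group
    _ = _ := by rw [h2]; group

/-- Thompson: in a solvable group with one class of involutions, more than one, and trivial odd core,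
`O_2` is a Sylow 2-subgroup. -/
theorem not_two_dvd_quotient_pCore_of_one_class :
    ¬ 2 ∣ Nat.card (A ⧸ Cfsg.pCore 2 A) := by
  classical
  intro hdvd
  have hQn : (Cfsg.pCore 2 A).Normal := Cores.pCore_normal 2 A
  have hinvQ := fun x => involution_mem_central_pCore hO ha ha2 hconj (x := x)
  set Q := Cfsg.pCore 2 A
  have hQp : IsPGroup 2 Q := Cores.isPGroup_pCore 2 A
  have hC := Solvable.centralizer_pCore_le_of_isSolvable (p := 2) hO
  have hQcomm : ∀ x : A, x ^ 2 = 1 → ∀ q ∈ Q, q * x = x * q := fun x hx q hq =>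
    Subgroup.mem_centralizer_iff.1 (hinvQ x hx).2 q hq
  -- the group of involutions
  let E : Subgroup A :=
    { carrier := {x | x ^ 2 = 1}
      one_mem' := one_pow _
      mul_mem' := fun {x y} hx hy => by
        show (x * y) ^ 2 = 1
        rw [Commute.mul_pow (hQcomm y hy x (hinvQ x hx).1), hx, hy, one_mul]
      inv_mem' := fun {x} hx => by
        show x⁻¹ ^ 2 = 1
        rw [inv_pow, (hx : x ^ 2 = 1), inv_one] }
  have hmemE : ∀ {x : A}, x ∈ E ↔ x ^ 2 = 1 := Iff.rfl
  have hEn : E.Normal := ⟨fun x hx c => by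
    rw [hmemE] at hx ⊢
    rw [conj_pow, hx, mul_one, mul_inv_cancel]⟩
  have hEQ : E ≤ Q := fun x hx => (hinvQ x hx).1
  have hEp : IsPGroup 2 E := hQp.to_le hEQ
  letI instE : CommGroup E := { (inferInstance : Group E) with
    mul_comm := fun x y => Subtype.ext (hQcomm y y.2 x (hEQ x.2)) }
  have hE2 : ∀ e : E, e ^ 2 = 1 := fun e => Subtype.ext e.2
  have hE4 : 4 ≤ Nat.card E := by
    have h4 : ({1, a, b, a * b} : Finset A).card = 4 := by
      have h1 : a * b ≠ 1 := fun h => hab (by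
        rw [mul_eq_one_iff_eq_inv] at h
        rw [h, inv_eq_of_mul_eq_one_right (by rw [← pow_two, hb2])])
      have h2 : a * b ≠ a := fun h => hb (by simpa using h)
      have h3 : a * b ≠ b := fun h => ha (by simpa using h)
      rw [Finset.card_insert_of_notMem, Finset.card_insert_of_notMem, Finset.card_pair h3.symm]
      · simp [hab, h2.symm]
      · simp [Ne.symm ha, Ne.symm hb, h1.symm]
    have hsub : ∀ x ∈ ({1, a, b, a * b} : Finset A), x ∈ E := by
      intro x hx
      simp only [Finset.mem_insert, Finset.mem_singleton] at hx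
      rcases hx with rfl | rfl | rfl | rfl
      · exact one_mem _
      · exact ha2
      · exact hb2
      · exact E.mul_mem ha2 hb2
    rw [← h4, ← Nat.card_eq_finsetCard]
    exact Nat.card_le_card_of_injective (fun x => (⟨x.1, hsub x.1 x.2⟩ : E))
      fun x y hxy => Subtype.ext (congrArg (fun e : E => (e : A)) hxy)
  have hEnt : Nontrivial E := Finite.one_lt_card_iff_nontrivial.1 (by omega)
  -- the action on `E`
  let φ : A →* MulAut E := MulAut.conjNormal
  set C := φ.ker
  let φr : A →* φ.range := φ.rangeRestrict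
  have hφr : Function.Surjective φr := φ.rangeRestrict_surjective
  have hkerr : φr.ker = C := φ.ker_rangeRestrict
  have hφE : ∀ (x : A) (e : E), ((φ x e : E) : A) = x * e * x⁻¹ := fun x e => MulAut.conjNormal_apply x e
  have hCmem : ∀ {x : A}, x ∈ C ↔ ∀ e : E, x * e * x⁻¹ = e := by
    intro x
    rw [MonoidHom.mem_ker]
    refine ⟨fun h e => by rw [← hφE, h]; rfl, fun h => MulEquiv.ext fun e => Subtype.ext ?_⟩
    rw [hφE, h e]; rfl
  have hQC : Q ≤ C := fun q hq => hCmem.2 fun e => by rw [hQcomm e e.2 q hq, mul_inv_cancel_right]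
  have htrans : ∀ x y : E, x ≠ 1 → y ≠ 1 → ∃ h : φ.range, (φ.range.subtype h) x = y := by
    intro x y hx hy
    obtain ⟨c, hc⟩ := isConj_iff.1 (hconj x y (fun h => hx (Subtype.ext h)) x.2
      (fun h => hy (Subtype.ext h)) y.2)
    exact ⟨φr c, Subtype.ext ((hφE c x).trans hc)⟩
  -- normal subgroups with a fixed point are trivial
  have hfix : ∀ L : Subgroup φ.range, L.Normal → ∀ e : E, e ≠ 1 →
      (∀ l ∈ L, (l : MulAut E) e = e) → L = ⊥ := by
    intro L hL e he hLe
    rw [Subgroup.eq_bot_iff_forall]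
    intro l hl
    refine Subtype.ext (MulEquiv.ext fun x => ?_)
    by_cases hx : x = 1
    · rw [hx, map_one, map_one]
    obtain ⟨h, hh⟩ := htrans e x he hx
    have h1 := hLe (h⁻¹ * l * h) (by simpa using hL.conj_mem l hl h⁻¹)
    have h2 := congrArg (h : MulAut E) h1
    rw [← MulAut.mul_apply, ← Subgroup.coe_mul, show h * (h⁻¹ * l * h) = l * h by group,
      Subgroup.coe_mul, MulAut.mul_apply] at h2
    rw [show (φ.range.subtype h) e = (h : MulAut E) e from rfl] at hh
    rw [hh] at h2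
    exact h2
  have hH2 : Cfsg.pCore 2 φ.range = ⊥ := by
    set L := Cfsg.pCore 2 φ.range
    letI : MulAction L E := MulAction.compHom E (φ.range.subtype.comp L.subtype)
    obtain ⟨e, he, he1⟩ := (Cores.isPGroup_pCore 2 φ.range).exists_fixed_point_of_prime_dvd_card_of_fixed_point
      E (by
        obtain ⟨k, hk⟩ := IsPGroup.iff_card.mp hEp
        rw [hk]
        refine dvd_pow_self 2 fun h => ?_
        rw [hk, h] at hE4
        omega) (a := (1 : E)) (fun l => map_one ((l : φ.range) : MulAut E))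
    exact hfix L (Cores.pCore_normal 2 _) e he1.symm fun l hl => he ⟨l, hl⟩
  -- a Sylow subgroup of `C`, and its normaliser
  have : Group.IsSolvable φ.range := solvable_of_surjective hφr
  have hHodd : Odd (Nat.card φ.range) := by
    obtain ⟨R⟩ := (inferInstance : Nonempty (Sylow 2 C))
    set R' := (R : Subgroup C).map C.subtype
    set N := Subgroup.normalizer (R' : Set A)
    have hR'N : R' ≤ N := Subgroup.le_normalizer
    have hR'C : R' ≤ C := Subgroup.map_subtype_le _
    have hsurj : Function.Surjective (φr.comp N.subtype) := by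
      intro h
      obtain ⟨g, rfl⟩ := hφr h
      have hg : g ∈ N ⊔ C := by rw [Sylow.normalizer_sup_eq_top R]; trivial
      rw [← SetLike.mem_coe, Subgroup.mul_normal] at hg
      obtain ⟨n, hn, c, hc, rfl⟩ := hg
      refine ⟨⟨n, hn⟩, ?_⟩
      rw [map_mul, show φr c = 1 by rw [← MonoidHom.mem_ker, hkerr]; exact hc, mul_one]
      all_goals rfl
    have : (R'.subgroupOf N).Normal := Subgroup.normal_in_normalizer
    have hRker : R'.subgroupOf N ≤ (φr.comp N.subtype).ker := fun x hx => by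
      show φr x = 1
      rw [← MonoidHom.mem_ker, hkerr]; exact hR'C hx
    have hkereq : (φr.comp N.subtype).ker = C.subgroupOf N := by
      rw [← MonoidHom.comap_ker, hkerr]; rfl
    have hRp : IsPGroup 2 R' := R.2.map _
    refine odd_card_of_one_class_image (φr.comp N.subtype) hsurj (R'.subgroupOf N)
      (hRp.comap_subtype) hRker ?_ ?_ hH2 ?_
    · rw [hkereq]
      have h1 : (R'.subgroupOf N).relIndex (C.subgroupOf N) = R'.relIndex (C ⊓ N) := by
        rw [← Subgroup.inf_subgroupOf_right C N, Subgroup.relIndex_subgroupOf inf_le_right]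
      rw [h1]
      have h2 : R'.relIndex (C ⊓ N) ∣ R'.relIndex C :=
        ⟨_, (Subgroup.relIndex_mul_relIndex R' (C ⊓ N) C (le_inf hR'C hR'N) inf_le_left).symm⟩
      refine Nat.Coprime.coprime_dvd_left h2 ?_
      have h3 : R'.relIndex C = (R : Subgroup C).index := by
        rw [Subgroup.relIndex, Subgroup.subgroupOf, Subgroup.comap_map_eq_self_of_injective C.subtype_injective]
      rw [h3]
      exact ((Nat.prime_two.coprime_iff_not_dvd).2 R.not_dvd_index).symm
    · intro x hx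
      have hxE : (x : A) ∈ E := by rw [hmemE, ← Subgroup.coe_pow, hx, Subgroup.coe_one]
      show (x : A) ∈ R'
      have hEC : E ≤ C := hEQ.trans hQC
      have hn : (E.subgroupOf C).Normal := inferInstance
      have hle := (hEp.comap_subtype : IsPGroup 2 (E.subgroupOf C)).le_sylow_of_normal R
      exact ⟨⟨x, hEC hxE⟩, hle hxE, rfl⟩
    · intro L hL r hr1 hr2 hLr
      have hrE : (r : A) ∈ E := by rw [hmemE, ← Subgroup.coe_pow, hr2, Subgroup.coe_one]
      refine hfix L hL ⟨r, hrE⟩ (fun h => hr1 (Subtype.ext (congrArg (fun e : E => (e : A)) h))) fun l hl => ?_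
      obtain ⟨n, hn, hcomm⟩ := hLr l hl
      rw [← hn]
      refine Subtype.ext ?_
      show ((φ (n : A) ⟨r, hrE⟩ : E) : A) = r
      rw [hφE]
      have := congrArg Subtype.val hcomm.eq
      rw [Subgroup.coe_mul, Subgroup.coe_mul] at this
      rw [this, mul_inv_cancel_right]
  -- every Sylow 2-subgroup centralises `E`
  obtain ⟨P⟩ := (inferInstance : Nonempty (Sylow 2 A))
  have hPC : (P : Subgroup A) ≤ C := by
    intro x hx
    rw [← hkerr, MonoidHom.mem_ker, ← orderOf_eq_one_iff]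
    obtain ⟨k, hk⟩ := P.2 ⟨x, hx⟩
    refine Nat.eq_one_of_dvd_coprimes ?_ (orderOf_dvd_natCard (φr x))
      (orderOf_dvd_of_pow_eq_one (n := 2 ^ k) (by
        rw [← map_pow, show x ^ 2 ^ k = 1 from congrArg Subtype.val hk, map_one]))
    exact (Nat.coprime_two_right.2 hHodd).pow_right k
  obtain ⟨h, hsemi, hlarge⟩ := exists_semiregular_large (φ.range.subtype) φ.range.subtype_injective hHodd
    hE2 hE4 htrans
  set n := orderOf h with hndef
  -- a lift of `h` normalising `P`, of odd order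
  obtain ⟨g, hgP, hgodd, hgn⟩ : ∃ g : A, g ∈ Subgroup.normalizer ((P : Subgroup A) : Set A) ∧
      (orderOf g).Coprime 2 ∧ ∃ m : ℕ, φr g = h ^ m ∧ m.Coprime n := by
    obtain ⟨g₁, rfl⟩ := hφr h
    have hg : g₁ ∈ Subgroup.normalizer ((P : Subgroup A) : Set A) ⊔ C := by
      have := Sylow.normalizer_sup_eq_top (P.subtype hPC)
      rw [Sylow.coe_subtype, Subgroup.map_subgroupOf_eq_of_le hPC] at this
      rw [this]; trivial
    rw [← SetLike.mem_coe, Subgroup.mul_normal] at hg
    obtain ⟨g₀, hg₀, c, hc, rfl⟩ := hg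
    obtain ⟨k, m, hm, hkm⟩ := Nat.exists_eq_two_pow_mul_odd (orderOf_pos g₀).ne'
    refine ⟨g₀ ^ 2 ^ k, pow_mem hg₀ _, ?_, 2 ^ k, ?_, ?_⟩
    · rw [orderOf_pow' _ (pow_ne_zero k two_ne_zero), hkm, Nat.gcd_mul_right_left,
        Nat.mul_div_cancel_left _ (Nat.two_pow_pos k)]
      exact Nat.coprime_two_right.2 hm
    · rw [map_pow, map_mul, show φr c = 1 by rw [← MonoidHom.mem_ker, hkerr]; exact hc, mul_one]
    · exact ((Nat.coprime_two_left.2 (hHodd.of_dvd_nat (orderOf_dvd_natCard _)))).pow_left k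
  obtain ⟨m, hgm, hmn⟩ := hgn
  have hsemig : ∀ i : ℕ, 0 < i → i < n → ∀ e : E, φ (g ^ i) e = e → e = 1 := by
    intro i hi0 hin e he
    refine hsemi (m * i) (fun h1 => ?_) e ?_
    · have := (hmn.symm).dvd_of_dvd_mul_left (orderOf_dvd_of_pow_eq_one h1)
      exact absurd (Nat.le_of_dvd hi0 this) (not_le.2 hin)
    · rw [pow_mul, ← hgm, ← map_pow]; exact he
  -- `P` has no element fixed by a power of `g`
  have hPfix : ∀ i : ℕ, 0 < i → i < n → ∀ x ∈ (P : Subgroup A), Commute (g ^ i) x → x = 1 := by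
    intro i hi0 hin x hx hcx
    by_contra hx1
    obtain ⟨k, hk⟩ := P.2 ⟨x, hx⟩
    obtain ⟨j, -, hj⟩ := (Nat.dvd_prime_pow Nat.prime_two).1
      (orderOf_dvd_of_pow_eq_one (show x ^ 2 ^ k = 1 from congrArg Subtype.val hk))
    obtain _ | j := j
    · exact hx1 (orderOf_eq_one_iff.1 (by rw [hj, pow_zero]))
    have hzE : x ^ 2 ^ j ∈ E := by
      rw [hmemE, ← pow_mul, ← pow_succ, ← hj, pow_orderOf_eq_one]
    have h1 : (⟨_, hzE⟩ : E) = 1 := hsemig i hi0 hin _ (Subtype.ext (by
      rw [hφE]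
      exact (congrArg (· * (g ^ i)⁻¹) (hcx.pow_right _).eq).trans (mul_inv_cancel_right _ _)))
    have h2 : x ^ 2 ^ j = 1 := congrArg Subtype.val h1
    have h3 := Nat.le_of_dvd (Nat.two_pow_pos j) (orderOf_dvd_of_pow_eq_one h2)
    rw [hj, pow_succ] at h3
    have := Nat.two_pow_pos j
    omega
  -- `X = A / Q`
  set π := QuotientGroup.mk' Q with hπdef
  have hπker : π.ker = Q := QuotientGroup.ker_mk' Q
  have hπ : Function.Surjective π := QuotientGroup.mk'_surjective Q
  have : Group.IsSolvable (A ⧸ Q) := solvable_of_surjective hπ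
  set Pb := (P : Subgroup A).map π
  let T : Subgroup (A ⧸ Q) :=
    { carrier := {t | t ∈ Pb ∧ t ∈ Subgroup.centralizer (Pb : Set (A ⧸ Q)) ∧ t ^ 2 = 1}
      one_mem' := ⟨one_mem _, one_mem _, one_pow _⟩
      mul_mem' := fun {x y} hx hy => ⟨mul_mem hx.1 hy.1, mul_mem hx.2.1 hy.2.1, by
        rw [Commute.mul_pow (Subgroup.mem_centralizer_iff.1 hy.2.1 x hx.1), hx.2.2, hy.2.2, one_mul]⟩
      inv_mem' := fun {x} hx => ⟨inv_mem hx.1, inv_mem hx.2.1, by rw [inv_pow, hx.2.2, inv_one]⟩ }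
  have hT0 : T ≠ ⊥ := by
    have hPb : Pb ≠ ⊥ := by
      intro h0
      rw [Subgroup.map_eq_bot_iff, hπker] at h0
      exact P.not_dvd_index (hdvd.trans (by
        rw [← Subgroup.index_eq_card]; exact Subgroup.index_dvd_of_le h0))
    have htop : (⊤ : Subgroup Pb) ≠ ⊥ := fun h => hPb ((Subgroup.eq_bot_iff_forall _).2 fun q hq => by
      have h1 : (⟨q, hq⟩ : Pb) ∈ (⊥ : Subgroup Pb) := h ▸ Subgroup.mem_top _
      exact congrArg Subtype.val (Subgroup.mem_bot.1 h1))
    obtain ⟨z, -, hzc, hzo⟩ := PGroup.exists_central_order_p (p := 2) (P.2.map π) htop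
    intro h0
    have hz : (z : A ⧸ Q) ∈ T := ⟨z.2, Subgroup.mem_centralizer_iff.2 fun y hy =>
      congrArg Subtype.val (Subgroup.mem_center_iff.1 hzc ⟨y, hy⟩),
      congrArg Subtype.val (orderOf_dvd_iff_pow_eq_one.1 hzo.dvd)⟩
    rw [h0, Subgroup.mem_bot] at hz
    rw [show z = 1 from Subtype.ext hz, orderOf_one] at hzo
    omega
  have hgPb : π g ∈ Subgroup.normalizer (Pb : Set (A ⧸ Q)) := by
    rw [Subgroup.mem_normalizer_iff_map_conj_eq, show Pb = (P : Subgroup A).map π from rfl,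
      Subgroup.map_map]
    conv_rhs => rw [← Subgroup.mem_normalizer_iff_map_conj_eq.1 hgP]
    rw [Subgroup.map_map]
    congr 1
  have hgT : ∀ t ∈ T, π g * t * (π g)⁻¹ ∈ T := fun t ht =>
    ⟨(Subgroup.mem_normalizer_iff.1 hgPb t).1 ht.1, Subgroup.mem_centralizer_iff.2 fun y hy => by
      have hy' : (π g)⁻¹ * y * π g ∈ Pb := (Subgroup.mem_normalizer_iff''.1 hgPb y).1 hy
      have e := Subgroup.mem_centralizer_iff.1 ht.2.1 _ hy'
      calc y * (π g * t * (π g)⁻¹) = π g * ((π g)⁻¹ * y * π g * t) * (π g)⁻¹ := by group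
        _ = _ := by rw [e]; group, by rw [conj_pow, ht.2.2, mul_one, mul_inv_cancel]⟩
  have hfpf : ∀ i : ℕ, 0 < i → i < n → ∀ t ∈ T, Commute (π g ^ i) t → t = 1 := by
    intro i hi0 hin t ht hct
    obtain ⟨p, hp, rfl⟩ := ht.1
    have hAP : Subgroup.zpowers (g ^ i) ≤ Subgroup.normalizer ((P : Subgroup A) : Set A) :=
      Subgroup.zpowers_le.2 (pow_mem hgP i)
    have hcop : (Nat.card (Subgroup.zpowers (g ^ i))).Coprime (Nat.card P) := by
      obtain ⟨k, hk⟩ := IsPGroup.iff_card.mp P.2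
      rw [Nat.card_zpowers, hk]
      exact (hgodd.coprime_dvd_left (orderOf_pow_dvd i)).pow_right k
    obtain ⟨c, hc, hcp⟩ := Coprime.exists_mem_centralizer_of_coset hAP hcop
      (Or.inr (Solvable.isSolvable_of_isPGroup P.2)) (N := Q) (Cores.pCore_le_sylow P)
      (le_top.trans (Subgroup.normalizer_eq_top_iff.mpr hQn).ge) hp (fun x hx => by
        rw [← hπker, MonoidHom.mem_ker, map_mul, map_mul, map_mul, map_inv, map_inv]
        have hx' : Commute (π x) (π p) := by
          obtain ⟨k, rfl⟩ := Subgroup.mem_zpowers_iff.1 hx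
          rw [map_zpow, map_pow]
          exact hct.zpow_left k
        rw [hx'.eq, mul_inv_cancel_right, mul_inv_cancel])
    have hc1 : c = 1 := hPfix i hi0 hin c hc.1
      (Subgroup.mem_centralizer_iff.1 hc.2 (g ^ i) (Subgroup.mem_zpowers _))
    rw [hc1, one_mul] at hcp
    rw [← MonoidHom.mem_ker, hπker]
    exact (Subgroup.inv_mem_iff Q).1 hcp
  have hCbn : (C.map π).Normal := (MonoidHom.normal_ker φ).map π hπ
  obtain ⟨q, R, y, hq, hq2, hRp, hRC, hR0, hTR, hyR, hycomm, hysep, hyM⟩ :=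
    exists_sign_separated_conjugates (Cores.pCore_quotient_self 2 A) (C.map π) T hT0
      (fun t ht => ht.2.2) (fun t ht => Subgroup.map_mono hPC ht.1) (π g) hgT n hfpf
  -- a lift of `R`
  have : Fact q.Prime := ⟨hq⟩
  set Rp := R.comap π with hRpdef
  have hQRp : Q ≤ Rp := fun x hx => by
    show π x ∈ R
    rw [show π x = 1 from (QuotientGroup.eq_one_iff x).2 hx]
    exact one_mem R
  obtain ⟨kq, hkq⟩ := IsPGroup.iff_card.mp hQp
  obtain ⟨kr, hkr⟩ := IsPGroup.iff_card.mp hRp
  have hcardRp : Nat.card Rp = Nat.card R * Nat.card Q := by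
    have h := Solvable.card_eq_card_map_mul π Rp
    rwa [hπker, inf_eq_right.mpr hQRp, hRpdef, Subgroup.map_comap_eq_self_of_surjective hπ] at h
  have hQnn : (Q.subgroupOf Rp).Normal := inferInstance
  obtain ⟨K', hK'⟩ := Subgroup.exists_right_complement'_of_coprime (N := Q.subgroupOf Rp) (by
    have h := Subgroup.card_mul_index (Q.subgroupOf Rp)
    rw [Nat.card_congr (Subgroup.subgroupOfEquivOfLe hQRp).toEquiv] at h ⊢
    rw [hcardRp, mul_comm (Nat.card R)] at h
    rw [Nat.eq_of_mul_eq_mul_left Nat.card_pos h, hkq, hkr]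
    exact Nat.coprime_pow_primes _ _ Nat.prime_two hq (Ne.symm hq2))
  let Rh := K'.map Rp.subtype
  have hsup : Rh ⊔ Q = Rp := by
    have e := congrArg (Subgroup.map Rp.subtype) hK'.sup_eq_top
    rw [Subgroup.map_sup, ← MonoidHom.range_eq_map, Subgroup.range_subtype,
      Subgroup.map_subgroupOf_eq_of_le hQRp, sup_comm] at e
    exact e
  have hRhc : Nat.card Rh = q ^ kr := by
    have h := hK'.card_mul
    rw [Nat.card_congr (Subgroup.subgroupOfEquivOfLe hQRp).toEquiv, hcardRp, hkr,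
      mul_comm (q ^ kr)] at h
    rw [Subgroup.card_map_of_injective Rp.subtype_injective]
    exact Nat.eq_of_mul_eq_mul_left Nat.card_pos h
  have hcopQ : (Nat.card Rh).Coprime (Nat.card Q) := by
    rw [hRhc, hkq]; exact Nat.coprime_pow_primes _ _ hq Nat.prime_two hq2
  have hinj : ∀ x ∈ Rh, π x = 1 → x = 1 := fun x hx h =>
    Coprime.eq_one_of_mem_of_mem hcopQ hx (by rwa [← hπker, MonoidHom.mem_ker])
  have hRhmap : ∀ r ∈ R, ∃ x ∈ Rh, π x = r := by
    intro r hr
    obtain ⟨x, rfl⟩ := hπ r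
    have hx : x ∈ Rh ⊔ Q := hsup.symm ▸ (show x ∈ Rp from hr)
    rw [← SetLike.mem_coe, Subgroup.mul_normal] at hx
    obtain ⟨c, hc, q', hq', rfl⟩ := hx
    refine ⟨c, hc, ?_⟩
    rw [map_mul, show π q' = 1 from (QuotientGroup.eq_one_iff q').2 hq', mul_one]
  choose! lift hliftmem hlift using hRhmap
  have hRhC : Rh ≤ C := fun x hx => by
    obtain ⟨c, hc, hcx⟩ := hRC ((hsup.le (Subgroup.mem_sup_left hx) : x ∈ Rp) : π x ∈ R)
    have h1 : c⁻¹ * x ∈ C := hQC (by rw [← hπker, MonoidHom.mem_ker, map_mul, map_inv, hcx, inv_mul_cancel])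
    have := C.mul_mem hc h1
    rwa [mul_inv_cancel_left] at this
  -- lifts of `T` normalising the lift of `R`
  have hTlift : ∀ t ∈ T, ∃ x ∈ C, π x = t ∧ x ∈ Subgroup.normalizer (Rh : Set A) := by
    intro t ht
    obtain ⟨p, hp, rfl⟩ := ht.1
    have hpRp : MulAut.conj p • Rp = Rp := by
      refine le_antisymm ?_ ?_
      · intro x hx
        rw [Coprime.mem_conj] at hx
        show π x ∈ R
        have h := (Subgroup.mem_normalizer_iff.1 (hTR _ ht) _).1 (show π (p⁻¹ * x * p) ∈ R from hx)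
        rwa [← map_inv, ← map_mul, ← map_mul, show p * (p⁻¹ * x * p) * p⁻¹ = x by group] at h
      · intro x hx
        rw [Coprime.mem_conj]
        show π (p⁻¹ * x * p) ∈ R
        rw [map_mul, map_mul, map_inv]
        exact (Subgroup.mem_normalizer_iff''.1 (hTR _ ht) _).1 hx
    have hcg := Coprime.card_conj p Rh
    have hsup' : MulAut.conj p • Rh ⊔ Q = Rp := by
      have := congrArg (MulAut.conj p • ·) hsup
      simp only [Subgroup.smul_sup] at this
      rwa [Solvable.conj_normal p Q, hpRp] at this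
    obtain ⟨u, hu, huR⟩ := Solvable.exists_conj_of_sup_eq (Or.inl (Solvable.isSolvable_of_isPGroup hQp))
      (hsup'.trans hsup.symm) (by rw [hcg]; exact hcopQ) hcopQ
    refine ⟨u * p, C.mul_mem (hQC hu) (hPC hp),
      by rw [map_mul, show π u = 1 from (QuotientGroup.eq_one_iff u).2 hu, one_mul],
      Subgroup.mem_normalizer_iff_map_conj_eq.2 ?_⟩
    rw [← mul_smul, ← map_mul, Subgroup.pointwise_smul_def] at huR
    exact huR
  -- the module
  have hQcrit := PGroup.exists_critical (p := 2) hQp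
  obtain ⟨K0, hK0⟩ := hQcrit
  set K := K0.map Q.subtype with hKdef
  have hKQ : K ≤ Q := Subgroup.map_subtype_le _
  have hKn : K.Normal := by
    have := hK0.char
    infer_instance
  have hKcomm : ∀ k ∈ K, ∀ x ∈ Q, ⁅k, x⁆ ∈ K ∧ ∀ k' ∈ K, Commute ⁅k, x⁆ k' := by
    rintro _ ⟨k, hk, rfl⟩ x hx
    have h := hK0.comm_mem k hk ⟨x, hx⟩
    refine ⟨⟨_, h.1, by simp [commutatorElement_def]⟩, ?_⟩
    rintro _ ⟨k', hk', rfl⟩
    have e := congrArg Subtype.val (Subgroup.mem_centralizer_iff.1 h.2 k' hk')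
    simp only [Subgroup.coe_mul] at e
    exact (show Commute (k' : A) _ from e).symm
  let U : Subgroup A :=
    { carrier := {x | x ∈ K ∧ x ^ 4 = 1}
      one_mem' := ⟨one_mem _, one_pow _⟩
      mul_mem' := fun {x y} hx hy => by
        refine ⟨mul_mem hx.1 hy.1, ?_⟩
        obtain ⟨h1, h2⟩ := hKcomm y hy.1 x (hKQ hx.1)
        have hc2 : ⁅y, x⁆ ^ 2 = 1 := by
          have hy2 : y ^ 2 ∈ E := by rw [hmemE, ← pow_mul]; exact hy.2
          have e : ⁅y * y, x⁆ = ⁅y, x⁆ ^ 2 := by
            rw [pow_two]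
            calc ⁅y * y, x⁆ = y * ⁅y, x⁆ * y⁻¹ * ⁅y, x⁆ := by simp only [commutatorElement_def]; group
              _ = _ := by rw [← (h2 y hy.1).eq, mul_inv_cancel_right]
          rw [← e, ← pow_two, commutatorElement_eq_one_iff_commute]
          exact (hQcomm _ hy2 x (hKQ hx.1)).symm
        have e2 : (x * y) ^ 2 = x ^ 2 * y ^ 2 * ⁅y, x⁆ := by
          rw [pow_two, pow_two, pow_two]
          calc x * y * (x * y) = x * (⁅y, x⁆ * x * y) * y := by simp only [commutatorElement_def]; group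
            _ = _ := by
              rw [mul_assoc ⁅y, x⁆, (h2 (x * y) (mul_mem hx.1 hy.1)).eq]
              simp only [mul_assoc]
              rw [(h2 y hy.1).eq]
        have hx2 : x ^ 2 ∈ K := pow_mem hx.1 2
        have hy2' : y ^ 2 ∈ K := pow_mem hy.1 2
        have hxx : Commute (x ^ 2) (y ^ 2) := (hQcomm _
          (show y ^ 2 ∈ E by rw [hmemE, ← pow_mul]; exact hy.2) _ (hKQ hx2))
        rw [show 4 = 2 * 2 from rfl, pow_mul, e2,
          Commute.mul_pow ((h2 _ (mul_mem hx2 hy2')).symm), hxx.mul_pow, ← pow_mul, ← pow_mul, hc2,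
          mul_one, show 2 * 2 = 4 from rfl, hx.2, hy.2, one_mul]
      inv_mem' := fun {x} hx => ⟨inv_mem hx.1, by rw [inv_pow, hx.2, inv_one]⟩ }
  have hUn : U.Normal := ⟨fun x hx c => ⟨hKn.conj_mem x hx.1 c, by
    rw [conj_pow, hx.2, mul_one, mul_inv_cancel]⟩⟩
  have hUsq : ∀ u ∈ U, u ^ 2 ∈ E := fun u hu => by rw [hmemE, ← pow_mul]; exact hu.2
  have hUQ : ∀ u ∈ U, ∀ x ∈ Q, ⁅u, x⁆ ∈ E := by
    intro u hu x hx
    obtain ⟨h1, h2⟩ := hKcomm u hu.1 x hx
    rw [hmemE, pow_two]
    have e : ⁅u * u, x⁆ = ⁅u, x⁆ * ⁅u, x⁆ := by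
      calc ⁅u * u, x⁆ = u * ⁅u, x⁆ * u⁻¹ * ⁅u, x⁆ := by simp only [commutatorElement_def]; group
        _ = _ := by rw [← (h2 u hu.1).eq, mul_inv_cancel_right]
    rw [← e, ← pow_two, commutatorElement_eq_one_iff_commute]
    exact (hQcomm _ (hUsq u hu) x hx).symm
  set Wq := U ⧸ E.subgroupOf U
  letI instW : CommGroup Wq := { (inferInstance : Group Wq) with
    mul_comm := fun v w => QuotientGroup.induction_on v fun x => QuotientGroup.induction_on w fun z => by
      rw [← QuotientGroup.mk_mul, ← QuotientGroup.mk_mul, QuotientGroup.eq, Subgroup.mem_subgroupOf]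
      have h := hUQ _ (inv_mem z.2) _ (inv_mem (hKQ x.2.1))
      rw [commutatorElement_def, inv_inv, inv_inv] at h
      simpa [mul_assoc] using h }
  let act : C → (Wq →* Wq) := fun c => QuotientGroup.map _ _
    (MulAut.conjNormal (H := U) (c : A)).toMonoidHom (fun x hx => by
      show (c : A) * x * (c : A)⁻¹ ∈ E
      exact hEn.conj_mem _ hx c)
  have hact : ∀ (c : C) (x : U), act c (x : Wq) = ((MulAut.conjNormal (c : A) x : U) : Wq) :=
    fun c x => rfl
  let ρ : C →* AddMonoid.End (Additive Wq) :=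
    { toFun := fun c => MonoidHom.toAdditive (act c)
      map_one' := AddMonoidHom.ext fun v => by
        obtain ⟨x, hx⟩ := QuotientGroup.mk_surjective (Additive.toMul v)
        obtain rfl : v = Additive.ofMul (x : Wq) := hx.symm
        show Additive.ofMul (act 1 (x : Wq)) = Additive.ofMul (x : Wq)
        rw [hact]; simp
      map_mul' := fun c d => AddMonoidHom.ext fun v => by
        obtain ⟨x, hx⟩ := QuotientGroup.mk_surjective (Additive.toMul v)
        obtain rfl : v = Additive.ofMul (x : Wq) := hx.symm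
        show Additive.ofMul (act (c * d) (x : Wq)) = Additive.ofMul (act c (act d (x : Wq)))
        rw [hact, hact, hact]; simp }
  have hρ : ∀ (c : C) (x : U), ρ c (Additive.ofMul (x : Wq)) =
      Additive.ofMul (((MulAut.conjNormal (c : A) x : U) : Wq)) := fun c x => rfl
  let f0 : Wq → E := fun w => Quotient.liftOn' w (fun x : U => (⟨(x : A) ^ 2, hUsq x x.2⟩ : E))
    fun x z hxz => by
      rw [QuotientGroup.leftRel_apply, Subgroup.mem_subgroupOf, Subgroup.coe_mul, Subgroup.coe_inv] at hxz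
      refine Subtype.ext ?_
      show (x : A) ^ 2 = (z : A) ^ 2
      have hc : Commute (x : A) ((x : A)⁻¹ * z) := hQcomm _ hxz x (hKQ x.2.1)
      conv_rhs => rw [← mul_inv_cancel_left (x : A) (z : A), hc.mul_pow, hxz, mul_one]
  have hf0 : ∀ x : U, f0 (x : Wq) = ⟨(x : A) ^ 2, hUsq x x.2⟩ := fun x => rfl
  let B : Wq → Wq → E := fun v w => f0 (v * w) * f0 v * f0 w
  have hB : ∀ x z : U, (B (x : Wq) (z : Wq) : A) = ⁅(z : A), (x : A)⁆ := by
    intro x z
    have hc : ⁅(z : A), (x : A)⁆ ∈ E := hUQ z z.2 x (hKQ x.2.1)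
    have hcz := hQcomm _ hc (z : A) (hKQ z.2.1)
    have hcxz := hQcomm _ hc ((x : A) * z) (hKQ (mul_mem x.2.1 z.2.1))
    have e2 : ((x : A) * z) ^ 2 = (x : A) ^ 2 * (z : A) ^ 2 * ⁅(z : A), (x : A)⁆ := by
      rw [pow_two, pow_two, pow_two]
      calc (x : A) * z * (x * z) = (x : A) * (⁅(z : A), (x : A)⁆ * x * z) * z := by
            simp only [commutatorElement_def]; group
        _ = _ := by
          rw [mul_assoc ⁅(z : A), (x : A)⁆, ← hcxz]
          simp only [mul_assoc]
          rw [← hcz]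
    show (((⟨((x * z : U) : A) ^ 2, hUsq _ (x * z).2⟩ : E) * ⟨(x : A) ^ 2, hUsq x x.2⟩ *
      ⟨(z : A) ^ 2, hUsq z z.2⟩ : E) : A) = _
    have hx4 : (x : A) ^ 2 * (x : A) ^ 2 = 1 := by rw [← pow_two]; exact hUsq x x.2
    have hz4 : (z : A) ^ 2 * (z : A) ^ 2 = 1 := by rw [← pow_two]; exact hUsq z z.2
    have k1 := hQcomm _ (hUsq x x.2) _ (hEQ (hUsq z z.2))
    have k2 := hQcomm _ hc _ (hKQ (mul_mem (pow_mem x.2.1 2) (pow_mem z.2.1 2)))
    simp only [Subgroup.coe_mul]
    rw [e2, k2, mul_assoc, mul_assoc, mul_assoc,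
      ← mul_assoc ((z : A) ^ 2) ((x : A) ^ 2) ((z : A) ^ 2), k1,
      mul_assoc ((x : A) ^ 2) ((z : A) ^ 2) ((z : A) ^ 2), hz4, mul_one, hx4, mul_one]
  have hBl : ∀ u v w : Wq, B (u * v) w = B u w * B v w := fun u v w =>
    QuotientGroup.induction_on u fun x => QuotientGroup.induction_on v fun z =>
      QuotientGroup.induction_on w fun r => by
        rw [← QuotientGroup.mk_mul]
        refine Subtype.ext ?_
        show (B ((x * z : U) : Wq) (r : Wq) : A) = (B (x : Wq) (r : Wq) : A) * (B (z : Wq) (r : Wq) : A)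
        rw [hB (x * z) r, hB x r, hB z r, Subgroup.coe_mul]
        have hc : ⁅(r : A), (z : A)⁆ ∈ E := hUQ r r.2 z (hKQ z.2.1)
        calc ⁅(r : A), (x : A) * z⁆ = ⁅(r : A), (x : A)⁆ * ((x : A) * ⁅(r : A), (z : A)⁆ * (x : A)⁻¹) := by
              simp only [commutatorElement_def]; group
          _ = _ := by rw [hQcomm _ hc x (hKQ x.2.1), mul_inv_cancel_right]
  have hBs : ∀ v w : Wq, B v w = B w v := fun v w => by
    show f0 (v * w) * f0 v * f0 w = f0 (w * v) * f0 w * f0 v
    rw [mul_comm v w, mul_right_comm]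
  let β : Additive Wq →+ Additive Wq →+ Additive E :=
    AddMonoidHom.mk' (fun u => AddMonoidHom.mk' (fun v => Additive.ofMul (B u.toMul v.toMul))
        (fun v w => by
          show Additive.ofMul (B u.toMul (v.toMul * w.toMul)) = _
          rw [hBs, hBl, hBs v.toMul, hBs w.toMul]; rfl))
      (fun u v => AddMonoidHom.ext fun w => by
        show Additive.ofMul (B (u.toMul * v.toMul) w.toMul) = _
        rw [hBl]; rfl)
  let f : Additive Wq → Additive E := fun w => Additive.ofMul (f0 w.toMul)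
  have hW : ∀ w : Additive Wq, w + w = 0 := fun w => by
    show Additive.ofMul (w.toMul * w.toMul) = Additive.ofMul 1
    refine congrArg _ (QuotientGroup.induction_on w.toMul fun x => ?_)
    rw [← QuotientGroup.mk_mul, QuotientGroup.eq_one_iff, Subgroup.mem_subgroupOf, Subgroup.coe_mul,
      ← pow_two]
    exact hUsq x x.2
  have hEe : ∀ e : Additive E, e + e = 0 := fun e => by
    show Additive.ofMul (e.toMul * e.toMul) = Additive.ofMul 1
    rw [← pow_two, hE2]
  have hadd : ∀ u v, f (u + v) = f u + f v + β u v := fun u v => by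
    show Additive.ofMul (f0 (u.toMul * v.toMul)) =
      Additive.ofMul (f0 u.toMul * f0 v.toMul * (f0 (u.toMul * v.toMul) * f0 u.toMul * f0 v.toMul))
    refine congrArg _ ?_
    set F1 := f0 u.toMul
    set F2 := f0 v.toMul
    set F3 := f0 (u.toMul * v.toMul)
    rw [mul_comm (F1 * F2), mul_assoc F3, mul_assoc F3, ← pow_two, hE2, mul_one]
  have hker : ∀ w, f w = 0 → w = 0 := by
    intro w hw
    have hw' : f0 w.toMul = 1 := hw
    show w.toMul = 1
    revert hw'
    refine QuotientGroup.induction_on w.toMul fun x hx => ?_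
    rw [QuotientGroup.eq_one_iff, Subgroup.mem_subgroupOf, hmemE]
    exact congrArg Subtype.val hx
  have hfρ : ∀ c w, f (ρ c w) = f w := by
    intro c w
    obtain ⟨x, hx⟩ := QuotientGroup.mk_surjective w.toMul
    have hw : w = Additive.ofMul (x : Wq) := by rw [hx]; rfl
    rw [hw, hρ]
    show Additive.ofMul (f0 ((MulAut.conjNormal (c : A) x : U) : Wq)) = Additive.ofMul (f0 (x : Wq))
    rw [hf0, hf0]
    refine congrArg _ (Subtype.ext ?_)
    show ((MulAut.conjNormal (c : A) x : U) : A) ^ 2 = (x : A) ^ 2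
    rw [MulAut.conjNormal_apply, conj_pow]
    exact hCmem.1 c.2 ⟨_, hUsq x x.2⟩
  -- the elements acting trivially on the module
  let M : Subgroup A :=
    { carrier := {c | ∀ u ∈ U, c * u * c⁻¹ * u⁻¹ ∈ E}
      one_mem' := fun u _ => by simp
      mul_mem' := fun {c d} hc hd u hu => by
        have h := E.mul_mem (hc _ (hUn.conj_mem u hu d)) (hd u hu)
        convert h using 1
        group
      inv_mem' := fun {c} hc u hu => by
        have h := E.inv_mem (hc _ (by simpa using hUn.conj_mem u hu c⁻¹ : c⁻¹ * u * c ∈ U))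
        convert h using 1
        group }
  have hMn : M.Normal := ⟨fun c hc d u hu => by
    have h := hEn.conj_mem _ (hc _ (by simpa using hUn.conj_mem u hu d⁻¹ : d⁻¹ * u * d ∈ U)) d
    convert h using 1
    group⟩
  have hQM : Q ≤ M := fun x hx u hu => by
    have h := E.inv_mem (hUQ u hu x hx)
    rwa [commutatorElement_inv, commutatorElement_def] at h
  -- `R` moves the module
  have hRM : ¬ R ≤ M.map π := by
    intro hle
    have hRhM : Rh ≤ M := fun x hx => by
      obtain ⟨c, hc, hcx⟩ := hle ((hsup.le (Subgroup.mem_sup_left hx) : x ∈ Rp) : π x ∈ R)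
      have h1 : c⁻¹ * x ∈ M := hQM (by
        rw [← hπker, MonoidHom.mem_ker, map_mul, map_inv, hcx, inv_mul_cancel])
      have := M.mul_mem hc h1
      rwa [mul_inv_cancel_left] at this
    have hfix4 : ∀ x ∈ K, x ^ 4 = 1 → x ∈ Subgroup.centralizer (Rh : Set A) := by
      intro u hu hu4
      refine Subgroup.mem_centralizer_iff.2 fun r hr => ?_
      have he := hRhM hr u ⟨hu, hu4⟩
      set e := r * u * r⁻¹ * u⁻¹ with hedef
      have hre : r * e * r⁻¹ = e := hCmem.1 (hRhC hr) ⟨e, he⟩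
      have key : ∀ i : ℕ, r ^ i * u * (r ^ i)⁻¹ = e ^ i * u := by
        intro i
        induction i with
        | zero => simp
        | succ i ih =>
          calc r ^ (i + 1) * u * (r ^ (i + 1))⁻¹ = r * (r ^ i * u * (r ^ i)⁻¹) * r⁻¹ := by
                rw [pow_succ']; group
            _ = (r * e ^ i * r⁻¹) * (r * u * r⁻¹) := by rw [ih]; group
            _ = e ^ i * (r * u * r⁻¹) := by rw [← conj_pow, hre]
            _ = e ^ (i + 1) * u := by rw [hedef, pow_succ]; group
      have h1 := key (Nat.card Rh)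
      rw [show r ^ Nat.card Rh = 1 from orderOf_dvd_iff_pow_eq_one.1
        (Subgroup.orderOf_dvd_natCard Rh hr), one_mul, inv_one, mul_one, eq_comm, mul_eq_right,
        hRhc] at h1
      obtain ⟨s, hs⟩ := (hq.odd_of_ne_two hq2).pow (n := kr)
      rw [hs, pow_succ, pow_mul, (he : e ^ 2 = 1), one_pow, one_mul] at h1
      rw [hedef, mul_inv_eq_one, mul_inv_eq_iff_eq_mul] at h1
      exact h1
    have hcopR : (Nat.card Rh).Coprime 2 := by
      rw [hRhc]; exact ((Nat.coprime_primes hq Nat.prime_two).2 hq2).pow_left kr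
    have hRK := SmallFix.le_centralizer_of_fixing_order_four 2 rfl (hQp.to_le hKQ)
      (le_top.trans (Subgroup.normalizer_eq_top_iff.mpr hKn).ge) hcopR hfix4
    have := hK0.char
    refine hR0 ((Subgroup.eq_bot_iff_forall R).2 fun r hr => ?_)
    rw [← hlift r hr]
    have hxR := hliftmem r hr
    have hone : MulAut.conjNormal (H := Q) (lift r) = 1 := by
      refine PGroup.aut_eq_one_of_fix_selfCentralizing hQp hK0.self_centralizing ?_ fun k hk => ?_
      · refine hcopR.coprime_dvd_left ((orderOf_map_dvd _ _).trans ?_)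
        exact Subgroup.orderOf_dvd_natCard Rh hxR
      · refine Subtype.ext ?_
        rw [MulAut.conjNormal_apply]
        have h := Subgroup.mem_centralizer_iff.1 (hRK hxR) (k : A) ⟨k, hk, rfl⟩
        rw [← h, mul_inv_cancel_right]
    have hxQ : lift r ∈ Q := hC (Subgroup.mem_centralizer_iff.2 fun v hv => by
      have h := congrArg (fun w : MulAut Q => ((w ⟨v, hv⟩ : Q) : A)) hone
      simp only [MulAut.conjNormal_apply, MulAut.one_apply] at h
      exact (mul_inv_eq_iff_eq_mul.1 h).symm)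
    rw [show lift r = 1 from Coprime.eq_one_of_mem_of_mem hcopQ hxR hxQ, map_one]
  -- conclusion
  let Y : Fin n → C := fun i => ⟨lift (y i), hRhC (hliftmem _ (hyR i))⟩
  have hYpow : ∀ i, Y i ^ q ^ kr = 1 := fun i => Subtype.ext (by
    rw [Subgroup.coe_pow, Subgroup.coe_one, ← hRhc]
    exact orderOf_dvd_iff_pow_eq_one.1 (Subgroup.orderOf_dvd_natCard Rh (hliftmem _ (hyR i))))
  have hYcomm : ∀ i j, Commute (Y i) (Y j) := fun i j => by
    refine Subtype.ext ?_
    rw [Subgroup.coe_mul, Subgroup.coe_mul, ← mul_inv_eq_one]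
    refine hinj _ (mul_mem (mul_mem (hliftmem _ (hyR i)) (hliftmem _ (hyR j)))
      (inv_mem (mul_mem (hliftmem _ (hyR j)) (hliftmem _ (hyR i))))) ?_
    rw [map_mul, map_inv, map_mul, map_mul, hlift _ (hyR i), hlift _ (hyR j),
      (hycomm i i.2 j j.2).eq, mul_inv_cancel]
  have hMmap : (M.map π).Normal := hMn.map π hπ
  have hYmove : ∀ i, ∃ w, ρ (Y i) w ≠ w := by
    intro i
    by_contra hcon
    push Not at hcon
    refine hRM (hyM _ hMmap i ⟨lift (y i), fun u hu => ?_, hlift _ (hyR i)⟩)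
    have h : Additive.ofMul (((MulAut.conjNormal (lift (y i)) ⟨u, hu⟩ : U) : Wq)) =
        Additive.ofMul ((⟨u, hu⟩ : U) : Wq) := hcon (Additive.ofMul ((⟨u, hu⟩ : U) : Wq))
    have h' := Additive.ofMul.injective h
    rw [eq_comm, QuotientGroup.eq, Subgroup.mem_subgroupOf, Subgroup.coe_mul, Subgroup.coe_inv,
      MulAut.conjNormal_apply] at h'
    have h'' := hEn.conj_mem _ h' u
    convert h'' using 1
    group
  have hYsep : ∀ i j, i ≠ j → ∃ x : C, (x⁻¹ * Y i * x = (Y i)⁻¹ ∧ x⁻¹ * Y j * x = Y j) ∨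
      (x⁻¹ * Y j * x = (Y j)⁻¹ ∧ x⁻¹ * Y i * x = Y i) := by
    intro i j hij
    obtain ⟨t, ht, hcase⟩ := hysep i i.2 j j.2 fun h => hij (Fin.ext h)
    obtain ⟨x, hxC, hxt, hxN⟩ := hTlift t ht
    refine ⟨⟨x, hxC⟩, ?_⟩
    have transfer : ∀ (v : Fin n) (w : A), w ∈ Rh → t⁻¹ * y v * t = π w →
        x⁻¹ * lift (y v) * x = w := by
      intro v w hw heq
      rw [← mul_inv_eq_one]
      refine hinj _ (mul_mem ((Subgroup.mem_normalizer_iff''.1 hxN _).1 (hliftmem _ (hyR v)))
        (inv_mem hw)) ?_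
      rw [map_mul, map_inv, map_mul, map_mul, map_inv, hxt, hlift _ (hyR v), heq, mul_inv_cancel]
    have hpi : ∀ v : Fin n, π (lift (y v)) = y v := fun v => hlift _ (hyR v)
    rcases hcase with ⟨h1, h2⟩ | ⟨h1, h2⟩
    · exact Or.inl ⟨Subtype.ext (transfer i _ (inv_mem (hliftmem _ (hyR i))) (by rw [h1]; show _ = π (lift _)⁻¹; rw [map_inv, hpi])),
        Subtype.ext (transfer j _ (hliftmem _ (hyR j)) (by rw [h2, hpi]))⟩
    · exact Or.inr ⟨Subtype.ext (transfer j _ (inv_mem (hliftmem _ (hyR j))) (by rw [h1]; show _ = π (lift _)⁻¹; rw [map_inv, hpi])),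
        Subtype.ext (transfer i _ (hliftmem _ (hyR i)) (by rw [h2, hpi]))⟩
  have hbound := Anisotropic.card_le_of_commuting_family ρ hW hEe f β hadd hker hfρ hq hq2 Y hYpow
    hYcomm hYmove hYsep
  rw [show Nat.card (Additive E) = Nat.card E from Nat.card_congr Additive.toMul] at hbound
  omega

end

end Cfsg.Agent.HallHigman
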