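import Cfsg.Agent.Lib.HallHigman.Clifford

/-!
The degree of an irreducible representation of a `q`-group (owner: helper77).

* `finrank_biSup_eq`, `exists_finrank_eq_pow`
-/

set_option autoImplicit false

namespace Cfsg.Agent.HallHigman

open Module

universe u v

variable {F : Type*} [Field F]

theorem finrank_map_rho {G : Type*} [Group G] {V : Type*} [AddCommGroup V] [Module F V]
    (ρ : G →* Module.End F V) (a : G) (W : Submodule F V) : finrank F (W.map (ρ a)) = finrank F W := by
  refine (Submodule.equivMapOfInjective (ρ a) (fun x y h => ?_) W).finrank_eq.symm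
  have := congrArg (ρ a⁻¹) h
  rwa [rho_inv_apply, rho_inv_apply] at this

theorem finrank_biSup_eq {G : Type*} [Group G] {V : Type*} [AddCommGroup V] [Module F V]
    [FiniteDimensional F V] {ρ : G →* Module.End F V} {Q : Subgroup G} {ι : Type*} (s : Finset ι)
    (U : ι → Submodule F V) {d : ℕ} (hU : ∀ i ∈ s, IsSimpleInv ρ Q (U i))
    (hd : ∀ i ∈ s, ∀ j ∈ s, i ≠ j → ¬ QIso ρ Q (U i) (U j)) (hdim : ∀ i ∈ s, finrank F (U i) = d) :
    finrank F ↥(⨆ i ∈ s, U i) = s.card * d := by
  classical
  induction s using Finset.induction_on with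
  | empty => rw [Finset.card_empty, zero_mul]; simp
  | @insert b s hb ih =>
    rw [Finset.iSup_insert, Finset.card_insert_of_notMem hb, add_one_mul]
    have h1 := Submodule.finrank_sup_add_finrank_inf_eq (U b) (⨆ i ∈ s, U i)
    have h2 := inf_biSup_eq_bot s U (fun i hi => hU i (Finset.mem_insert_of_mem hi))
      (fun i hi j hj => hd i (Finset.mem_insert_of_mem hi) j (Finset.mem_insert_of_mem hj))
      (U b) (hU b (Finset.mem_insert_self _ _))
      (fun i hi => hd b (Finset.mem_insert_self _ _) i (Finset.mem_insert_of_mem hi) fun e => hb (e ▸ hi))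
    rw [h2, finrank_bot, add_zero, hdim b (Finset.mem_insert_self _ _),
      ih (fun i hi => hU i (Finset.mem_insert_of_mem hi))
        (fun i hi j hj => hd i (Finset.mem_insert_of_mem hi) j (Finset.mem_insert_of_mem hj))
        (fun i hi => hdim i (Finset.mem_insert_of_mem hi))] at h1
    omega

theorem exists_finrank_eq_pow [IsAlgClosed F] {q : ℕ} [hq : Fact q.Prime] (n : ℕ) :
    ∀ (G : Type u) [Group G] [Finite G], Nat.card G ≤ n → IsPGroup q G →
      ∀ (V : Type v) [AddCommGroup V] [Module F V] [FiniteDimensional F V] [Nontrivial V]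
        (ρ : G →* Module.End F V),
        (∀ W : Submodule F V, IsInv ρ ⊤ W → W = ⊥ ∨ W = ⊤) → ∃ b : ℕ, finrank F V = q ^ b := by
  classical
  induction n with
  | zero =>
    intro G _ _ hc
    have := Nat.card_pos (α := G)
    omega
  | succ n ih =>
    intro G _ _ hc hG V _ _ _ _ ρ hirr
    rcases subsingleton_or_nontrivial G with hs | hnt
    · obtain ⟨v, hv⟩ := exists_ne (0 : V)
      have hall : ∀ g : G, ρ g = 1 := fun g => by rw [Subsingleton.elim g 1, map_one]
      rcases hirr (F ∙ v) (fun g _ u hu => by rw [hall g]; exact hu) with h | h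
      · exact absurd ((Submodule.span_singleton_eq_bot).mp h) hv
      · refine ⟨0, ?_⟩
        rw [pow_zero, ← finrank_top F V, ← h, finrank_span_singleton hv]
    -- a normal subgroup of index `q`
    obtain ⟨M, hM⟩ : ∃ M : Subgroup G, IsCoatom M := by
      rcases IsCoatomic.eq_top_or_exists_le_coatom (⊥ : Subgroup G) with h | ⟨M, hM, -⟩
      · exact absurd h bot_ne_top
      · exact ⟨M, hM⟩
    haveI : Group.IsNilpotent G := hG.isNilpotent
    haveI hMn : M.Normal := Subgroup.NormalizerCondition.normal_of_coatom M normalizerCondition_of_isNilpotent hM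
    have hMi : M.index = q := by
      obtain ⟨k, hk⟩ := hG.index M
      have hk0 : k ≠ 0 := fun h => hM.1 (Subgroup.index_eq_one.mp (by rw [hk, h, pow_zero]))
      obtain ⟨z, hz⟩ := exists_prime_orderOf_dvd_card' (G := G ⧸ M) q
        (by rw [← Subgroup.index_eq_card, hk]; exact dvd_pow_self q hk0)
      have hlt : M < (Subgroup.zpowers z).comap (QuotientGroup.mk' M) := by
        refine lt_of_le_of_ne (fun g hg => ?_) fun he => ?_
        · show (g : G ⧸ M) ∈ Subgroup.zpowers z
          rw [(QuotientGroup.eq_one_iff g).mpr hg]; exact one_mem _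
        · obtain ⟨g, rfl⟩ := QuotientGroup.mk'_surjective M z
          have : g ∈ M := he.ge (Subgroup.mem_zpowers _)
          rw [QuotientGroup.mk'_apply, (QuotientGroup.eq_one_iff g).mpr this, orderOf_one] at hz
          exact hq.out.ne_one hz.symm
      have htop := hM.2 _ hlt
      have : Subgroup.zpowers z = ⊤ := by
        rw [← Subgroup.map_comap_eq_self_of_surjective (QuotientGroup.mk'_surjective M) (Subgroup.zpowers z),
          htop, Subgroup.map_top_of_surjective _ (QuotientGroup.mk'_surjective M)]
      rw [Subgroup.index_eq_card, ← Subgroup.card_top, ← this, Nat.card_zpowers, hz]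
    obtain ⟨W, hWle, hW⟩ := exists_simple_le (ρ := ρ) (Q := M) (U := (⊤ : Submodule F V)) top_ne_bot
      (fun g _ u _ => Submodule.mem_top)
    -- its dimension
    let σ : M →* Module.End F W :=
      { toFun := fun g => (ρ (g : G)).restrict (fun w hw => hW.2.1 g g.2 w hw)
        map_one' := LinearMap.ext fun w => Subtype.ext (by
          show ρ ((1 : M) : G) (w : V) = w
          rw [OneMemClass.coe_one, map_one, Module.End.one_apply])
        map_mul' := fun a b => LinearMap.ext fun w => Subtype.ext (by
          show ρ ((a * b : M) : G) (w : V) = ρ (a : G) (ρ (b : G) w)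
          rw [Subgroup.coe_mul, rho_mul_apply]) }
    haveI : Nontrivial W := Submodule.nontrivial_iff_ne_bot.mpr hW.1
    have hMlt : Nat.card M < Nat.card G := by
      have h1 := M.card_mul_index
      rw [hMi] at h1
      have := hq.out.two_le
      have : 0 < Nat.card M := Nat.card_pos
      nlinarith
    obtain ⟨b, hb⟩ := ih M (by omega) (hG.to_subgroup M) W σ fun U hU => by
      have hinv : IsInv ρ M (U.map W.subtype) := by
        rintro g hg _ ⟨u, hu, rfl⟩
        exact ⟨σ ⟨g, hg⟩ u, hU ⟨g, hg⟩ (Subgroup.mem_top _) u hu, rfl⟩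
      rcases hW.2.2 _ (Submodule.map_subtype_le _ _) hinv with h | h
      · exact Or.inl (Submodule.map_injective_of_injective W.subtype_injective
          (by rw [h, Submodule.map_bot]))
      · refine Or.inr (Submodule.map_injective_of_injective W.subtype_injective ?_)
        rw [h, Submodule.map_top, Submodule.range_subtype]
    obtain ⟨x, hx⟩ : ∃ x, x ∉ M := by
      by_contra! h
      exact hM.1 ((Subgroup.eq_top_iff' M).mpr h)
    have hxn : ∀ a : G, a ∈ Subgroup.normalizer (M : Set G) := fun a => by
      rw [Subgroup.normalizer_eq_top]; exact Subgroup.mem_top a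
    have hxq : x ^ q ∈ M := by
      have := M.pow_index_mem x
      rwa [hMi] at this
    have hgen : M ⊔ Subgroup.zpowers x = ⊤ := hM.2 _ (lt_of_le_of_ne le_sup_left fun h =>
      hx (h.ge (Subgroup.mem_sup_right (Subgroup.mem_zpowers x))))
    have hinvall : ∀ U : Submodule F V, IsInv ρ M U → (∀ u ∈ U, ρ x u ∈ U) → U ≠ ⊥ → U = ⊤ := by
      intro U hU hUx hU0
      refine (hirr U fun g _ u hu => ?_).resolve_left hU0
      let S : Subgroup G := stabSub ρ U
      have : M ⊔ Subgroup.zpowers x ≤ S :=
        sup_le (fun g hg u hu => hU g hg u hu) (Subgroup.zpowers_le.mpr hUx)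
      rw [hgen] at this
      exact this (Subgroup.mem_top g) u hu
    by_cases hiso : ∃ i, 0 < i ∧ i < q ∧ QIso ρ M W (W.map (ρ (x ^ i)))
    · obtain ⟨i, hi0, hiq, hi⟩ := hiso
      obtain ⟨W', hW', ⟨f, hf, hfr, -⟩, hW'x⟩ := exists_invariant_translate hW (hxn (x ^ i)) hi
      have hW'inv : ∀ u ∈ W', ρ x u ∈ W' := by
        let S : Subgroup G := stabSub ρ W'
        obtain ⟨m, -, hm⟩ := Nat.exists_mul_mod_eq_one_of_coprime
          ((hq.out.coprime_iff_not_dvd.mpr fun h => absurd (Nat.le_of_dvd hi0 h) (by omega)).symm : i.Coprime q)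
          hq.out.one_lt
        have h1 : x ^ (i * m % q) * (x ^ q) ^ (i * m / q) ∈ S := by
          rw [← pow_mul x q, ← pow_add, Nat.mod_add_div, pow_mul]
          exact pow_mem (show x ^ i ∈ S from hW'x) _
        rw [hm, pow_one] at h1
        have h2 : (x ^ q) ^ (i * m / q) ∈ S := fun u hu => hW'.2.1 _ (pow_mem hxq _) u hu
        exact (Subgroup.mul_mem_cancel_right S h2).mp h1
      have htop := hinvall W' hW'.2.1 hW'inv hW'.1
      refine ⟨b, ?_⟩
      rw [← hb, ← finrank_top F V, ← htop, ← hfr]
      exact LinearMap.finrank_range_of_inj hf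
    · push Not at hiso
      let U : ℕ → Submodule F V := fun i => W.map (ρ (x ^ i))
      have hUs : ∀ i, IsSimpleInv ρ M (U i) := fun i => hW.map (hxn _)
      have key : ∀ i j, i < j → j < q → ¬ QIso ρ M (U i) (U j) := by
        intro i j hij hj h
        have h1 := QIso.map (A := U i) (B := U j) (hxn (x ^ i)⁻¹) h
        have e0 : (U i).map (ρ (x ^ i)⁻¹) = W := by
          simp only [U, map_map_rho, inv_mul_cancel, map_one]; exact Submodule.map_id W
        have e1 : (U j).map (ρ (x ^ i)⁻¹) = U (j - i) := by
          simp only [U, map_map_rho]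
          conv_lhs => rw [← Nat.add_sub_cancel' hij.le, pow_add, inv_mul_cancel_left]
        rw [e0, e1] at h1
        exact hiso (j - i) (by omega) (by omega) h1
      have hd : ∀ i ∈ Finset.range q, ∀ j ∈ Finset.range q, i ≠ j → ¬ QIso ρ M (U i) (U j) := by
        intro i hi j hj hne h
        rcases Nat.lt_or_gt_of_ne hne with h' | h'
        · exact key i j h' (Finset.mem_range.mp hj) h
        · exact key j i h' (Finset.mem_range.mp hi) (QIso.symm (hUs i).2.1 h)
      have hsum := finrank_biSup_eq (Finset.range q) U (fun i _ => hUs i) hd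
        (fun i _ => (finrank_map_rho ρ (x ^ i) W).trans hb)
      have hle : ∀ i < q, U i ≤ ⨆ j ∈ Finset.range q, U j := fun i hi =>
        le_biSup (fun j => U j) (Finset.mem_range.mpr hi)
      have htop : (⨆ i ∈ Finset.range q, U i) = ⊤ := by
        refine hinvall _ (isInv_biSup _ _ fun i _ => (hUs i).2.1) ?_ ?_
        · intro u hu
          have : (⨆ i ∈ Finset.range q, U i) ≤ (⨆ i ∈ Finset.range q, U i).comap (ρ x) := by
            refine iSup₂_le fun i hi u hu => ?_
            obtain ⟨w, hw, rfl⟩ := hu
            show ρ x (ρ (x ^ i) w) ∈ ⨆ j ∈ Finset.range q, U j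
            rw [← rho_mul_apply, ← pow_succ']
            rcases Nat.lt_or_ge (i + 1) q with h | h
            · exact hle _ h ⟨w, hw, rfl⟩
            · have hi' := Finset.mem_range.mp hi
              rw [show i + 1 = q by omega]
              refine hle 0 hq.out.pos ?_
              exact ⟨ρ (x ^ q) w, hW.2.1 _ hxq w hw, by rw [pow_zero, map_one, Module.End.one_apply]⟩
          exact this hu
        · intro h
          exact (hUs 0).1 (le_bot_iff.mp (h ▸ hle 0 hq.out.pos))
      refine ⟨b + 1, ?_⟩
      rw [← finrank_top F V, ← htop, hsum, Finset.card_range, pow_succ']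

end Cfsg.Agent.HallHigman
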