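/-
Elementary properties of p-length and the derived length bound (helper3).

Main results (namespace `Cfsg.Agent.HallHigman`):
* map_upperPSeries_le, pLengthLE_of_surjective, pLengthLE_mono, pLengthLE_quotient_pCore
* derivedLength_le_sum
-/
import Cfsg.Agent.Lib.PSeries.Basic
import Cfsg.Agent.Lib.Products.DerivedLength
import Cfsg.Agent.Lib.Cores.Basic

set_option autoImplicit false

namespace Cfsg.Agent.HallHigman

universe u

theorem map_upperPSeries_le {G H : Type*} [Group G] [Group H] (f : G →* H)
    (hf : Function.Surjective f) (p : ℕ) :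
    ∀ n, (Cfsg.upperPSeries p G n).1.map f ≤ (Cfsg.upperPSeries p H n).1 := by
  intro n
  induction n with
  | zero => exact le_of_eq (Subgroup.map_bot f)
  | succ n ih =>
    haveI := (Cfsg.upperPSeries p G n).2
    haveI := (Cfsg.upperPSeries p H n).2
    set a := QuotientGroup.mk' (Cfsg.upperPSeries p G n).1
    set b := QuotientGroup.mk' (Cfsg.upperPSeries p H n).1
    have hb : Function.Surjective b := QuotientGroup.mk'_surjective _
    have ha : Function.Surjective a := QuotientGroup.mk'_surjective _
    let g := QuotientGroup.lift (Cfsg.upperPSeries p G n).1 (b.comp f) (fun x hx => by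
      rw [MonoidHom.mem_ker, MonoidHom.comp_apply]
      exact (QuotientGroup.eq_one_iff _).mpr (ih ⟨x, hx, rfl⟩))
    have hg : Function.Surjective g := fun y => by
      obtain ⟨z, rfl⟩ := hb y
      obtain ⟨x, rfl⟩ := hf z
      exact ⟨a x, rfl⟩
    rintro _ ⟨x, hx, rfl⟩
    by_cases hn : Even n
    · rw [PSeries.upperPSeries_succ_even hn b hb (QuotientGroup.ker_mk' _)]
      simp only [SetLike.mem_coe, PSeries.upperPSeries_succ_even hn a ha (QuotientGroup.ker_mk' _),
        Subgroup.mem_comap] at hx
      exact Cores.map_pPrimeCore_le g hg p ⟨a x, hx, rfl⟩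
    · rw [PSeries.upperPSeries_succ_odd hn b hb (QuotientGroup.ker_mk' _)]
      simp only [SetLike.mem_coe, PSeries.upperPSeries_succ_odd hn a ha (QuotientGroup.ker_mk' _),
        Subgroup.mem_comap] at hx
      exact Cores.map_pCore_le g hg p ⟨a x, hx, rfl⟩

theorem pLengthLE_of_surjective {G H : Type*} [Group G] [Group H] (f : G →* H)
    (hf : Function.Surjective f) {p k : ℕ} (h : Cfsg.PLengthLE p k G) : Cfsg.PLengthLE p k H := by
  have h1 := map_upperPSeries_le f hf p (2 * k + 1)
  rw [show (Cfsg.upperPSeries p G (2 * k + 1)).1 = ⊤ from h, Subgroup.map_top_of_surjective f hf] at h1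
  exact top_le_iff.mp h1

theorem pLengthLE_mono {G : Type*} [Group G] {p k l : ℕ} (hkl : k ≤ l)
    (h : Cfsg.PLengthLE p k G) : Cfsg.PLengthLE p l G :=
  top_le_iff.mp ((le_of_eq (Eq.symm h)).trans
    (PSeries.upperPSeries_mono (show 2 * k + 1 ≤ 2 * l + 1 by omega)))

theorem pLengthLE_zero_iff {G : Type*} [Group G] {p : ℕ} :
    Cfsg.PLengthLE p 0 G ↔ Cfsg.pPrimeCore p G = ⊤ := by
  show (Cfsg.upperPSeries p G 1).1 = ⊤ ↔ _
  rw [PSeries.upperPSeries_one]

theorem upperPSeries_two_of_pPrimeCore_eq_bot {G : Type*} [Group G] {p : ℕ}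
    (h : Cfsg.pPrimeCore p G = ⊥) : (Cfsg.upperPSeries p G 2).1 = Cfsg.pCore p G := by
  rw [show (2 : ℕ) = 1 + 1 from rfl, PSeries.upperPSeries_succ_odd (by simp) (MonoidHom.id G)
    Function.surjective_id (by rw [MonoidHom.ker_id, PSeries.upperPSeries_one, h]),
    Subgroup.comap_id]

/-- If `O_{p'} = 1` then passing to `G/O_p` lowers the p-length. -/
theorem pLengthLE_quotient_pCore {G : Type*} [Group G] {p k : ℕ} [(Cfsg.pCore p G).Normal]
    (hO : Cfsg.pPrimeCore p G = ⊥) (h : Cfsg.PLengthLE p (k + 1) G) :
    Cfsg.PLengthLE p k (G ⧸ Cfsg.pCore p G) := by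
  have h1 := PSeries.comap_upperPSeries (p := p) 1 (QuotientGroup.mk' (Cfsg.pCore p G))
    (QuotientGroup.mk'_surjective _) (by
      rw [QuotientGroup.ker_mk', show 2 * 1 = 2 from rfl, upperPSeries_two_of_pPrimeCore_eq_bot hO])
    (2 * k + 1)
  rw [show 2 * 1 + (2 * k + 1) = 2 * (k + 1) + 1 by ring,
    show (Cfsg.upperPSeries p G (2 * (k + 1) + 1)).1 = ⊤ from h] at h1
  exact Subgroup.comap_injective (QuotientGroup.mk'_surjective _) (h1.trans (Subgroup.comap_top _).symm)

theorem sylow_derivedSeries_of_surjective {G H : Type*} [Group G] [Group H] [Finite G] {p : ℕ}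
    [Fact p.Prime] (f : G →* H) (hf : Function.Surjective f) {d : ℕ}
    (hd : ∀ S : Sylow p G, derivedSeries (S : Subgroup G) d = ⊥) (T : Sylow p H) :
    derivedSeries (T : Subgroup H) d = ⊥ := by
  have : Finite H := Finite.of_surjective f hf
  obtain ⟨S, rfl⟩ := Sylow.mapSurjective_surjective hf p T
  have h1 := map_derivedSeries_eq (f.subgroupMap_surjective (S : Subgroup G)) d
  rw [hd S, Subgroup.map_bot] at h1
  exact h1.symm

/-- The derived length bound `Σ d_i l_i`. -/
theorem derivedLength_le_sum {r : ℕ} (q : Fin r → ℕ) (hq : ∀ i, (q i).Prime) (d : Fin r → ℕ) :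
    ∀ (n : ℕ) (G : Type u) [Group G] [Finite G] (l : Fin r → ℕ), Nat.card G ≤ n →
    Group.IsSolvable G → (∀ s : ℕ, s.Prime → s ∣ Nat.card G → ∃ i, q i = s) →
    (∀ i, haveI := Fact.mk (hq i); ∀ S : Sylow (q i) G, derivedSeries (S : Subgroup G) (d i) = ⊥) →
    (∀ i, Cfsg.PLengthLE (q i) (l i) G) →
    derivedSeries G (Finset.univ.sum fun i => d i * l i) = ⊥ := by
  classical
  intro n
  induction n with
  | zero => intro G _ _ l hn; exact absurd (Nat.card_pos (α := G)) (by omega)
  | succ n ih =>
    intro G _ _ l hn hsol hcov hd hl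
    set D := derivedSeries G (Finset.univ.sum fun i => d i * l i) with hD
    have hDn : D.Normal := derivedSeries_normal G _
    -- descent to a proper quotient
    have hquot : ∀ (N : Subgroup G) [N.Normal], N ≠ ⊥ → ∀ l' : Fin r → ℕ,
        (∀ i, Cfsg.PLengthLE (q i) (l' i) (G ⧸ N)) →
        derivedSeries G (Finset.univ.sum fun i => d i * l' i) ≤ N := by
      intro N _ hN l' hl'
      have hs := QuotientGroup.mk'_surjective N
      have hcard : Nat.card (G ⧸ N) ≤ n := by
        have := Solvable.card_quotient_lt hN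
        omega
      have h1 := ih (G ⧸ N) l' hcard inferInstance
        (fun s hs' hd' => hcov s hs' (hd'.trans (Subgroup.card_quotient_dvd_card N)))
        (fun i => by
          haveI := Fact.mk (hq i)
          exact fun T => sylow_derivedSeries_of_surjective _ hs (hd i) T)
        hl'
      rw [← map_derivedSeries_eq hs, Subgroup.map_eq_bot_iff, QuotientGroup.ker_mk'] at h1
      exact h1
    -- `D` lies in every `O_{q'}`
    have hkey : ∀ i, q i ∣ Nat.card G → D ≤ Cfsg.pPrimeCore (q i) G := by
      intro i hdvd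
      haveI := Fact.mk (hq i)
      by_cases hO : Cfsg.pPrimeCore (q i) G = ⊥
      swap
      · exact hquot _ hO l fun j => pLengthLE_of_surjective _ (QuotientGroup.mk'_surjective _) (hl j)
      have hP : (Cfsg.pCore (q i) G).Normal := Cores.pCore_normal _ _
      obtain ⟨k, hk⟩ : ∃ k, l i = k + 1 := by
        refine ⟨l i - 1, (Nat.sub_add_cancel (Nat.one_le_iff_ne_zero.mpr fun h0 => ?_)).symm⟩
        have h1 := hl i
        rw [h0, pLengthLE_zero_iff, hO] at h1
        rw [← Subgroup.card_top, ← h1, Subgroup.card_bot] at hdvd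
        exact (hq i).not_dvd_one hdvd
      have hne : Cfsg.pCore (q i) G ≠ ⊥ := by
        intro h0
        have htop : (⊤ : Subgroup G) ≠ ⊥ := fun h => by
          rw [← Subgroup.card_top, h, Subgroup.card_bot] at hdvd
          exact (hq i).not_dvd_one hdvd
        haveI : Group.IsSolvable (⊤ : Subgroup G) := inferInstance
        obtain ⟨s, hs, M, hMn, hM0, -, -, hMp, -, -⟩ := Solvable.exists_minimal_normal_pGroup htop
        haveI := Fact.mk hs
        by_cases hsq : s = q i
        · subst hsq
          exact hM0 (le_bot_iff.mp (h0 ▸ Cores.le_pCore hMn hMp))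
        · obtain ⟨e, he⟩ := IsPGroup.iff_card.mp hMp
          exact hM0 (le_bot_iff.mp (hO ▸ Cores.le_pPrimeCore hMn
            (he ▸ ((Nat.coprime_primes hs (hq i)).mpr hsq).pow_left e)))
      let l' : Fin r → ℕ := Function.update l i k
      have hl' : ∀ j, Cfsg.PLengthLE (q j) (l' j) (G ⧸ Cfsg.pCore (q i) G) := by
        intro j
        by_cases hji : j = i
        · subst hji
          simp only [l', Function.update_self]
          exact pLengthLE_quotient_pCore hO (hk ▸ hl j)
        · simp only [l', Function.update_of_ne hji]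
          exact pLengthLE_of_surjective _ (QuotientGroup.mk'_surjective _) (hl j)
      have h1 := hquot _ hne l' hl'
      have hsum : (Finset.univ.sum fun j => d j * l j) =
          (Finset.univ.sum fun j => d j * l' j) + d i := by
        rw [← Finset.add_sum_erase _ _ (Finset.mem_univ i),
          ← Finset.add_sum_erase _ (fun j => d j * l' j) (Finset.mem_univ i),
          Finset.sum_congr rfl (g := fun j => d j * l' j) fun j hj => by
            simp only [l', Function.update_of_ne (Finset.ne_of_mem_erase hj)]]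
        simp only [l', Function.update_self, hk]
        ring
      rw [hD, hsum, hO]
      refine (Products.derivedSeries_add_le h1 (d i)).trans (le_of_eq ?_)
      obtain ⟨S⟩ := (inferInstance : Nonempty (Sylow (q i) G))
      have h2 : (derivedSeries (Cfsg.pCore (q i) G) (d i)).map
          (Subgroup.inclusion (Cores.pCore_le_sylow S)) ≤ ⊥ :=
        (map_derivedSeries_le_derivedSeries _ _).trans (le_of_eq (hd i S))
      rw [le_bot_iff, Subgroup.map_eq_bot_iff_of_injective _ (Subgroup.inclusion_injective _)] at h2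
      rw [h2, Subgroup.map_bot]
    by_contra hne
    haveI : Group.IsSolvable D := inferInstance
    obtain ⟨s, hs, M, hMn, hM0, hMD, -, hMp, -, -⟩ := Solvable.exists_minimal_normal_pGroup hne
    haveI := Fact.mk hs
    have hsM : s ∣ Nat.card M := by
      rcases hMp.card_eq_or_dvd with h | h
      · exact absurd (Subgroup.eq_bot_of_card_eq M h) hM0
      · exact h
    obtain ⟨i, rfl⟩ := hcov s hs (hsM.trans M.card_subgroup_dvd_card)
    have h1 : M ≤ Cfsg.pPrimeCore (q i) G :=
      hMD.trans (hkey i (hsM.trans M.card_subgroup_dvd_card))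
    exact Cores.not_dvd_card_pPrimeCore (hsM.trans (Subgroup.card_dvd_of_le h1))

end Cfsg.Agent.HallHigman
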