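/-
p-length bounded through the other prime lengths (helper3).

Main results (namespace `Cfsg.Agent.HallHigman`):
* Adv, adv_of_pPart, relIndex_upperPSeries
* pLengthLE_prod
-/
import Cfsg.Agent.Lib.PSeries.Basic
import Cfsg.Agent.Lib.Cores.Basic

set_option autoImplicit false

namespace Cfsg.Agent.HallHigman

variable {G : Type*} [Group G] {p : ℕ}

/-- Passing from `A` to `B` costs at most `c` steps of the upper `p`-series. -/
def Adv (p : ℕ) (A B : Subgroup G) (c : ℕ) : Prop :=
  ∀ j : ℕ, A ≤ (Cfsg.upperPSeries p G (2 * j + 1)).1 → B ≤ (Cfsg.upperPSeries p G (2 * (j + c) + 1)).1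

theorem Adv.trans {A B C : Subgroup G} {c d : ℕ} (h : Adv p A B c) (h' : Adv p B C d) :
    Adv p A C (c + d) := fun j hj => by
  have := h' (j + c) (h j hj)
  rwa [add_assoc] at this

theorem adv_refl (A : Subgroup G) : Adv p A A 0 := fun _ hj => hj

theorem card_map_mk_dvd [Finite G] {A B U : Subgroup G} [U.Normal] (hA : A ≤ U) :
    Nat.card (B.map (QuotientGroup.mk' U)) ∣ A.relIndex B := by
  rw [← Subgroup.relIndex_ker, QuotientGroup.ker_mk']
  exact Subgroup.relIndex_dvd_of_le_left B hA

theorem adv_of_pPrime [Finite G] [hp : Fact p.Prime] {A B : Subgroup G} [B.Normal]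
    (h : (A.relIndex B).Coprime p) : Adv p A B 0 := fun j hj => by
  haveI := (Cfsg.upperPSeries p G (2 * j + 1)).2
  set a := QuotientGroup.mk' (Cfsg.upperPSeries p G (2 * j + 1)).1 with ha
  have h1 : B.map a ≤ ⊥ := by
    rw [← PSeries.pPrimeCore_quotient_odd (p := p) j a (QuotientGroup.mk'_surjective _)
      (QuotientGroup.ker_mk' _)]
    exact Cores.le_pPrimeCore (Subgroup.Normal.map inferInstance a (QuotientGroup.mk'_surjective _))
      (h.coprime_dvd_left (card_map_mk_dvd hj))
  rw [le_bot_iff, Subgroup.map_eq_bot_iff, ha, QuotientGroup.ker_mk'] at h1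
  exact h1

theorem adv_of_pPart [Finite G] [hp : Fact p.Prime] {A B : Subgroup G} [B.Normal]
    (h : ∀ s : ℕ, s.Prime → s ∣ A.relIndex B → s = p) : Adv p A B 1 := fun j hj => by
  haveI := (Cfsg.upperPSeries p G (2 * j + 1)).2
  set a := QuotientGroup.mk' (Cfsg.upperPSeries p G (2 * j + 1)).1 with ha
  have h1 : B.map a ≤ Cfsg.pCore p _ :=
    Cores.le_pCore (Subgroup.Normal.map inferInstance a (QuotientGroup.mk'_surjective _))
      (IsPGroup.iff_card.mpr ⟨_, Nat.eq_prime_pow_of_unique_prime_dvd Nat.card_pos.ne'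
        fun {s} hs hd => h s hs (hd.trans (card_map_mk_dvd hj))⟩)
  have h2 : B ≤ (Cfsg.upperPSeries p G (2 * j + 1 + 1)).1 := by
    rw [PSeries.upperPSeries_succ_odd (by simp) a (QuotientGroup.mk'_surjective _)
      (QuotientGroup.ker_mk' _)]
    exact Subgroup.map_le_iff_le_comap.mp h1
  exact h2.trans (PSeries.upperPSeries_mono (show 2 * j + 1 + 1 ≤ 2 * (j + 1) + 1 by omega))

theorem relIndex_upperPSeries_even [Finite G] [hp : Fact p.Prime] {n : ℕ} (hn : Even n) :
    ((Cfsg.upperPSeries p G n).1.relIndex (Cfsg.upperPSeries p G (n + 1)).1).Coprime p := by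
  haveI := (Cfsg.upperPSeries p G n).2
  set a := QuotientGroup.mk' (Cfsg.upperPSeries p G n).1 with ha
  have h1 := PSeries.upperPSeries_succ_even (p := p) hn a (QuotientGroup.mk'_surjective _)
    (QuotientGroup.ker_mk' _)
  have h2 : (Cfsg.upperPSeries p G n).1.relIndex (Cfsg.upperPSeries p G (n + 1)).1 =
      Nat.card (Cfsg.pPrimeCore p (G ⧸ (Cfsg.upperPSeries p G n).1)) := by
    refine ((congrArg (fun K => (Cfsg.upperPSeries p G n).1.relIndex K) h1).trans
      (congrArg (fun K => Subgroup.relIndex K _)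
        (QuotientGroup.ker_mk' (Cfsg.upperPSeries p G n).1).symm)).trans ?_
    rw [Subgroup.relIndex_ker, ha,
      Subgroup.map_comap_eq_self_of_surjective (QuotientGroup.mk'_surjective _)]
  rw [h2]
  exact Cores.coprime_card_pPrimeCore p

theorem relIndex_upperPSeries_odd [Finite G] [hp : Fact p.Prime] {n : ℕ} (hn : ¬ Even n)
    {s : ℕ} (hs : s.Prime)
    (hd : s ∣ (Cfsg.upperPSeries p G n).1.relIndex (Cfsg.upperPSeries p G (n + 1)).1) : s = p := by
  haveI := (Cfsg.upperPSeries p G n).2
  set a := QuotientGroup.mk' (Cfsg.upperPSeries p G n).1 with ha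
  have h1 := PSeries.upperPSeries_succ_odd (p := p) hn a (QuotientGroup.mk'_surjective _)
    (QuotientGroup.ker_mk' _)
  have h2 : (Cfsg.upperPSeries p G n).1.relIndex (Cfsg.upperPSeries p G (n + 1)).1 =
      Nat.card (Cfsg.pCore p (G ⧸ (Cfsg.upperPSeries p G n).1)) := by
    refine ((congrArg (fun K => (Cfsg.upperPSeries p G n).1.relIndex K) h1).trans
      (congrArg (fun K => Subgroup.relIndex K _)
        (QuotientGroup.ker_mk' (Cfsg.upperPSeries p G n).1).symm)).trans ?_
    rw [Subgroup.relIndex_ker, ha,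
      Subgroup.map_comap_eq_self_of_surjective (QuotientGroup.mk'_surjective _)]
  obtain ⟨k, hk⟩ := IsPGroup.iff_card.mp (Cores.isPGroup_pCore p (G ⧸ (Cfsg.upperPSeries p G n).1))
  rw [h2, hk] at hd
  exact (Nat.prime_dvd_prime_iff_eq hs hp.out).mp (hs.dvd_of_dvd_pow hd)

theorem relIndex_interval_dvd {A B U U' : Subgroup G} [A.Normal] [B.Normal] [U.Normal] :
    (A ⊔ (B ⊓ U)).relIndex (A ⊔ (B ⊓ U')) ∣ U.relIndex U' := by
  have h1 : (A ⊔ (B ⊓ U)).relIndex (A ⊔ (B ⊓ U')) ∣
      (A ⊔ (B ⊓ U)).relIndex (B ⊓ U') := by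
    have e : (A ⊔ (B ⊓ U)).relIndex ((B ⊓ U') ⊔ (A ⊔ (B ⊓ U))) =
        (A ⊔ (B ⊓ U)).relIndex (B ⊓ U') := Subgroup.relIndex_sup_right _ _
    rw [← e]
    exact Solvable.relIndex_dvd_relIndex_of_normal
      (sup_le (le_sup_left.trans le_sup_right) le_sup_left)
  refine h1.trans ((Subgroup.relIndex_dvd_of_le_left _ (le_sup_right : B ⊓ U ≤ _)).trans ?_)
  rw [show (B ⊓ U).relIndex (B ⊓ U') = U.relIndex (B ⊓ U') by
    rw [← Subgroup.inf_relIndex_right (B ⊓ U), ← Subgroup.inf_relIndex_right U]
    congr 1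
    exact le_antisymm (le_inf (inf_le_left.trans inf_le_right) inf_le_right)
      (le_inf (le_inf (inf_le_right.trans inf_le_left) inf_le_left) inf_le_right)]
  exact Solvable.relIndex_dvd_relIndex_of_normal inf_le_right

theorem pLengthLE_prod [Finite G] [hp : Fact p.Prime] {r : ℕ} (q : Fin r → ℕ)
    (hq : ∀ i, (q i).Prime ∧ q i ≠ p)
    (hcover : ∀ s : ℕ, s.Prime → s ∣ Nat.card G → s ≠ p → ∃ i, q i = s)
    (l : Fin r → ℕ) (hl : ∀ i, Cfsg.PLengthLE (q i) (l i) G) :
    Cfsg.PLengthLE p (Finset.univ.prod fun i => 1 + l i) G := by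
  classical
  have main : ∀ (t : Finset (Fin r)) (A B : Subgroup G), A.Normal → B.Normal → A ≤ B →
      (∀ s : ℕ, s.Prime → s ∣ A.relIndex B → s ≠ p → ∃ i ∈ t, q i = s) →
      Adv p A B (t.prod fun i => 1 + l i) := by
    intro t
    induction t using Finset.induction_on with
    | empty =>
      intro A B _ hB _ h
      rw [Finset.prod_empty]
      refine adv_of_pPart fun s hs hd => ?_
      by_contra hne
      obtain ⟨i, hi, -⟩ := h s hs hd hne
      simp at hi
    | insert i t hit ih =>
      intro A B hA hB hAB h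
      haveI := Fact.mk (hq i).1
      set c := t.prod fun i => 1 + l i
      set U : ℕ → Subgroup G := fun k => (Cfsg.upperPSeries (q i) G k).1 with hU
      have hUn : ∀ k, (U k).Normal := fun k => (Cfsg.upperPSeries (q i) G k).2
      set C : ℕ → Subgroup G := fun k => A ⊔ (B ⊓ U k) with hC
      have hCn : ∀ k, (C k).Normal := fun k => Subgroup.sup_normal _ _
      have hCle : ∀ k, C k ≤ C (k + 1) := fun k =>
        sup_le_sup_left (inf_le_inf_left _ (PSeries.upperPSeries_le_succ k)) _
      have hdvd : ∀ k, (C k).relIndex (C (k + 1)) ∣ A.relIndex B ∧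
          (C k).relIndex (C (k + 1)) ∣ (U k).relIndex (U (k + 1)) := fun k =>
        ⟨(Subgroup.relIndex_dvd_of_le_left _ (le_sup_left : A ≤ C k)).trans
          (Solvable.relIndex_dvd_relIndex_of_normal (sup_le hAB inf_le_left)),
          relIndex_interval_dvd⟩
      have heven : ∀ m, Adv p (C (2 * m)) (C (2 * m + 1)) c := fun m =>
        ih _ _ (hCn _) (hCn _) (hCle _) fun s hs hd hne => by
          obtain ⟨i', hi', hi's⟩ := h s hs (hd.trans (hdvd _).1) hne
          rcases Finset.mem_insert.mp hi' with rfl | hi''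
          · exfalso
            subst hi's
            have h1 := (relIndex_upperPSeries_even (G := G) (p := q i') (n := 2 * m) (by simp))
            exact hs.one_lt.ne' (Nat.eq_one_of_dvd_coprimes h1 (hd.trans (hdvd _).2) dvd_rfl)
          · exact ⟨i', hi'', hi's⟩
      have hodd : ∀ m, Adv p (C (2 * m + 1)) (C (2 * m + 2)) 0 := fun m =>
        adv_of_pPrime (Nat.coprime_of_dvd' fun s hs hd hsp => by
          exfalso
          have h1 := relIndex_upperPSeries_odd (G := G) (p := q i) (n := 2 * m + 1) (by simp) hs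
            (hd.trans (hdvd _).2)
          exact (hq i).2 (h1 ▸ (Nat.prime_dvd_prime_iff_eq hs hp.out).mp hsp))
      have hchain : ∀ m, Adv p (C 0) (C (2 * m + 1)) ((m + 1) * c) := by
        intro m
        induction m with
        | zero => simpa using heven 0
        | succ m ihm =>
          have h1 := (ihm.trans (hodd m)).trans (heven (m + 1))
          rw [show (m + 1) * c + 0 + c = (m + 1 + 1) * c by ring] at h1
          exact h1
      have h1 := hchain (l i)
      have e0 : C 0 = A := by simp [hC, hU, PSeries.upperPSeries_zero]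
      have e1 : C (2 * l i + 1) = B := by
        simp [hC, hU, show (Cfsg.upperPSeries (q i) G (2 * l i + 1)).1 = ⊤ from hl i, hAB]
      rw [e0, e1] at h1
      rw [Finset.prod_insert hit, Nat.add_comm 1 (l i)]
      exact h1
  have h1 := main Finset.univ ⊥ ⊤ inferInstance inferInstance bot_le (fun s hs hd hne => by
    rw [Subgroup.relIndex_bot_left, Subgroup.card_top] at hd
    obtain ⟨i, hi⟩ := hcover s hs hd hne
    exact ⟨i, Finset.mem_univ i, hi⟩)
  have h2 := h1 0 bot_le
  rw [Nat.zero_add] at h2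
  exact top_le_iff.mp h2

end Cfsg.Agent.HallHigman
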