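/-
An elementary `q`-group rotated fixed-point-freely by an element of order `p` cannot act on a `p`-group
with a single small fixed line (helper3).

Main results (namespace `Cfsg.Agent.HallHigman`):
* false_of_rotating_elementary
* eq_bot_of_invariant_rank_two
-/
import Cfsg.Agent.EqLemmas
import Cfsg.Agent.Lib.HallHigman.InvariantForm
import Cfsg.Agent.Lib.Coprime.Abelian
import Cfsg.Agent.Lib.Coprime.Invariant
import Cfsg.Agent.Lib.Coprime.Generation
import Cfsg.Agent.Lib.Coprime.PQ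
import Cfsg.Agent.Lib.ClassIndex.PxQ
import Cfsg.Agent.Lib.Solvable.Fitting

set_option autoImplicit false
open scoped commutatorElement

namespace Cfsg.Agent.HallHigman

/-- Powers of a product whose commutator is central in it. -/
theorem mul_pow_of_commutator_commute {G : Type*} [Group G] {x y : G} (hx : Commute ⁅y, x⁆ x)
    (hy : Commute ⁅y, x⁆ y) (n : ℕ) :
    (x * y) ^ n = x ^ n * y ^ n * ⁅y, x⁆ ^ n.choose 2 ∧ y ^ n * x = ⁅y, x⁆ ^ n * (x * y ^ n) := by
  set c := ⁅y, x⁆ with hc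
  have hyx : y * x = c * (x * y) := by rw [hc, commutatorElement_def]; group
  induction n with
  | zero => simp
  | succ n ih =>
    obtain ⟨h1, h2⟩ := ih
    constructor
    · calc (x * y) ^ (n + 1) = x ^ n * y ^ n * c ^ n.choose 2 * (x * y) := by rw [pow_succ, h1]
        _ = x ^ n * (y ^ n * x) * y * c ^ n.choose 2 := by
            rw [mul_assoc (x ^ n * y ^ n), ((hx.mul_right hy).pow_left _).eq]
            simp only [mul_assoc]
        _ = x ^ n * (c ^ n * (x * y ^ n)) * y * c ^ n.choose 2 := by rw [h2]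
        _ = x ^ n * (x * y ^ n * y) * c ^ n * c ^ n.choose 2 := by
            rw [((hx.mul_right (hy.pow_right n)).pow_left n).eq]
            simp only [mul_assoc]
            rw [← mul_assoc (c ^ n) y, (hy.pow_left n).eq, mul_assoc]
        _ = x ^ (n + 1) * y ^ (n + 1) * c ^ (n + 1).choose 2 := by
            rw [pow_succ x, pow_succ y, Nat.choose_succ_succ' n 1, Nat.choose_one_right, pow_add]
            simp only [mul_assoc]
    · calc y ^ (n + 1) * x = y * (y ^ n * x) := by rw [pow_succ', mul_assoc]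
        _ = c ^ n * (y * x) * y ^ n := by
            rw [h2, ← mul_assoc, ← (hy.pow_left n).eq]
            simp only [mul_assoc]
        _ = _ := by rw [hyx, pow_succ' y, pow_succ c]; simp only [mul_assoc]

/-- The form lemma for a plain pairing of groups of exponent `p`. -/
theorem invariant_add_pairing_eq_zero {H W Zc : Type*} [Group H] [Finite H] [AddCommGroup W] [Finite W]
    [AddCommGroup Zc] {p : ℕ} [Fact p.Prime] (hW : ∀ w : W, p • w = 0) (hZ : ∀ z : Zc, p • z = 0)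
    (act : H → (W →+ W)) (hone : ∀ w, act 1 w = w) (hmul : ∀ g h w, act (g * h) w = act g (act h w))
    (B : W →+ W →+ Zc) (Q : Subgroup H) {q : ℕ} (b : H) (hQe : ∀ x ∈ Q, x ^ q = 1)
    (hQc : ∀ x ∈ Q, ∀ y ∈ Q, Commute x y) (hb : b ^ p = 1) (hbQ : ∀ x ∈ Q, b * x * b⁻¹ ∈ Q)
    (hbfix : ∀ x ∈ Q, Commute b x → x = 1) (hinv : ∀ x ∈ Q, ∀ v w, B (act x v) (act x w) = B v w)
    (halt : ∀ v, B v v = 0) (hfixQ : ∀ w, (∀ x ∈ Q, act x w = w) → w = 0)
    (hline : Nat.card {w : W // act b w = w} ≤ p) (hp2 : p ≠ 2) (hq : q.Prime) (hqp : q ≠ p)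
    (hQ : Q ≠ ⊥) (hmin : ∀ S : Subgroup H, S ≤ Q → (∀ x ∈ S, b * x * b⁻¹ ∈ S) → S = ⊥ ∨ S = Q)
    (hirr : ∀ S : AddSubgroup W, (∀ x ∈ Q, ∀ v ∈ S, act x v ∈ S) → (∀ v ∈ S, act b v ∈ S) →
      S = ⊥ ∨ S = ⊤) (v w : W) : B v w = 0 := by
  have : Module (ZMod p) W := AddCommGroup.zmodModule hW
  have : Module (ZMod p) Zc := AddCommGroup.zmodModule hZ
  let ρ : H →* Module.End (ZMod p) W :=
    { toFun := fun g => (act g).toZModLinearMap p
      map_one' := LinearMap.ext fun u => hone u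
      map_mul' := fun g h => LinearMap.ext fun u => hmul g h u }
  let β : W →ₗ[ZMod p] W →ₗ[ZMod p] Zc :=
    (AddMonoidHom.mk' (fun a => (B a).toZModLinearMap p) fun a c =>
      LinearMap.ext fun u => by
        show B (a + c) u = B a u + B c u
        rw [map_add, AddMonoidHom.add_apply]).toZModLinearMap p
  exact LinearMap.congr_fun (LinearMap.congr_fun
    (invariant_alternating_eq_zero ρ β Q b hQe hQc hb hbQ hbfix hinv halt hfixQ hline hp2 hq hqp hQ
      hmin hirr) v) w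

/-- The form lemma, multiplicatively. -/
theorem invariant_pairing_eq_one {H W Zc : Type*} [Group H] [Finite H] [CommGroup W] [Finite W]
    [CommGroup Zc] {p : ℕ} [Fact p.Prime] (hW : ∀ w : W, w ^ p = 1) (hZ : ∀ z : Zc, z ^ p = 1)
    (act : H → (W →* W)) (hone : ∀ w, act 1 w = w) (hmul : ∀ g h w, act (g * h) w = act g (act h w))
    (B : W →* W →* Zc) (Q : Subgroup H) {q : ℕ} (b : H) (hQe : ∀ x ∈ Q, x ^ q = 1)
    (hQc : ∀ x ∈ Q, ∀ y ∈ Q, Commute x y) (hb : b ^ p = 1) (hbQ : ∀ x ∈ Q, b * x * b⁻¹ ∈ Q)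
    (hbfix : ∀ x ∈ Q, Commute b x → x = 1) (hinv : ∀ x ∈ Q, ∀ v w, B (act x v) (act x w) = B v w)
    (halt : ∀ v, B v v = 1) (hfixQ : ∀ w, (∀ x ∈ Q, act x w = w) → w = 1)
    (hline : Nat.card {w : W // act b w = w} ≤ p) (hp2 : p ≠ 2) (hq : q.Prime) (hqp : q ≠ p)
    (hQ : Q ≠ ⊥) (hmin : ∀ S : Subgroup H, S ≤ Q → (∀ x ∈ S, b * x * b⁻¹ ∈ S) → S = ⊥ ∨ S = Q)
    (hirr : ∀ S : Subgroup W, (∀ x ∈ Q, ∀ v ∈ S, act x v ∈ S) → (∀ v ∈ S, act b v ∈ S) →
      S = ⊥ ∨ S = ⊤) (v w : W) : B v w = 1 := by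
  have h := invariant_add_pairing_eq_zero (W := Additive W) (Zc := Additive Zc) (p := p)
    (fun u => congrArg Additive.ofMul (hW u.toMul)) (fun u => congrArg Additive.ofMul (hZ u.toMul))
    (fun g => MonoidHom.toAdditive (act g))
    (fun u => congrArg Additive.ofMul (hone u.toMul))
    (fun g h u => congrArg Additive.ofMul (hmul g h u.toMul))
    (AddMonoidHom.mk' (fun a => MonoidHom.toAdditive (B a.toMul)) fun a c => AddMonoidHom.ext fun u => by
      show Additive.ofMul (B (a.toMul * c.toMul) u.toMul) = _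
      rw [map_mul]; rfl)
    Q b hQe hQc hb hbQ hbfix
    (fun x hx a c => congrArg Additive.ofMul (hinv x hx a.toMul c.toMul))
    (fun a => congrArg Additive.ofMul (halt a.toMul))
    (fun a ha => hfixQ a.toMul fun x hx => ha x hx)
    hline hp2 hq hqp hQ hmin
    (fun S h1 h2 => (hirr (AddSubgroup.toSubgroup' S) h1 h2).imp (fun h => by
      exact (AddSubgroup.toSubgroup' (G := W)).injective (h.trans (OrderIso.map_bot _).symm)) fun h => by
      exact (AddSubgroup.toSubgroup' (G := W)).injective (h.trans (OrderIso.map_top _).symm))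
    (Additive.ofMul v) (Additive.ofMul w)
  exact Additive.ofMul.injective h

variable {G : Type*} [Group G] [Finite G] {p : ℕ} [hp : Fact p.Prime]

/-- No such configuration: `b` of order `p` rotating an elementary `q`-group `Q` without fixed points,
acting on a `p`-group `V` on which the small fixed points of `b` form at most a line centralised by `Q`. -/
theorem false_of_rotating_elementary (hp2 : p ≠ 2) {V Q : Subgroup G} {b : G} {q : ℕ} (hq : q.Prime)
    (hqp : q ≠ p) (hV : IsPGroup p V) (hbV : b ∈ Subgroup.normalizer (V : Set G))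
    (hQV : Q ≤ Subgroup.normalizer (V : Set G)) (hb : b ^ p = 1)
    (hbQ : b ∈ Subgroup.normalizer (Q : Set G)) (hbfix : ∀ x ∈ Q, Commute b x → x = 1)
    (hQ : Q ≠ ⊥) (hQe : ∀ x ∈ Q, x ^ q = 1) (hQc : ∀ x ∈ Q, ∀ y ∈ Q, Commute x y)
    (hmin : ∀ S : Subgroup G, S ≤ Q → b ∈ Subgroup.normalizer (S : Set G) → S = ⊥ ∨ S = Q)
    (hD : ∀ x ∈ V, x ^ p = 1 → Commute b x → x ∈ Subgroup.centralizer (Q : Set G))
    (hcard : Nat.card {x : V // (x : G) ^ p = 1 ∧ Commute b (x : G)} ≤ p)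
    (hQVc : ¬ Q ≤ Subgroup.centralizer (V : Set G)) : False := by
  classical
  have : Fact q.Prime := ⟨hq⟩
  have hQp : IsPGroup q Q := fun x => ⟨1, Subtype.ext (by simpa using hQe x x.2)⟩
  have hcop : (Nat.card Q).Coprime p := by
    obtain ⟨k, hk⟩ := IsPGroup.iff_card.mp hQp
    rw [hk]; exact ((Nat.coprime_primes hq hp.out).2 hqp).pow_left k
  obtain ⟨U, ⟨hUV, hbU, hQU, hUc⟩, hUmin⟩ := wellFounded_lt.has_min
    {U : Subgroup G | U ≤ V ∧ b ∈ Subgroup.normalizer (U : Set G) ∧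
      Q ≤ Subgroup.normalizer (U : Set G) ∧ ¬ U ≤ Subgroup.centralizer (Q : Set G)}
    ⟨V, le_rfl, hbV, hQV, fun h => hQVc (Subgroup.le_centralizer_iff.1 h)⟩
  have hUp : IsPGroup p U := hV.to_le hUV
  have hUs : Group.IsSolvable U := Solvable.isSolvable_of_isPGroup hUp
  have hU0 : U ≠ ⊥ := fun h => hUc (h ▸ bot_le)
  have hcopU : (Nat.card Q).Coprime (Nat.card U) := by
    obtain ⟨k, hk⟩ := IsPGroup.iff_card.mp hUp
    rw [hk]; exact hcop.pow_right k
  have hproper : ∀ M : Subgroup G, M < U → b ∈ Subgroup.normalizer (M : Set G) →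
      Q ≤ Subgroup.normalizer (M : Set G) → M ≤ Subgroup.centralizer (Q : Set G) :=
    fun M hM h1 h2 => by
      by_contra h3
      exact hUmin M ⟨hM.le.trans hUV, h1, h2, h3⟩ hM
  have hnorm_comm : ∀ (A B : Subgroup G) (x : G), x ∈ Subgroup.normalizer (A : Set G) →
      x ∈ Subgroup.normalizer (B : Set G) →
      x ∈ Subgroup.normalizer ((⁅A, B⁆ : Subgroup G) : Set G) := by
    intro A B x hA hB
    rw [Subgroup.mem_normalizer_iff_map_conj_eq, Subgroup.map_commutator,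
      Subgroup.mem_normalizer_iff_map_conj_eq.1 hA, Subgroup.mem_normalizer_iff_map_conj_eq.1 hB]
  have hQn : Q ≤ Subgroup.normalizer (Q : Set G) := Subgroup.le_normalizer
  -- `[U, Q] = U`
  have hUQ : ⁅U, Q⁆ = U := by
    by_contra hne
    have h := hproper _ (lt_of_le_of_ne (Coprime.commutator_le_left' hQU) hne) (hnorm_comm U Q b hbU hbQ)
      (fun x hx => hnorm_comm U Q x (hQU hx) (hQn hx))
    rw [← Subgroup.commutator_eq_bot_iff_le_centralizer,
      Coprime.commutator_commutator_eq hQU hcopU (Or.inr hUs),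
      Subgroup.commutator_eq_bot_iff_le_centralizer] at h
    exact hUc h
  set Z := U ⊓ Subgroup.centralizer (Q : Set G) with hZdef
  have hU'Z : ⁅U, U⁆ ≤ Z := le_inf (Solvable.commutator_lt_of_solvable hU0).le (hproper _
    (Solvable.commutator_lt_of_solvable hU0) (hnorm_comm U U b hbU hbU)
    (fun x hx => hnorm_comm U U x (hQU hx) (hQU hx)))
  have hUZ : ∀ u ∈ U, ∀ z ∈ Z, Commute u z := by
    have h : ⁅⁅Q, U⁆, Z⁆ = ⊥ := by
      refine Subgroup.commutator_commutator_eq_bot_of_rotate ?_ ?_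
      · rw [Subgroup.commutator_eq_bot_iff_le_centralizer]
        exact ((Subgroup.commutator_mono le_rfl inf_le_left).trans hU'Z).trans inf_le_right
      · rw [Subgroup.commutator_eq_bot_iff_le_centralizer.2 (inf_le_right : Z ≤ _),
          Subgroup.commutator_bot_left]
    rw [Subgroup.commutator_comm Q U, hUQ, Subgroup.commutator_eq_bot_iff_le_centralizer] at h
    exact fun u hu z hz => (Subgroup.mem_centralizer_iff.1 (h hu) z hz).symm
  have hcomm : ∀ u ∈ U, ∀ v ∈ U, ⁅u, v⁆ ∈ Z := fun u hu v hv =>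
    hU'Z (Subgroup.commutator_mem_commutator hu hv)
  -- exponent `p`
  have hpodd : Odd p := hp.out.odd_of_ne_two hp2
  have hexp : ∀ u ∈ U, u ^ p = 1 := by
    let O : Subgroup G :=
      { carrier := {u | u ∈ U ∧ u ^ p = 1}
        one_mem' := ⟨one_mem _, one_pow _⟩
        mul_mem' := fun {x y} hx hy => ⟨mul_mem hx.1 hy.1, by
          obtain ⟨h1, h2⟩ := mul_pow_of_commutator_commute (x := x) (y := y)
            ((hUZ x hx.1 _ (hcomm y hy.1 x hx.1)).symm) ((hUZ y hy.1 _ (hcomm y hy.1 x hx.1)).symm) p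
          rw [hy.2, one_mul, mul_one, right_eq_mul] at h2
          rw [h1, hx.2, hy.2, one_mul, one_mul]
          obtain ⟨d, hd⟩ := hp.out.dvd_choose_self (k := 2) (by omega)
            (lt_of_le_of_ne hp.out.two_le (Ne.symm hp2))
          rw [hd, pow_mul, h2, one_pow]⟩
        inv_mem' := fun {x} hx => ⟨inv_mem hx.1, by rw [inv_pow, hx.2, inv_one]⟩ }
    have hOn : ∀ g ∈ Subgroup.normalizer (U : Set G), g ∈ Subgroup.normalizer (O : Set G) := fun g hg =>
      Coprime.mem_normalizer_of_forall fun u hu =>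
        ⟨(Subgroup.mem_normalizer_iff.1 hg u).1 hu.1, by rw [conj_pow, hu.2, mul_one, mul_inv_cancel]⟩
    intro u hu
    have hOU : O ≤ U := fun x hx => hx.1
    rcases eq_or_lt_of_le hOU with h | h
    · exact (h.symm ▸ hu : u ∈ O).2
    · refine absurd (Subgroup.le_centralizer_iff.1
        (Coprime.le_centralizer_of_fixing_order_p p hp2 hUp hQU hcop fun x hx hxo => ?_)) hUc
      exact hproper O h (hOn b hbU) (fun y hy => hOn y (hQU hy))
        ⟨hx, orderOf_dvd_iff_pow_eq_one.1 hxo.dvd⟩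
  -- the module `U / Z`
  have hZn : (Z.subgroupOf U).Normal := ⟨fun z hz u => by
    rw [Subgroup.mem_subgroupOf] at hz ⊢
    rw [Subgroup.coe_mul, Subgroup.coe_mul, Subgroup.coe_inv, (hUZ u u.2 z hz).eq, mul_inv_cancel_right]
    exact hz⟩
  set Wq := U ⧸ Z.subgroupOf U
  letI : CommGroup Wq := { (inferInstance : Group Wq) with
    mul_comm := fun v w => QuotientGroup.induction_on v fun x => QuotientGroup.induction_on w fun z => by
      rw [← QuotientGroup.mk_mul, ← QuotientGroup.mk_mul, QuotientGroup.eq, Subgroup.mem_subgroupOf]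
      have h := hcomm _ (inv_mem z.2) _ (inv_mem x.2)
      rw [commutatorElement_def, inv_inv, inv_inv] at h
      simpa [mul_assoc] using h }
  letI : CommGroup Z := { (inferInstance : Group Z) with
    mul_comm := fun x y => Subtype.ext (hUZ x x.2.1 y y.2).eq }
  have hWexp : ∀ w : Wq, w ^ p = 1 := fun w => QuotientGroup.induction_on w fun x => by
    rw [← QuotientGroup.mk_pow, show x ^ p = 1 from Subtype.ext (by simpa using hexp x x.2),
      QuotientGroup.mk_one]
  have hZexp : ∀ z : Z, z ^ p = 1 := fun z => Subtype.ext (by simpa using hexp _ z.2.1)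
  -- the acting group
  let H : Subgroup G := Subgroup.normalizer (U : Set G) ⊓ Subgroup.normalizer (Q : Set G)
  have hbH : b ∈ H := ⟨hbU, hbQ⟩
  have hQH : Q ≤ H := le_inf hQU hQn
  let conjU : H →* MulAut U := U.normalizerMonoidHom.comp (Subgroup.inclusion inf_le_left)
  have hconjU : ∀ (h : H) (x : U), ((conjU h x : U) : G) = h * x * (h : G)⁻¹ := fun h x => rfl
  have hHZ : ∀ (h : H), ∀ z ∈ Z, (h : G) * z * (h : G)⁻¹ ∈ Z := by
    intro h z hz
    refine ⟨(Subgroup.mem_normalizer_iff.1 h.2.1 z).1 hz.1, Subgroup.mem_centralizer_iff.2 fun y hy => ?_⟩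
    have hy' : (h : G)⁻¹ * y * h ∈ Q := (Subgroup.mem_normalizer_iff''.1 h.2.2 y).1 hy
    have e := Subgroup.mem_centralizer_iff.1 hz.2 _ hy'
    calc y * ((h : G) * z * (h : G)⁻¹) = h * ((h : G)⁻¹ * y * h * z) * (h : G)⁻¹ := by group
      _ = _ := by rw [e]; group
  let act : H → (Wq →* Wq) := fun h => QuotientGroup.map _ _ (conjU h).toMonoidHom
    (fun x hx => hHZ h x hx)
  have hact : ∀ (h : H) (x : U), act h (x : Wq) = ((conjU h x : U) : Wq) := fun h x => rfl
  have hone : ∀ w, act 1 w = w := fun w => QuotientGroup.induction_on w fun x => by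
    rw [hact]; simp
  have hmul : ∀ c d w, act (c * d) w = act c (act d w) := fun c d w =>
    QuotientGroup.induction_on w fun x => by rw [hact, hact, hact]; simp
  -- the commutator form
  let inner : U → (Wq →* Z) := fun x => QuotientGroup.lift (Z.subgroupOf U)
    (MonoidHom.mk' (fun z : U => (⟨⁅(x : G), (z : G)⁆, hcomm x x.2 z z.2⟩ : Z)) fun z w => Subtype.ext (by
      show ⁅(x : G), (z : G) * w⁆ = ⁅(x : G), (z : G)⁆ * ⁅(x : G), (w : G)⁆
      calc ⁅(x : G), (z : G) * w⁆ = ⁅(x : G), (z : G)⁆ * ((z : G) * ⁅(x : G), (w : G)⁆ * (z : G)⁻¹) := by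
            simp only [commutatorElement_def]; group
        _ = _ := by rw [(hUZ z z.2 _ (hcomm x x.2 w w.2)).eq, mul_inv_cancel_right]))
    (fun z hz => MonoidHom.mem_ker.2 (Subtype.ext (commutatorElement_eq_one_iff_commute.2 (hUZ x x.2 z hz))))
  have hinner : ∀ x z : U, ((inner x (z : Wq) : Z) : G) = ⁅(x : G), (z : G)⁆ := fun x z => rfl
  let outer : Wq →* (Wq →* Z) := QuotientGroup.lift (Z.subgroupOf U)
    (MonoidHom.mk' inner fun x y => MonoidHom.ext fun w => QuotientGroup.induction_on w fun z =>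
      Subtype.ext (by
      show ⁅(x : G) * y, (z : G)⁆ = ⁅(x : G), (z : G)⁆ * ⁅(y : G), (z : G)⁆
      calc ⁅(x : G) * y, (z : G)⁆ = (x : G) * ⁅(y : G), (z : G)⁆ * (x : G)⁻¹ * ⁅(x : G), (z : G)⁆ := by
            simp only [commutatorElement_def]; group
        _ = ⁅(y : G), (z : G)⁆ * ⁅(x : G), (z : G)⁆ := by
            rw [(hUZ x x.2 _ (hcomm y y.2 z z.2)).eq, mul_inv_cancel_right]
        _ = _ := (hUZ _ (hcomm y y.2 z z.2).1 _ (hcomm x x.2 z z.2)).eq))
    (fun x hx => MonoidHom.mem_ker.2 (MonoidHom.ext fun w => QuotientGroup.induction_on w fun z =>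
      Subtype.ext (commutatorElement_eq_one_iff_commute.2 (hUZ z z.2 x hx).symm)))
  have hB : ∀ x z : U, outer (x : Wq) (z : Wq) = (⟨⁅(x : G), (z : G)⁆, hcomm x x.2 z z.2⟩ : Z) :=
    fun x z => rfl
  set bH : H := ⟨b, hbH⟩
  set QH := Q.subgroupOf H
  -- hypotheses of the form lemma
  have hfixQ : ∀ w, (∀ x ∈ QH, act x w = w) → w = 1 := by
    intro w hw
    obtain ⟨u, rfl⟩ := QuotientGroup.mk_surjective w
    rw [QuotientGroup.eq_one_iff, Subgroup.mem_subgroupOf]
    obtain ⟨c, hc, hcu⟩ := Coprime.exists_mem_centralizer_of_coset hQU hcopU (Or.inr hUs) (N := Z)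
      inf_le_left (fun x hx => Coprime.mem_normalizer_of_forall fun z hz => hHZ ⟨x, hQH hx⟩ z hz) u.2
      (fun x hx => by
        have h' := hw ⟨x, hQH hx⟩ hx
        rw [hact] at h'
        rw [eq_comm, QuotientGroup.eq, Subgroup.mem_subgroupOf, Subgroup.coe_mul, Subgroup.coe_inv,
          hconjU] at h'
        have h'' := (hUZ u u.2 _ h').eq
        rw [mul_inv_cancel_left] at h''
        rw [show x * u * x⁻¹ * (u : G)⁻¹ = (u : G)⁻¹ * (x * u * x⁻¹) by
          conv_lhs => rw [h'']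
          group]
        exact h')
    have := Z.mul_mem (Z.inv_mem hcu) (hc : c ∈ Z)
    rwa [mul_inv_rev, inv_inv, inv_mul_cancel_right] at this
  have hirr : ∀ S : Subgroup Wq, (∀ x ∈ QH, ∀ v ∈ S, act x v ∈ S) →
      (∀ v ∈ S, act bH v ∈ S) → S = ⊥ ∨ S = ⊤ := by
    intro S hSQ hSb
    let S' : Subgroup G := (S.comap (QuotientGroup.mk' (Z.subgroupOf U))).map U.subtype
    have hS'mem : ∀ u : U, (u : G) ∈ S' ↔ (u : Wq) ∈ S := fun u =>
      (Subgroup.mem_map_iff_mem U.subtype_injective).trans Iff.rfl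
    have hS'U : S' ≤ U := Subgroup.map_subtype_le _
    by_cases htop : S' = U
    · right
      rw [eq_top_iff]
      intro w _
      obtain ⟨u, rfl⟩ := QuotientGroup.mk_surjective w
      rw [← hS'mem, htop]
      exact u.2
    left
    have hS'n : ∀ h : H, (∀ v ∈ S, act h v ∈ S) → (h : G) ∈ Subgroup.normalizer (S' : Set G) := fun h hh =>
      Coprime.mem_normalizer_of_forall fun g hg => by
        have hgS := (hS'mem ⟨g, hS'U hg⟩).1 hg
        have h2 := hh _ hgS
        rw [hact, ← hS'mem, hconjU] at h2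
        exact h2
    have hC := hproper S' (lt_of_le_of_ne hS'U htop) (hS'n bH hSb)
      (fun x hx => hS'n ⟨x, hQH hx⟩ (hSQ _ hx))
    rw [Subgroup.eq_bot_iff_forall]
    intro w hw
    obtain ⟨u, rfl⟩ := QuotientGroup.mk_surjective w
    rw [QuotientGroup.eq_one_iff, Subgroup.mem_subgroupOf]
    exact ⟨u.2, hC ((hS'mem u).2 hw)⟩
  have hline : Nat.card {w : Wq // act bH w = w} ≤ p := by
    let d : Z →* Z := MonoidHom.mk'
      (fun z => (⟨b * z * b⁻¹ * (z : G)⁻¹, Z.mul_mem (hHZ bH z z.2) (Z.inv_mem z.2)⟩ : Z))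
      fun z w => Subtype.ext (by
        show b * ((z : G) * w) * b⁻¹ * ((z : G) * w)⁻¹ =
          b * z * b⁻¹ * (z : G)⁻¹ * (b * w * b⁻¹ * (w : G)⁻¹)
        have h1 := (hUZ (z : G)⁻¹ (inv_mem z.2.1) (b * w * b⁻¹ * (w : G)⁻¹) (Z.mul_mem (hHZ bH w w.2) (Z.inv_mem w.2))).eq
        rw [show (b * z * b⁻¹ * (z : G)⁻¹ * (b * w * b⁻¹ * (w : G)⁻¹)) =
          b * z * b⁻¹ * ((z : G)⁻¹ * (b * w * b⁻¹ * (w : G)⁻¹)) by group, h1]
        group)
    have hkerp : Nat.card d.ker ≤ p := by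
      refine le_trans (Nat.card_le_card_of_injective
        (fun z : d.ker => (⟨⟨(z.1 : G), hUV z.1.2.1⟩, hexp _ z.1.2.1, ?_⟩ :
          {x : V // (x : G) ^ p = 1 ∧ Commute b (x : G)})) ?_) hcard
      · have h := congrArg Subtype.val (MonoidHom.mem_ker.1 z.2)
        exact mul_inv_eq_iff_eq_mul.1 (mul_inv_eq_one.1 h)
      · intro z w h
        exact Subtype.ext (Subtype.ext (congrArg (fun x : {x : V // (x : G) ^ p = 1 ∧ Commute b (x : G)} =>
          ((x : V) : G)) h))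
    have hquot : Nat.card (Z ⧸ d.range) ≤ p := by
      refine le_trans (le_of_eq ?_) hkerp
      refine Nat.eq_of_mul_eq_mul_right (Nat.card_pos (α := d.range)) ?_
      rw [← Subgroup.card_eq_card_quotient_mul_card_subgroup, mul_comm,
        ← Nat.card_congr (QuotientGroup.quotientKerEquivRange d).toEquiv,
        ← Subgroup.card_eq_card_quotient_mul_card_subgroup]
    have hrep : ∀ w : {w : Wq // act bH w = w},
        ∃ u : U, (u : Wq) = w.1 ∧ b * u * b⁻¹ * (u : G)⁻¹ ∈ Z := by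
      intro w
      obtain ⟨u, hu⟩ := QuotientGroup.mk_surjective w.1
      have hw : w.1 = (u : Wq) := hu.symm
      have h' := w.2
      rw [hw, hact] at h'
      rw [eq_comm, QuotientGroup.eq, Subgroup.mem_subgroupOf, Subgroup.coe_mul, Subgroup.coe_inv,
        hconjU] at h'
      change (u : G)⁻¹ * (b * u * b⁻¹) ∈ Z at h'
      refine ⟨u, hw.symm, ?_⟩
      have h'' := (hUZ u u.2 _ h').eq
      rw [mul_inv_cancel_left] at h''
      rw [show b * u * b⁻¹ * (u : G)⁻¹ = (u : G)⁻¹ * (b * u * b⁻¹) by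
        conv_lhs => rw [show b * (u : G) * b⁻¹ = _ from h'']
        group]
      exact h'
    choose rep hrep1 hrep2 using hrep
    refine le_trans (Nat.card_le_card_of_injective
      (fun w => (QuotientGroup.mk (⟨_, hrep2 w⟩ : Z) : Z ⧸ d.range)) fun w w' h => ?_) hquot
    obtain ⟨z, hz⟩ := QuotientGroup.eq.1 h
    have hz' : b * z * b⁻¹ * (z : G)⁻¹ =
        (b * rep w * b⁻¹ * (rep w : G)⁻¹)⁻¹ * (b * rep w' * b⁻¹ * (rep w' : G)⁻¹) :=
      congrArg Subtype.val hz
    set u1 := (rep w : G) with hu1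
    set u2 := (rep w' : G) with hu2
    have hu1U : u1 ∈ U := (rep w).2
    have hu2U : u2 ∈ U := (rep w').2
    set c1 := b * u1 * b⁻¹ * u1⁻¹ with hc1
    set c2 := b * u2 * b⁻¹ * u2⁻¹ with hc2
    have e1 : b * u1 * b⁻¹ = c1 * u1 := by rw [hc1]; group
    have e2 : b * u2 * b⁻¹ = c2 * u2 := by rw [hc2]; group
    have e3 : b * z * b⁻¹ = c1⁻¹ * c2 * z := by rw [← hz']; group
    have hc1Z : c1 ∈ Z := hrep2 w
    have hc2Z : c2 ∈ Z := hrep2 w'
    have hfixed : Commute b (u1 * z * u2⁻¹) := by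
      have : b * (u1 * z * u2⁻¹) * b⁻¹ = u1 * z * u2⁻¹ := by
        calc b * (u1 * z * u2⁻¹) * b⁻¹ = (b * u1 * b⁻¹) * (b * z * b⁻¹) * (b * u2 * b⁻¹)⁻¹ := by group
          _ = c1 * u1 * (c1⁻¹ * (c2 * z)) * (u2⁻¹ * c2⁻¹) := by rw [e1, e2, e3]; group
          _ = c1 * c1⁻¹ * u1 * (c2 * z) * (u2⁻¹ * c2⁻¹) := by
              rw [mul_assoc c1 u1, ← mul_assoc u1, (hUZ u1 hu1U c1⁻¹ (Z.inv_mem hc1Z)).eq]
              group
          _ = u1 * z * (c2 * (u2⁻¹ * c2⁻¹)) := by
              rw [mul_inv_cancel, one_mul, (hUZ c2 hc2Z.1 z z.2).eq]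
              group
          _ = u1 * z * u2⁻¹ := by
              rw [(hUZ u2⁻¹ (inv_mem hu2U) c2⁻¹ (Z.inv_mem hc2Z)).eq, mul_inv_cancel_left]
      exact mul_inv_eq_iff_eq_mul.1 this
    have hmemU : u1 * z * u2⁻¹ ∈ U := mul_mem (mul_mem hu1U z.2.1) (inv_mem hu2U)
    have hZmem : u1 * z * u2⁻¹ ∈ Z := ⟨hmemU, hD _ (hUV hmemU) (hexp _ hmemU) hfixed⟩
    refine Subtype.ext ?_
    rw [← hrep1 w, ← hrep1 w']
    rw [eq_comm, QuotientGroup.eq, Subgroup.mem_subgroupOf, Subgroup.coe_mul, Subgroup.coe_inv, ← hu1, ← hu2]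
    have h5 := Z.mul_mem hZmem (Z.inv_mem z.2)
    rw [mul_assoc u1 (z : G), ← (hUZ u2⁻¹ (inv_mem hu2U) _ z.2).eq, ← mul_assoc,
      mul_inv_cancel_right] at h5
    have h6 := (hUZ u2 hu2U _ h5).eq
    rw [show u2⁻¹ * u1 = u1 * u2⁻¹ by
      calc u2⁻¹ * u1 = u2⁻¹ * (u1 * u2⁻¹ * u2) := by group
        _ = u2⁻¹ * (u2 * (u1 * u2⁻¹)) := by rw [h6]
        _ = _ := by group]
    exact h5
  have hB0 := invariant_pairing_eq_one hWexp hZexp act hone hmul outer QH bH
    (fun x hx => Subtype.ext (by simpa using hQe x hx))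
    (fun x hx y hy => Subtype.ext (hQc x hx y hy).eq)
    (Subtype.ext (by simpa using hb)) (fun x hx => (Subgroup.mem_normalizer_iff.1 hbQ x).1 hx)
    (fun x hx h => Subtype.ext (hbfix x hx (congrArg Subtype.val h.eq)))
    (fun x hx v w => QuotientGroup.induction_on v fun u => QuotientGroup.induction_on w fun u' => by
      rw [hact, hact, hB, hB]
      refine Subtype.ext ?_
      show ⁅(x : G) * u * (x : G)⁻¹, (x : G) * u' * (x : G)⁻¹⁆ = ⁅(u : G), (u' : G)⁆
      have h := Subgroup.mem_centralizer_iff.1 (hcomm u u.2 u' u'.2).2 (x : G) hx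
      calc ⁅(x : G) * u * (x : G)⁻¹, (x : G) * u' * (x : G)⁻¹⁆ = x * ⁅(u : G), (u' : G)⁆ * (x : G)⁻¹ := by
            simp only [commutatorElement_def]; group
        _ = _ := by rw [h, mul_inv_cancel_right])
    (fun v => QuotientGroup.induction_on v fun u => by
      rw [hB]
      exact Subtype.ext (commutatorElement_self (u : G)))
    hfixQ hline hp2 hq hqp (fun h => hQ (by
      rw [Subgroup.subgroupOf_eq_bot, disjoint_iff, inf_eq_left.2 hQH] at h
      exact h))
    (fun S hS hSb => by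
      have hS' : S.map H.subtype ≤ Q := by
        rintro _ ⟨s, hs, rfl⟩; exact hS hs
      rcases hmin _ hS' (Coprime.mem_normalizer_of_forall (by
          rintro _ ⟨s, hs, rfl⟩
          exact ⟨_, hSb s hs, rfl⟩)) with h | h
      · exact Or.inl ((Subgroup.map_eq_bot_iff_of_injective S H.subtype_injective).1 h)
      · right
        refine le_antisymm hS fun x hx => ?_
        have : (x : G) ∈ S.map H.subtype := by rw [h]; exact hx
        exact (Subgroup.mem_map_iff_mem H.subtype_injective).1 this)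
    hirr
  -- `U` is abelian, so `Z` is trivial and `b` has no fixed point
  have hUab : IsMulCommutative U := ⟨⟨fun x y => Subtype.ext (by
    have h := hB0 (x : Wq) (y : Wq)
    rw [hB] at h
    exact commutatorElement_eq_one_iff_mul_comm.1 (congrArg Subtype.val h))⟩⟩
  have hZ0 : Z = ⊥ := by
    have h := Coprime.abelian_inf_eq_bot (A := Q) (V := U) hQU hcopU
    rw [hUQ] at h
    rw [eq_bot_iff, ← h]
    first
      | exact le_inf inf_le_left le_rfl
      | exact le_inf le_rfl inf_le_left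
      | exact le_inf inf_le_left inf_le_right
  have hnt : Nontrivial U := (Subgroup.nontrivial_iff_ne_bot U).2 hU0
  letI : MulAction (Subgroup.zpowers b) U := MulAction.compHom U
    (U.normalizerMonoidHom.comp (Subgroup.inclusion (Subgroup.zpowers_le.2 hbU)))
  have hbp : IsPGroup p (Subgroup.zpowers b) := by
    intro x
    obtain ⟨k, hk⟩ := Subgroup.mem_zpowers_iff.1 x.2
    refine ⟨1, Subtype.ext ?_⟩
    rw [pow_one, Subgroup.coe_pow, ← hk, ← zpow_natCast, ← zpow_mul, mul_comm, zpow_mul, zpow_natCast,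
      hb, one_zpow, Subgroup.coe_one]
  obtain ⟨u, hu, hu1⟩ := hbp.exists_fixed_point_of_prime_dvd_card_of_fixed_point U (by
      obtain ⟨k, hk0, hk⟩ := (IsPGroup.nontrivial_iff_card hUp).1 hnt
      rw [hk]; exact dvd_pow_self p hk0.ne') (a := (1 : U)) (fun l => map_one (U.normalizerMonoidHom (Subgroup.inclusion (Subgroup.zpowers_le.2 hbU) l)))
  have hcu : Commute b (u : G) := mul_inv_eq_iff_eq_mul.1
    (congrArg Subtype.val (hu ⟨b, Subgroup.mem_zpowers b⟩) : b * (u : G) * b⁻¹ = u)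
  have huZ : (u : G) ∈ Z := ⟨u.2, hD _ (hUV u.2) (hexp u u.2) hcu⟩
  rw [hZ0, Subgroup.mem_bot] at huZ
  exact hu1.symm (Subtype.ext huZ)

/-- The reduced form: `O_{p'} = 1` forces every `B`-invariant `p'`-subgroup to be trivial. -/
theorem eq_bot_of_invariant_rank_two (hp2 : p ≠ 2) (hsep : Solvable.IsPiSeparable {p} G)
    (hO : Cfsg.pPrimeCore p G = ⊥) (B : Subgroup G) (hB : Cfsg.IsElementaryAbelian p B)
    (hBc : Nat.card B = p ^ 2) {b₀ : G} (hb₀ : b₀ ∈ B) (hb₁ : b₀ ≠ 1)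
    (hΩ : ∀ x ∈ Cfsg.pCore p G, x ^ p = 1 → Commute b₀ x → x ∈ B)
    (Q : Subgroup G) (hQ : ¬ p ∣ Nat.card Q) (hinv : ∀ b ∈ B, ∀ x ∈ Q, b * x * b⁻¹ ∈ Q) : Q = ⊥ := by
  classical
  have hVn : (Cfsg.pCore p G).Normal := Cores.pCore_normal p G
  set V := Cfsg.pCore p G
  have hVp : IsPGroup p V := Cores.isPGroup_pCore p G
  have hCV := Solvable.centralizer_pCore_le hsep hO
  have hcopQV : (Nat.card Q).Coprime (Nat.card V) := by
    obtain ⟨k, hk⟩ := IsPGroup.iff_card.mp hVp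
    rw [hk]
    exact (Nat.coprime_comm.1 ((hp.out.coprime_iff_not_dvd).2 hQ)).pow_right k
  have hBQ : B ≤ Subgroup.normalizer (Q : Set G) := fun b hb =>
    Coprime.mem_normalizer_of_forall fun x hx => hinv b hb x hx
  have hall : ∀ g : G, g ∈ Subgroup.normalizer (V : Set G) := fun g => by
    rw [Subgroup.normalizer_eq_top_iff.mpr hVn]; trivial
  -- elements of `B` in `V` centralise `Q`
  have hBV : ∀ x ∈ B, x ∈ V → x ∈ Subgroup.centralizer (Q : Set G) := by
    intro x hxB hxV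
    refine Subgroup.mem_centralizer_iff.2 fun y hy => ?_
    have h1 : x * y * x⁻¹ * y⁻¹ ∈ V := by
      rw [mul_assoc x y, mul_assoc x]
      exact V.mul_mem hxV (hVn.conj_mem _ (V.inv_mem hxV) y)
    have h2 : x * y * x⁻¹ * y⁻¹ ∈ Q := Q.mul_mem (hinv x hxB y hy) (Q.inv_mem hy)
    exact (mul_inv_eq_iff_eq_mul.1 (mul_inv_eq_one.1 (Coprime.eq_one_of_mem_of_mem hcopQV h2 h1))).symm
  have hbp : b₀ ^ p = 1 := hB.2 b₀ hb₀
  have hbo : orderOf b₀ = p := orderOf_eq_prime hbp hb₁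
  -- `b₀` has no fixed point on `Q`
  have hfix : ∀ y ∈ Q, Commute b₀ y → y = 1 := by
    intro y hy hby
    have hyo : (orderOf y).Coprime p := Nat.coprime_comm.1
      (((hp.out.coprime_iff_not_dvd).2 hQ).coprime_dvd_right (Subgroup.orderOf_dvd_natCard Q hy))
    have hyD : ∀ c ∈ V, Commute c b₀ → Commute c y := by
      let D := V ⊓ Subgroup.centralizer ({b₀} : Set G)
      have hA : Subgroup.zpowers y ≤ Subgroup.normalizer (D : Set G) := by
        rw [Subgroup.zpowers_le]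
        refine Coprime.mem_normalizer_of_forall fun c hc => ⟨hVn.conj_mem c hc.1 y, ?_⟩
        have h1 : Commute c b₀ := Subgroup.mem_centralizer_singleton_iff.1 hc.2
        exact Subgroup.mem_centralizer_singleton_iff.2
          ((((hby.symm).mul_left h1).mul_left (hby.symm.inv_left)))
      have h := Coprime.le_centralizer_of_fixing_order_p p hp2 (hVp.to_le (inf_le_left : D ≤ V)) hA
        (by rwa [Nat.card_zpowers]) fun c hc hco => by
          have hcB := hΩ c hc.1 (orderOf_dvd_iff_pow_eq_one.1 hco.dvd)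
            (Subgroup.mem_centralizer_singleton_iff.1 hc.2 : Commute c b₀).symm
          exact Subgroup.centralizer_le (Subgroup.zpowers_le.2 hy) (hBV c hcB hc.1)
      exact fun c hc hcb => (Subgroup.mem_centralizer_iff.1 (h (Subgroup.mem_zpowers y)) c
        ⟨hc, Subgroup.mem_centralizer_singleton_iff.2 hcb⟩)
    have hyV : y ∈ V := hCV (Subgroup.mem_centralizer_iff.2 fun c hc =>
      ClassIndex.commute_of_pxq hVp ⟨1, by rw [pow_one, hbo]⟩ (hall b₀)
        (fun hd => hp.out.ne_one (Nat.eq_one_of_dvd_coprimes hyo hd dvd_rfl)) (hall y) hby hyD c hc)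
    exact Coprime.eq_one_of_mem_of_mem hcopQV hy hyV
  by_contra hQ0
  by_cases hb₀V : b₀ ∈ V
  · refine hQ0 ((Subgroup.eq_bot_iff_forall Q).2 fun y hy => hfix y hy ?_)
    exact (Subgroup.mem_centralizer_iff.1 (hBV b₀ hb₀ hb₀V) y hy).symm
  -- a minimal invariant subgroup
  have hbQ : b₀ ∈ Subgroup.normalizer (Q : Set G) := hBQ hb₀
  obtain ⟨q, hq, Q₁, hQ₁, hQ₁q, hQ₁n, hQ₁0⟩ : ∃ q, q.Prime ∧ ∃ Q₁ : Subgroup G, Q₁ ≤ Q ∧
      IsPGroup q Q₁ ∧ b₀ ∈ Subgroup.normalizer (Q₁ : Set G) ∧ Q₁ ≠ ⊥ := by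
    by_contra hcon
    refine hQ0 (le_bot_iff.1 (Coprime.le_of_invariant_sylow_le (A := Subgroup.zpowers b₀) (K := Q)
      (W := ⊥) (Subgroup.zpowers_le.2 hbQ) ?_ (Or.inl inferInstance) fun q R hq hR hRq hRn => ?_))
    · rw [Nat.card_zpowers, hbo]
      exact (hp.out.coprime_iff_not_dvd).2 hQ
    · by_contra hR0
      exact hcon ⟨q, hq, R, hR, hRq, hRn (Subgroup.mem_zpowers b₀), fun h => hR0 h.le⟩
  have : Fact q.Prime := ⟨hq⟩
  have hqp : q ≠ p := by
    rintro rfl
    rcases hQ₁q.card_eq_or_dvd with h | h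
    · exact hQ₁0 (Subgroup.eq_bot_of_card_eq _ h)
    · exact hQ (h.trans (Subgroup.card_dvd_of_le hQ₁))
  obtain ⟨Q₂, ⟨hQ₂1, hQ₂n, hQ₂0⟩, hmin⟩ := wellFounded_lt.has_min
    {S : Subgroup G | S ≤ Q₁ ∧ b₀ ∈ Subgroup.normalizer (S : Set G) ∧ S ≠ ⊥} ⟨Q₁, le_rfl, hQ₁n, hQ₁0⟩
  have hminQ : ∀ S : Subgroup G, S ≤ Q₂ → b₀ ∈ Subgroup.normalizer (S : Set G) → S = ⊥ ∨ S = Q₂ :=
    fun S hS hSn => or_iff_not_imp_left.2 fun h0 =>
      eq_of_le_of_not_lt hS (hmin S ⟨hS.trans hQ₂1, hSn, h0⟩)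
  have hQ₂Q : Q₂ ≤ Q := hQ₂1.trans hQ₁
  have hQ₂q : IsPGroup q Q₂ := hQ₁q.to_le hQ₂1
  let Z₂ : Subgroup G :=
    { carrier := {x | x ∈ Q₂ ∧ x ∈ Subgroup.centralizer (Q₂ : Set G) ∧ x ^ q = 1}
      one_mem' := ⟨one_mem _, one_mem _, one_pow _⟩
      mul_mem' := fun {x y} hx hy => ⟨mul_mem hx.1 hy.1, mul_mem hx.2.1 hy.2.1, by
        rw [Commute.mul_pow (Subgroup.mem_centralizer_iff.1 hy.2.1 x hx.1), hx.2.2, hy.2.2, one_mul]⟩
      inv_mem' := fun {x} hx => ⟨inv_mem hx.1, inv_mem hx.2.1, by rw [inv_pow, hx.2.2, inv_one]⟩ }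
  have hZ₂ : Z₂ = Q₂ := by
    refine (hminQ Z₂ (fun x hx => hx.1) ?_).resolve_left ?_
    · refine Coprime.mem_normalizer_of_forall fun x hx =>
        ⟨(Subgroup.mem_normalizer_iff.1 hQ₂n x).1 hx.1, Subgroup.mem_centralizer_iff.2 fun y hy => ?_, by
          rw [conj_pow, hx.2.2, mul_one, mul_inv_cancel]⟩
      have hy' : b₀⁻¹ * y * b₀ ∈ Q₂ := (Subgroup.mem_normalizer_iff''.1 hQ₂n y).1 hy
      have e := Subgroup.mem_centralizer_iff.1 hx.2.1 _ hy'
      calc y * (b₀ * x * b₀⁻¹) = b₀ * (b₀⁻¹ * y * b₀ * x) * b₀⁻¹ := by group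
        _ = _ := by rw [e]; group
    · have htop : (⊤ : Subgroup Q₂) ≠ ⊥ := fun h => hQ₂0 ((Subgroup.eq_bot_iff_forall _).2 fun x hx => by
        have h1 : (⟨x, hx⟩ : Q₂) ∈ (⊥ : Subgroup Q₂) := h ▸ Subgroup.mem_top _
        exact congrArg Subtype.val (Subgroup.mem_bot.1 h1))
      obtain ⟨z, -, hzc, hzo⟩ := PGroup.exists_central_order_p (p := q) hQ₂q htop
      intro h0
      have hz : (z : G) ∈ Z₂ := ⟨z.2, Subgroup.mem_centralizer_iff.2 fun y hy =>
        congrArg Subtype.val (Subgroup.mem_center_iff.1 hzc ⟨y, hy⟩),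
        congrArg Subtype.val (orderOf_dvd_iff_pow_eq_one.1 hzo.dvd)⟩
      rw [h0, Subgroup.mem_bot] at hz
      rw [show z = 1 from Subtype.ext hz, orderOf_one] at hzo
      exact hq.one_lt.ne hzo
  have hmemZ : ∀ x ∈ Q₂, x ∈ Z₂ := fun x hx => hZ₂.symm ▸ hx
  have hcardV : Nat.card {x : V // (x : G) ^ p = 1 ∧ Commute b₀ (x : G)} ≤ p := by
    refine le_trans (Nat.card_le_card_of_injective (fun x => (⟨((x.1 : V) : G),
      hΩ _ x.1.2 x.2.1 x.2.2, x.1.2⟩ : (B ⊓ V : Subgroup G))) fun x y h =>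
      Subtype.ext (Subtype.ext (congrArg (fun z : (B ⊓ V : Subgroup G) => (z : G)) h))) ?_
    obtain ⟨k, hk, hk'⟩ := (Nat.dvd_prime_pow hp.out).1 (hBc ▸ Subgroup.card_dvd_of_le
      (inf_le_left : B ⊓ V ≤ B))
    rcases Nat.lt_or_ge k 2 with h | h
    · rw [hk']
      calc p ^ k ≤ p ^ 1 := Nat.pow_le_pow_right hp.out.pos (by omega)
        _ = p := pow_one p
    · have heq : B ⊓ V = B := Subgroup.eq_of_le_of_card_ge inf_le_left
        (by rw [hk', hBc]; exact Nat.pow_le_pow_right hp.out.pos h)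
      exact absurd (inf_eq_left.1 heq hb₀) hb₀V
  refine false_of_rotating_elementary hp2 hq hqp hVp (hall b₀) (fun x _ => hall x) hbp hQ₂n
    (fun x hx => hfix x (hQ₂Q hx)) hQ₂0 (fun x hx => (hmemZ x hx).2.2)
    (fun x hx y hy => Subgroup.mem_centralizer_iff.1 (hmemZ y hy).2.1 x hx) hminQ
    (fun x hx hxp hxb => Subgroup.centralizer_le hQ₂Q (hBV x (hΩ x hx hxp hxb) hx)) hcardV fun hle => ?_
  refine hQ₂0 ((Subgroup.eq_bot_iff_forall Q₂).2 fun x hx => ?_)
  exact Coprime.eq_one_of_mem_of_mem hcopQV (hQ₂Q hx) (hCV (hle hx))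

end Cfsg.Agent.HallHigman
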