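/-
Automorphisms transitive on subgroups of order `p` (helper3).

Main results (namespace `Cfsg.Agent.HallHigman`):
* mainM1, mainM1_map_eq: the preimage of `O_{p'}(A/O_p A)` is invariant
* frattini_pCore: `A = O_p ⬝ N(M)` for a complement `M` of `O_p` in that preimage
* pLengthLE_one_of_transitive (Gaschütz–Yen)
-/
import Cfsg.Agent.Lib.HallHigman.PLength
import Cfsg.Agent.Lib.Coprime.PQ
import Cfsg.Agent.Lib.Solvable.SchurZassenhaus

set_option autoImplicit false
open scoped Pointwise

namespace Cfsg.Agent.HallHigman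

universe u

variable {A : Type u} [Group A] [Finite A] {p : ℕ}

/-- The preimage of `O_{p'}(A/O_p(A))`. -/
def midCore (p : ℕ) (A : Type u) [Group A] [(Cfsg.pCore p A).Normal] : Subgroup A :=
  (Cfsg.pPrimeCore p (A ⧸ Cfsg.pCore p A)).comap (QuotientGroup.mk' (Cfsg.pCore p A))

instance midCore_normal (p : ℕ) (A : Type u) [Group A] [(Cfsg.pCore p A).Normal] :
    (midCore p A).Normal := Subgroup.normal_comap _

theorem pCore_le_midCore (p : ℕ) (A : Type u) [Group A] [(Cfsg.pCore p A).Normal] :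
    Cfsg.pCore p A ≤ midCore p A :=
  QuotientGroup.le_comap_mk' _ _

theorem card_midCore_mul [(Cfsg.pCore p A).Normal] :
    Nat.card (midCore p A) =
      Nat.card (Cfsg.pPrimeCore p (A ⧸ Cfsg.pCore p A)) * Nat.card (Cfsg.pCore p A) := by
  have h := Solvable.card_eq_card_map_mul (QuotientGroup.mk' (Cfsg.pCore p A)) (midCore p A)
  rwa [QuotientGroup.ker_mk', inf_eq_right.mpr (pCore_le_midCore p A), midCore,
    Subgroup.map_comap_eq_self_of_surjective (QuotientGroup.mk'_surjective _)] at h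

/-- `midCore` is invariant under automorphisms. -/
theorem midCore_map_eq [(Cfsg.pCore p A).Normal] (a : MulAut A) :
    (midCore p A).map a.toMonoidHom = midCore p A := by
  set f := QuotientGroup.mk' (Cfsg.pCore p A) with hfdef
  set M := (midCore p A).map a.toMonoidHom
  have hMn : M.Normal := Subgroup.Normal.map inferInstance _ a.surjective
  have hQM : Cfsg.pCore p A ≤ M := by
    rw [← Cores.pCore_map_mulEquiv a p]
    exact Subgroup.map_mono (pCore_le_midCore p A)
  have hc : Nat.card M = Nat.card (midCore p A) :=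
    Subgroup.card_map_of_injective a.injective
  have h1 := Solvable.card_eq_card_map_mul f M
  rw [hfdef, QuotientGroup.ker_mk', inf_eq_right.mpr hQM, hc, card_midCore_mul] at h1
  have h2 := Nat.eq_of_mul_eq_mul_right Nat.card_pos h1
  have hle : M.map f ≤ Cfsg.pPrimeCore p (A ⧸ Cfsg.pCore p A) :=
    Cores.le_pPrimeCore (hMn.map f (QuotientGroup.mk'_surjective _))
      (by rw [← h2]; exact Cores.coprime_card_pPrimeCore p)
  exact Subgroup.eq_of_le_of_card_ge (Subgroup.map_le_iff_le_comap.mp hle) hc.ge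

/-- A complement of `O_p` in the preimage of `O_{p'}(A/O_p)`, with `A = O_p N(M)`. -/
theorem frattini_pCore [hp : Fact p.Prime] [(Cfsg.pCore p A).Normal] :
    ∃ M : Subgroup A, M ≤ midCore p A ∧ (Nat.card M).Coprime p ∧ M ⊔ Cfsg.pCore p A = midCore p A ∧
      Cfsg.pCore p A ⊔ Subgroup.normalizer (M : Set A) = ⊤ := by
  classical
  set Q := Cfsg.pCore p A
  obtain ⟨k, hk⟩ := IsPGroup.iff_card.mp (Cores.isPGroup_pCore p A)
  have hidx : ((Q.subgroupOf (midCore p A)).index).Coprime p := by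
    have h := Subgroup.card_mul_index (Q.subgroupOf (midCore p A))
    rw [Nat.card_congr (Subgroup.subgroupOfEquivOfLe (pCore_le_midCore p A)).toEquiv,
      card_midCore_mul, mul_comm (Nat.card (Cfsg.pPrimeCore p (A ⧸ Cfsg.pCore p A)))] at h
    rw [Nat.eq_of_mul_eq_mul_left Nat.card_pos h]
    exact Cores.coprime_card_pPrimeCore p
  have hcop : (Nat.card (Q.subgroupOf (midCore p A))).Coprime (Q.subgroupOf (midCore p A)).index := by
    rw [Nat.card_congr (Subgroup.subgroupOfEquivOfLe (pCore_le_midCore p A)).toEquiv, hk]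
    exact (hidx.symm).pow_left k
  obtain ⟨M', hM'⟩ := Subgroup.exists_right_complement'_of_coprime hcop
  let M := M'.map (midCore p A).subtype
  have hMle : M ≤ midCore p A := Subgroup.map_subtype_le _
  have hMcard : Nat.card M = (Q.subgroupOf (midCore p A)).index := by
    rw [Subgroup.card_map_of_injective (midCore p A).subtype_injective, hM'.symm.index_eq_card]
  have hMp : (Nat.card M).Coprime p := hMcard ▸ hidx
  have hsup : M ⊔ Q = midCore p A := by
    have e := congrArg (Subgroup.map (midCore p A).subtype) hM'.sup_eq_top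
    rw [Subgroup.map_sup, ← MonoidHom.range_eq_map, Subgroup.range_subtype,
      Subgroup.map_subgroupOf_eq_of_le (pCore_le_midCore p A), sup_comm] at e
    exact e
  refine ⟨M, hMle, hMp, hsup, eq_top_iff.mpr fun g _ => ?_⟩
  have hQs : Group.IsSolvable Q := Solvable.isSolvable_of_isPGroup (Cores.isPGroup_pCore p A)
  have hcg : Nat.card (MulAut.conj g • M : Subgroup A) = Nat.card M :=
    (Nat.card_congr (Subgroup.equivSMul _ M).toEquiv).symm
  have hsup' : MulAut.conj g • M ⊔ Q = midCore p A := by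
    have := congrArg (MulAut.conj g • ·) hsup
    simp only [Subgroup.smul_sup] at this
    rwa [Solvable.conj_normal g Q, Solvable.conj_normal g (midCore p A)] at this
  obtain ⟨n, hn, hnM⟩ := Solvable.exists_conj_of_sup_eq (Or.inl hQs) (hsup'.trans hsup.symm)
    (by rw [hcg, hk]; exact hMp.pow_right k) (by rw [hk]; exact hMp.pow_right k)
  have hN : n * g ∈ Subgroup.normalizer (M : Set A) := by
    rw [Subgroup.mem_normalizer_iff_map_conj_eq]
    rw [← mul_smul, ← map_mul, Subgroup.pointwise_smul_def] at hnM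
    exact hnM
  have := Subgroup.mul_mem_sup (Q.inv_mem hn) hN
  rwa [inv_mul_cancel_left] at this

/-- Gaschütz–Yen, the case `O_{p'} = 1`. -/
theorem pCore_eq_sylow_of_transitive [hp : Fact p.Prime] (hp2 : p ≠ 2)
    (hsep : Solvable.IsPiSeparable {p} A) (hO : Cfsg.pPrimeCore p A = ⊥)
    (htrans : ∀ U V : Subgroup A, Nat.card U = p → Nat.card V = p →
      ∃ a : MulAut A, U.map a.toMonoidHom = V) :
    ¬ p ∣ Nat.card (A ⧸ Cfsg.pCore p A) := by
  classical
  intro hdvd
  have hQn : (Cfsg.pCore p A).Normal := Cores.pCore_normal p A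
  set Q := Cfsg.pCore p A
  have hC := Solvable.centralizer_pCore_le hsep hO
  -- an element of order `p` in `Z(Q)`
  have hQ0 : Q ≠ ⊥ := by
    intro h0
    have h1 : Subgroup.centralizer (Q : Set A) = ⊤ := by
      rw [eq_top_iff]
      intro g _
      refine Subgroup.mem_centralizer_iff.mpr fun y hy => ?_
      rw [h0] at hy
      rw [Subgroup.mem_bot.mp hy, one_mul, mul_one]
    have h2 : Q = ⊤ := top_le_iff.mp (h1 ▸ hC)
    have : Subsingleton (A ⧸ Q) := QuotientGroup.subsingleton_iff.mpr h2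
    rw [Nat.card_of_subsingleton (1 : A ⧸ Q)] at hdvd
    exact hp.out.one_lt.ne' (Nat.dvd_one.mp hdvd)
  let Zc : Subgroup A := Q ⊓ Subgroup.centralizer (Q : Set A)
  have hZinv : ∀ a : MulAut A, Zc.map a.toMonoidHom ≤ Zc := by
    intro a
    rintro _ ⟨z, ⟨hz, hzc⟩, rfl⟩
    have hQa := Cores.pCore_map_mulEquiv a p
    refine ⟨hQa.le ⟨z, hz, rfl⟩, Subgroup.mem_centralizer_iff.mpr fun y hy => ?_⟩
    obtain ⟨w, hw, rfl⟩ := hQa.ge hy
    rw [← map_mul, ← map_mul, Subgroup.mem_centralizer_iff.mp hzc w hw]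
  obtain ⟨z, hz, hzo⟩ : ∃ z ∈ Zc, orderOf z = p := by
    have hQp : IsPGroup p Q := Cores.isPGroup_pCore p A
    have : Nontrivial Q := (Subgroup.nontrivial_iff_ne_bot Q).mpr hQ0
    have := hQp.bot_lt_center
    have : Nontrivial (Subgroup.center Q) := (Subgroup.nontrivial_iff_ne_bot _).mpr this.ne'
    obtain ⟨k, hk0, hk⟩ := (IsPGroup.nontrivial_iff_card (hQp.to_subgroup (Subgroup.center Q))).mp this
    obtain ⟨z, hz⟩ := exists_prime_orderOf_dvd_card' (G := Subgroup.center Q) p
      (hk ▸ dvd_pow_self p hk0.ne')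
    refine ⟨((z : Q) : A), ⟨(z : Q).2, Subgroup.mem_centralizer_iff.mpr fun y hy => ?_⟩, ?_⟩
    · exact congrArg Subtype.val (Subgroup.mem_center_iff.mp z.2 ⟨y, hy⟩)
    · rw [Subgroup.orderOf_coe, Subgroup.orderOf_coe, hz]
  have hall : ∀ w : A, orderOf w = p → w ∈ Zc := by
    intro w hw
    obtain ⟨a, ha⟩ := htrans (Subgroup.zpowers z) (Subgroup.zpowers w)
      (by rw [Nat.card_zpowers, hzo]) (by rw [Nat.card_zpowers, hw])
    exact hZinv a ((Subgroup.map_mono (Subgroup.zpowers_le.mpr hz)) (ha.ge (Subgroup.mem_zpowers w)))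
  obtain ⟨M, hMle, hMp, hsup, hFr⟩ := frattini_pCore (A := A) (p := p)
  -- an element of order `p` in `N(M)`
  set N := Subgroup.normalizer (M : Set A)
  have hNsurj : Function.Surjective ((QuotientGroup.mk' Q).comp N.subtype) := by
    intro y
    obtain ⟨g, rfl⟩ := QuotientGroup.mk'_surjective Q y
    obtain ⟨u, hu, n, hn, rfl⟩ := Subgroup.mem_sup_of_normal_left.mp (hFr ▸ Subgroup.mem_top g)
    refine ⟨⟨n, hn⟩, ?_⟩
    show QuotientGroup.mk' Q n = QuotientGroup.mk' Q (u * n)
    rw [map_mul, show QuotientGroup.mk' Q u = 1 from (QuotientGroup.eq_one_iff u).mpr hu, one_mul]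
  obtain ⟨y, hy⟩ := exists_prime_orderOf_dvd_card' (G := N) p
    (hdvd.trans (Subgroup.card_dvd_of_surjective _ hNsurj))
  have hyA : orderOf (y : A) = p := (Subgroup.orderOf_coe y).trans hy
  obtain ⟨hyQ, hyC⟩ := hall _ hyA
  have hMQ : M ⊓ Q = ⊥ := by
    obtain ⟨k, hk⟩ := IsPGroup.iff_card.mp (Cores.isPGroup_pCore p A)
    exact Solvable.inf_eq_bot_of_coprime (by rw [hk]; exact hMp.pow_right k)
  have hyM : (y : A) ∈ Subgroup.centralizer ((midCore p A : Subgroup A) : Set A) := by
    have hle : midCore p A ≤ Subgroup.centralizer {(y : A)} := by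
      rw [← hsup]
      refine sup_le (fun m hm => ?_) fun m hm => ?_
      · rw [Subgroup.mem_centralizer_singleton_iff]
        have h1 : (y : A) * m * (y : A)⁻¹ * m⁻¹ ∈ M ⊓ Q := by
          refine ⟨M.mul_mem ((Subgroup.mem_normalizer_iff.mp y.2 m).mp hm) (M.inv_mem hm), ?_⟩
          have := Q.mul_mem hyQ (hQn.conj_mem _ (Q.inv_mem hyQ) m)
          simpa [mul_assoc] using this
        rw [hMQ, Subgroup.mem_bot, mul_inv_eq_one, mul_inv_eq_iff_eq_mul] at h1
        exact h1.symm
      · rw [Subgroup.mem_centralizer_singleton_iff]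
        exact Subgroup.mem_centralizer_iff.mp hyC m hm
    exact Subgroup.mem_centralizer_iff.mpr fun m hm =>
      Subgroup.mem_centralizer_singleton_iff.mp (hle hm)
  have hMcent : M ≤ Subgroup.centralizer (Q : Set A) := by
    refine Coprime.le_centralizer_of_fixing_order_p p hp2 (Cores.isPGroup_pCore p A)
      (le_top.trans (Subgroup.normalizer_eq_top_iff.mpr hQn).ge) hMp fun w _ hw => ?_
    obtain ⟨a, ha⟩ := htrans (Subgroup.zpowers (y : A)) (Subgroup.zpowers w)
      (by rw [Nat.card_zpowers, hyA]) (by rw [Nat.card_zpowers, hw])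
    refine Subgroup.centralizer_le (fun m hm => hMle hm) ?_
    obtain ⟨y', hy', rfl⟩ := ha.ge (Subgroup.mem_zpowers w)
    have hy'C := (Subgroup.zpowers_le.mpr hyM) hy'
    refine Subgroup.mem_centralizer_iff.mpr fun m hm => ?_
    obtain ⟨m', hm', rfl⟩ := (midCore_map_eq a).ge hm
    rw [← map_mul, ← map_mul, Subgroup.mem_centralizer_iff.mp hy'C m' hm']
  -- so `O_{p'}(A/Q) = 1`, impossible
  have hbot : M = ⊥ := le_bot_iff.mp (hMQ ▸ le_inf le_rfl (hMcent.trans hC))
  rw [hbot, bot_sup_eq] at hsup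
  have : Nontrivial (A ⧸ Q) := Finite.one_lt_card_iff_nontrivial.mp
    (lt_of_lt_of_le hp.out.one_lt (Nat.le_of_dvd Nat.card_pos hdvd))
  obtain ⟨L, hLn, hL0, hL⟩ := (hsep.quotient Q).exists_normal_ne_bot
  rcases hL with hL | hL
  · refine hL0 (le_bot_iff.mp ((Cores.le_pCore hLn ?_).trans (Cores.pCore_quotient_self p A).le))
    exact IsPGroup.iff_card.mpr ⟨_, Nat.eq_prime_pow_of_unique_prime_dvd Nat.card_pos.ne'
      fun {r} hr hd => hL r hr hd⟩
  · refine hL0 (le_bot_iff.mp ((Cores.le_pPrimeCore (p := p) hLn ?_).trans ?_))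
    · exact ((hp.out.coprime_iff_not_dvd).mpr fun hd => hL p hp.out hd rfl).symm
    · have h := Subgroup.map_comap_eq_self_of_surjective (QuotientGroup.mk'_surjective Q)
        (Cfsg.pPrimeCore p (A ⧸ Q))
      rw [show (Cfsg.pPrimeCore p (A ⧸ Q)).comap (QuotientGroup.mk' Q) = Q from hsup.symm,
        QuotientGroup.map_mk'_self] at h
      exact h.ge

end Cfsg.Agent.HallHigman
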