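/-
A cyclic unipotent block of full size gives a `C_p ≀ C_p` section (helper3).

Main results (namespace `Cfsg.Agent.HallHigman`):
* WreathShape, exists_wreath_hom, pLengthLE_one_of_not_wreath
-/
import Cfsg.Agent.Lib.HallHigman.PLength
import Cfsg.Agent.Lib.HallHigman.PLengthBasic
import Cfsg.Agent.Lib.Coprime.Basic
import Cfsg.Agent.Lib.Involves.Basic
import Cfsg.Agent.Lib.Solvable.Basic
import Mathlib.Logic.Small.Defs

set_option autoImplicit false

namespace Cfsg.Agent.HallHigman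

universe u

/-- The shape of `C_p ≀ C_p`. -/
def WreathShape (p : ℕ) (W : Type*) [Group W] : Prop :=
  ∃ (B : Subgroup W) (t : W), B.Normal ∧ IsMulCommutative B ∧ (∀ b ∈ B, b ^ p = 1) ∧
    Nat.card B = p ^ p ∧ orderOf t = p ∧ t ∉ B ∧ Nat.card W = p ^ (p + 1) ∧
    Nat.card ↥(B ⊓ Subgroup.centralizer ({t} : Set W)) = p

theorem WreathShape.of_mulEquiv {p : ℕ} {W W' : Type*} [Group W] [Group W'] (h : WreathShape p W)
    (e : W ≃* W') : WreathShape p W' := by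
  obtain ⟨B, t, hB, hc, hexp, hcard, ht, htB, hW, hC⟩ := h
  have hsurj : Function.Surjective e.toMonoidHom := e.surjective
  have hinj : Function.Injective e.toMonoidHom := e.injective
  refine ⟨B.map e.toMonoidHom, e t, hB.map _ hsurj, ⟨⟨fun a b => ?_⟩⟩, ?_, ?_, ?_, ?_, ?_, ?_⟩
  · obtain ⟨x, hx, hxa⟩ := a.2
    obtain ⟨y, hy, hyb⟩ := b.2
    refine Subtype.ext ?_
    rw [Subgroup.coe_mul, Subgroup.coe_mul, ← hxa, ← hyb, ← map_mul, ← map_mul]
    exact congrArg _ (congrArg Subtype.val (hc.is_comm.comm ⟨x, hx⟩ ⟨y, hy⟩))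
  · rintro _ ⟨b, hb, rfl⟩
    rw [← map_pow, hexp b hb, map_one]
  · rw [Subgroup.card_map_of_injective hinj, hcard]
  · rw [← ht]; exact orderOf_injective e.toMonoidHom hinj t
  · rintro ⟨b, hb, he⟩
    exact htB (hinj he ▸ hb)
  · rw [← Nat.card_congr e.toEquiv, hW]
  · rw [← hC]
    refine Nat.card_congr (Equiv.subtypeEquiv e.symm.toEquiv fun y => ?_)
    show y ∈ B.map e.toMonoidHom ∧ _ ↔ e.symm y ∈ B ∧ _
    refine and_congr ⟨fun ⟨b, hb, hby⟩ => by rw [← hby]; simpa using hb,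
      fun hb => ⟨e.symm y, hb, e.apply_symm_apply y⟩⟩ ?_
    show y ∈ Subgroup.centralizer ({e t} : Set W') ↔ e.symm y ∈ Subgroup.centralizer ({t} : Set W)
    rw [Subgroup.mem_centralizer_singleton_iff, Subgroup.mem_centralizer_singleton_iff,
      ← e.symm.injective.eq_iff]
    simp

theorem exists_wreath_hom {A : Type u} [Group A] [Finite A] {p : ℕ} [hp : Fact p.Prime]
    (D : FrattiniData p A) (g₀ : A) (hg₀ : ∃ k : ℕ, g₀ ^ p ^ k = 1)
    (hx : orderOf (g₀ : A ⧸ Cfsg.pCore p A) = p)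
    (hne : (D.ρ (g₀ : A ⧸ Cfsg.pCore p A) - 1) ^ (p - 1) ≠ 0) :
    ∃ (K : Subgroup A) (_ : IsPGroup p K) (W : Type) (_ : Group W) (_ : Finite W),
      WreathShape p W ∧ ∃ f : K →* W, Function.Surjective f := by
  classical
  have hQn : (Cfsg.pCore p A).Normal := Cores.pCore_normal p A
  have hp1 : 1 ≤ p := hp.out.one_le
  set x : A ⧸ Cfsg.pCore p A := (g₀ : A ⧸ Cfsg.pCore p A)
  let N : Module.End (ZMod p) D.V := D.ρ x - 1
  have hxp : x ^ p = 1 := orderOf_dvd_iff_pow_eq_one.mp hx.dvd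
  have hgeom : N ^ (p - 1) = ∑ i ∈ Finset.range p, D.ρ x ^ i := by
    have := sub_one_pow_eq_geom (p := p) (D.ρ x) 1
    rwa [pow_one] at this
  have hNp : N ^ p = 0 := by
    have h1 : N ^ p = N * N ^ (p - 1) := by rw [← pow_succ', Nat.sub_add_cancel hp1]
    rw [h1, hgeom]
    show (D.ρ x - 1) * _ = 0
    rw [mul_geom_sum, ← map_pow, hxp, map_one, sub_self]
  obtain ⟨v, hv⟩ : ∃ v, (N ^ (p - 1)) v ≠ 0 := by
    by_contra hcon
    push Not at hcon
    exact hne (LinearMap.ext hcon)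
  let v₁ : D.V := (N ^ (p - 1)) v
  have hNpow : ∀ j, p ≤ j → (N ^ j) v = 0 := fun j hj => by
    rw [← Nat.sub_add_cancel hj, pow_add, hNp, mul_zero]; rfl
  let Λ : (Fin p → ZMod p) →ₗ[ZMod p] D.V :=
    ∑ i : Fin p, (LinearMap.proj i).smulRight ((N ^ (i : ℕ)) v)
  have hΛ : ∀ c, Λ c = ∑ i : Fin p, c i • (N ^ (i : ℕ)) v := fun c => by
    simp [Λ, LinearMap.sum_apply]
  -- the first coefficient that is not zero
  have hlow : ∀ (c : Fin p → ZMod p) (j : ℕ), (N ^ j) (Λ c) = 0 →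
      ∀ i : Fin p, (i : ℕ) + j < p → c i = 0 := by
    intro c j hj i
    induction hi : (i : ℕ) using Nat.strong_induction_on generalizing i with
    | _ n ih =>
    subst hi
    intro hlt
    have h1 := congrArg (N ^ (p - 1 - (i : ℕ) - j)) hj
    rw [map_zero, ← Module.End.mul_apply, ← pow_add, hΛ, map_sum,
      Finset.sum_eq_single i ?_ (by simp)] at h1
    · rw [map_smul, ← Module.End.mul_apply, ← pow_add,
        show p - 1 - (i : ℕ) - j + j + (i : ℕ) = p - 1 by omega] at h1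
      exact (smul_eq_zero.mp h1).resolve_right hv
    · intro k _ hki
      rw [map_smul, ← Module.End.mul_apply, ← pow_add]
      rcases lt_or_gt_of_ne (fun e : (k : ℕ) = i => hki (Fin.ext e)) with h | h
      · rw [ih k h k rfl (by omega), zero_smul]
      · rw [hNpow _ (by omega), smul_zero]
  have hinj : Function.Injective Λ := by
    rw [injective_iff_map_eq_zero]
    intro c hc
    funext i
    exact hlow c 0 (by simpa using hc) i (by simp)
  let M : Submodule (ZMod p) D.V := LinearMap.range Λ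
  have hMcard : Nat.card M = p ^ p := by
    rw [← Nat.card_congr (LinearEquiv.ofInjective Λ hinj).toEquiv, Nat.card_fun, Nat.card_zmod,
      Nat.card_eq_fintype_card, Fintype.card_fin]
  have hpi : ∀ i : ℕ, (N ^ i) v ∈ M := fun i => by
    rcases lt_or_ge i p with h | h
    · exact ⟨Pi.single (⟨i, h⟩ : Fin p) 1, by rw [hΛ, Finset.sum_eq_single ⟨i, h⟩] <;> simp +contextual⟩
    · rw [hNpow i h]; exact M.zero_mem
  have hNM : ∀ m ∈ M, N m ∈ M := by
    rintro _ ⟨c, rfl⟩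
    rw [hΛ, map_sum]
    refine M.sum_mem fun i _ => ?_
    rw [map_smul, ← Module.End.mul_apply, ← pow_succ']
    exact M.smul_mem _ (hpi _)
  have hNv₁ : N v₁ = 0 := by
    show N ((N ^ (p - 1)) v) = 0
    rw [← Module.End.mul_apply, ← pow_succ']
    exact hNpow _ (by omega)
  -- the fixed points in `M` are a line
  have hfixM : ∀ m ∈ M, N m = 0 → ∃ k : ZMod p, m = k • v₁ := by
    rintro _ ⟨c, rfl⟩ h0
    refine ⟨c ⟨p - 1, by omega⟩, ?_⟩
    have h := hlow c 1 (by rwa [pow_one])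
    rw [hΛ, Finset.sum_eq_single (⟨p - 1, by omega⟩ : Fin p)]
    · intro i _ hi
      have : (i : ℕ) ≠ p - 1 := fun e => hi (Fin.ext e)
      rw [h i (by omega), zero_smul]
    · simp
  let piHom : Cfsg.pCore p A →* Multiplicative D.V :=
    { toFun := fun w => Multiplicative.ofAdd (D.pi w)
      map_one' := by rw [D.pi_one]; rfl
      map_mul' := fun a b => by rw [D.pi_mul]; rfl }
  have hpinv : ∀ w : Cfsg.pCore p A, D.pi w⁻¹ = -D.pi w := fun w =>
    congrArg Multiplicative.toAdd (map_inv piHom w)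
  have hpow_mem : ∀ g : A, (g : A ⧸ Cfsg.pCore p A) = x → g ^ p ∈ Cfsg.pCore p A := fun g hg =>
    (QuotientGroup.eq_one_iff _).mp (by rw [QuotientGroup.mk_pow, hg, hxp])
  -- a good representative
  obtain ⟨g, hgx, hgp, hgood⟩ : ∃ g : A, ∃ hgx : (g : A ⧸ Cfsg.pCore p A) = x,
      (∃ k : ℕ, g ^ p ^ k = 1) ∧
      (D.pi ⟨g ^ p, hpow_mem g hgx⟩ = 0 ∨ D.pi ⟨g ^ p, hpow_mem g hgx⟩ ∉ M) := by
    by_cases hc : D.pi ⟨g₀ ^ p, hpow_mem g₀ rfl⟩ ∈ M
    · have h0 : N (D.pi ⟨g₀ ^ p, hpow_mem g₀ rfl⟩) = 0 := by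
        rw [LinearMap.sub_apply, Module.End.one_apply, D.pi_conj, sub_eq_zero]
        exact D.pi_eq_of_eq (by show g₀ * g₀ ^ p * g₀⁻¹ = g₀ ^ p; group)
      obtain ⟨k, hk⟩ := hfixM _ hc h0
      obtain ⟨u, hu⟩ := D.pi_surjective (-(k • v))
      have hgx : ((u : A) * g₀ : A) = (x : A ⧸ Cfsg.pCore p A) := by
        rw [QuotientGroup.mk_mul, (QuotientGroup.eq_one_iff _).mpr u.2, one_mul]
      refine ⟨u * g₀, hgx, ?_, Or.inl ?_⟩
      · obtain ⟨S, hS⟩ : ∃ S : Sylow p A, g₀ ∈ (S : Subgroup A) := by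
          have hpg : IsPGroup p (Subgroup.zpowers g₀) := by
            obtain ⟨k, hk⟩ := hg₀
            obtain ⟨j, -, hj⟩ := (Nat.dvd_prime_pow hp.out).mp (orderOf_dvd_of_pow_eq_one hk)
            exact IsPGroup.of_card (n := j) (by rw [Nat.card_zpowers, hj])
          obtain ⟨S, hS⟩ := hpg.exists_le_sylow
          exact ⟨S, hS (Subgroup.mem_zpowers g₀)⟩
        obtain ⟨j, hj⟩ := S.2 ⟨_, mul_mem (Cores.pCore_le_sylow S u.2) hS⟩
        exact ⟨j, congrArg Subtype.val hj⟩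
      obtain ⟨hmem, hgeom'⟩ := D.pi_geom g₀ u p
      rw [D.pi_eq_of_eq (b := ⟨_, hmem⟩ * ⟨g₀ ^ p, hpow_mem g₀ rfl⟩) (by simp), D.pi_mul, hgeom', ← hgeom,
        hk, hu, map_neg, map_smul]
      exact neg_add_cancel _
    · exact ⟨g₀, rfl, hg₀, Or.inr hc⟩
  let C : Submodule (ZMod p) D.V := Submodule.span _ {D.pi ⟨g ^ p, hpow_mem g hgx⟩}
  have hCx : ∀ c ∈ C, D.ρ x c = c := by
    intro c hc
    obtain ⟨k, rfl⟩ := Submodule.mem_span_singleton.mp hc
    rw [map_smul, ← hgx, D.pi_conj]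
    exact congrArg (k • ·) (D.pi_eq_of_eq (by show g * g ^ p * g⁻¹ = g ^ p; group))
  have hCM : ∀ c ∈ C, c ∈ M → c = 0 := by
    intro c hc hcM
    obtain ⟨k, rfl⟩ := Submodule.mem_span_singleton.mp hc
    rcases hgood with h | h
    · rw [h, smul_zero]
    · rcases eq_or_ne k 0 with rfl | hk
      · rw [zero_smul]
      · exact absurd ((M.smul_mem_iff hk).mp hcM) h
  -- preimages of subspaces
  let pre : Submodule (ZMod p) D.V → Subgroup A := fun U =>
    { carrier := {w | ∃ h : w ∈ Cfsg.pCore p A, D.pi ⟨w, h⟩ ∈ U}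
      one_mem' := ⟨one_mem _, by
        show D.pi 1 ∈ U; rw [D.pi_one]; exact U.zero_mem⟩
      mul_mem' := fun {a b} ⟨ha, ha'⟩ ⟨hb, hb'⟩ => ⟨mul_mem ha hb, by
        show D.pi (⟨a, ha⟩ * ⟨b, hb⟩) ∈ U; rw [D.pi_mul]; exact U.add_mem ha' hb'⟩
      inv_mem' := fun {a} ⟨ha, ha'⟩ => ⟨inv_mem ha, by
        show D.pi (⟨a, ha⟩ : Cfsg.pCore p A)⁻¹ ∈ U; rw [hpinv]; exact U.neg_mem ha'⟩ }
  have hpre_conj : ∀ (U : Submodule (ZMod p) D.V), (∀ w ∈ U, D.ρ x w ∈ U) →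
      g ∈ Subgroup.normalizer (pre U : Set A) := by
    intro U hU
    refine Coprime.mem_normalizer_of_forall fun w hw => ?_
    obtain ⟨h, hw⟩ := hw
    exact ⟨hQn.conj_mem w h g, by rw [← D.pi_conj g ⟨w, h⟩, hgx]; exact hU _ hw⟩
  have hpre_inner : ∀ (U : Submodule (ZMod p) D.V), Cfsg.pCore p A ≤ Subgroup.normalizer (pre U : Set A) := by
    intro U a ha
    refine Coprime.mem_normalizer_of_forall fun w hw => ?_
    obtain ⟨h, hw⟩ := hw
    refine ⟨hQn.conj_mem w h a, ?_⟩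
    show D.pi ((⟨a, ha⟩ : Cfsg.pCore p A) * ⟨w, h⟩ * ⟨a, ha⟩⁻¹) ∈ U
    rw [D.pi_mul, D.pi_mul,
      hpinv, add_comm (D.pi ⟨a, ha⟩), add_neg_cancel_right]
    exact hw
  let B' := pre (M ⊔ C)
  let R := pre C
  have hB'Q : B' ≤ Cfsg.pCore p A := fun w hw => Exists.elim (p := fun h : w ∈ Cfsg.pCore p A => D.pi ⟨w, h⟩ ∈ M ⊔ C) hw fun h _ => h
  let K : Subgroup A := B' ⊔ Subgroup.zpowers g
  have hxMC : ∀ w ∈ M ⊔ C, D.ρ x w ∈ M ⊔ C := by
    intro w hw
    obtain ⟨m, hm, c, hc, rfl⟩ := Submodule.mem_sup.mp hw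
    rw [map_add, hCx c hc]
    refine Submodule.add_mem_sup ?_ hc
    have := M.add_mem (hNM m hm) hm
    rwa [LinearMap.sub_apply, Module.End.one_apply, sub_add_cancel] at this
  have hKR : K ≤ Subgroup.normalizer (R : Set A) :=
    sup_le (hB'Q.trans (hpre_inner C)) (Subgroup.zpowers_le.mpr
      (hpre_conj C fun w hw => by rw [hCx w hw]; exact hw))
  have hKB : K ≤ Subgroup.normalizer (B' : Set A) :=
    sup_le Subgroup.le_normalizer (Subgroup.zpowers_le.mpr (hpre_conj _ hxMC))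
  have hKp : IsPGroup p K := by
    have hpg : IsPGroup p (Subgroup.zpowers g) := by
      obtain ⟨k, hk⟩ := hgp
      obtain ⟨j, -, hj⟩ := (Nat.dvd_prime_pow hp.out).mp (orderOf_dvd_of_pow_eq_one hk)
      exact IsPGroup.of_card (n := j) (by rw [Nat.card_zpowers, hj])
    obtain ⟨S, hS⟩ := hpg.exists_le_sylow
    exact S.2.to_le (sup_le (hB'Q.trans (Cores.pCore_le_sylow S)) hS)
  let R' : Subgroup K := R.subgroupOf K
  have hR'n : R'.Normal := by
    have hRK : R ≤ K := fun w hw => Exists.elim (p := fun h : w ∈ Cfsg.pCore p A => D.pi ⟨w, h⟩ ∈ C) hw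
      fun h hwC => Subgroup.mem_sup_left ⟨h, Submodule.mem_sup_right hwC⟩
    exact (Subgroup.normal_subgroupOf_iff_le_normalizer hRK).mpr hKR
  let π' : K →* K ⧸ R' := QuotientGroup.mk' R'
  refine ⟨K, hKp, Shrink.{0} (K ⧸ R'), inferInstance, inferInstance, ?_,
    (Shrink.mulEquiv.{0} (α := K ⧸ R')).symm.toMonoidHom.comp π',
    (Shrink.mulEquiv.{0} (α := K ⧸ R')).symm.surjective.comp (QuotientGroup.mk'_surjective R')⟩
  refine WreathShape.of_mulEquiv ?_ (Shrink.mulEquiv.{0} (α := K ⧸ R')).symm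
  let gK : K := ⟨g, Subgroup.mem_sup_right (Subgroup.mem_zpowers g)⟩
  let t := π' gK
  let B : Subgroup (K ⧸ R') := (B'.subgroupOf K).map π'
  have hBn : B.Normal :=
    ((Subgroup.normal_subgroupOf_iff_le_normalizer le_sup_left).mpr hKB).map π' (QuotientGroup.mk'_surjective R')
  have heq : ∀ a b : K, π' a = π' b ↔ (a : A)⁻¹ * b ∈ R := fun a b => QuotientGroup.eq (s := R')
  choose sec hsec using fun m : D.V => D.pi_surjective m
  have hsecK : ∀ m ∈ M, (sec m : A) ∈ B' := fun m hm =>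
    ⟨(sec m).2, by rw [hsec]; exact Submodule.mem_sup_left hm⟩
  let f : M → K ⧸ R' := fun m => π' ⟨sec m, Subgroup.mem_sup_left (hsecK m m.2)⟩
  have hfB : ∀ m, f m ∈ B := fun m => ⟨_, hsecK m m.2, rfl⟩
  have hdiff : ∀ (a b : A) (ha : a ∈ Cfsg.pCore p A) (hb : b ∈ Cfsg.pCore p A),
      a⁻¹ * b ∈ R ↔ D.pi ⟨b, hb⟩ - D.pi ⟨a, ha⟩ ∈ C := by
    intro a b ha hb
    have e : D.pi ((⟨a, ha⟩ : Cfsg.pCore p A)⁻¹ * ⟨b, hb⟩) = D.pi ⟨b, hb⟩ - D.pi ⟨a, ha⟩ := by
      rw [D.pi_mul, hpinv, neg_add_eq_sub]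
    constructor
    · rintro ⟨_, hw⟩
      rw [← e]
      exact (D.pi_eq_of_eq (b := (⟨a, ha⟩ : Cfsg.pCore p A)⁻¹ * ⟨b, hb⟩) rfl) ▸ hw
    · intro hw
      exact ⟨mul_mem (inv_mem ha) hb, by
        show D.pi ((⟨a, ha⟩ : Cfsg.pCore p A)⁻¹ * ⟨b, hb⟩) ∈ C
        rw [e]; exact hw⟩
  have hfinj : Function.Injective f := by
    intro m m' h
    rw [heq] at h
    have h1 := (hdiff _ _ (sec m).2 (sec m').2).mp h
    simp only [Subtype.coe_eta, hsec] at h1
    exact (Subtype.ext (sub_eq_zero.mp (hCM _ h1 (M.sub_mem m'.2 m.2)))).symm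
  have hfsurj : ∀ b ∈ B, ∃ m, f m = b := by
    rintro _ ⟨b, ⟨hbQ, hb⟩, rfl⟩
    obtain ⟨m, hm, c, hc, hmc⟩ := Submodule.mem_sup.mp hb
    refine ⟨⟨m, hm⟩, (heq _ _).mpr ((hdiff _ _ (sec m).2 hbQ).mpr ?_)⟩
    simp only [Subtype.coe_eta, hsec]
    show D.pi ⟨(b : A), hbQ⟩ - m ∈ C
    rw [show D.pi ⟨(b : A), hbQ⟩ = m + c from hmc.symm, add_sub_cancel_left]
    exact hc
  have htp : t ^ p = 1 := by
    show π' gK ^ p = 1
    rw [← map_pow]
    refine (QuotientGroup.eq_one_iff _).mpr ?_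
    exact ⟨hpow_mem g hgx, Submodule.mem_span_singleton_self _⟩
  have hgQ : g ∉ Cfsg.pCore p A := fun h => by
    have h1 : x = 1 := hgx.symm.trans ((QuotientGroup.eq_one_iff g).mpr h)
    rw [h1, orderOf_one] at hx
    exact hp.out.one_lt.ne hx
  have htB : t ∉ B := by
    rintro ⟨b, hb, hbt⟩
    rw [heq] at hbt
    obtain ⟨h1, -⟩ := hbt
    exact hgQ (by simpa using mul_mem (hB'Q hb) h1)
  have hto : orderOf t = p := orderOf_eq_prime htp fun h => htB (h ▸ one_mem _)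
  have hBcard : Nat.card B = p ^ p := by
    rw [← hMcard]
    refine (Nat.card_congr (Equiv.ofBijective (fun m => (⟨f m, hfB m⟩ : B)) ⟨?_, ?_⟩)).symm
    · exact fun m m' h => hfinj (congrArg Subtype.val h)
    · exact fun b => (hfsurj b.1 b.2).imp fun m hm => Subtype.ext hm
  refine ⟨B, t, hBn, ⟨⟨fun a b => Subtype.ext ?_⟩⟩, ?_, hBcard, hto, htB, ?_, ?_⟩
  · obtain ⟨a', ⟨haQ, -⟩, ha⟩ := a.2
    obtain ⟨b', ⟨hbQ, -⟩, hb⟩ := b.2
    rw [Subgroup.coe_mul, Subgroup.coe_mul, ← ha, ← hb, ← map_mul, ← map_mul, heq]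
    refine (hdiff _ _ (mul_mem haQ hbQ) (mul_mem hbQ haQ)).mpr ?_
    show D.pi (⟨_, hbQ⟩ * ⟨_, haQ⟩) - D.pi (⟨_, haQ⟩ * ⟨_, hbQ⟩) ∈ C
    rw [D.pi_mul, D.pi_mul, add_comm (D.pi ⟨_, hbQ⟩), sub_self]
    exact C.zero_mem
  · rintro _ ⟨b, ⟨hbQ, -⟩, rfl⟩
    rw [← map_pow]
    refine (QuotientGroup.eq_one_iff _).mpr ⟨pow_mem hbQ p, ?_⟩
    show D.pi ((⟨_, hbQ⟩ : Cfsg.pCore p A) ^ p) ∈ C
    have h1 : D.pi ((⟨_, hbQ⟩ : Cfsg.pCore p A) ^ p) = p • D.pi ⟨_, hbQ⟩ :=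
      congrArg Multiplicative.toAdd (map_pow piHom ⟨_, hbQ⟩ p)
    rw [h1, ← Nat.cast_smul_eq_nsmul (ZMod p), ZMod.natCast_self, zero_smul]
    exact C.zero_mem
  · have hdisj : Subgroup.zpowers t ⊓ B = ⊥ := by
      have hd : Nat.card ↥(Subgroup.zpowers t ⊓ B) ∣ p := by
        rw [← hto, ← Nat.card_zpowers]; exact Subgroup.card_dvd_of_le inf_le_left
      rcases (Nat.dvd_prime hp.out).mp hd with h | h
      · exact Subgroup.eq_bot_of_card_eq _ h
      · exfalso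
        have he := Subgroup.eq_of_le_of_card_ge (inf_le_left : Subgroup.zpowers t ⊓ B ≤ _)
          (by rw [h, Nat.card_zpowers, hto])
        exact htB (Subgroup.mem_inf.mp (he.ge (Subgroup.mem_zpowers t) : t ∈ Subgroup.zpowers t ⊓ B)).2
    have htop : Subgroup.zpowers t ⊔ B = ⊤ := by
      rw [eq_top_iff, ← MonoidHom.range_eq_top.mpr (QuotientGroup.mk'_surjective R'), MonoidHom.range_eq_map]
      have hK : (⊤ : Subgroup K) = B'.subgroupOf K ⊔ Subgroup.zpowers gK := by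
        apply Subgroup.map_injective K.subtype_injective
        rw [Subgroup.map_sup, MonoidHom.map_zpowers, Subgroup.map_subgroupOf_eq_of_le le_sup_left,
          ← MonoidHom.range_eq_map, Subgroup.range_subtype]
        rfl
      rw [hK, Subgroup.map_sup, MonoidHom.map_zpowers, sup_comm]
    have := Solvable.card_sup_of_disjoint (Subgroup.zpowers t) B hdisj
    rw [htop, Subgroup.card_top, Nat.card_zpowers, hto, hBcard] at this
    rw [this, pow_succ']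
  · have hfix : ∀ m : M, f m ∈ Subgroup.centralizer ({t} : Set (K ⧸ R')) ↔ N (m : D.V) = 0 := by
      intro m
      have h1 : f m ∈ Subgroup.centralizer ({t} : Set (K ⧸ R')) ↔
          π' (gK * ⟨sec m, Subgroup.mem_sup_left (hsecK m m.2)⟩ * gK⁻¹) = f m := by
        rw [Subgroup.mem_centralizer_singleton_iff, map_mul, map_mul, map_inv, mul_inv_eq_iff_eq_mul]
        exact eq_comm
      rw [h1, eq_comm, heq]
      have h2 := hdiff (sec m : A) (g * sec m * g⁻¹) (sec m).2 (hQn.conj_mem _ (sec m).2 g)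
      rw [← D.pi_conj, hgx, hsec] at h2
      refine h2.trans ⟨fun h => ?_, fun h => ?_⟩
      · exact hCM _ h (hNM _ m.2)
      · show N (m : D.V) ∈ C
        rw [h]; exact C.zero_mem
    have hv₁M : v₁ ∈ M := hpi (p - 1)
    have hsm : ∀ k : ZMod p, N (k • v₁) = 0 := fun k => by rw [map_smul, hNv₁, smul_zero]
    let F : ZMod p → ↥(B ⊓ Subgroup.centralizer ({t} : Set (K ⧸ R'))) := fun k =>
      ⟨f ⟨k • v₁, M.smul_mem k hv₁M⟩, hfB _, (hfix _).mpr (hsm k)⟩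
    refine (Nat.card_congr (Equiv.ofBijective F ⟨?_, ?_⟩)).symm.trans (Nat.card_zmod p)
    · intro k l h
      exact smul_left_injective (ZMod p) hv (congrArg Subtype.val (hfinj (congrArg Subtype.val h)))
    · rintro ⟨b, hb, hbt⟩
      obtain ⟨m, rfl⟩ := hfsurj b hb
      obtain ⟨k, hk⟩ := hfixM _ m.2 ((hfix m).mp hbt)
      exact ⟨k, Subtype.ext (congrArg f (Subtype.ext hk.symm))⟩

theorem pLengthLE_one_of_not_wreath {G : Type u} [Group G] [Finite G] {p : ℕ} [hp : Fact p.Prime]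
    (hp2 : p ≠ 2) (hnf : ¬ ∃ k : ℕ, p = 2 ^ k + 1) (hsep : Solvable.IsPiSeparable {p} G)
    (P : Sylow p G)
    (hwr : ∀ (W : Type) [Group W] [Finite W], WreathShape p W → ¬ Cfsg.Involves W ↥(P : Subgroup G)) :
    Cfsg.PLengthLE p 1 G := by
  have hN : (Cfsg.pCore p (G ⧸ Cfsg.pPrimeCore p G)).Normal := Cores.pCore_normal p _
  refine pLengthLE_step G (pLengthLE_zero fun y hy => ?_)
  rw [pow_zero, pow_one]
  by_contra hy1
  have hsepA : Solvable.IsPiSeparable {p} (G ⧸ Cfsg.pPrimeCore p G) := hsep.quotient _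
  obtain ⟨k, hk⟩ := hy
  obtain ⟨j, -, hj⟩ := (Nat.dvd_prime_pow hp.out).mp (orderOf_dvd_of_pow_eq_one hk)
  rcases j with _ | i
  · exact hy1 (orderOf_eq_one_iff.mp (by rw [hj, pow_zero]))
  have hx : orderOf (y ^ p ^ i) = p := by
    rw [orderOf_pow_of_dvd (pow_ne_zero _ hp.out.ne_zero) (hj ▸ pow_dvd_pow p i.le_succ), hj, pow_succ,
      Nat.mul_div_cancel_left _ (pow_pos hp.out.pos i)]
  obtain ⟨g, hg, hgp⟩ := exists_pElement_preimage (QuotientGroup.mk' _) (QuotientGroup.mk'_surjective _)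
    (x := y ^ p ^ i) ⟨1, by rw [pow_one]; exact hx ▸ pow_orderOf_eq_one _⟩
  obtain ⟨D⟩ := exists_frattiniData (Solvable.centralizer_pCore_le hsepA (Cores.pPrimeCore_quotient_self p))
  have := D.finiteDimensional
  have hne : (D.ρ (g : (G ⧸ Cfsg.pPrimeCore p G) ⧸ Cfsg.pCore p (G ⧸ Cfsg.pPrimeCore p G)) - 1) ^ (p - 1) ≠ 0 := by
    intro h0
    rcases theorem_b D.ρ D.injective (hsepA.quotient _) (Cores.pCore_quotient_self p _) _ (n := 0)
      (by rw [zero_add, pow_one]; exact (congrArg orderOf hg).trans hx) h0 with h | ⟨n₀, q, m, h1, -, hq, -, -, h4, -⟩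
    · rw [zero_add, pow_one] at h
      have := hp.out.pos
      omega
    · exact hnf (eq_two_of_prime_pow_sub_one hp.out hp2 hq h1 h4).2
  obtain ⟨K, hK, W, _, _, hW, f, hf⟩ :=
    exists_wreath_hom D g hgp ((congrArg orderOf hg).trans hx) hne
  obtain ⟨S, hKS⟩ := hK.exists_le_sylow
  obtain ⟨S₀, rfl⟩ := Sylow.mapSurjective_surjective (QuotientGroup.mk'_surjective (Cfsg.pPrimeCore p G)) p S
  obtain ⟨a, rfl⟩ := MulAction.exists_smul_eq G P S₀
  let ψ : (P : Subgroup G) →* G ⧸ Cfsg.pPrimeCore p G :=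
    ((QuotientGroup.mk' _).comp (MulAut.conj a).toMonoidHom).comp (P : Subgroup G).subtype
  let ψK : (K.comap ψ) →* K := (ψ.comp (K.comap ψ).subtype).codRestrict K fun w => w.2
  have hψ : Function.Surjective ψK := by
    rintro ⟨z, hz⟩
    have hzS := hKS hz
    rw [Sylow.coe_mapSurjective, Sylow.coe_subgroup_smul] at hzS
    obtain ⟨_, ⟨w, hw, rfl⟩, hwz⟩ := hzS
    refine ⟨⟨⟨w, hw⟩, ?_⟩, Subtype.ext hwz⟩
    show ψ ⟨w, hw⟩ ∈ K
    rw [show ψ ⟨w, hw⟩ = z from hwz]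
    exact hz
  exact hwr W hW (Involves.involves_of_hom (f.comp ψK) (hf.comp hψ))

end Cfsg.Agent.HallHigman
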